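import Groth.Agent.DerivedCoh.KFlat.LTensorGen
import Groth.Agent.DerivedCoh.KInj.Products
import Groth.Agent.CohTwo.ColimStalk
import Mathlib.CategoryTheory.Adjunction.AdjointFunctorTheorems
import Mathlib.Algebra.Homology.GrothendieckAbelian
import Mathlib.CategoryTheory.Abelian.GrothendieckCategory.Basic

/-!
`- ⊗^L K` has a right adjoint on `D(O_X)` (internal RHom), for a K-flat complex `K` with flat terms.
-/

universe w v u

open CategoryTheory CategoryTheory.Limits AlgebraicGeometry HomologicalComplex

namespace Groth.Misc4.HasRSheafHom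

open Groth.DerivedCoh.KFlat

attribute [local instance] HasDerivedCategory.standard

set_option maxHeartbeats 1000000
set_option backward.isDefEq.respectTransparency false

local notation "up" => ComplexShape.up ℤ

/-- If the transpose of a map into a K-injective complex with injective terms is null-homotopic, so is the map. -/
lemma map_inr_factor {A : Type u} [Category.{v} A] [Abelian A] [HasDerivedCategory.{w} A]
    {T C J : CochainComplex A ℤ} (i : T ⟶ C) [∀ n, Mono (i.f n)] (hJ : ∀ n, Injective (J.X n))
    (φ : T ⟶ J) (h : Homotopy φ 0) : ∃ φ' : C ⟶ J, i ≫ φ' = φ ∧ DerivedCategory.Q.map φ' = 0 := by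
  let h' : ∀ p r, (up).Rel r p → (C.X p ⟶ J.X r) := fun p r _ =>
    haveI := hJ r
    Injective.factorThru (h.hom p r) (i.f p)
  refine ⟨Homotopy.nullHomotopicMap' h', ?_, ?_⟩
  · ext n
    rw [comp_f, h.comm n, zero_f, add_zero, dNext_eq _ (show (up).Rel n (n + 1) from rfl),
      prevD_eq _ (show (up).Rel (n - 1) n from sub_add_cancel n 1),
      Homotopy.nullHomotopicMap'_f (show (up).Rel (n - 1) n from sub_add_cancel n 1) (show (up).Rel n (n + 1) from rfl) h']
    simp only [h', Preadditive.comp_add]
    haveI := hJ n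
    haveI := hJ (n - 1)
    rw [← Category.assoc (i.f n), i.comm, Category.assoc, Injective.comp_factorThru,
      ← Category.assoc (i.f n), Injective.comp_factorThru]
  · exact (DerivedCategory.Q_map_eq_of_homotopy _ (Homotopy.nullHomotopy' h')).trans
      (DerivedCategory.Q.map_zero _ _)

variable {X : Scheme.{u}}

instance preservesColimitsOfShape_stk {J : Type u} [SmallCategory J] (x : X) :
    PreservesColimitsOfShape J (stk x) :=
  haveI : PreservesColimitsOfShape J (Groth.QCohMod.stalk (X := X) x) :=
    inferInstanceAs (PreservesColimitsOfShape J (Groth.CohTwo.stalkAb X x))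
  haveI : PreservesColimitsOfShape J
      (stk x ⋙ forget₂ (ModuleCat.{u} (X.presheaf.stalk x)) AddCommGrpCat.{u}) :=
    preservesColimitsOfShape_of_natIso (stkForgetIso x).symm
  preservesColimitsOfShape_of_reflects_of_preserves _
    (forget₂ (ModuleCat.{u} (X.presheaf.stalk x)) AddCommGrpCat.{u})

lemma preservesColimitsOfShape_flip {J : Type u} [SmallCategory J] (N : X.Modules) :
    PreservesColimitsOfShape J ((T X).flip.obj N) where
  preservesColimit {G} := ⟨fun {c} hc => ⟨by
    refine stk_jointly.jointlyReflectsColimit fun x => ?_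
    have : PreservesColimitsOfShape J (MonoidalCategory.tensorRight ((stk x).obj N)) :=
      preservesColimitsOfShape_of_natIso (BraidedCategory.tensorLeftIsoTensorRight ((stk x).obj N))
    exact IsColimit.mapCoconeEquiv (tensorFlipStkIso N x).symm
      (isColimitOfPreserves (MonoidalCategory.tensorRight ((stk x).obj N))
        (isColimitOfPreserves (stk x) hc))⟩⟩

lemma preservesColimitsOfShape_totL (K : CochainComplex X.Modules ℤ) (J : Type u) [SmallCategory J] :
    PreservesColimitsOfShape J (totL (T X) K) := by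
  haveI : PreservesColimitsOfShape J
      ((Bi (T X)).flip.obj K ⋙ HomologicalComplex₂.totalFunctor X.Modules up up up) :=
    ⟨fun {G} => ⟨fun {c} hc => ⟨isColimitTotal (((Bi (T X)).flip.obj K).mapCocone c) fun p q =>
      haveI := preservesColimitsOfShape_flip (J := J) (K.X q)
      isColimitOfPreserves ((T X).flip.obj (K.X q)) (isColimitOfPreserves (eval X.Modules up p) hc)⟩⟩⟩
  exact preservesColimitsOfShape_of_natIso (totLIso (T X) K).symm

/-- `- ⊗ K` has a right adjoint on complexes -/
theorem isLeftAdjoint_totL (K : CochainComplex X.Modules ℤ) : (totL (T X) K).IsLeftAdjoint := by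
  haveI : PreservesColimits (totL (T X) K) := ⟨fun {J} _ => preservesColimitsOfShape_totL K J⟩
  exact isLeftAdjoint_of_preservesColimits_of_isSeparating
    (isSeparator_separator (CochainComplex X.Modules ℤ)) (totL (T X) K)

/-- `- ⊗ K` preserves monomorphisms when the terms of `K` are flat -/
lemma mono_totL_map {K : CochainComplex X.Modules ℤ} (hK : ∀ q, FlatMod.IsFlat (K.X q))
    {A C : CochainComplex X.Modules ℤ} (i : A ⟶ C) [Mono i] : Mono ((totL (T X) K).map i) :=
  (shortExact_totL (T X) K (ShortComplex.mk i (cokernel.π i) (cokernel.condition i)) fun p q =>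
    flat_of_isFlat (hK q) _ ((ShortComplex.ShortExact.mk' (ShortComplex.exact_of_g_is_cokernel _
      (cokernelIsCokernel i)) inferInstance inferInstance).map_of_exact (eval X.Modules up p))).mono_f

lemma additive_ltcx (K : CochainComplex X.Modules ℤ) (hK : IsKFlat (T X) K) [DCoh.HasLTensorCx K] :
    (DCoh.LTensorCx K).Additive := by
  haveI h₁ : (DerivedCategory.Q ⋙ DCoh.LTensorCx K).Additive :=
    Functor.additive_of_iso (ltcxNatIso K hK).symm
  haveI : (HomotopyCategory.quotient X.Modules up ⋙ DerivedCategory.Qh ⋙ DCoh.LTensorCx K).Additive :=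
    Functor.additive_of_iso (F := DerivedCategory.Q ⋙ DCoh.LTensorCx K)
      (Functor.isoWhiskerRight (DerivedCategory.quotientCompQhIso X.Modules).symm _ ≪≫ Functor.associator _ _ _)
  rw [Localization.functor_additive_iff DerivedCategory.Qh
    (HomotopyCategory.quasiIso X.Modules up) (DCoh.LTensorCx K)]
  exact Functor.additive_of_full_essSurj_comp (HomotopyCategory.quotient X.Modules up) _

/-- `RHom(K, -)` exists -/
theorem hasRSheafHom (K : CochainComplex X.Modules ℤ) (hK : IsKFlat (T X) K)
    (hKf : ∀ q, FlatMod.IsFlat (K.X q)) [DCoh.HasLTensorCx K] : DCoh.HasRSheafHom K := by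
  haveI := isLeftAdjoint_totL K
  let adj := Adjunction.ofIsLeftAdjoint (totL (T X) K)
  let R := (totL (T X) K).rightAdjoint
  let c : DerivedCategory.Q ⋙ DCoh.LTensorCx K ≅ totL (T X) K ⋙ DerivedCategory.Q := ltcxNatIso K hK
  suffices ∀ M : DCoh.D X, HasTerminal (CostructuredArrow (DCoh.LTensorCx K) M) from
    isLeftAdjoint_of_costructuredArrowTerminals _
  intro M
  obtain ⟨I, hI⟩ : ∃ I : CochainComplex X.Modules ℤ,
      I.IsKInjective ∧ (∀ n, Injective (I.X n)) ∧ Nonempty (DerivedCategory.Q.obj I ≅ M) := by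
    let L := (DerivedCategory.Q (C := X.Modules)).objPreimage M
    obtain ⟨I, i, -, hi, hI, hI'⟩ := Groth.DerivedCoh.KInjRes.exists_resolution L
    haveI := hi
    exact ⟨I, hI, hI', ⟨(asIso (DerivedCategory.Q.map i)).symm ≪≫
      (DerivedCategory.Q (C := X.Modules)).objObjPreimageIso M⟩⟩
  obtain ⟨hI, hI', ⟨e⟩⟩ := hI
  haveI := hI
  let ε : (DCoh.LTensorCx K).obj (DerivedCategory.Q.obj (R.obj I)) ⟶ M :=
    c.hom.app (R.obj I) ≫ DerivedCategory.Q.map (adj.counit.app I) ≫ e.hom
  have key : ∀ {B : CochainComplex X.Modules ℤ} (g : B ⟶ R.obj I),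
      (DCoh.LTensorCx K).map (DerivedCategory.Q.map g) ≫ ε =
        c.hom.app B ≫ DerivedCategory.Q.map ((adj.homEquiv B I).symm g) ≫ e.hom := fun {B} g => by
    simp only [ε, Adjunction.homEquiv_counit, Functor.map_comp, Category.assoc]
    exact c.hom.naturality_assoc g _
  have inj : ∀ {B : CochainComplex X.Modules ℤ} (g : B ⟶ R.obj I),
      (DCoh.LTensorCx K).map (DerivedCategory.Q.map g) ≫ ε = 0 → DerivedCategory.Q.map g = 0 := by
    intro B g hg
    rw [key, ← Limits.comp_zero (X := (DCoh.LTensorCx K).obj (DerivedCategory.Q.obj B))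
      (f := c.hom.app B), cancel_epi] at hg
    have h0 : DerivedCategory.Q.map ((adj.homEquiv B I).symm g) = DerivedCategory.Q.map 0 := by
      rw [Functor.map_zero, ← cancel_mono e.hom, zero_comp]
      exact hg
    obtain ⟨hh⟩ := (Groth.DerivedCoh.KInjRes.Q_map_eq_iff _ _ _ _).1 h0
    let C := CochainComplex.mappingCone (𝟙 B)
    let i : B ⟶ C := CochainComplex.mappingCone.inr (𝟙 B)
    haveI : Mono i := HomologicalComplex.mono_of_mono_f _ fun n =>
      (show IsSplitMono (i.f n) from ⟨⟨_, CochainComplex.mappingCone.inr_f_snd_v (𝟙 B) n⟩⟩).mono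
    haveI := mono_totL_map hKf i
    obtain ⟨φ', hφ', -⟩ := map_inr_factor ((totL (T X) K).map i) hI' _ hh
    have hz : IsZero (DerivedCategory.Q.obj C) := by
      rw [IsZero.iff_id_eq_zero, ← CategoryTheory.Functor.map_id,
        DerivedCategory.Q_map_eq_of_homotopy _ (CochainComplex.mappingCone.homotopyToZeroOfId B)]
      exact Functor.map_zero _ _ _
    have : g = i ≫ (adj.homEquiv C I) φ' := by
      rw [← Adjunction.homEquiv_naturality_left, hφ', Equiv.apply_symm_apply]
    rw [this, Functor.map_comp, hz.eq_of_tgt (DerivedCategory.Q.map i) 0, zero_comp]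
  have surj : ∀ {B : CochainComplex X.Modules ℤ}
      (f : (DCoh.LTensorCx K).obj (DerivedCategory.Q.obj B) ⟶ M),
      ∃ g : B ⟶ R.obj I, (DCoh.LTensorCx K).map (DerivedCategory.Q.map g) ≫ ε = f := fun {B} f => by
    obtain ⟨φ, hφ⟩ := Groth.DerivedCoh.KInjRes.Q_map_surjective ((totL (T X) K).obj B) I
      (c.inv.app B ≫ f ≫ e.inv)
    refine ⟨adj.homEquiv B I φ, ?_⟩
    rw [key, Equiv.symm_apply_apply, hφ]
    simp
  refine IsTerminal.hasTerminal (X := CostructuredArrow.mk ε) ?_
  haveI : ∀ P : CostructuredArrow (DCoh.LTensorCx K) M, Unique (P ⟶ CostructuredArrow.mk ε) := fun P => by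
    let B := (DerivedCategory.Q (C := X.Modules)).objPreimage P.left
    let b : DerivedCategory.Q.obj B ≅ P.left := DerivedCategory.Q.objObjPreimageIso P.left
    have hex : ∃ a : P ⟶ CostructuredArrow.mk ε, True := by
      obtain ⟨g, hg⟩ := surj ((DCoh.LTensorCx K).map b.hom ≫ P.hom)
      refine ⟨CostructuredArrow.homMk (b.inv ≫ DerivedCategory.Q.map g) ?_, trivial⟩
      change (DCoh.LTensorCx K).map (b.inv ≫ DerivedCategory.Q.map g) ≫ ε = P.hom
      rw [Functor.map_comp, Category.assoc, hg, ← Category.assoc, ← Functor.map_comp, b.inv_hom_id,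
        CategoryTheory.Functor.map_id, Category.id_comp]
    have : Subsingleton (P ⟶ CostructuredArrow.mk ε) := ⟨fun x y => by
      refine CostructuredArrow.hom_ext _ _ ?_
      let a : P.left ⟶ DerivedCategory.Q.obj (R.obj I) := x.left - y.left
      have ha : (DCoh.LTensorCx K).map a ≫ ε = 0 := by
        haveI := additive_ltcx K hK
        rw [Functor.map_sub, Preadditive.sub_comp]
        exact sub_eq_zero.2 ((CostructuredArrow.w x).trans (CostructuredArrow.w y).symm)
      obtain ⟨B', s, hs, g, hfac⟩ := DerivedCategory.right_fac (b.hom ≫ a)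
      haveI := hs
      suffices b.hom ≫ a = 0 by
        have h2 : a = 0 := by rwa [← cancel_epi b.hom, comp_zero]
        exact sub_eq_zero.1 h2
      rw [hfac]
      have hg : (DCoh.LTensorCx K).map (DerivedCategory.Q.map g) ≫ ε = 0 := by
        have e1 : DerivedCategory.Q.map g = DerivedCategory.Q.map s ≫ b.hom ≫ a := by
          rw [hfac]; simp
        rw [e1, Functor.map_comp, Functor.map_comp, Category.assoc, Category.assoc, ha, comp_zero, comp_zero]
      rw [inj g hg, comp_zero]⟩
    exact uniqueOfSubsingleton hex.choose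
  exact IsTerminal.ofUnique _

end Groth.Misc4.HasRSheafHom
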