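import Groth.Agent.CohTwo.QCohExt
import Groth.Agent.QCohMod.Tensor
import Groth.Agent.Misc4.HasRSheafHom
import Groth.Agent.DerivedCoh.Duality.Theta
import Groth.Agent.KTheory.PerfCoh
import Mathlib.Algebra.Homology.DerivedCategory.ShortExact
import Mathlib.Algebra.Homology.BifunctorShift

/-!
Objects with quasi-coherent cohomology: closure under triangles, tensor products with strictly perfect
complexes, and `RHom` out of perfect objects.
-/

universe u

open CategoryTheory CategoryTheory.Limits AlgebraicGeometry HomologicalComplex Pretriangulated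
open Groth.KTheory.Perf

namespace Groth.Misc4.QCohDPerf

open Groth.DerivedCoh.KFlat (T IsKFlat tot totL totR)

attribute [local instance] HasDerivedCategory.standard

set_option maxHeartbeats 1000000

local notation "up" => ComplexShape.up ℤ

variable {X : Scheme.{u}}

lemma isQCoh_isZero {M : X.Modules} (h : IsZero M) : M.IsQuasicoherent :=
  Groth.KTheory.LocFree.isQCoh (Groth.KTheory.LocFree.isFinLocFree_zero h)

/-- the middle of a five term exact sequence -/
theorem isQCoh_middle {Z A B C D : X.Modules} {a : Z ⟶ A} {f : A ⟶ B} {g : B ⟶ C} {h : C ⟶ D}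
    [Z.IsQuasicoherent] [A.IsQuasicoherent] [C.IsQuasicoherent] [D.IsQuasicoherent]
    {w₁ : a ≫ f = 0} {w₂ : f ≫ g = 0} {w₃ : g ≫ h = 0}
    (e₁ : (ShortComplex.mk a f w₁).Exact) (e₂ : (ShortComplex.mk f g w₂).Exact)
    (e₃ : (ShortComplex.mk g h w₃).Exact) : B.IsQuasicoherent := by
  haveI : (cokernel a).IsQuasicoherent := Groth.QCohMod.isQCoh_cokernel a
  haveI : (kernel h).IsQuasicoherent := Groth.QCohMod.isQCoh_of_mono_exact
    (S := ShortComplex.mk (kernel.ι h) h (kernel.condition h))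
    (ShortComplex.exact_of_f_is_kernel _ (kernelIsKernel h))
  let i : cokernel a ⟶ B := cokernel.desc a f w₁
  let p : B ⟶ kernel h := kernel.lift h g w₃
  have w : i ≫ p = 0 := by
    rw [← cancel_epi (cokernel.π a), ← cancel_mono (kernel.ι h)]
    simp [i, p, w₂]
  haveI : Mono i := e₁.mono_cokernelDesc
  haveI : Epi p := e₃.epi_kernelLift
  have hex : (ShortComplex.mk i p w).Exact := by
    let φ : ShortComplex.mk f p ((cancel_mono (kernel.ι h)).1 (by simp [p, w₂])) ⟶ ShortComplex.mk i p w :=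
      { τ₁ := cokernel.π a, τ₂ := 𝟙 _, τ₃ := 𝟙 _, comm₁₂ := by simp [i], comm₂₃ := by simp }
    haveI : Epi φ.τ₁ := inferInstanceAs (Epi (cokernel.π a))
    haveI : IsIso φ.τ₂ := inferInstanceAs (IsIso (𝟙 B))
    haveI : Mono φ.τ₃ := inferInstanceAs (Mono (𝟙 (kernel h)))
    rw [← ShortComplex.exact_iff_of_epi_of_isIso_of_mono φ]
    let ψ : ShortComplex.mk f p ((cancel_mono (kernel.ι h)).1 (by simp [p, w₂])) ⟶ ShortComplex.mk f g w₂ :=
      { τ₁ := 𝟙 _, τ₂ := 𝟙 _, τ₃ := kernel.ι h, comm₁₂ := by simp, comm₂₃ := by simp [p] }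
    haveI : Epi ψ.τ₁ := inferInstanceAs (Epi (𝟙 A))
    haveI : IsIso ψ.τ₂ := inferInstanceAs (IsIso (𝟙 B))
    haveI : Mono ψ.τ₃ := inferInstanceAs (Mono (kernel.ι h))
    exact (ShortComplex.exact_iff_of_epi_of_isIso_of_mono ψ).2 e₂
  exact Groth.CohTwo.QCohExt.isQCoh_of_shortExact (S := ShortComplex.mk i p w)
    { exact := hex, mono_f := ‹Mono i›, epi_g := ‹Epi p› }

lemma isQCohD_of_iso {K L : DCoh.D X} (e : K ≅ L) (h : DCoh.IsQCohD K) : DCoh.IsQCohD L := fun i =>
  (Groth.QCohMod.isQCoh_iff_of_iso ((DerivedCategory.homologyFunctor X.Modules i).mapIso e)).1 (h i)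

lemma isQCohD_shift {K : DCoh.D X} (h : DCoh.IsQCohD K) (n : ℤ) : DCoh.IsQCohD (K⟦n⟧) := fun i =>
  (Groth.QCohMod.isQCoh_iff_of_iso
    (((DerivedCategory.homologyFunctor X.Modules 0).shiftIso n i (n + i) rfl).app K)).2 (h (n + i))

theorem isQCohD_obj₂ (T : Triangle (DCoh.D X)) (hT : T ∈ distTriang _)
    (h₁ : DCoh.IsQCohD T.obj₁) (h₃ : DCoh.IsQCohD T.obj₃) : DCoh.IsQCohD T.obj₂ := fun i => by
  haveI : (DCoh.HD T.obj₃ (i - 1)).IsQuasicoherent := h₃ (i - 1)
  haveI : (DCoh.HD T.obj₁ i).IsQuasicoherent := h₁ i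
  haveI : (DCoh.HD T.obj₃ i).IsQuasicoherent := h₃ i
  haveI : (DCoh.HD T.obj₁ (i + 1)).IsQuasicoherent := h₁ (i + 1)
  exact isQCoh_middle (DerivedCategory.HomologySequence.exact₁ T hT (i - 1) i (by omega))
    (DerivedCategory.HomologySequence.exact₂ T hT i)
    (DerivedCategory.HomologySequence.exact₃ T hT i (i + 1) rfl)

lemma isQCohD_of_local {K : DCoh.D X}
    (h : ∀ x : X, ∃ V : X.Opens, x ∈ V ∧ DCoh.IsQCohD ((Rd V.ι).obj K)) : DCoh.IsQCohD K := fun i =>
  Groth.QCohMod.isQCoh_of_forall_exists _ fun x => by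
    obtain ⟨V, hx, hV⟩ := h x
    obtain ⟨c⟩ := nonempty_hdRd V.ι K i
    exact ⟨V, hx, (Groth.QCohMod.isQCoh_iff_of_iso c).1 (hV i)⟩

lemma isQCohD_restrict {U : Scheme.{u}} (j : U ⟶ X) [IsOpenImmersion j] {K : DCoh.D X}
    (h : DCoh.IsQCohD K) : DCoh.IsQCohD ((Rd j).obj K) := fun i => by
  obtain ⟨c⟩ := nonempty_hdRd j K i
  haveI : (DCoh.HD K i).IsQuasicoherent := h i
  exact (Groth.QCohMod.isQCoh_iff_of_iso c).2 inferInstance

/-- the case of a complex in degree zero -/
theorem isQCohD_tot_single (P : CochainComplex X.Modules ℤ) (hP : DCoh.IsQCohD (DCoh.toD X P))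
    {N : X.Modules} (hN : FlatMod.IsFinLocFree N) :
    DCoh.IsQCohD (DCoh.toD X (tot (T X) P ((single X.Modules up 0).obj N))) := fun i => by
  let G := (T X).flip.obj N
  have hG : ∀ S : ShortComplex X.Modules, S.ShortExact → (S.map G).ShortExact :=
    Groth.DerivedCoh.KFlat.flat_of_isFlat (Groth.DerivedCoh.PCoh.isFlat_of_isFinLocFree hN)
  obtain ⟨hl, hr⟩ : PreservesFiniteLimits G ∧ PreservesFiniteColimits G :=
    ((Functor.exact_tfae G).out 0 3).1 hG
  haveI : (DCoh.HD (DCoh.toD X P) i).IsQuasicoherent := hP i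
  haveI : N.IsQuasicoherent := Groth.KTheory.LocFree.isQCoh hN
  haveI : (P.homology i).IsQuasicoherent :=
    (Groth.QCohMod.isQCoh_iff_of_iso ((DerivedCategory.homologyFunctorFactors X.Modules i).app P)).1
      (hP i)
  haveI hq : (G.obj (P.homology i)).IsQuasicoherent :=
    Groth.QCohMod.isQCoh_tensorMod (M := P.homology i) (N := N)
  let e : tot (T X) P ((single X.Modules up 0).obj N) ≅ (G.mapHomologicalComplex up).obj P :=
    (mapBifunctorFlipIso P ((single X.Modules up 0).obj N) (T X) up).symm ≪≫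
      Groth.DerivedCoh.KFlat.totSingleIso (T X).flip N P
  exact (Groth.QCohMod.isQCoh_iff_of_iso ((DerivedCategory.homologyFunctorFactors X.Modules i).app _ ≪≫
    (HomologicalComplex.homologyFunctor X.Modules up i).mapIso e ≪≫ (P.sc i).mapHomologyIso G)).2 hq

/-- the case of a complex in a single degree -/
theorem isQCohD_tot_of_concentrated (P : CochainComplex X.Modules ℤ) (hP : DCoh.IsQCohD (DCoh.toD X P))
    (C : CochainComplex X.Modules ℤ) (hC : DCoh.IsStrictlyPerfect C) (n : ℤ)
    (h : ∀ i, i ≠ n → IsZero (C.X i)) : DCoh.IsQCohD (DCoh.toD X (tot (T X) P C)) := by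
  haveI : C.IsStrictlyGE n := (CochainComplex.isStrictlyGE_iff _ _).2 fun i hi => h i (by omega)
  haveI : C.IsStrictlyLE n := (CochainComplex.isStrictlyLE_iff _ _).2 fun i hi => h i (by omega)
  obtain ⟨M, ⟨e⟩⟩ := CochainComplex.exists_iso_single C n
  have hM : FlatMod.IsFinLocFree M := Groth.KTheory.LocFree.isFinLocFree_of_iso
    ((HomologicalComplex.eval _ _ n).mapIso e ≪≫ singleObjXSelf up n M) (hC.2 n)
  let e' : C ≅ ((single X.Modules up 0).obj M)⟦(-n)⟧ :=
    e ≪≫ ((CochainComplex.singleFunctors X.Modules).shiftIso (-n) n 0 (by omega)).symm.app M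
  exact isQCohD_of_iso ((DerivedCategory.Q.commShiftIso (-n)).symm.app _ ≪≫
    DerivedCategory.Q.mapIso ((CochainComplex.mapBifunctorShift₂Iso P ((single X.Modules up 0).obj M) (T X) (-n)).symm ≪≫
      (totR (T X) P).mapIso e'.symm))
    (isQCohD_shift (isQCohD_tot_single P hP hM) (-n))

/-- a strictly perfect complex in degrees `[a, a + k)` -/
theorem isQCohD_tot_perfect (P : CochainComplex X.Modules ℤ) (hP : DCoh.IsQCohD (DCoh.toD X P)) :
    ∀ (k : ℕ) (a : ℤ) (C : CochainComplex X.Modules ℤ), DCoh.IsStrictlyPerfect C →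
      (∀ i, i < a ∨ a + k ≤ i → IsZero (C.X i)) → DCoh.IsQCohD (DCoh.toD X (tot (T X) P C)) := by
  intro k
  induction k with
  | zero =>
    intro a C hC h
    refine isQCohD_tot_of_concentrated P hP C hC a fun i _ => h i ?_
    omega
  | succ k ih =>
    intro a C hC h
    let E := HomologicalComplex.stupidTrunc C (ComplexShape.embeddingUpIntGE (a + 1))
    let ι : E ⟶ C := Groth.DerivedCoh.PCoh.stupidι C (a + 1)
    have h0 : ∀ i, i < a + 1 → IsZero (E.X i) := fun i hi =>
      HomologicalComplex.isZero_stupidTrunc_X C _ i fun m => by simp; lia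
    have hi : ∀ i, a + 1 ≤ i → IsIso (ι.f i) := Groth.DerivedCoh.PCoh.isIso_stupidι_f C (a + 1)
    haveI : ∀ i, Mono (ι.f i) := fun i => by
      by_cases hai : a + 1 ≤ i
      · have := hi i hai; infer_instance
      · exact ⟨fun u v _ => (h0 i (by omega)).eq_of_tgt u v⟩
    have hE : DCoh.IsStrictlyPerfect E := by
      refine ⟨⟨a, a + (k + 1 : ℕ), fun i hi' => ?_⟩, fun i => ?_⟩
      · by_cases hai : a + 1 ≤ i
        · have := hi i hai
          exact (h i (by omega)).of_iso (asIso (ι.f i))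
        · exact h0 i (by omega)
      · by_cases hai : a + 1 ≤ i
        · have := hi i hai
          exact Groth.KTheory.LocFree.isFinLocFree_of_iso (asIso (ι.f i)).symm (hC.2 i)
        · exact Groth.KTheory.LocFree.isFinLocFree_zero (h0 i (by omega))
    haveI : Mono ι := HomologicalComplex.mono_of_mono_f _ fun i => inferInstance
    let C' := cokernel ι
    let S : ShortComplex (CochainComplex X.Modules ℤ) := ShortComplex.mk ι (cokernel.π ι) (cokernel.condition ι)
    have hS : S.ShortExact :=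
      ShortComplex.ShortExact.mk' (ShortComplex.exact_of_g_is_cokernel _ (cokernelIsCokernel ι))
        inferInstance inferInstance
    have hne : ∀ i, i ≠ a → IsZero (C'.X i) := fun i hia => by
      have hSi := hS.map_of_exact (eval X.Modules up i)
      by_cases hai : a + 1 ≤ i
      · haveI := hi i hai
        refine (IsZero.iff_id_eq_zero _).2 ?_
        haveI : Epi ((cokernel.π ι).f i) := hSi.epi_g
        rw [← cancel_epi ((cokernel.π ι).f i), ← cancel_epi (ι.f i), Category.comp_id, comp_zero, comp_zero,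
          ← comp_f, cokernel.condition, zero_f]
      · haveI : Epi ((cokernel.π ι).f i) := hSi.epi_g
        exact IsZero.of_epi ((cokernel.π ι).f i) (h i (by omega))
    have hCa : IsIso ((cokernel.π ι).f a) := by
      have hSa := hS.map_of_exact (eval X.Modules up a)
      exact hSa.isIso_g_iff.2 (h0 a (by omega))
    have hC' : DCoh.IsStrictlyPerfect C' := by
      refine ⟨⟨a, a, fun i hi' => hne i (by omega)⟩, fun i => ?_⟩
      by_cases hia : i = a
      · subst hia
        exact Groth.KTheory.LocFree.isFinLocFree_of_iso (asIso ((cokernel.π ι).f i)) (hC.2 i)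
      · exact Groth.KTheory.LocFree.isFinLocFree_zero (hne i hia)
    have hsp : ∀ q, Nonempty (S.map (eval X.Modules up q)).Splitting := fun q => by
      have hSq := hS.map_of_exact (eval X.Modules up q)
      by_cases hai : a + 1 ≤ q
      · haveI : IsIso (S.map (eval X.Modules up q)).f := hi q hai
        exact ⟨ShortComplex.Splitting.ofExactOfRetraction _ hSq.exact (inv (S.map (eval X.Modules up q)).f)
          (IsIso.hom_inv_id _) hSq.epi_g⟩
      · haveI : IsIso (S.map (eval X.Modules up q)).g := hSq.isIso_g_iff.2 (h0 q (by omega))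
        exact ⟨ShortComplex.Splitting.ofExactOfSection _ hSq.exact (inv (S.map (eval X.Modules up q)).g)
          (IsIso.inv_hom_id _) hSq.mono_f⟩
    have hS' : (S.map (totR (T X) P)).ShortExact := Groth.DerivedCoh.KFlat.shortExact_totR (T X) P S
      fun p q => ((hsp q).some.map ((T X).obj (P.X p))).shortExact
    refine isQCohD_obj₂ _ (DerivedCategory.triangleOfSES_distinguished hS') ?_ ?_
    · exact ih (a + 1) E hE fun i hi' => by
        by_cases hai : a + 1 ≤ i
        · have := hi i hai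
          exact (h i (by omega)).of_iso (asIso (ι.f i))
        · exact h0 i (by omega)
    · exact isQCohD_tot_of_concentrated P hP C' hC' a hne

/-- tensoring with a strictly perfect complex preserves quasi-coherence of cohomology -/
theorem isQCohD_ltensor_perfect (δ : CochainComplex X.Modules ℤ) (hδ : DCoh.IsStrictlyPerfect δ)
    [DCoh.HasLTensorCx δ] {M : DCoh.D X} (hM : DCoh.IsQCohD M) :
    DCoh.IsQCohD ((DCoh.LTensorCx δ).obj M) := by
  obtain ⟨F, ⟨e⟩⟩ := exists_rep M
  obtain ⟨a, b, hab⟩ := hδ.1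
  refine isQCohD_of_iso ((Groth.DerivedCoh.KFlat.ltcxIso δ
      (Groth.DerivedCoh.PCoh.isKFlat_of_isStrictlyPerfect hδ) F).symm ≪≫ (DCoh.LTensorCx δ).mapIso e)
    (isQCohD_tot_perfect F (isQCohD_of_iso e.symm hM) (b - a + 1).toNat a δ hδ fun i hi => hab i ?_)
  omega

/-- `RHom(K, L)` has quasi-coherent cohomology for perfect `K` -/
theorem isQCohD_rhom (K : CochainComplex X.Modules ℤ) (hKp : DCoh.IsPerfect (DCoh.toD X K))
    [DCoh.HasLTensorCx K] [DCoh.HasRSheafHom K] {L : DCoh.D X} (hL : DCoh.IsQCohD L) :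
    DCoh.IsQCohD ((DCoh.RSheafHom K).obj L) := by
  let K₀ := (Groth.DerivedCoh.KFlat.flatResolution X).obj K
  let π := (Groth.DerivedCoh.KFlat.flatResolutionAug X).app K
  haveI : QuasiIso π := Groth.DerivedCoh.KFlat.flatResolution_quasiIso K
  haveI : IsIso (DerivedCategory.Q.map π) :=
    (DerivedCategory.isIso_Q_map_iff_quasiIso _ _).2 inferInstance
  have hK₀ := Groth.DerivedCoh.KFlat.flatResolution_isKFlat K
  haveI := Groth.DerivedCoh.KFlat.hasLTensorCx K₀
  haveI := Groth.Misc4.HasRSheafHom.hasRSheafHom K₀ hK₀ (Groth.DerivedCoh.KFlat.flatResolution_isFlat K)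
  haveI : ∀ C, IsIso ((Functor.whiskerLeft (Groth.DerivedCoh.KFlat.flatResolution X)
      (Functor.whiskerRight ((DCoh.tensorCx (X := X)).flip.map π) DerivedCategory.Q)).app C) := fun C => by
    haveI : QuasiIso ((totR (T X) ((Groth.DerivedCoh.KFlat.flatResolution X).obj C)).map π) :=
      Groth.DerivedCoh.KFlat.quasiIso_totR (T X)
        (Groth.DerivedCoh.KFlat.flatResolution_isKFlat_flip C) π
    exact (DerivedCategory.isIso_Q_map_iff_quasiIso _ _).2 this
  haveI := NatIso.isIso_of_isIso_app (Functor.whiskerLeft (Groth.DerivedCoh.KFlat.flatResolution X)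
    (Functor.whiskerRight ((DCoh.tensorCx (X := X)).flip.map π) DerivedCategory.Q))
  let c : DCoh.LTensorCx K₀ ≅ DCoh.LTensorCx K :=
    Localization.liftNatIso DerivedCategory.Q (HomologicalComplex.quasiIso X.Modules up)
      (DerivedCategory.Q ⋙ DCoh.LTensorCx K₀) (DerivedCategory.Q ⋙ DCoh.LTensorCx K) _ _
      (Groth.DerivedCoh.KFlat.ltcxResIso K₀ ≪≫
        asIso (Functor.whiskerLeft (Groth.DerivedCoh.KFlat.flatResolution X)
          (Functor.whiskerRight ((DCoh.tensorCx (X := X)).flip.map π) DerivedCategory.Q)) ≪≫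
        (Groth.DerivedCoh.KFlat.ltcxResIso K).symm)
  refine isQCohD_of_iso ((((DCoh.RSheafHomAdj K).ofNatIsoLeft c.symm).rightAdjointUniq
    (DCoh.RSheafHomAdj K₀)).app L).symm ?_
  refine isQCohD_of_local fun x => ?_
  obtain ⟨V, E, δ, hδ, hx, ⟨e⟩⟩ := Groth.DerivedCoh.Duality.exists_local_rhom K₀ hK₀
    (isPerfect_of_iso (asIso (DerivedCategory.Q.map π)).symm hKp) x
  haveI := hδ
  exact ⟨V, hx, isQCohD_of_iso (e.app L).symm
    (isQCohD_ltensor_perfect δ.V δ.isStrictlyPerfect (isQCohD_restrict V.ι hL))⟩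

end Groth.Misc4.QCohDPerf
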