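import Groth.Agent.CohBase.MayerVietoris
import Groth.Agent.AdicLinTop.RpushBound
import Groth.Agent.AdicLinTop.RpushVanish
import Groth.Agent.Misc4.QCohDPerf
import Groth.Prelude.Def_DCoh2

/-!
# Cohomological dimension of quasi-compact quasi-separated morphisms

For `f : X ⟶ S` quasi-compact and quasi-separated the cohomology of quasi-coherent modules on the preimages of
basic opens of an affine open of `S` is bounded uniformly; hence `Rf_*` has finite amplitude on `D_QCoh`.
-/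

universe u

open CategoryTheory CategoryTheory.Limits AlgebraicGeometry TopologicalSpace Opposite

attribute [local instance] HasDerivedCategory.standard

set_option backward.isDefEq.respectTransparency false
set_option backward.defeqAttrib.useBackward true
set_option synthInstance.maxHeartbeats 400000
set_option maxHeartbeats 1000000

namespace Groth.Misc4.QCohCd

open Groth.CohBase (HVanish abSheaf)

variable {X S : Scheme.{u}}

/-- Uniform bound on the preimages of basic opens of an affine open. -/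
theorem exists_hVanish_basicOpen (f : X ⟶ S) [QuasiCompact f] [QuasiSeparated f] {V : S.Opens}
    (hV : IsAffineOpen V) :
    ∃ d : ℕ, ∀ (M : X.Modules), M.IsQuasicoherent → ∀ (g : Γ(S, V)) (p : ℕ), d ≤ p →
      HVanish (X := X.toTopCat) (abSheaf M) p (f ⁻¹ᵁ S.basicOpen g) := by
  have key := Groth.CohBase.qcqs_induction_on (fun U => ∃ d : ℕ, ∀ (M : X.Modules), M.IsQuasicoherent →
      ∀ (g : Γ(S, V)) (p : ℕ), d ≤ p → HVanish (X := X.toTopCat) (abSheaf M) p (U ⊓ f ⁻¹ᵁ S.basicOpen g))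
    (f ⁻¹ᵁ V) (Scheme.Hom.isQuasiSeparated_preimage f hV.isQuasiSeparated) ?_ ?_ (f ⁻¹ᵁ V)
    (f.isCompact_preimage hV.isCompact) le_rfl
  · obtain ⟨d, hd⟩ := key
    refine ⟨d, fun M hM g p hp => ?_⟩
    have h := hd M hM g p hp
    rwa [inf_eq_right.mpr (f.preimage_mono (S.basicOpen_le g))] at h
  · intro U hU hle
    refine ⟨1, fun M hM g p hp => ?_⟩
    obtain ⟨p, rfl⟩ := Nat.exists_eq_succ_of_ne_zero (show p ≠ 0 by omega)
    refine Groth.CohBase.hVanish_of_isAffineOpen M ?_ p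
    have e : U ⊓ f ⁻¹ᵁ S.basicOpen g = X.basicOpen (X.presheaf.map (homOfLE hle).op (f.app V g)) := by
      rw [Scheme.basicOpen_res, Scheme.preimage_basicOpen]
    exact e ▸ hU.basicOpen _
  · rintro U W - - - - ⟨a, ha⟩ ⟨b, hb⟩ ⟨c, hc⟩
    refine ⟨max (max a b) (c + 1), fun M hM g p hp => ?_⟩
    obtain ⟨p, rfl⟩ := Nat.exists_eq_succ_of_ne_zero (show p ≠ 0 by omega)
    rw [inf_sup_right]
    refine Groth.CohBase.hVanish_sup (X := X.toTopCat) ?_ (ha M hM g _ (by omega)) (hb M hM g _ (by omega))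
    rw [← inf_inf_distrib_right]
    exact hc M hM g p (by omega)

/-- The quasi-coherent modules. -/
def qcM (X : Scheme.{u}) : ObjectProperty X.Modules := fun M => Coh.IsQCoh M

instance : (qcM X).IsClosedUnderIsomorphisms := ⟨fun e h => (Groth.QCohMod.isQCoh_iff_of_iso e).1 h⟩

instance : (qcM X).ContainsZero :=
  ⟨⟨_, isZero_zero _, Groth.Misc4.QCohDPerf.isQCoh_isZero (X := X) (isZero_zero _)⟩⟩

instance isWeakSerreM : WSerre.IsWeakSerre (qcM X) where
  kernels_le := by
    rintro _ ⟨f, k, hk, hA, hB⟩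
    rename_i A B
    haveI : A.IsQuasicoherent := hA
    haveI : B.IsQuasicoherent := hB
    have : (kernel f).IsQuasicoherent :=
      Groth.QCohMod.isQCoh_of_mono_exact (S := ShortComplex.mk (kernel.ι f) f (kernel.condition f))
        (ShortComplex.exact_of_f_is_kernel _ (kernelIsKernel f))
    exact (Groth.QCohMod.isQCoh_iff_of_iso
      (IsLimit.conePointUniqueUpToIso (kernelIsKernel f) hk)).1 (show (kernel f).IsQuasicoherent from this)
  cokernels_le := by
    rintro _ ⟨f, k, hk, hA, hB⟩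
    rename_i A B
    haveI : A.IsQuasicoherent := hA
    haveI : B.IsQuasicoherent := hB
    exact (Groth.QCohMod.isQCoh_iff_of_iso
      (IsColimit.coconePointUniqueUpToIso (cokernelIsCokernel f) hk)).1 (Groth.QCohMod.isQCoh_cokernel f)
  prop_X₂_of_shortExact {S} hS h₁ h₃ := by
    haveI : S.X₁.IsQuasicoherent := h₁
    haveI : S.X₃.IsQuasicoherent := h₃
    exact Groth.CohTwo.QCohExt.isQCoh_of_shortExact hS

/-- The quasi-coherent modules, on the ringed site of opens. -/
abbrev qc (X : Scheme.{u}) : ObjectProperty (ModSite.Mod X.sheaf) := qcM X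

instance isWeakSerre : WSerre.IsWeakSerre (qc X) := isWeakSerreM (X := X)

lemma hVanish_iff_HU (M : X.Modules) (k : ℕ) (U : X.Opens) :
    Subsingleton (ModSite.HU X.sheaf M k U) ↔ HVanish (X := X.toTopCat) (abSheaf M) k U := Iff.rfl

/-- Affine opens below a given covering. -/
theorem exists_affine_cover (U : X.Opens) (T : Sieve U) (hT : T ∈ Opens.grothendieckTopology X U) :
    ∃ (ι : Type u) (Y : ι → X.Opens) (g : ∀ i, Y i ⟶ U), (∀ i, T.arrows (g i)) ∧
      Sieve.ofArrows Y g ∈ Opens.grothendieckTopology X U ∧ ∀ i, IsAffineOpen (Y i) := by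
  refine ⟨{p : X.Opens // ∃ h : p ≤ U, IsAffineOpen p ∧ T.arrows (homOfLE h)}, fun p => p.1,
    fun p => homOfLE p.2.choose, fun p => p.2.choose_spec.2, fun x hx => ?_, fun p => p.2.choose_spec.1⟩
  obtain ⟨W, g, hg, hxW⟩ := hT x hx
  obtain ⟨_, ⟨V, hV, rfl⟩, hxV, hVW⟩ := X.isBasis_affineOpens.exists_subset_of_mem_open hxW W.2
  have h : V ≤ U := (show V ≤ W from hVW).trans g.le
  refine ⟨V, homOfLE h, ?_, hxV⟩
  have hp : ∃ h : V ≤ U, IsAffineOpen V ∧ T.arrows (homOfLE h) := ⟨h, hV, by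
    rw [Subsingleton.elim (homOfLE h) (homOfLE (show V ≤ W from hVW) ≫ g)]
    exact T.downward_closed hg _⟩
  exact Sieve.ofArrows_mk _ _ (⟨V, hp⟩ : {p : X.Opens // ∃ h : p ≤ U, IsAffineOpen p ∧ T.arrows (homOfLE h)})

/-- Basic opens of an affine open below a given covering. -/
theorem exists_basic_cover {V : X.Opens} (hV : IsAffineOpen V) (T : Sieve V)
    (hT : T ∈ Opens.grothendieckTopology X V) :
    ∃ (ι : Type u) (Y : ι → X.Opens) (j : ∀ i, Y i ⟶ V), (∀ i, T.arrows (j i)) ∧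
      Sieve.ofArrows Y j ∈ Opens.grothendieckTopology X V ∧ ∀ i, ∃ g : Γ(X, V), Y i = X.basicOpen g := by
  refine ⟨{g : Γ(X, V) // T.arrows (homOfLE (X.basicOpen_le g))}, fun p => X.basicOpen p.1,
    fun p => homOfLE (X.basicOpen_le p.1), fun p => p.2, fun x hx => ?_, fun p => ⟨p.1, rfl⟩⟩
  obtain ⟨W, g, hg, hxW⟩ := hT x hx
  obtain ⟨a, hle, hxa⟩ := hV.exists_basicOpen_le ⟨x, hxW⟩ hx
  refine ⟨X.basicOpen a, homOfLE (X.basicOpen_le a), ?_, hxa⟩
  have hp : T.arrows (homOfLE (X.basicOpen_le a)) := by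
    rw [Subsingleton.elim (homOfLE (X.basicOpen_le a)) (homOfLE hle ≫ g)]
    exact T.downward_closed hg _
  exact Sieve.ofArrows_mk _ _ (⟨a, hp⟩ : {g : Γ(X, V) // T.arrows (homOfLE (X.basicOpen_le g))})

variable (f : X ⟶ S) [QuasiCompact f] [QuasiSeparated f]

/-- The higher direct images of quasi-coherent modules vanish above a bound, over a quasi-compact base. -/
theorem exists_isZero_Rpush [CompactSpace S] :
    ∃ N : ℕ, ∀ F : ModSite.Mod X.sheaf, qc X F → ∀ p : ℕ, (N : ℤ) < p →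
      IsZero (((ModSite.RMor.ofScheme f).Rpush p).obj F) := by
  choose d hd using fun V : S.affineOpens => exists_hVanish_basicOpen f V.2
  obtain ⟨t, ht⟩ := isCompact_univ.elim_finite_subcover (fun V : S.affineOpens => (V.1 : Set S))
    (fun V => V.1.2) fun x _ => by
      obtain ⟨_, ⟨V, hV, rfl⟩, hxV, -⟩ := S.isBasis_affineOpens.exists_subset_of_mem_open (Set.mem_univ x) isOpen_univ
      exact Set.mem_iUnion.2 ⟨⟨V, hV⟩, hxV⟩
  refine ⟨t.sup d, fun F hF p hp => ?_⟩
  obtain ⟨m, rfl⟩ := Nat.exists_eq_succ_of_ne_zero (by omega : p ≠ 0)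
  haveI : Functor.Additive (C := ModSite.Mod X.sheaf) (D := ModSite.Mod S.sheaf) (Scheme.Modules.pushforward f) :=
    inferInstanceAs (ModSite.RMor.ofScheme f).push.Additive
  refine Groth.AdicLinTop.RpushVanish.isZero_rightDerived_push f.base (O' := X.sheaf) (O := S.sheaf)
    (Scheme.Modules.pushforward f) (Iso.refl _) F m fun V y hy => ?_
  obtain ⟨W, hW, hyW⟩ : ∃ W ∈ t, y ∈ W.1 := by simpa using ht (Set.mem_univ y)
  obtain ⟨a, hle, hya⟩ := W.2.exists_basicOpen_le ⟨y, hy⟩ hyW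
  have := Finset.le_sup (f := d) hW
  exact ⟨S.basicOpen a, hle, hya, hd W F hF a _ (by omega)⟩

/-- Unbounded direct images of objects with quasi-coherent cohomology bounded above are bounded above. -/
theorem exists_isZero_HD [CompactSpace S] [DCoh.HasRpush f] :
    ∃ N : ℤ, 0 ≤ N ∧ ∀ (E : DCoh.D X), DCoh.IsQCohD E → ∀ e : ℤ, E.IsLE e → ∀ m : ℤ, e + N < m →
      IsZero (DCoh.HD ((DCoh.Rpush f).obj E) m) := by
  obtain ⟨N, hN⟩ := exists_isZero_Rpush f
  haveI : SiteCmp.HasRpushD (ModSite.RMor.ofScheme f) := (inferInstance : DCoh.HasRpush f)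
  refine ⟨N, by omega, fun E hE e he m hm => ?_⟩
  haveI : DerivedCategory.IsLE (C := ModSite.Mod X.sheaf) E e := he
  refine Groth.AdicLinTop.RpushBound.isZero_homology_RpushD (qc X) (ModSite.RMor.ofScheme f)
    {V | IsAffineOpen V} {V | IsAffineOpen V} (fun U => ?_) (fun V _ => ⟨0, fun T hT => ?_⟩)
    (fun U => ?_) (fun V hV => ?_) N (by omega) hN E hE e m hm
  · obtain ⟨ι, Y, g, -, hY, hB⟩ := exists_affine_cover U ⊤ (GrothendieckTopology.top_mem _ _)
    exact ⟨ι, Y, g, hY, hB⟩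
  · obtain ⟨ι, Y, g, hg, hY, hB⟩ := exists_affine_cover V T hT
    refine ⟨ι, Y, g, hg, hY, fun i F hF k hk => ?_⟩
    obtain ⟨k, rfl⟩ := Nat.exists_eq_succ_of_ne_zero (show k ≠ 0 by omega)
    exact @Groth.CohBase.hVanish_of_isAffineOpen X F hF _ (hB i) k
  · obtain ⟨ι, Y, g, -, hY, hB⟩ := exists_affine_cover U ⊤ (GrothendieckTopology.top_mem _ _)
    exact ⟨ι, Y, g, hY, hB⟩
  · obtain ⟨d, hd⟩ := exists_hVanish_basicOpen f hV
    refine ⟨d, fun T hT => ?_⟩
    obtain ⟨ι, Y, j, hj, hY, hb⟩ := exists_basic_cover hV T hT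
    refine ⟨ι, Y, j, hj, hY, fun i F hF k hk => ?_⟩
    obtain ⟨g, hg⟩ := hb i
    rw [hg]
    exact hd F hF g k (by omega)

end Groth.Misc4.QCohCd
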