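import Groth.Agent.Misc4.RpushTrunc
import Groth.Agent.S9069

/-!
From bounded below to unbounded equivalences of derived categories with cohomology in weak Serre subcategories.
-/

universe u

set_option backward.defeqAttrib.useBackward true
set_option backward.isDefEq.respectTransparency false
set_option linter.unusedSectionVars false
set_option linter.style.haveILetI false
set_option synthInstance.maxHeartbeats 400000
set_option maxHeartbeats 1000000

open CategoryTheory CategoryTheory.Limits CategoryTheory.Pretriangulated DerivedCategory Opposite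

attribute [local instance] HasDerivedCategory.standard

namespace Groth.Misc4.CdEquiv

variable {C : Type u} [SmallCategory C] {J : GrothendieckTopology C} {O_C : Sheaf J CommRingCat.{u}}
  {D : Type u} [SmallCategory D] {K : GrothendieckTopology D} {O_D : Sheaf K CommRingCat.{u}}
  (f : ModSite.RMor O_C O_D)

/-- An exact inverse image preserves isomorphisms in high degrees into an object bounded below there. -/
lemma isIso_homology_pullD [PreservesFiniteLimits f.pull] {W W' : DerivedCategory (ModSite.Mod O_D)}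
    (φ : W ⟶ W') (m : ℤ) [W'.IsGE m]
    (h : ∀ q, m ≤ q → IsIso ((homologyFunctor (ModSite.Mod O_D) q).map φ)) (j : ℤ) (hj : m ≤ j) :
    IsIso ((homologyFunctor (ModSite.Mod O_C) j).map ((SiteCmp.pullD f).map φ)) := by
  obtain ⟨Z, g, δ, hT⟩ := distinguished_cocone_triangle φ
  let T := Triangle.mk φ g δ
  have hz : ∀ q, m - 1 ≤ q → IsZero ((homologyFunctor (ModSite.Mod O_D) q).obj Z) := fun q hq => by
    by_cases hq' : m ≤ q
    · have : IsIso ((homologyFunctor _ q).map T.mor₁) := h q hq'
      have : IsIso ((homologyFunctor _ (q + 1)).map T.mor₁) := h (q + 1) (by lia)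
      exact RlimVanish.isZero_cone (T := T) hT q
    · have : IsIso ((homologyFunctor _ (q + 1)).map T.mor₁) := h (q + 1) (by lia)
      exact (HomologySequence.exact₃ T hT q (q + 1) rfl).isZero_of_both_zeros
        ((W'.isZero_of_isGE m q (by lia)).eq_of_src _ _)
        ((HomologySequence.mono_homologyMap_mor₁_iff T hT q (q + 1) rfl).1 inferInstance)
  have hz' : ∀ q, m - 1 ≤ q → IsZero ((homologyFunctor (ModSite.Mod O_C) q).obj ((SiteCmp.pullD f).obj Z)) :=
    fun q hq => (f.pull.map_isZero (hz q hq)).of_iso (Groth.DerivedAdj.homologyMapDerivedIso f.pull Z q)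
  have hT' := (SiteCmp.pullD f).map_distinguished T hT
  have : Epi ((homologyFunctor (ModSite.Mod O_C) j).map ((SiteCmp.pullD f).map φ)) :=
    (HomologySequence.epi_homologyMap_mor₁_iff _ hT' j).2 ((hz' j (by lia)).eq_of_tgt _ _)
  have : Mono ((homologyFunctor (ModSite.Mod O_C) j).map ((SiteCmp.pullD f).map φ)) :=
    (HomologySequence.mono_homologyMap_mor₁_iff _ hT' (j - 1) j (by lia)).2
      ((hz' (j - 1) (by lia)).eq_of_src _ _)
  exact isIso_of_mono_of_epi _

variable [HasInjectiveResolutions (ModSite.Mod O_C)] [SiteCmp.HasRpushD f]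

/-- Maps to bounded below objects which are isomorphisms in high degrees, when truncations are. -/
lemma isIso_homology_RpushD {W W' : DerivedCategory (ModSite.Mod O_C)} (ψ : W ⟶ W') (n : ℕ)
    [hW' : W'.IsGE (-(n : ℤ))]
    (h : ∀ q, -(n : ℤ) ≤ q → IsIso ((homologyFunctor (ModSite.Mod O_C) q).map ψ)) (j : ℤ)
    (htr : IsIso ((homologyFunctor (ModSite.Mod O_D) j).map
      ((SiteCmp.RpushD f).map (CohCx.toTruncTower W n)))) :
    IsIso ((homologyFunctor (ModSite.Mod O_D) j).map ((SiteCmp.RpushD f).map ψ)) := by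
  have : IsIso (((TStructure.t : Triangulated.TStructure (DerivedCategory (ModSite.Mod O_C))).truncGEπ
      (-(n : ℤ))).app W') := by
    refine (DerivedCategory.isIso_iff (f := _)).2 fun q => ?_
    by_cases hq : -(n : ℤ) ≤ q
    · exact RlimTrunc.isIso_homology_toTrunc W' n q hq
    · have h1 := W'.isZero_of_isGE (-(n : ℤ)) q (by lia)
      have : (CohCx.truncTower W' n).IsGE (-(n : ℤ)) := inferInstanceAs (TStructure.t.IsGE _ _)
      have h2 := (CohCx.truncTower W' n).isZero_of_isGE (-(n : ℤ)) q (by lia)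
      exact ⟨0, h1.eq_of_src _ _, h2.eq_of_src _ _⟩
  let τψ := ((TStructure.t : Triangulated.TStructure (DerivedCategory (ModSite.Mod O_C))).truncGE
      (-(n : ℤ))).map ψ
  have hnat : CohCx.toTruncTower W n ≫ τψ = ψ ≫ CohCx.toTruncTower W' n :=
    TStructure.t.truncGEπ_naturality (-(n : ℤ)) ψ
  have : IsIso τψ := by
    refine (DerivedCategory.isIso_iff (f := τψ)).2 fun q => ?_
    by_cases hq : -(n : ℤ) ≤ q
    · have := RlimTrunc.isIso_homology_toTrunc W n q hq
      have := RlimTrunc.isIso_homology_toTrunc W' n q hq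
      have := h q hq
      have e : (homologyFunctor (ModSite.Mod O_C) q).map τψ =
          inv ((homologyFunctor _ q).map (CohCx.toTruncTower W n)) ≫ (homologyFunctor _ q).map ψ ≫
            (homologyFunctor _ q).map (CohCx.toTruncTower W' n) := by
        rw [IsIso.eq_inv_comp, ← Functor.map_comp, ← Functor.map_comp, hnat]
      rw [e]
      infer_instance
    · have h1 := (CohCx.truncTower W n).isZero_of_isGE (hX := inferInstanceAs (TStructure.t.IsGE _ _))
        (-(n : ℤ)) q (by lia)
      have h2 := (CohCx.truncTower W' n).isZero_of_isGE (hX := inferInstanceAs (TStructure.t.IsGE _ _))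
        (-(n : ℤ)) q (by lia)
      exact ⟨0, h1.eq_of_src _ _, h2.eq_of_src _ _⟩
  have e : ψ = CohCx.toTruncTower W n ≫ τψ ≫ inv (CohCx.toTruncTower W' n) := by
    rw [← Category.assoc, hnat, Category.assoc, IsIso.hom_inv_id, Category.comp_id]
  rw [e, Functor.map_comp, Functor.map_comp]
  infer_instance

/-- The equivalence, from the behaviour of the direct image on truncations. -/
theorem equivalence [PreservesFiniteLimits f.pull]
    (adj : SiteCmp.pullD f ⊣ SiteCmp.RpushD f)
    (A : ObjectProperty (ModSite.Mod O_C)) [WSerre.IsWeakSerre A]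
    (A' : ObjectProperty (ModSite.Mod O_D)) [WSerre.IsWeakSerre A']
    (h2a : ∀ F' : ModSite.Mod O_D, A' F' → A (f.pull.obj F'))
    (h2b : ∀ F' G' : ModSite.Mod O_D, A' F' → A' G' →
      Function.Bijective (fun φ : F' ⟶ G' => f.pull.map φ))
    (h2c : ∀ F : ModSite.Mod O_C, A F → ∃ F' : ModSite.Mod O_D, A' F' ∧ Nonempty (f.pull.obj F' ≅ F))
    (h3 : ∀ F' : ModSite.Mod O_D, A' F' → IsIso (adj.unit.app (SiteCmp.inD O_D F')))
    (htr : ∀ X : DerivedCategory (ModSite.Mod O_C), WSerre.cohIn A X → ∀ (n : ℕ) (j : ℤ), -(n : ℤ) ≤ j →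
      IsIso ((homologyFunctor (ModSite.Mod O_D) j).map ((SiteCmp.RpushD f).map (CohCx.toTruncTower X n)))) :
    (∀ Y : DerivedCategory (ModSite.Mod O_D), WSerre.cohIn A' Y →
      WSerre.cohIn A ((SiteCmp.pullD f).obj Y) ∧ IsIso (adj.unit.app Y)) ∧
    (∀ X : DerivedCategory (ModSite.Mod O_C), WSerre.cohIn A X →
      WSerre.cohIn A' ((SiteCmp.RpushD f).obj X) ∧ IsIso (adj.counit.app X)) := by
  obtain ⟨hY₀, hX₀⟩ := Groth.Agent.S9069.result f adj A A' h2a h2b h2c h3
  let β := (SiteCmp.pushKh f).totalRightDerivedUnit DerivedCategory.Qh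
      (HomotopyCategory.quasiIso (ModSite.Mod O_C) (ComplexShape.up ℤ))
  have htrunc : ∀ {E : Type (u + 1)} [Category.{u} E] [Abelian E] (P : ObjectProperty E) [WSerre.IsWeakSerre P]
      (X : DerivedCategory E), WSerre.cohIn P X → ∀ n : ℕ, WSerre.cohInPlus P (CohCx.truncTower X n) := by
    intro E _ _ P _ X hX n
    have hge : (CohCx.truncTower X n).IsGE (-(n : ℤ)) := inferInstanceAs (TStructure.t.IsGE _ _)
    refine ⟨fun q => ?_, -(n : ℤ), hge⟩
    by_cases hq : -(n : ℤ) ≤ q
    · have := RlimTrunc.isIso_homology_toTrunc X n q hq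
      exact P.prop_of_iso (asIso ((homologyFunctor E q).map (CohCx.toTruncTower X n))) (hX q)
    · exact P.prop_of_isZero ((CohCx.truncTower X n).isZero_of_isGE (-(n : ℤ)) q (by lia))
  have hpull : ∀ Y : DerivedCategory (ModSite.Mod O_D), WSerre.cohIn A' Y →
      WSerre.cohIn A ((SiteCmp.pullD f).obj Y) := fun Y hY q =>
    A.prop_of_iso (Groth.DerivedAdj.homologyMapDerivedIso f.pull Y q).symm (h2a _ (hY q))
  refine ⟨fun Y hY => ⟨hpull Y hY, ?_⟩, fun X hX => ⟨fun j => ?_, ?_⟩⟩
  · refine (DerivedCategory.isIso_iff (f := adj.unit.app Y)).2 fun j => ?_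
    let n := (-j).toNat
    let t := CohCx.toTruncTower Y n
    have hge : (CohCx.truncTower Y n).IsGE (-(n : ℤ)) := inferInstanceAs (TStructure.t.IsGE _ _)
    have := (hY₀ _ (htrunc A' Y hY n)).2
    have hW' : ((SiteCmp.pullD f).obj (CohCx.truncTower Y n)).IsGE (-(n : ℤ)) :=
      Groth.DerivedAdj.leftExact_mapDerivedCategory f.pull _ _ hge
    have hR := isIso_homology_RpushD f ((SiteCmp.pullD f).map t) n
      (fun q hq => isIso_homology_pullD f t (-(n : ℤ))
        (fun q' hq' => RlimTrunc.isIso_homology_toTrunc Y n q' hq') q hq)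
      j (htr _ (hpull Y hY) n j (by lia))
    have := RlimTrunc.isIso_homology_toTrunc Y n j (by lia)
    have e : (homologyFunctor (ModSite.Mod O_D) j).map (adj.unit.app Y) ≫
        (homologyFunctor (ModSite.Mod O_D) j).map ((SiteCmp.RpushD f).map ((SiteCmp.pullD f).map t)) =
        (homologyFunctor (ModSite.Mod O_D) j).map (t ≫ adj.unit.app (CohCx.truncTower Y n)) := by
      rw [← Functor.map_comp]
      exact congrArg _ (adj.unit.naturality t).symm
    have : IsIso ((homologyFunctor (ModSite.Mod O_D) j).map (t ≫ adj.unit.app (CohCx.truncTower Y n))) := by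
      rw [Functor.map_comp]; infer_instance
    exact IsIso.of_isIso_fac_right e
  · let n := (-j).toNat
    have := htr X hX n j (by lia)
    exact A'.prop_of_iso (asIso ((homologyFunctor (ModSite.Mod O_D) j).map
      ((SiteCmp.RpushD f).map (CohCx.toTruncTower X n)))).symm ((hX₀ _ (htrunc A X hX n)).1.1 j)
  · refine (DerivedCategory.isIso_iff (f := adj.counit.app X)).2 fun j => ?_
    let n := (-j).toNat
    let t := CohCx.toTruncTower X n
    have hge : (CohCx.truncTower X n).IsGE (-(n : ℤ)) := inferInstanceAs (TStructure.t.IsGE _ _)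
    have := (hX₀ _ (htrunc A X hX n)).2
    have : ((SiteCmp.RpushD f).obj (CohCx.truncTower X n)).IsGE (-(n : ℤ)) :=
      RFBounded.isGE_obj f.push (SiteCmp.RpushD f) β _ _
    have := isIso_homology_pullD f ((SiteCmp.RpushD f).map t) (-(n : ℤ)) (fun q hq => htr X hX n q hq) j (by lia)
    have := RlimTrunc.isIso_homology_toTrunc X n j (by lia)
    have e : (homologyFunctor (ModSite.Mod O_C) j).map (adj.counit.app X) ≫
        (homologyFunctor (ModSite.Mod O_C) j).map t =
        (homologyFunctor (ModSite.Mod O_C) j).map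
          ((SiteCmp.pullD f).map ((SiteCmp.RpushD f).map t) ≫ adj.counit.app (CohCx.truncTower X n)) := by
      rw [← Functor.map_comp]
      exact congrArg _ (adj.counit.naturality t).symm
    have : IsIso ((homologyFunctor (ModSite.Mod O_C) j).map
        ((SiteCmp.pullD f).map ((SiteCmp.RpushD f).map t) ≫ adj.counit.app (CohCx.truncTower X n))) := by
      rw [Functor.map_comp]; infer_instance
    exact IsIso.of_isIso_fac_right e

/-- Higher direct images of objects coming from downstairs. -/
theorem rpush_spec [PreservesFiniteLimits f.pull]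
    (adj : SiteCmp.pullD f ⊣ SiteCmp.RpushD f)
    (A : ObjectProperty (ModSite.Mod O_C)) (A' : ObjectProperty (ModSite.Mod O_D)) [WSerre.IsWeakSerre A']
    (h2c : ∀ F : ModSite.Mod O_C, A F → ∃ F' : ModSite.Mod O_D, A' F' ∧ Nonempty (f.pull.obj F' ≅ F))
    (h3 : ∀ F' : ModSite.Mod O_D, A' F' → IsIso (adj.unit.app (SiteCmp.inD O_D F')))
    (F : ModSite.Mod O_C) (hF : A F) :
    (∀ p : ℕ, A' ((f.Rpush p).obj F)) ∧ ∀ p : ℕ, (0 : ℤ) < p → IsZero ((f.Rpush p).obj F) := by
  obtain ⟨F', hF', ⟨e⟩⟩ := h2c F hF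
  have := h3 F' hF'
  let β := (SiteCmp.pushKh f).totalRightDerivedUnit DerivedCategory.Qh
      (HomotopyCategory.quasiIso (ModSite.Mod O_C) (ComplexShape.up ℤ))
  let e' : (SiteCmp.pullD f).obj (SiteCmp.inD O_D F') ≅ SiteCmp.inD O_C F :=
    (f.pull.mapDerivedCategorySingleFunctor 0).app F' ≪≫ (DerivedCategory.singleFunctor _ 0).mapIso e
  let eR : (singleFunctor (ModSite.Mod O_D) 0).obj F' ≅
      (SiteCmp.RpushD f).obj ((singleFunctor (ModSite.Mod O_C) 0).obj F) :=
    asIso (adj.unit.app (SiteCmp.inD O_D F')) ≪≫ (SiteCmp.RpushD f).mapIso e'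
  have key : ∀ p : ℕ, Nonempty ((f.Rpush p).obj F ≅
      (homologyFunctor (ModSite.Mod O_D) (p : ℤ)).obj ((singleFunctor (ModSite.Mod O_D) 0).obj F')) := fun p => by
    obtain ⟨e''⟩ := RFBounded.nonempty_homology_single f.push (SiteCmp.RpushD f) β F 0 p p (by lia)
    exact ⟨e''.symm ≪≫ (homologyFunctor _ (p : ℤ)).mapIso eR.symm⟩
  have hz : ∀ p : ℕ, (0 : ℤ) < p → IsZero ((f.Rpush p).obj F) := fun p hp => by
    obtain ⟨e''⟩ := key p
    exact (isZero_of_isLE _ 0 _ hp).of_iso e''
  refine ⟨fun p => ?_, hz⟩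
  rcases Nat.eq_zero_or_pos p with rfl | hp
  · obtain ⟨e''⟩ := key 0
    exact A'.prop_of_iso (e'' ≪≫ (singleFunctorCompHomologyFunctorIso _ 0).app F').symm hF'
  · exact A'.prop_of_isZero (hz p (by lia))

end Groth.Misc4.CdEquiv
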