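import Groth.Agent.DerivedCoh.KInj.Products
import Mathlib.CategoryTheory.Limits.Preserves.Shapes.Products

/-!
Localization from complexes to the derived category of a Grothendieck abelian category preserves
coproducts.
-/

universe w v u

namespace Groth.Misc4.QCoprod

open CategoryTheory CategoryTheory.Limits Groth.DerivedCoh.KInjRes

variable {A : Type u} [Category.{v} A] [Abelian A] [IsGrothendieckAbelian.{v} A]
  [HasDerivedCategory.{w} A]

/-- the image of a coproduct is a coproduct -/
theorem nonempty_isColimit {T : Type v} (K : T → CochainComplex A ℤ) :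
    Nonempty (IsColimit (Cofan.mk (DerivedCategory.Q.obj (∐ K))
      fun t => DerivedCategory.Q.map (Sigma.ι K t))) := by
  have hex : ∀ s : Cofan (fun t => DerivedCategory.Q.obj (K t)),
      ∃! l : DerivedCategory.Q.obj (∐ K) ⟶ s.pt,
      ∀ t, DerivedCategory.Q.map (Sigma.ι K t) ≫ l = s.inj t := fun s => by
    obtain ⟨J, hJ, ⟨ε⟩⟩ := exists_kInjective_iso s.pt
    choose u hu using fun t => Q_map_surjective (K t) J (s.inj t ≫ ε.inv)
    refine ⟨DerivedCategory.Q.map (Sigma.desc u) ≫ ε.hom, fun t => ?_, fun l hl => ?_⟩
    · rw [← Functor.map_comp_assoc, Sigma.ι_desc, hu, Category.assoc, Iso.inv_hom_id, Category.comp_id]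
    · obtain ⟨a, ha⟩ := Q_map_surjective (∐ K) J (l ≫ ε.inv)
      rw [← cancel_mono ε.inv, Category.assoc, Iso.hom_inv_id, Category.comp_id, ← ha, Q_map_eq_iff]
      refine homotopic_sigma K _ _ fun t => ?_
      rw [← Q_map_eq_iff, Functor.map_comp, ha, ← Category.assoc, hl, Sigma.ι_desc, hu]
  exact ⟨Cofan.IsColimit.mk _ (fun s => (hex s).choose)
    (fun s t => (hex s).choose_spec.1 t)
    (fun s m hm => (hex s).choose_spec.2 m hm)⟩

/-- `Q` preserves small coproducts -/
theorem preservesColimitsOfShape (T : Type v) :
    PreservesColimitsOfShape (Discrete T) (DerivedCategory.Q (C := A)) where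
  preservesColimit {F} := by
    let K : T → CochainComplex A ℤ := F.obj ∘ Discrete.mk
    haveI : PreservesColimit (Discrete.functor K) (DerivedCategory.Q (C := A)) :=
      preservesColimit_of_preserves_colimit_cocone (coproductIsCoproduct K)
        ((Cofan.isColimitMapCoconeEquiv _ _ _).symm (nonempty_isColimit K).some)
    exact preservesColimit_of_iso_diagram _ (Discrete.natIsoFunctor (F := F)).symm

theorem preservesColimitsOfShape_nat :
    PreservesColimitsOfShape (Discrete ℕ) (DerivedCategory.Q (C := A)) :=
  haveI := preservesColimitsOfShape (A := A) (ULift.{v} ℕ)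
  preservesColimitsOfShape_of_equiv (Discrete.equivalence Equiv.ulift) _

end Groth.Misc4.QCoprod
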