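import Groth.Agent.SitesTopoi.Mod.Flat
import Mathlib.Algebra.Category.ModuleCat.Presheaf.Free
import Mathlib.CategoryTheory.Generator.Basic

/-! The free module on an object of a ringed site. -/

universe u

open CategoryTheory CategoryTheory.Limits Opposite MonoidalCategory

set_option backward.defeqAttrib.useBackward true
set_option backward.isDefEq.respectTransparency false
set_option synthInstance.maxHeartbeats 400000
set_option maxHeartbeats 1000000

namespace Groth.Misc4.FreeOn

open Groth.SitesTopoi.ModH

/-- Two objects corepresenting the same functor are isomorphic. -/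
lemma nonempty_iso_of_homEquiv {A : Type*} [Category A] {X Y : A} (S : A → Type*) (mapS : ∀ {M N : A}, (M ⟶ N) → S M → S N)
    (eX : ∀ M, (X ⟶ M) ≃ S M) (eY : ∀ M, (Y ⟶ M) ≃ S M)
    (hX : ∀ {M N : A} (p : M ⟶ N) (f : X ⟶ M), eX N (f ≫ p) = mapS p (eX M f))
    (hY : ∀ {M N : A} (p : M ⟶ N) (f : Y ⟶ M), eY N (f ≫ p) = mapS p (eY M f)) : Nonempty (X ≅ Y) := by
  refine ⟨⟨(eX Y).symm (eY Y (𝟙 Y)), (eY X).symm (eX X (𝟙 X)), (eX X).injective ?_, (eY Y).injective ?_⟩⟩
  · rw [hX, Equiv.apply_symm_apply, ← hY, Category.id_comp, Equiv.apply_symm_apply]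
  · rw [hY, Equiv.apply_symm_apply, ← hX, Category.id_comp, Equiv.apply_symm_apply]

variable {C : Type u} [SmallCategory C] {J : GrothendieckTopology C} {O : Sheaf J CommRingCat.{u}}

lemma rsm_app {M N : ModSite.Mod O} (p : M ⟶ N) {U V : C} (g : V ⟶ U) (m : sc M.val U) :
    apm p.val V (rsm M.val g m) = rsm N.val g (apm p.val U m) := apm_rsm _ g m

/-- Sections over the localised site. -/
noncomputable def sectionsOverEquiv (M : ModSite.Mod O) (U : C) :
    ((ModSite.restr O U).obj M).sections ≃ sc M.val U where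
  toFun s := s.val (op (Over.mk (𝟙 U)))
  invFun x := PresheafOfModules.sectionsMk (fun V => rsm M.val V.unop.hom x) (fun V W f => by
    show rsm M.val f.unop.left (rsm M.val V.unop.hom x) = rsm M.val W.unop.hom x
    rw [rsm_rsm, Over.w])
  left_inv s := Subtype.ext (funext fun V => by
    exact s.2 (Over.homMk (U := V.unop) (V := Over.mk (𝟙 U)) V.unop.hom (Category.comp_id _)).op)
  right_inv x := rsm_id M.val x

/-- Morphisms out of the free module on an object are sections over it. -/
noncomputable def homEquiv (U : C) (M : ModSite.Mod O) : (ModSite.freeOn O U ⟶ M) ≃ sc M.val U :=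
  ((ModSite.extZeroAdj O U).homEquiv _ _).trans
    (((ModSite.restr O U).obj M).unitHomEquiv.trans (sectionsOverEquiv M U))

lemma homEquiv_comp (U : C) {M N : ModSite.Mod O} (f : ModSite.freeOn O U ⟶ M) (p : M ⟶ N) :
    homEquiv U N (f ≫ p) = apm p.val U (homEquiv U M f) := by
  show (sectionsOverEquiv N U) (((ModSite.restr O U).obj N).unitHomEquiv ((ModSite.extZeroAdj O U).homEquiv _ _ (f ≫ p))) = _
  rw [Adjunction.homEquiv_naturality_right, SheafOfModules.unitHomEquiv_comp_apply]
  rfl

/-- Free modules on a generating family of objects detect isomorphisms. -/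
theorem isIso_of_bijective {G : Set C}
    (hG : ∀ X : C, ∃ (ι : Type u) (Y : ι → C) (f : ∀ i, Y i ⟶ X), Sieve.ofArrows Y f ∈ J X ∧ ∀ i, Y i ∈ G)
    {M N : ModSite.Mod O} (p : M ⟶ N) (h : ∀ X ∈ G, Function.Bijective (apm p.val X)) : IsIso p := by
  have hinj : ∀ X, Function.Injective (apm p.val X) := by
    intro X a b e
    obtain ⟨ι, Y, f, hf, hY⟩ := hG X
    refine sec_extM M hf ?_
    rintro V g ⟨W, k, q, ⟨i⟩, rfl⟩
    rw [← rsm_rsm, ← rsm_rsm]
    refine congrArg _ ((h _ (hY i)).1 ?_)
    rw [apm_rsm, apm_rsm, e]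
  have hsurj : ∀ X, Function.Surjective (apm p.val X) := by
    intro X n
    obtain ⟨ι, Y, f, hf, hY⟩ := hG X
    let S := Sieve.ofArrows Y f
    have hmem : ∀ ⦃V : C⦄ (g : V ⟶ X), S g → ∃ m, apm p.val V m = rsm N.val g n := by
      rintro V g ⟨W, k, q, ⟨i⟩, rfl⟩
      obtain ⟨m, hm⟩ := (h _ (hY i)).2 (rsm N.val (f i) n)
      exact ⟨rsm M.val k m, by rw [apm_rsm, hm, rsm_rsm]⟩
    choose x hx using hmem
    obtain ⟨s, hs⟩ := glueM M hf x (fun V W g hg k => hinj W (by rw [apm_rsm, hx, hx, rsm_rsm]))
    exact ⟨s, sec_extM N hf fun V g hg => by rw [← apm_rsm, hs g hg, hx]⟩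
  have : ∀ X : Cᵒᵖ, IsIso (((PresheafOfModules.toPresheaf _).map p.val).app X) := fun X =>
    (ConcreteCategory.isIso_iff_bijective _).2 ⟨hinj X.unop, hsurj X.unop⟩
  have : IsIso ((PresheafOfModules.toPresheaf _).map p.val) := NatIso.isIso_of_isIso_app _
  have : IsIso ((sheafToPresheaf _ _).map ((SheafOfModules.toSheaf (ModSite.ringSh O)).map p)) := this
  have := isIso_of_reflects_iso ((SheafOfModules.toSheaf (ModSite.ringSh O)).map p) (sheafToPresheaf _ _)
  exact isIso_of_reflects_iso p (SheafOfModules.toSheaf (ModSite.ringSh O))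

/-- Free modules on a generating family of objects separate morphisms. -/
theorem eq_of_eqOn {G : Set C}
    (hG : ∀ X : C, ∃ (ι : Type u) (Y : ι → C) (f : ∀ i, Y i ⟶ X), Sieve.ofArrows Y f ∈ J X ∧ ∀ i, Y i ∈ G)
    {M N : ModSite.Mod O} (p q : M ⟶ N) (h : ∀ X ∈ G, ∀ m, apm p.val X m = apm q.val X m) : p = q := by
  refine mod_hom_ext fun U m => ?_
  obtain ⟨ι, Y, f, hf, hY⟩ := hG U
  refine sec_extM N hf ?_
  rintro V g ⟨W, k, r, ⟨i⟩, rfl⟩
  rw [← rsm_rsm, ← rsm_rsm, ← apm_rsm p.val, ← apm_rsm q.val, h _ (hY i)]

/-- The free presheaf of modules on a representable presheaf of sets. -/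
noncomputable abbrev freeYon (O : Sheaf J CommRingCat.{u}) (U : C) : PM O :=
  (PresheafOfModules.free (O.obj ⋙ forget₂ CommRingCat.{u} RingCat.{u})).obj (yoneda.obj U)

/-- Morphisms out of the free presheaf on a representable are sections. -/
noncomputable def homEquivYon (U : C) (M : ModSite.Mod O) : ((aP O).obj (freeYon O U) ⟶ M) ≃ sc M.val U :=
  ((adjP O).homEquiv _ _).trans (((PresheafOfModules.freeAdjunction _).homEquiv _ _).trans yonedaEquiv)

lemma homEquivYon_comp (U : C) {M N : ModSite.Mod O} (f : (aP O).obj (freeYon O U) ⟶ M) (p : M ⟶ N) :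
    homEquivYon U N (f ≫ p) = apm p.val U (homEquivYon U M f) := by
  show yonedaEquiv ((PresheafOfModules.freeAdjunction _).homEquiv _ _ ((adjP O).homEquiv _ _ (f ≫ p))) = _
  rw [Adjunction.homEquiv_naturality_right, Adjunction.homEquiv_naturality_right, yonedaEquiv_comp]
  rfl

/-- The free module on an object is the sheafification of the free presheaf. -/
theorem nonempty_iso_freeYon (U : C) : Nonempty (ModSite.freeOn O U ≅ (aP O).obj (freeYon O U)) :=
  nonempty_iso_of_homEquiv (fun M : ModSite.Mod O => sc M.val U) (fun p => apm p.val U)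
    (homEquiv U) (homEquivYon U) (fun p f => homEquiv_comp U f p) (fun p f => homEquivYon_comp U f p)

/-- The free module on an object is flat. -/
theorem isFlat_freeOn (U : C) : ModSite.IsFlat (ModSite.freeOn O U) := by
  obtain ⟨e⟩ := nonempty_iso_freeYon (O := O) U
  have h : ModSite.IsFlat ((aP O).obj (freeYon O U)) := isFlat_aP_of_flatPre fun V => by
    change Module.Flat (rsec O V) ((V ⟶ U) →₀ rsec O V)
    infer_instance
  have := h.1
  have := h.2
  exact ⟨preservesFiniteLimits_of_natIso ((ModSite.tensorBi O).flip.mapIso e.symm),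
    preservesFiniteColimits_of_natIso ((ModSite.tensorBi O).flip.mapIso e.symm)⟩

/-- The generator. -/
noncomputable def gen {U V : C} (g : V ⟶ U) : sc (freeYon O U) V :=
  ModuleCat.freeMk (X := (yoneda.obj U).obj (op V)) g

lemma rsm_gen {U V W : C} (g : V ⟶ U) (h : W ⟶ V) : rsm (freeYon O U) h (gen g) = gen (h ≫ g) :=
  ModuleCat.freeDesc_apply _ g

variable (X : C) (M N : ModSite.Mod O)

/-- Restriction to the localised site of a morphism out of a tensor product with a free module. -/
noncomputable def toOver (φ : (freeYon O X ⊗ M.val : PM O) ⟶ N.val) :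
    (ModSite.restr O X).obj M ⟶ (ModSite.restr O X).obj N where
  val :=
    { app := fun V => ModuleCat.ofHom (X := sc ((ModSite.restr O X).obj M).val V.unop)
        (Y := sc ((ModSite.restr O X).obj N).val V.unop)
        { toFun := fun m => apm φ V.unop.left (tm (gen V.unop.hom) (m : sc M.val V.unop.left))
          map_add' := fun a b => by
            change apm φ _ (tm (gen V.unop.hom) (HAdd.hAdd (α := sc M.val V.unop.left) (β := sc M.val V.unop.left) a b)) = _
            rw [tm_add_right, map_add]
          map_smul' := fun r a => by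
            change apm φ _ (tm (gen V.unop.hom) (HSMul.hSMul (α := rsec O V.unop.left) (β := sc M.val V.unop.left) r a)) = _
            rw [tm_smul_right, map_smul]
            rfl }
      naturality := fun {V W} f => by
        ext m
        show apm φ W.unop.left (tm (gen W.unop.hom) (rsm M.val f.unop.left m)) =
          rsm N.val f.unop.left (apm φ V.unop.left (tm (gen V.unop.hom) (m : sc M.val V.unop.left)))
        rw [← apm_rsm, rsm_tm, rsm_gen, Over.w] }

variable {X M N}

/-- The components of a morphism of restrictions. -/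
noncomputable def comp' (ψ : (ModSite.restr O X).obj M ⟶ (ModSite.restr O X).obj N) {V : C} (g : V ⟶ X) :
    sc M.val V →ₗ[rsec O V] sc N.val V :=
  { toFun := fun m => (ψ.val.app (op (Over.mk g))).hom m
    map_add' := fun a b => map_add (ψ.val.app (op (Over.mk g))).hom a b
    map_smul' := fun r a => map_smul (ψ.val.app (op (Over.mk g))).hom r a }

lemma rsm_comp' (ψ : (ModSite.restr O X).obj M ⟶ (ModSite.restr O X).obj N) {V W : C} (g : V ⟶ X) (h : W ⟶ V)
    (m : sc M.val V) : rsm N.val h (comp' ψ g m) = comp' ψ (h ≫ g) (rsm M.val h m) :=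
  (PresheafOfModules.naturality_apply ψ.val (Over.homMk (U := Over.mk (h ≫ g)) (V := Over.mk g) h rfl).op m).symm

/-- The bilinear family of a morphism of restrictions. -/
noncomputable def bil (ψ : (ModSite.restr O X).obj M ⟶ (ModSite.restr O X).obj N) :
    Bil (freeYon O X) M.val N.val where
  fn V := Finsupp.linearCombination (rsec O V) (fun g : V ⟶ X => comp' ψ g)
  nat {U V} h a m := by
    change rsm N.val h (Finsupp.linearCombination (rsec O U) (fun g : U ⟶ X => comp' ψ g) a m) =
      Finsupp.linearCombination (rsec O V) (fun g : V ⟶ X => comp' ψ g) (rsm (freeYon O X) h a) (rsm M.val h m)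
    revert a
    intro a
    induction (a : (U ⟶ X) →₀ rsec O U) using Finsupp.induction_linear with
    | zero =>
      rw [map_zero, LinearMap.zero_apply, map_zero]
      exact ((congrArg (fun z => (Finsupp.linearCombination (rsec O V) (fun g : V ⟶ X => comp' ψ g)) z (rsm M.val h m))
        (map_zero (rsm (freeYon O X) h))).trans (by rw [map_zero, LinearMap.zero_apply])).symm
    | add p q hp hq =>
      rw [map_add, LinearMap.add_apply, map_add, hp, hq]
      exact ((congrArg (fun z => (Finsupp.linearCombination (rsec O V) (fun g : V ⟶ X => comp' ψ g)) z (rsm M.val h m))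
        (map_add (rsm (freeYon O X) h) p q)).trans (by rw [map_add, LinearMap.add_apply]; rfl)).symm
    | single g r =>
      have e : rsm (freeYon O X) h (Finsupp.single g r : (U ⟶ X) →₀ rsec O U) =
          (Finsupp.single (h ≫ g) (rsR h r) : (V ⟶ X) →₀ rsec O V) := by
        have h1 : (Finsupp.single g r : (U ⟶ X) →₀ rsec O U) = (r • gen g : sc (freeYon O X) U) := by
          exact (Finsupp.smul_single_one g r).symm
        rw [h1]
        exact (rsm_smul (freeYon O X) h r (gen g)).trans ((congrArg (rsR h r • ·) (rsm_gen g h)).trans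
          (Finsupp.smul_single_one (h ≫ g) (rsR h r)))
      rw [Finsupp.linearCombination_single]
      refine Eq.trans ?_ (congrArg (fun z => (Finsupp.linearCombination (rsec O V) (fun g : V ⟶ X => comp' ψ g)) z (rsm M.val h m)) e).symm
      rw [Finsupp.linearCombination_single, LinearMap.smul_apply, LinearMap.smul_apply, rsm_smul, rsm_comp']

lemma bil_gen (ψ : (ModSite.restr O X).obj M ⟶ (ModSite.restr O X).obj N) {V : C} (g : V ⟶ X) (m : sc M.val V) :
    (bil ψ).fn V (gen g) m = comp' ψ g m := by
  change Finsupp.linearCombination (rsec O V) (fun g : V ⟶ X => comp' ψ g) (Finsupp.single g 1) m = _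
  rw [Finsupp.linearCombination_single, one_smul]

variable (X M N)

/-- Morphisms out of a tensor product with a free presheaf are morphisms of restrictions. -/
noncomputable def overEquiv : ((freeYon O X ⊗ M.val : PM O) ⟶ N.val) ≃
    ((ModSite.restr O X).obj M ⟶ (ModSite.restr O X).obj N) where
  toFun := toOver X M N
  invFun ψ := (bil ψ).hom
  left_inv φ := tens_hom_ext fun V a m => by
    rw [Bil.hom_tm]
    change Finsupp.linearCombination (rsec O V) (fun g : V ⟶ X => comp' (toOver X M N φ) g)
      (a : (V ⟶ X) →₀ rsec O V) m = _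
    induction (a : (V ⟶ X) →₀ rsec O V) using Finsupp.induction_linear with
    | zero =>
      rw [map_zero, LinearMap.zero_apply]
      exact ((congrArg (apm φ V) (tm_zero_left m)).trans (map_zero _)).symm
    | add p q hp hq =>
      rw [map_add, LinearMap.add_apply, hp, hq]
      exact ((congrArg (apm φ V) (tm_add_left (M := freeYon O X) p q m)).trans (map_add _ _ _)).symm
    | single g r =>
      rw [Finsupp.linearCombination_single, LinearMap.smul_apply]
      have h1 : (Finsupp.single g r : (V ⟶ X) →₀ rsec O V) = (r • gen g : sc (freeYon O X) V) :=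
        (Finsupp.smul_single_one g r).symm
      rw [h1]
      exact ((congrArg (apm φ V) (tm_smul_left r (gen g) m)).trans (map_smul _ _ _)).symm
  right_inv ψ := by
    apply SheafOfModules.hom_ext
    refine PresheafOfModules.hom_ext fun V => ?_
    ext m
    exact (Bil.hom_tm (bil ψ) _ _).trans (bil_gen ψ V.unop.hom m)

variable {N}

lemma overEquiv_comp {N' : ModSite.Mod O} (p : N ⟶ N') (φ : (freeYon O X ⊗ M.val : PM O) ⟶ N.val) :
    overEquiv X M N' (φ ≫ p.val) = overEquiv X M N φ ≫ (ModSite.restr O X).map p := rfl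

variable (N)

/-- Morphisms out of a tensor product with a free module are morphisms of restrictions. -/
noncomputable def tensorHomEquiv (e : ModSite.freeOn O X ≅ (aP O).obj (freeYon O X)) :
    (((ModSite.tensorBi O).obj (ModSite.freeOn O X)).obj M ⟶ N) ≃
      ((ModSite.restr O X).obj M ⟶ (ModSite.restr O X).obj N) :=
  ((((ModSite.tensorBi O).mapIso e).app M ≪≫ (aPTensorFlipIso M).app (freeYon O X)).homCongr (Iso.refl N)).trans
    (((adjP O).homEquiv _ _).trans (overEquiv X M N))

variable {N}

lemma tensorHomEquiv_comp (e : ModSite.freeOn O X ≅ (aP O).obj (freeYon O X)) {N' : ModSite.Mod O} (p : N ⟶ N')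
    (f : ((ModSite.tensorBi O).obj (ModSite.freeOn O X)).obj M ⟶ N) :
    tensorHomEquiv X M N' e (f ≫ p) = tensorHomEquiv X M N e f ≫ (ModSite.restr O X).map p := by
  simp only [tensorHomEquiv, Equiv.trans_apply, Iso.homCongr_apply, Iso.refl_hom, Category.comp_id]
  rw [← Category.assoc]
  exact (congrArg (overEquiv X M N') ((adjP O).homEquiv_naturality_right _ p)).trans (overEquiv_comp X M p _)

/-- Tensoring with the free module on an object is extension by zero of the restriction. -/
theorem nonempty_tensor_iso_extZero :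
    Nonempty (((ModSite.tensorBi O).obj (ModSite.freeOn O X)).obj M ≅
      (ModSite.extZero O X).obj ((ModSite.restr O X).obj M)) := by
  obtain ⟨e⟩ := nonempty_iso_freeYon (O := O) X
  exact nonempty_iso_of_homEquiv (fun N : ModSite.Mod O => (ModSite.restr O X).obj M ⟶ (ModSite.restr O X).obj N)
    (fun p f => f ≫ (ModSite.restr O X).map p) (fun N => tensorHomEquiv X M N e)
    (fun N => (ModSite.extZeroAdj O X).homEquiv _ N)
    (fun p f => tensorHomEquiv_comp X M e p f) (fun p f => Adjunction.homEquiv_naturality_right _ _ _)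

/-- Sections of the internal hom. -/
theorem nonempty_sect_sheafHom [ModSite.HasSheafHom M] :
    Nonempty (ModSite.sect ((ModSite.sheafHom M).obj N) X ≃+
      ((ModSite.restr O X).obj M ⟶ (ModSite.restr O X).obj N)) := by
  obtain ⟨e⟩ := nonempty_iso_freeYon (O := O) X
  obtain ⟨i⟩ := nonempty_tensor_iso_extZero X M
  have := Groth.SitesTopoi.Balanced.additive_of_rightExact ((ModSite.tensorBi O).flip.obj M)
  let a : (ModSite.freeOn O X ⟶ (ModSite.sheafHom M).obj N) ≃+
      ModSite.sect ((ModSite.sheafHom M).obj N) X :=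
    { homEquiv X ((ModSite.sheafHom M).obj N) with
      map_add' := fun f g => by
        show (sectionsOverEquiv _ X) (SheafOfModules.unitHomEquiv _ ((ModSite.extZeroAdj O X).homEquiv _ _ (f + g))) = _
        have : (ModSite.extZero O X).Additive := Groth.SitesTopoi.Balanced.additive_of_rightExact _
        rw [show (ModSite.extZeroAdj O X).homEquiv _ _ (f + g) = (ModSite.extZeroAdj O X).homEquiv _ _ f +
          (ModSite.extZeroAdj O X).homEquiv _ _ g from map_add ((ModSite.extZeroAdj O X).homAddEquiv _ _) f g]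
        rfl }
  let b : (ModSite.freeOn O X ⟶ (ModSite.sheafHom M).obj N) ≃+
      (((ModSite.tensorBi O).obj (ModSite.freeOn O X)).obj M ⟶ N) :=
    ((ModSite.sheafHomAdj M).homAddEquiv (ModSite.freeOn O X) N).symm
  let c : (((ModSite.tensorBi O).obj (ModSite.freeOn O X)).obj M ⟶ N) ≃+
      ((ModSite.extZero O X).obj ((ModSite.restr O X).obj M) ⟶ N) :=
    AddEquiv.mk' (i.homCongr (Iso.refl N)) (fun f g => by simp [Preadditive.comp_add, Iso.homCongr])
  have : (ModSite.extZero O X).Additive := Groth.SitesTopoi.Balanced.additive_of_rightExact _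
  exact ⟨a.symm.trans (b.trans (c.trans ((ModSite.extZeroAdj O X).homAddEquiv _ N)))⟩

end Groth.Misc4.FreeOn
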