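import Groth.Agent.Misc7.SitePush.Modules
import Groth.Agent.SiteCohomology.AcyclicResolution
import Groth.Agent.SiteCohomology.HK
import Groth.Agent.Misc4.FreeOn
import Mathlib.CategoryTheory.Abelian.Injective.Resolution

/-! Ext groups out of free modules on a ringed site are cohomology groups. -/

universe u

open CategoryTheory CategoryTheory.Limits Opposite

set_option backward.defeqAttrib.useBackward true
set_option backward.isDefEq.respectTransparency false
set_option synthInstance.maxHeartbeats 400000
set_option maxHeartbeats 1000000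

namespace Groth.Misc4.ExtFree

open Groth.SiteCohomology Groth.Misc7.SitePush

variable {C : Type u} [SmallCategory C] {J : GrothendieckTopology C} {O : Sheaf J CommRingCat.{u}}

/-- Morphisms out of free modules are morphisms out of free abelian sheaves, naturally. -/
noncomputable def coyonedaIso (K : Sheaf J (Type u)) :
    preadditiveCoyoneda.obj (op ((freeModT (ModSite.ringSh O)).obj K)) ≅
      SheafOfModules.toSheaf (ModSite.ringSh O) ⋙ preadditiveCoyoneda.obj (op ((freeT J).obj K)) :=
  NatIso.ofComponents
    (fun M => (asIso (transferHom (freeModTAdj (ModSite.ringSh O)) (freeTAdj J)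
      (SheafOfModules.toSheaf (ModSite.ringSh O)) (Iso.refl _) M)).app (op K))
    (fun {M N} f => by
      ext φ
      exact (congrArg (transferUnit (freeModTAdj (ModSite.ringSh O)) (freeTAdj J)
        (SheafOfModules.toSheaf (ModSite.ringSh O)) (Iso.refl _) K ≫ ·)
          ((SheafOfModules.toSheaf (ModSite.ringSh O)).map_comp φ f)).trans (Category.assoc _ _ _).symm)

/-- Ext out of a free module is cohomology. -/
theorem nonempty_ext_equiv [HasExt.{u} (ModSite.Mod O)] (K : Sheaf J (Type u)) (F : ModSite.Mod O) (p : ℕ) :
    Nonempty (Abelian.Ext ((freeModT (ModSite.ringSh O)).obj K) F p ≃+ CohCx.HK K (ModSite.toAb F) p) := by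
  let I : InjectiveResolution F := injectiveResolution F
  let G := SheafOfModules.toSheaf.{u} (ModSite.ringSh O)
  let ι : F ⟶ I.cocomplex.X 0 := I.ι.f 0
  have h : AcyclicRes.IsResolution I.cocomplex.X (fun n => I.cocomplex.d n (n + 1)) ι :=
    { mono := inferInstanceAs (Mono (I.ι.f 0))
      zero₀ := I.ι_f_zero_comp_complex_d
      exact₀ := I.exact₀
      zero := fun n => I.cocomplex.d_comp_d _ _ _
      exact := fun n => I.exact_succ n }
  let Y := (G.mapHomologicalComplex (ComplexShape.up ℕ)).obj I.cocomplex
  have h' : AcyclicRes.IsResolution Y.X (fun n => Y.d n (n + 1)) (G.map ι) :=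
    { mono := by have := h.mono; exact G.map_mono ι
      zero₀ := by rw [← G.map_zero, ← h.zero₀, G.map_comp]; rfl
      exact₀ := h.exact₀.map G
      zero := fun n => Y.d_comp_d _ _ _
      exact := fun n => (h.exact n).map G }
  obtain ⟨e₁⟩ := AcyclicRes.nonempty_homology_equiv_ext ((freeModT (ModSite.ringSh O)).obj K) I.cocomplex ι h p
    fun n q _ => Abelian.Ext.subsingleton_of_injective _ _ q
  obtain ⟨e₂⟩ := AcyclicRes.nonempty_homology_equiv_ext ((freeT J).obj K) Y (G.map ι) h' p
    fun n q _ => isTotallyAcyclic_toSheaf (ModSite.ringSh O) (I.cocomplex.X n) K q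
  exact ⟨e₁.symm.trans ((((HomologicalComplex.homologyFunctor _ _ p).mapIso
    ((NatIso.mapHomologicalComplex (coyonedaIso K) (ComplexShape.up ℕ)).app I.cocomplex))
      ).addCommGroupIsoToAddEquiv.trans e₂)⟩

/-- The free module on an object is the free module on its associated sheaf of sets. -/
theorem nonempty_freeOn_iso (U : C) : Nonempty (ModSite.freeOn O U ≅
    (freeModT (ModSite.ringSh O)).obj ((presheafToSheaf J (Type u)).obj (yoneda.obj U))) := by
  obtain ⟨e⟩ := Groth.Misc4.FreeOn.nonempty_iso_freeYon (O := O) U
  have := isIso_freeModSh_map_of_W (ModSite.ringSh O) (toSheafify J (yoneda.obj U)) (J.W_toSheafify _)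
  exact ⟨e ≪≫ asIso ((freeModSh (ModSite.ringSh O)).map (toSheafify J (yoneda.obj U)))⟩

/-- Higher Ext groups out of the free module on an object vanish with the cohomology. -/
theorem subsingleton_ext_freeOn [HasExt.{u} (ModSite.Mod O)] (U : C) (F : ModSite.Mod O) (p : ℕ)
    [Subsingleton (ModSite.HU O F p U)] : Subsingleton (Abelian.Ext (ModSite.freeOn O U) F p) := by
  obtain ⟨i⟩ := nonempty_freeOn_iso (O := O) U
  obtain ⟨e⟩ := nonempty_ext_equiv (O := O) ((presheafToSheaf J (Type u)).obj (yoneda.obj U)) F p
  exact ((extIsoLeft i F p).symm.trans (e.trans (HKYonedaEquiv J U (ModSite.toAb F) p))).subsingleton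

end Groth.Misc4.ExtFree
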