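import Groth.Agent.DAlg.RFTriangle
import Groth.Agent.DerivedAdj.Devissage
import Mathlib.Algebra.Homology.Embedding.ExtendHomology
import Mathlib.CategoryTheory.Abelian.Injective.Extend
import Mathlib.Algebra.Homology.Factorizations.CM5a
import Mathlib.CategoryTheory.Abelian.RightDerived

/-!
Total right derived functors on bounded below objects: left exactness and dévissage along the
ordinary right derived functors.
-/

universe w₁ w₂ v u₁ u₂

set_option backward.defeqAttrib.useBackward true
set_option backward.isDefEq.respectTransparency false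
set_option linter.unusedSectionVars false
set_option linter.unusedVariables false
set_option linter.style.haveILetI false

open CategoryTheory CategoryTheory.Limits CategoryTheory.Pretriangulated DerivedCategory
open HomologicalComplex (extend)

namespace Groth.Misc4.RFBounded

variable {A : Type u₁} [Category.{v} A] [Abelian A] [IsGrothendieckAbelian.{v} A]
  {B : Type u₂} [Category.{v} B] [Abelian B] (G : A ⥤ B) [G.Additive]
  [HasDerivedCategory.{w₁} A] [HasDerivedCategory.{w₂} B]

local notation "up" => ComplexShape.up ℤ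

variable (RF : DerivedCategory A ⥤ DerivedCategory B)
  (β : G.mapHomotopyCategory (ComplexShape.up ℤ) ⋙ DerivedCategory.Qh ⟶ DerivedCategory.Qh ⋙ RF)
  [RF.IsRightDerivedFunctor β (HomotopyCategory.quasiIso A up)]

include β in
/-- K-injective complexes compute the derived functor. -/
lemma nonempty_iso_of_model (J : CochainComplex A ℤ) [J.IsKInjective] {X : DerivedCategory A}
    (e : DerivedCategory.Q.obj J ≅ X) :
    Nonempty (RF.obj X ≅ DerivedCategory.Q.obj ((G.mapHomologicalComplex up).obj J)) := by
  haveI := Groth.DAlg.RFTriangle.isIso_β G RF β J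
  exact ⟨RF.mapIso (e.symm ≪≫ ((DerivedCategory.quotientCompQhIso A).app J).symm) ≪≫
    (asIso (β.app ((HomotopyCategory.quotient A up).obj J))).symm ≪≫
    (DerivedCategory.quotientCompQhIso B).app ((G.mapHomologicalComplex up).obj J)⟩

include β in
/-- The derived functor is left t-exact. -/
theorem isGE_obj (X : DerivedCategory A) (n : ℤ) [X.IsGE n] : (RF.obj X).IsGE n := by
  obtain ⟨L, _, ⟨e⟩⟩ := DerivedCategory.exists_iso_Q_obj_of_isGE X n
  obtain ⟨J, i, hi, hinj, hJ⟩ := CochainComplex.Plus.modelCategoryQuillen.exists_quasiIso_injective L n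
  have := hinj
  have : J.IsKInjective := CochainComplex.isKInjective_of_injective J n
  obtain ⟨f⟩ := nonempty_iso_of_model G RF β J ((asIso (DerivedCategory.Q.map i)).symm ≪≫ e.symm)
  have : CochainComplex.IsStrictlyGE ((G.mapHomologicalComplex up).obj J) n := by
    rw [CochainComplex.isStrictlyGE_iff]
    exact fun k hk => G.map_isZero (J.isZero_of_isStrictlyGE n k hk)
  have : (DerivedCategory.Q.obj ((G.mapHomologicalComplex up).obj J)).IsGE n := inferInstance
  exact TStructure.t.isGE_of_iso f.symm n

/-- Images of extended complexes, termwise. -/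
noncomputable def mapExtendXIso (K : CochainComplex A ℕ) : ∀ o : Option ℕ,
    G.obj (HomologicalComplex.extend.X K o) ≅ HomologicalComplex.extend.X ((G.mapHomologicalComplex (ComplexShape.up ℕ)).obj K) o
  | some _ => Iso.refl _
  | none => (G.map_isZero (HomologicalComplex.extend.isZero_X K rfl)).iso (HomologicalComplex.extend.isZero_X _ rfl)

lemma mapExtendXIso_d (K : CochainComplex A ℕ) : ∀ o o' : Option ℕ,
    (mapExtendXIso G K o).hom ≫ HomologicalComplex.extend.d ((G.mapHomologicalComplex (ComplexShape.up ℕ)).obj K) o o' =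
      G.map (HomologicalComplex.extend.d K o o') ≫ (mapExtendXIso G K o').hom
  | none, _ => (G.map_isZero (HomologicalComplex.extend.isZero_X K rfl)).eq_of_src _ _
  | some _, none => (HomologicalComplex.extend.isZero_X _ rfl).eq_of_tgt _ _
  | some _, some _ => by simp [mapExtendXIso, HomologicalComplex.extend.d]

/-- Extension commutes with additive functors. -/
noncomputable def mapExtendIso (K : CochainComplex A ℕ) :
    (G.mapHomologicalComplex up).obj (K.extend ComplexShape.embeddingUpNat) ≅
      ((G.mapHomologicalComplex (ComplexShape.up ℕ)).obj K).extend ComplexShape.embeddingUpNat :=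
  HomologicalComplex.Hom.isoOfComponents (fun i => mapExtendXIso G K _)
    fun i j _ => mapExtendXIso_d G K _ _

variable [HasInjectiveResolutions A]

include β in
/-- Cohomology of the derived functor on an object in one degree. -/
theorem nonempty_homology_single (F : A) (n i : ℤ) (k : ℕ) (hk : n + k = i) :
    Nonempty ((homologyFunctor B i).obj (RF.obj ((singleFunctor A n).obj F)) ≅ (G.rightDerived k).obj F) := by
  let I := injectiveResolution F
  let J : CochainComplex A ℤ := I.cochainComplex⟦-n⟧
  have : J.IsStrictlyGE n := I.cochainComplex.isStrictlyGE_shift 0 (-n) n (by lia)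
  have : ∀ k, Injective (J.X k) := fun k => inferInstanceAs (Injective (I.cochainComplex.X (k + -n)))
  have : J.IsKInjective := CochainComplex.isKInjective_of_injective J n
  let e : DerivedCategory.Q.obj J ≅ (singleFunctor A n).obj F :=
    ((DerivedCategory.Q (C := A)).commShiftIso (-n)).app _ ≪≫
      (shiftFunctor (DerivedCategory A) (-n)).mapIso (asIso (DerivedCategory.Q.map I.ι')).symm ≪≫
      ((singleFunctors A).shiftIso (-n) n 0 (by lia)).app F
  obtain ⟨f⟩ := nonempty_iso_of_model G RF β J e
  let GI := (G.mapHomologicalComplex (ComplexShape.up ℕ)).obj I.cocomplex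
  exact ⟨(homologyFunctor B i).mapIso f ≪≫ (homologyFunctorFactors B i).app _ ≪≫
    (HomologicalComplex.homologyFunctor B up i).mapIso
      (((G.mapHomologicalComplex up).commShiftIso (-n)).app I.cochainComplex ≪≫
        (shiftFunctor (CochainComplex B ℤ) (-n)).mapIso (mapExtendIso G I.cocomplex)) ≪≫
    ((HomologicalComplex.homologyFunctor B up 0).shiftIso (-n) i (k : ℤ) (by lia)).app _ ≪≫
    GI.extendHomologyIso ComplexShape.embeddingUpNat (j := k) (by simp) ≪≫
    (I.isoRightDerivedObj G k).symm⟩

variable (P : ObjectProperty A) [WSerre.IsWeakSerre P] (Q : ObjectProperty B) [WSerre.IsWeakSerre Q]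
  (h3 : ∀ F : A, P F → ∀ k : ℕ, Q ((G.rightDerived k).obj F))

include β h3 in
lemma cohIn_single (F : A) (hF : P F) (n : ℤ) : WSerre.cohIn Q (RF.obj ((singleFunctor A n).obj F)) := by
  intro i
  have := isGE_obj G RF β ((singleFunctor A n).obj F) n
  by_cases hi : i < n
  · exact Q.prop_of_isZero (isZero_of_isGE _ n i hi)
  · obtain ⟨e⟩ := nonempty_homology_single G RF β F n i (i - n).toNat (by lia)
    exact Q.prop_of_iso e.symm (h3 F hF _)

include β h3 in
/-- Bounded below objects with cohomology in `P` go to objects with cohomology in `Q`. -/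
theorem cohIn_obj (X : DerivedCategory A) (n₀ : ℤ) [X.IsGE n₀] (hX : WSerre.cohIn P X) :
    WSerre.cohIn Q (RF.obj X) := by
  have hzero : ∀ Z : DerivedCategory A, IsZero Z → ∀ q, IsZero ((homologyFunctor B q).obj (RF.obj Z)) := by
    intro Z hZ q
    have : Z.IsGE (q + 1) := TStructure.t.isGE_of_isZero hZ _
    have := isGE_obj G RF β Z (q + 1)
    exact isZero_of_isGE _ (q + 1) q (by lia)
  intro i
  let Y := ((TStructure.t : Triangulated.TStructure (DerivedCategory A)).truncLE (i + 1)).obj X
  have hY : WSerre.cohIn Q (RF.obj Y) := by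
    have : Y.IsGE n₀ := Groth.DerivedAdj.isGE_truncLE X (i + 1) n₀
    have hle : Y.IsLE (i + 1) := inferInstanceAs (TStructure.t.IsLE Y (i + 1))
    refine Groth.DerivedAdj.devissage P (fun Z => WSerre.cohIn Q (RF.obj Z))
      (fun e hZ => Groth.DerivedAdj.cohIn_of_iso Q (RF.mapIso e) hZ)
      (fun Z hZ q => Q.prop_of_isZero (hzero Z hZ q)) (fun T hT h₁ h₃ => ?_)
      (fun M hM n => cohIn_single G RF β P Q h3 M hM n) Y n₀ (i + 1)
      (Groth.DerivedAdj.prop_homology_truncLE P X (i + 1) hX) (fun M hM => P.prop_of_isZero hM)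
    obtain ⟨δ, hδ⟩ := Groth.DAlg.RFTriangle.exists_distinguished G RF β T hT
    exact Groth.DerivedAdj.cohIn_obj₂ Q _ hδ h₁ h₃
  let T := ((TStructure.t : Triangulated.TStructure (DerivedCategory A)).triangleLEGT (i + 1)).obj X
  have hT : T ∈ distTriang (DerivedCategory A) := TStructure.t.triangleLEGT_distinguished _ X
  obtain ⟨δ, hδ⟩ := Groth.DAlg.RFTriangle.exists_distinguished G RF β T hT
  have : T.obj₃.IsGE (i + 1 + 1) :=
    inferInstanceAs (TStructure.t.IsGE ((TStructure.t.truncGT (i + 1)).obj X) (i + 1 + 1))
  have : (RF.obj T.obj₃).IsGE (i + 1 + 1) := isGE_obj G RF β T.obj₃ (i + 1 + 1)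
  have : Mono ((homologyFunctor B i).map (RF.map T.mor₁)) :=
    (HomologySequence.mono_homologyMap_mor₁_iff _ hδ (i - 1) i (by lia)).2
      ((isZero_of_isGE (RF.obj T.obj₃) (i + 1 + 1) (i - 1) (by lia)).eq_of_src _ _)
  have : Epi ((homologyFunctor B i).map (RF.map T.mor₁)) :=
    (HomologySequence.epi_homologyMap_mor₁_iff _ hδ i).2
      ((isZero_of_isGE (RF.obj T.obj₃) (i + 1 + 1) i (by lia)).eq_of_tgt _ _)
  have := isIso_of_mono_of_epi ((homologyFunctor B i).map (RF.map T.mor₁))
  exact Q.prop_of_iso (asIso ((homologyFunctor B i).map (RF.map T.mor₁))) (hY i)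

end Groth.Misc4.RFBounded
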