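import Groth.Agent.Misc4.RlimSite
import Groth.Prelude.Def_CohCx

/-! Objects of the derived category of a ringed site as derived limits of their truncations. -/

universe w w' v u

open CategoryTheory CategoryTheory.Limits Opposite Pretriangulated DerivedCategory

set_option backward.defeqAttrib.useBackward true
set_option backward.isDefEq.respectTransparency false
set_option linter.unusedSectionVars false
set_option synthInstance.maxHeartbeats 400000
set_option maxHeartbeats 1000000

namespace Groth.Misc4.RlimTrunc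

open Groth.Misc4.DerivedLift (S0)

section general

variable {A : Type (u + 1)} [Category.{u} A] [Abelian A] [HasDerivedCategory.{w} A]
variable (E : DerivedCategory A)

lemma toTrunc_comp (n : ℕ) :
    CohCx.toTruncTower E (n + 1) ≫ CohCx.truncTowerMap E n = CohCx.toTruncTower E n :=
  TStructure.t.π_natTransTruncGEOfLE_app _ _ _ E

lemma isIso_homology_toTrunc (n : ℕ) (q : ℤ) (hq : -(n : ℤ) ≤ q) :
    IsIso ((homologyFunctor A q).map (CohCx.toTruncTower E n)) := by
  let T := (TStructure.t.triangleLTGE (-(n : ℤ))).obj E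
  have hT : T ∈ distTriang _ := TStructure.t.triangleLTGE_distinguished _ E
  have : T.obj₁.IsLE (-(n : ℤ) - 1) :=
    inferInstanceAs (TStructure.t.IsLE ((TStructure.t.triangleLTGE (-(n : ℤ))).obj E).obj₁ _)
  have : Epi ((homologyFunctor A q).map T.mor₂) :=
    (HomologySequence.epi_homologyMap_mor₂_iff T hT q (q + 1) rfl).2
      ((T.obj₁.isZero_of_isLE (-(n : ℤ) - 1) (q + 1) (by lia)).eq_of_tgt _ _)
  have : Mono ((homologyFunctor A q).map T.mor₂) :=
    (HomologySequence.mono_homologyMap_mor₂_iff T hT q).2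
      ((T.obj₁.isZero_of_isLE (-(n : ℤ) - 1) q (by lia)).eq_of_src _ _)
  have h : IsIso ((homologyFunctor A q).map T.mor₂) := isIso_of_mono_of_epi _
  exact h

lemma isIso_homology_map (n : ℕ) (q : ℤ) (hq : -(n : ℤ) ≤ q) :
    IsIso ((homologyFunctor A q).map (CohCx.truncTowerMap E n)) := by
  have := isIso_homology_toTrunc E n q hq
  have := isIso_homology_toTrunc E (n + 1) q (by push_cast; lia)
  have e : (homologyFunctor A q).map (CohCx.truncTowerMap E n) =
      inv ((homologyFunctor A q).map (CohCx.toTruncTower E (n + 1))) ≫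
        (homologyFunctor A q).map (CohCx.toTruncTower E n) := by
    rw [IsIso.eq_inv_comp, ← Functor.map_comp, toTrunc_comp]
  rw [e]
  infer_instance

/-- The cone of a map of the truncation tower has a single cohomology object. -/
theorem cone_spec (n : ℕ) {Z : DerivedCategory A} {g : CohCx.truncTower E n ⟶ Z}
    {δ' : Z ⟶ (CohCx.truncTower E (n + 1))⟦(1 : ℤ)⟧}
    (hT : Triangle.mk (CohCx.truncTowerMap E n) g δ' ∈ distTriang _) :
    (∀ q : ℤ, q ≠ -(n : ℤ) - 2 → IsZero ((homologyFunctor A q).obj Z)) ∧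
      Nonempty ((homologyFunctor A (-(n : ℤ) - 2)).obj Z ≅ (homologyFunctor A (-(n : ℤ) - 1)).obj E) := by
  let T := Triangle.mk (CohCx.truncTowerMap E n) g δ'
  have hX : (CohCx.truncTower E (n + 1)).IsGE (-((n + 1 : ℕ) : ℤ)) :=
    inferInstanceAs (TStructure.t.IsGE _ _)
  have hY : (CohCx.truncTower E n).IsGE (-(n : ℤ)) := inferInstanceAs (TStructure.t.IsGE _ _)
  have hzero : ∀ q : ℤ, q ≠ -(n : ℤ) - 2 → IsZero ((homologyFunctor A q).obj Z) := by
    intro q hq
    by_cases h1 : -(n : ℤ) ≤ q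
    · have : IsIso ((homologyFunctor A q).map T.mor₁) := isIso_homology_map E n q h1
      have : IsIso ((homologyFunctor A (q + 1)).map T.mor₁) := isIso_homology_map E n (q + 1) (by lia)
      exact RlimVanish.isZero_cone (T := T) hT q
    · refine (HomologySequence.exact₃ T hT q (q + 1) rfl).isZero_of_both_zeros
        (((CohCx.truncTower E n).isZero_of_isGE (-(n : ℤ)) q (by lia)).eq_of_src _ _) ?_
      by_cases h2 : q = -(n : ℤ) - 1
      · have : IsIso ((homologyFunctor A (q + 1)).map T.mor₁) := isIso_homology_map E n (q + 1) (by lia)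
        exact (HomologySequence.mono_homologyMap_mor₁_iff T hT q (q + 1) rfl).1 inferInstance
      · exact ((CohCx.truncTower E (n + 1)).isZero_of_isGE (-((n + 1 : ℕ) : ℤ)) (q + 1)
          (by push_cast; lia)).eq_of_tgt _ _
  obtain ⟨ez⟩ : Nonempty ((homologyFunctor A (-(n : ℤ) - 2)).obj Z ≅
      (homologyFunctor A (-(n : ℤ) - 1)).obj E) := by
    let δZ := HomologySequence.δ T (-(n : ℤ) - 2) (-(n : ℤ) - 1) (by lia)
    have : Mono δZ := (HomologySequence.exact₃ T hT (-(n : ℤ) - 2) (-(n : ℤ) - 1) (by lia)).mono_g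
      (((CohCx.truncTower E n).isZero_of_isGE (-(n : ℤ)) _ (by lia)).eq_of_src _ _)
    have : Epi δZ := (HomologySequence.exact₁ T hT (-(n : ℤ) - 2) (-(n : ℤ) - 1) (by lia)).epi_f
      (((CohCx.truncTower E n).isZero_of_isGE (-(n : ℤ)) _ (by lia)).eq_of_tgt _ _)
    have : IsIso δZ := isIso_of_mono_of_epi _
    have : IsIso ((homologyFunctor A (-(n : ℤ) - 1)).map (CohCx.toTruncTower E (n + 1))) :=
      isIso_homology_toTrunc E (n + 1) _ (by push_cast; lia)
    exact ⟨asIso δZ ≪≫ (asIso ((homologyFunctor A (-(n : ℤ) - 1)).map (CohCx.toTruncTower E (n + 1)))).symm⟩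
  exact ⟨hzero, ⟨ez⟩⟩

variable [HasExt.{w'} A]

/-- The maps of the truncation tower are bijective on morphisms out of an object when two Ext groups vanish. -/
theorem bijective_map (M : A) (n : ℕ) (m : ℤ)
    (h : ∀ k : ℕ, (k : ℤ) = m + n + 1 ∨ (k : ℤ) = m + n + 2 →
      Subsingleton (Abelian.Ext M ((homologyFunctor A (-(n : ℤ) - 1)).obj E) k)) :
    Function.Bijective fun f : S0.obj M ⟶ (CohCx.truncTower E (n + 1))⟦m⟧ =>
      f ≫ (CohCx.truncTowerMap E n)⟦m⟧' := by
  obtain ⟨Z, g, δ', hT⟩ := distinguished_cocone_triangle (CohCx.truncTowerMap E n)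
  let T := Triangle.mk (CohCx.truncTowerMap E n) g δ'
  obtain ⟨hzero, ⟨ez⟩⟩ := cone_spec E n hT
  have hZ : Z.IsGE (-(n : ℤ) - 2) := (isGE_iff Z _).2 fun i hi => hzero i (by lia)
  have kill : ∀ (W : DerivedCategory A) (s : ℤ) (_ : W.IsGE (-(n : ℤ) - 2 - s))
      (e : ∀ q, (homologyFunctor A q).obj W ≅ (homologyFunctor A (s + q)).obj Z)
      (_ : s = m ∨ s = m - 1) (f : S0.obj M ⟶ W), f = 0 := by
    intro W s hW e hs f
    refine RlimVanish.eq_zero_of_ext (a := -(n : ℤ) - 2 - s) hW (fun q k hk => ?_) f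
    by_cases hq : s + q = -(n : ℤ) - 2
    · have : Subsingleton (((Abelian.extFunctor k).obj (op M)).obj
          ((homologyFunctor A (-(n : ℤ) - 1)).obj E)) := h k (by lia)
      exact (((Abelian.extFunctor k).obj (op M)).mapIso
        (e q ≪≫ eqToIso (by rw [hq]) ≪≫ ez)).addCommGroupIsoToAddEquiv.subsingleton
    · have h0 := ((hzero _ hq).of_iso (e q)).eq_of_src (𝟙 _) 0
      exact ⟨fun e e' => by
        rw [← Abelian.Ext.comp_mk₀_id e, ← Abelian.Ext.comp_mk₀_id e', h0, Abelian.Ext.mk₀_zero,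
          Abelian.Ext.comp_zero, Abelian.Ext.comp_zero]⟩
  refine RlimVanish.bijective_comp_of_cone (T := T) hT m
    (fun f => kill (Z⟦m⟧) m (TStructure.t.isGE_shift Z (-(n : ℤ) - 2) m _ (by lia))
      (fun q => RlimVanish.hShift Z m q _ rfl) (.inl rfl) f)
    (fun f => kill ((Z⟦(-1 : ℤ)⟧)⟦m⟧) (m - 1) ?_
      (fun q => RlimVanish.hShift _ m q (m + q) rfl ≪≫
        RlimVanish.hShift Z (-1) (m + q) _ (by lia)) (.inr rfl) f)
  have := TStructure.t.isGE_shift Z (-(n : ℤ) - 2) (-1) (-(n : ℤ) - 1) (by lia)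
  exact TStructure.t.isGE_shift _ (-(n : ℤ) - 1) m _ (by lia)

end general

variable {C : Type u} [SmallCategory C] {J : GrothendieckTopology C} {O : Sheaf J CommRingCat.{u}}
  [HasDerivedCategory.{w} (ModSite.Mod O)]

open Groth.Misc4 in
/-- An object is the derived limit of its truncations when local cohomology of its cohomology sheaves vanishes
far out. -/
theorem isRlimVia_truncTower (E : DerivedCategory (ModSite.Mod O)) [HasProduct (CohCx.truncTower E)]
    (B : Set C)
    (hB : ∀ U : C, ∃ (ι : Type u) (Y : ι → C) (f : ∀ i, Y i ⟶ U), Sieve.ofArrows Y f ∈ J U ∧ ∀ i, Y i ∈ B)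
    (h : ∀ V ∈ B, ∀ j : ℤ, ∃ N : ℕ, ∀ T ∈ J V, ∃ (ι : Type u) (Y : ι → C) (f : ∀ i, Y i ⟶ V),
      (∀ i, T.arrows (f i)) ∧ Sieve.ofArrows Y f ∈ J V ∧ ∀ (i : ι) (n k : ℕ), N ≤ n →
        j + n ≤ k → (k : ℤ) ≤ j + n + 2 → Subsingleton
          (ModSite.HU O ((DerivedCategory.homologyFunctor (ModSite.Mod O) (-(n : ℤ) - 1)).obj E) k (Y i))) :
    CohCx.IsRlimVia (CohCx.truncTower E) (CohCx.truncTowerMap E) E (CohCx.toTruncTower E) := by
  have : HasExt.{u} (ModSite.Mod O) := hasExt_of_enoughInjectives _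
  let K := CohCx.truncTower E
  let d : (∏ᶜ K) ⟶ ∏ᶜ K := Pi.lift fun n => Pi.π K n - Pi.π K (n + 1) ≫ CohCx.truncTowerMap E n
  obtain ⟨L, i, δ', hT⟩ := distinguished_cocone_triangle₁ d
  have hi : Pi.lift (fun n => i ≫ Pi.π K n) = i := Limits.Pi.hom_ext _ _ fun n => Pi.lift_π _ _
  have hL : CohCx.IsRlimVia K (CohCx.truncTowerMap E) L (fun n => i ≫ Pi.π K n) := ⟨δ', by rw [hi]; exact hT⟩
  have hE : Pi.lift (CohCx.toTruncTower E) ≫ d = 0 := Limits.Pi.hom_ext _ _ fun n => by
    rw [Category.assoc, Pi.lift_π, Preadditive.comp_sub, Pi.lift_π, ← Category.assoc, Pi.lift_π,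
      toTrunc_comp, sub_self, zero_comp]
  obtain ⟨e, he⟩ := Triangle.coyoneda_exact₂ _ hT (Pi.lift (CohCx.toTruncTower E)) hE
  replace he : Pi.lift (CohCx.toTruncTower E) = e ≫ i := he
  have hj : ∀ j : ℤ, IsIso ((homologyFunctor (ModSite.Mod O) j).map e) := by
    intro j
    let n := (-j).toNat
    have hn := isIso_homology_toTrunc E n j (by lia)
    have hLn : IsIso ((homologyFunctor (ModSite.Mod O) j).map (i ≫ Pi.π K n)) := by
      refine RlimSite.isIso_homology_of_bijective B hB K (CohCx.truncTowerMap E) L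
        (fun n => i ≫ Pi.π K n) (RlimEventual.compat hL) j (fun V hV => ?_) n
        (fun m hm => isIso_homology_map E m j (by lia)) n le_rfl
      obtain ⟨N, hN⟩ := h V hV j
      refine ⟨N, fun T hT => ?_⟩
      obtain ⟨ι, Y, f, hfT, hf, hv⟩ := hN T hT
      refine ⟨ι, Y, f, hfT, hf, fun a => ?_⟩
      have hx : ∀ (m k : ℕ), N ≤ m → j + m ≤ k → (k : ℤ) ≤ j + m + 2 → Subsingleton (Abelian.Ext
          (ModSite.freeOn O (Y a)) ((homologyFunctor (ModSite.Mod O) (-(m : ℤ) - 1)).obj E) k) :=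
        fun m k h0 h1 h2 => have := hv a m k h0 h1 h2; ExtFree.subsingleton_ext_freeOn _ _ k
      exact RlimEventual.bijective_of_eventually hL _ j N
        (fun m hm => bijective_map E _ m j fun k hk => hx m k hm (by lia) (by lia))
        (fun m hm => (bijective_map E _ m (j - 1) fun k hk => hx m k hm (by lia) (by lia)).2)
    have hen : (homologyFunctor (ModSite.Mod O) j).map e ≫
        (homologyFunctor (ModSite.Mod O) j).map (i ≫ Pi.π K n) =
        (homologyFunctor (ModSite.Mod O) j).map (CohCx.toTruncTower E n) := by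
      rw [← Functor.map_comp, ← Category.assoc, ← he, Pi.lift_π]
    exact IsIso.of_isIso_fac_right hen
  have : IsIso e := (DerivedCategory.isIso_iff (f := e)).2 hj
  refine ⟨δ' ≫ (inv e)⟦1⟧', isomorphic_distinguished _ hT _
    (Triangle.isoMk _ _ (asIso e) (Iso.refl _) (Iso.refl _) ?_ ?_ ?_)⟩
  · simp [he]
  · simp [d]; rfl
  · simp

end Groth.Misc4.RlimTrunc
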