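import Mathlib.Algebra.Homology.DerivedCategory.DerivabilityStructureInjectives
import Mathlib.Algebra.Homology.DerivedCategory.ExactFunctor
import Mathlib.CategoryTheory.Preadditive.Injective.Basic

/-! When a derived exact left adjoint is fully faithful on bounded below objects. -/

open CategoryTheory CategoryTheory.Category CategoryTheory.Limits

namespace Groth.Misc4.DerivedAdj

universe w₁ w₂ v₁ v₂ u₁ u₂

variable {A : Type u₁} [Category.{v₁} A] [Abelian A]
  {B : Type u₂} [Category.{v₂} B] [Abelian B]

local notation "Q" => DerivedCategory.Q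

section

variable [HasDerivedCategory.{w₁} A]

lemma exists_lift {K L : CochainComplex A ℤ} [L.IsKInjective]
    (g : (Q).obj K ⟶ (Q).obj L) : ∃ γ : K ⟶ L, (Q).map γ = g := by
  obtain ⟨x, hx⟩ := (CochainComplex.IsKInjective.Qh_map_bijective
    ((HomotopyCategory.quotient _ _).obj K) L).surjective
    ((DerivedCategory.quotientCompQhIso A).hom.app K ≫ g ≫ (DerivedCategory.quotientCompQhIso A).inv.app L)
  obtain ⟨γ, rfl⟩ := (HomotopyCategory.quotient _ _).map_surjective x
  refine ⟨γ, ?_⟩
  have h : DerivedCategory.Qh.map ((HomotopyCategory.quotient A _).map γ) ≫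
      (DerivedCategory.quotientCompQhIso A).hom.app L =
      (DerivedCategory.quotientCompQhIso A).hom.app K ≫ (Q).map γ :=
    (DerivedCategory.quotientCompQhIso A).hom.naturality γ
  rw [hx] at h
  simpa [cancel_epi] using h.symm

lemma exists_homotopy {K L : CochainComplex A ℤ} [L.IsKInjective] {f g : K ⟶ L}
    (h : (Q).map f = (Q).map g) : Nonempty (Homotopy f g) := by
  refine ⟨HomotopyCategory.homotopyOfEq _ _ ((CochainComplex.IsKInjective.Qh_map_bijective _ L).injective ?_)⟩
  rw [← cancel_mono ((DerivedCategory.quotientCompQhIso A).hom.app L)]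
  exact ((DerivedCategory.quotientCompQhIso A).hom.naturality f).trans
    ((congrArg (_ ≫ ·) h).trans ((DerivedCategory.quotientCompQhIso A).hom.naturality g).symm)

end

variable (L : A ⥤ B) [L.Additive] (R : B ⥤ A) [R.Additive] (adj : L ⊣ R)

local notation "L'" => Functor.mapHomologicalComplex L (ComplexShape.up ℤ)
local notation "R'" => Functor.mapHomologicalComplex R (ComplexShape.up ℤ)

variable {L R}

/-- The unit on complexes. -/
noncomputable def unit' (K : CochainComplex A ℤ) : K ⟶ (R').obj ((L').obj K) where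
  f i := adj.unit.app (K.X i)
  comm' i j _ := (adj.unit.naturality (K.d i j)).symm

/-- The counit on complexes. -/
noncomputable def counit' (M : CochainComplex B ℤ) : (L').obj ((R').obj M) ⟶ M where
  f i := adj.counit.app (M.X i)
  comm' i j _ := (adj.counit.naturality (M.d i j)).symm

/-- The adjunct of a morphism of complexes. -/
noncomputable def adjunct {K : CochainComplex A ℤ} {M : CochainComplex B ℤ} (φ : (L').obj K ⟶ M) :
    K ⟶ (R').obj M :=
  unit' adj K ≫ (R').map φ

lemma map_adjunct_counit {K : CochainComplex A ℤ} {M : CochainComplex B ℤ} (φ : (L').obj K ⟶ M) :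
    (L').map (adjunct adj φ) ≫ counit' adj M = φ := by
  ext i
  show L.map (adj.unit.app _ ≫ R.map (φ.f i)) ≫ adj.counit.app _ = φ.f i
  rw [L.map_comp, assoc]
  erw [adj.counit_naturality, adj.left_triangle_components_assoc]

lemma adjunct_map {J K : CochainComplex A ℤ} {M : CochainComplex B ℤ} (γ : J ⟶ K)
    (φ : (L').obj K ⟶ M) : adjunct adj ((L').map γ ≫ φ) = γ ≫ adjunct adj φ := by
  ext i
  have h : ∀ {X Y : A} {Z : B} (g : X ⟶ Y) (p : L.obj Y ⟶ Z),
      adj.unit.app X ≫ R.map (L.map g ≫ p) = g ≫ adj.unit.app Y ≫ R.map p := fun g p => by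
    simp [adj.unit_naturality_assoc]
  exact h (γ.f i) (φ.f i)

lemma adjunct_map_comp_counit {K : CochainComplex A ℤ} {M : CochainComplex B ℤ} (x : K ⟶ (R').obj M) :
    adjunct adj ((L').map x ≫ counit' adj M) = x := by
  ext i
  have h : ∀ {X : A} {Z : B} (g : X ⟶ R.obj Z),
      adj.unit.app X ≫ R.map (L.map g ≫ adj.counit.app Z) = g := fun g => by
    simp [adj.unit_naturality_assoc]
  exact h (x.f i)

variable [HasDerivedCategory.{w₁} A] [HasDerivedCategory.{w₂} B]

lemma Q_adjunct_eq {K : CochainComplex A ℤ} {M : CochainComplex B ℤ} {φ φ' : (L').obj K ⟶ M}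
    [M.IsKInjective] (h : (Q).map φ = (Q).map φ') :
    (Q).map (adjunct adj φ) = (Q).map (adjunct adj φ') := by
  obtain ⟨H⟩ := exists_homotopy h
  exact DerivedCategory.Q_map_eq_of_homotopy (C := A) ((R.mapHomotopy H).compLeft _)

variable [PreservesFiniteLimits L] [PreservesFiniteColimits L]

variable (L) in
/-- The derived functor on morphisms between complexes. -/
noncomputable def Φ {K J : CochainComplex A ℤ} (g : (Q).obj K ⟶ (Q).obj J) :
    (Q).obj ((L').obj K) ⟶ (Q).obj ((L').obj J) :=
  L.mapDerivedCategoryFactors.inv.app K ≫ L.mapDerivedCategory.map g ≫ L.mapDerivedCategoryFactors.hom.app J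

lemma Φ_comp {K J I : CochainComplex A ℤ} (g : (Q).obj K ⟶ (Q).obj J) (h : (Q).obj J ⟶ (Q).obj I) :
    Φ L (g ≫ h) = Φ L g ≫ Φ L h := by
  simp [Φ]

lemma Φ_map {K J : CochainComplex A ℤ} (γ : K ⟶ J) : Φ L ((Q).map γ) = (Q).map ((L').map γ) := by
  simp [Φ, L.mapDerivedCategoryFactors_hom_naturality]

lemma Φ_bijective_iff {K J : CochainComplex A ℤ} :
    (Function.Bijective fun g : (Q).obj K ⟶ (Q).obj J => L.mapDerivedCategory.map g) ↔
      Function.Bijective (Φ L (K := K) (J := J)) := by
  rw [← Function.Bijective.of_comp_iff'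
    (Iso.homCongr (L.mapDerivedCategoryFactors.app K) (L.mapDerivedCategoryFactors.app J)).bijective]
  rfl

variable (L R)

/-- The criterion: for bounded below complexes of injectives, resolutions of inverse images have
quasi-isomorphisms as adjuncts. -/
def Good : Prop :=
  ∀ (I : CochainComplex A ℤ) (n : ℤ) [I.IsStrictlyGE n] [∀ i, Injective (I.X i)]
    (M : CochainComplex B ℤ) (m : ℤ) [M.IsStrictlyGE m] [∀ i, Injective (M.X i)]
    (r : (L').obj I ⟶ M), QuasiIso r → QuasiIso (adjunct adj r)

variable {L R}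

lemma bijective_map_of_iso {K K' J J' : DerivedCategory A} (eK : K ≅ K') (eJ : J ≅ J')
    (h : Function.Bijective fun g : K ⟶ J => L.mapDerivedCategory.map g) :
    Function.Bijective fun g : K' ⟶ J' => L.mapDerivedCategory.map g := by
  rw [← Function.Bijective.of_comp_iff' (Iso.homCongr (L.mapDerivedCategory.mapIso eK.symm)
      (L.mapDerivedCategory.mapIso eJ.symm)).bijective,
    ← Function.Bijective.of_comp_iff _ (Iso.homCongr eK eJ).bijective]
  convert h using 1
  funext g
  simp [← Functor.map_comp]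

variable [EnoughInjectives A] [EnoughInjectives B]

omit [EnoughInjectives A] in
lemma exists_resolution (I : CochainComplex A ℤ) (n : ℤ) [I.IsStrictlyGE n] :
    ∃ (M : CochainComplex B ℤ) (_ : M.IsStrictlyGE n) (_ : ∀ i, Injective (M.X i))
      (r : (L').obj I ⟶ M), QuasiIso r := by
  obtain ⟨M, r, h1, h2, h3⟩ :=
    CochainComplex.Plus.modelCategoryQuillen.exists_quasiIso_injective ((L').obj I) n
  exact ⟨M, inferInstance, inferInstance, r, inferInstance⟩

/-- Full faithfulness on bounded below objects from the criterion. -/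
theorem bijective_of_good (h : Good L R adj) (K J : DerivedCategory.Plus A) :
    Function.Bijective fun g : K.obj ⟶ J.obj => L.mapDerivedCategory.map g := by
  obtain ⟨J, n, hn⟩ := J
  have : DerivedCategory.Plus.IsGE (⟨J, n, hn⟩ : DerivedCategory.Plus A) n :=
    (DerivedCategory.Plus.isGE_ι_obj_iff (⟨J, n, hn⟩ : DerivedCategory.Plus A) n).1 hn
  obtain ⟨I', _, ⟨eJ⟩⟩ := DerivedCategory.Plus.exists_injective_nonempty_iso (⟨J, n, hn⟩ : DerivedCategory.Plus A) n
  let I := ((InjectiveObject.ι A).mapHomologicalComplex (ComplexShape.up ℤ)).obj I'.obj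
  have : ∀ i, Injective (I.X i) := fun i => (I'.obj.X i).property
  have : CochainComplex.IsStrictlyGE I n :=
    inferInstanceAs (CochainComplex.IsStrictlyGE (((InjectiveObject.ι A).mapHomologicalComplex (ComplexShape.up ℤ)).obj I'.obj) n)
  refine bijective_map_of_iso (J := (Q).obj I) (DerivedCategory.Q.objObjPreimageIso K.obj)
    (DerivedCategory.Plus.ι.mapIso eJ : (Q).obj I ≅ J) ?_
  generalize DerivedCategory.Q.objPreimage K.obj = K₀
  rw [Φ_bijective_iff]
  have := CochainComplex.isKInjective_of_injective I n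
  obtain ⟨M, _, _, r, hr⟩ := exists_resolution (L := L) (B := B) I n
  have := CochainComplex.isKInjective_of_injective M n
  have := h I n M n r hr
  constructor
  · intro g g' e
    obtain ⟨γ, rfl⟩ := exists_lift g
    obtain ⟨γ', rfl⟩ := exists_lift g'
    rw [Φ_map, Φ_map] at e
    have := Q_adjunct_eq adj (φ := (L').map γ ≫ r) (φ' := (L').map γ' ≫ r) (by simp [e])
    rw [adjunct_map, adjunct_map, Functor.map_comp, Functor.map_comp, cancel_mono] at this
    exact this
  · intro ψ
    obtain ⟨φ, hφ⟩ := exists_lift (ψ ≫ (Q).map r)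
    refine ⟨(Q).map (adjunct adj φ) ≫ inv ((Q).map (adjunct adj r)), ?_⟩
    rw [← cancel_mono ((Q).map r), ← hφ]
    have e : Φ L ((Q).map (adjunct adj φ) ≫ inv ((Q).map (adjunct adj r))) ≫
        Φ L ((Q).map (adjunct adj r)) = (Q).map ((L').map (adjunct adj φ)) := by
      rw [← Φ_comp, assoc, IsIso.inv_hom_id, comp_id, Φ_map]
    have er := map_adjunct_counit adj r
    calc _ = Φ L ((Q).map (adjunct adj φ) ≫ inv ((Q).map (adjunct adj r))) ≫
          (Q).map ((L').map (adjunct adj r) ≫ counit' adj M) := by rw [er]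
      _ = _ := by
        rw [Functor.map_comp, ← Φ_map, reassoc_of% e, ← Functor.map_comp, map_adjunct_counit adj φ]

/-- The criterion from full faithfulness on bounded below objects. -/
theorem good_of_bijective
    (h : ∀ K J : DerivedCategory.Plus A, Function.Bijective fun g : K.obj ⟶ J.obj => L.mapDerivedCategory.map g) :
    Good L R adj := by
  intro I n _ _ M m _ _ r hr
  have := CochainComplex.isKInjective_of_injective I n
  have := CochainComplex.isKInjective_of_injective M m
  set N := (R').obj M with hN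
  have hbij : ∀ (K J : CochainComplex A ℤ) (a b : ℤ) [K.IsStrictlyGE a] [J.IsStrictlyGE b],
      Function.Bijective (Φ L (K := K) (J := J)) := fun K J a b _ _ =>
    Φ_bijective_iff.1 (h ⟨(Q).obj K, a, inferInstance⟩ ⟨(Q).obj J, b, inferInstance⟩)
  have : CochainComplex.IsStrictlyGE N m := inferInstanceAs (CochainComplex.IsStrictlyGE ((R').obj M) m)
  have : ∀ i, Injective (N.X i) := fun i => Adjunction.map_injective adj (M.X i) inferInstance
  have := CochainComplex.isKInjective_of_injective N m
  obtain ⟨g, hg⟩ := (hbij N I m n).2 ((Q).map (counit' adj M) ≫ inv ((Q).map r))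
  have h1 : (Q).map (adjunct adj r) ≫ g = 𝟙 _ := by
    apply (hbij I I n n).1
    rw [Φ_comp, hg, Φ_map, ← Functor.map_comp_assoc, map_adjunct_counit, IsIso.hom_inv_id,
      show Φ L (𝟙 ((Q).obj I)) = 𝟙 _ by simp [Φ]]
  have h2 : g ≫ (Q).map (adjunct adj r) = 𝟙 _ := by
    obtain ⟨γ, rfl⟩ := exists_lift g
    rw [Φ_map] at hg
    have e : (Q).map ((L').map γ ≫ r) = (Q).map ((L').map (𝟙 N) ≫ counit' adj M) := by
      rw [Functor.map_comp, hg, assoc, IsIso.inv_hom_id, comp_id, CategoryTheory.Functor.map_id, id_comp]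
    have := Q_adjunct_eq adj e
    rw [adjunct_map, adjunct_map_comp_counit, Functor.map_comp, CategoryTheory.Functor.map_id] at this
    exact this
  exact (DerivedCategory.isIso_Q_map_iff_quasiIso A (adjunct adj r)).1 ⟨g, h1, h2⟩

end Groth.Misc4.DerivedAdj
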