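import Groth.Agent.Misc4.QCohCd
import Groth.Agent.Misc4.RlimTrunc
import Groth.Agent.Misc4.DerivedAdj
import Groth.Agent.SiteCohomology.ShriekExact
import Groth.Agent.DerivedCoh.KInj.Products

/-!
# `D(A) ≅ D_QCoh(Spec A)`
-/

universe u

open CategoryTheory CategoryTheory.Limits AlgebraicGeometry TopologicalSpace Opposite Pretriangulated DerivedCategory
open Groth.Misc4.DerivedLift (S0)

attribute [local instance] HasDerivedCategory.standard

set_option backward.isDefEq.respectTransparency false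
set_option backward.defeqAttrib.useBackward true
set_option synthInstance.maxHeartbeats 400000
set_option maxHeartbeats 1000000

namespace Groth.Misc4.QCohTildeD

open Groth.Misc4.QCohCd (qc exists_affine_cover)

local notation "up" => ComplexShape.up ℤ

variable {R : CommRingCat.{u}}

local notation "X" => Spec R
local notation "Γ₀" => moduleSpecΓFunctor (R := R)
local notation "ΓCx" => Functor.mapHomologicalComplex (moduleSpecΓFunctor (R := R)) (ComplexShape.up ℤ)
local notation "tCx" => Functor.mapHomologicalComplex (tilde.functor R) (ComplexShape.up ℤ)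

instance additive_Γ₀ : (Γ₀).Additive :=
  (tilde.adjunction (R := R)).right_adjoint_additive

instance preservesFiniteLimits_Γ₀ : PreservesFiniteLimits (Γ₀) :=
  have : PreservesLimitsOfSize.{0, 0} (Γ₀) := (tilde.adjunction (R := R)).rightAdjoint_preservesLimits
  ⟨fun _ _ _ => inferInstance⟩

instance preservesFiniteColimits_tilde : PreservesFiniteColimits (tilde.functor R) :=
  have : PreservesColimitsOfSize.{0, 0} (tilde.functor R) :=
    (tilde.adjunction (R := R)).leftAdjoint_preservesColimits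
  ⟨fun _ _ _ => inferInstance⟩

/-- The free module on the whole space. -/
noncomputable abbrev free1 (R : CommRingCat.{u}) : ModSite.Mod (Spec R).sheaf :=
  ModSite.freeOn (Spec R).sheaf (⊤ : (Spec R).Opens)

lemma subsingleton_ext [HasExt.{u} (ModSite.Mod (X).sheaf)] (F : ModSite.Mod (X).sheaf) (hF : qc (X) F) (k : ℕ)
    (hk : 0 < k) : Subsingleton (Abelian.Ext (free1 R) F k) := by
  obtain ⟨k, rfl⟩ := Nat.exists_eq_succ_of_ne_zero (show k ≠ 0 by omega)
  haveI : Subsingleton (ModSite.HU (X).sheaf F (k + 1) (⊤ : (X).Opens)) :=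
    @Groth.CohBase.hVanish_of_isAffineOpen (X) F hF _ (isAffineOpen_top _) k
  exact Groth.Misc4.ExtFree.subsingleton_ext_freeOn _ F _

/-- Sections over an affine scheme only see cohomology in degree zero, for unbounded objects. -/
theorem eq_zero (E : DerivedCategory (ModSite.Mod (X).sheaf)) (hE : WSerre.cohIn (qc (X)) E) (m : ℤ)
    (hm : IsZero ((homologyFunctor (ModSite.Mod (X).sheaf) m).obj E))
    (φ : S0.obj (free1 R) ⟶ E⟦m⟧) : φ = 0 := by
  haveI : HasExt.{u} (ModSite.Mod (X).sheaf) := hasExt_of_enoughInjectives _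
  haveI := Groth.Misc4.RpushTrunc.hasProduct_nat (X).sheaf (CohCx.truncTower E)
  have hL := Groth.Misc4.RpushTrunc.isRlimVia E (qc (X)) {V | IsAffineOpen V} (fun U => by
      obtain ⟨ι, Y, g, -, hY, hB⟩ := exists_affine_cover U ⊤ (GrothendieckTopology.top_mem _ _)
      exact ⟨ι, Y, g, hY, hB⟩)
    (fun V _ => ⟨0, fun T hT => by
      obtain ⟨ι, Y, g, hg, hY, hB⟩ := exists_affine_cover V T hT
      refine ⟨ι, Y, g, hg, hY, fun i F hF k hk => ?_⟩
      obtain ⟨k, rfl⟩ := Nat.exists_eq_succ_of_ne_zero (show k ≠ 0 by omega)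
      exact @Groth.CohBase.hVanish_of_isAffineOpen (X) F hF _ (hB i) k⟩) hE
  let N : ℕ := (-m).toNat + 1
  have hb := Groth.Misc4.RlimEventual.bijective_of_eventually hL (S0.obj (free1 R)) m N
    (fun n hn => Groth.Misc4.RlimTrunc.bijective_map E (free1 R) n m fun k hk =>
      subsingleton_ext _ (hE _) k (by omega))
    (fun n hn => (Groth.Misc4.RlimTrunc.bijective_map E (free1 R) n (m - 1) fun k hk =>
      subsingleton_ext _ (hE _) k (by omega)).2) N le_rfl
  refine hb.1 ?_
  show φ ≫ _ = (0 : _ ⟶ _) ≫ _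
  rw [zero_comp]
  have hge : (CohCx.truncTower E N).IsGE (-(N : ℤ)) := inferInstanceAs (TStructure.t.IsGE _ _)
  have hP : WSerre.cohInPlus (qc (X)) (CohCx.truncTower E N) :=
    ⟨fun q => by
      by_cases h : -(N : ℤ) ≤ q
      · haveI := Groth.Misc4.RlimTrunc.isIso_homology_toTrunc E N q h
        exact (qc (X)).prop_of_iso (asIso ((homologyFunctor _ q).map (CohCx.toTruncTower E N))) (hE q)
      · exact (qc (X)).prop_of_isZero (isZero_of_isGE _ (-(N : ℤ)) q (by omega)),
    ⟨_, hge⟩⟩
  refine Groth.Misc4.RlimVanish.eq_zero_of_window (qc (X)) (d := 0) (fun F hF k hk => subsingleton_ext F hF k hk)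
    (Groth.Misc4.RlimVanish.cohInPlus_shift (qc (X)) hP m) (fun q h1 h2 => ?_) _
  obtain rfl : q = 0 := by omega
  haveI := Groth.Misc4.RlimTrunc.isIso_homology_toTrunc E N m (by omega)
  exact (hm.of_iso (asIso ((homologyFunctor _ m).map (CohCx.toTruncTower E N))).symm).of_iso
    (Groth.Misc4.RlimVanish.hShift _ m 0 m (add_zero m))

/-- Vanishing of classes gives exactness of global sections. -/
theorem exactAt_Γ (C : CochainComplex (X).Modules ℤ) [C.IsKInjective] (q : ℤ)
    (h : ∀ φ : S0.obj (C := (X).Modules) (free1 R) ⟶ (DerivedCategory.Q.obj C)⟦q⟧, φ = 0) :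
    ((ΓCx).obj C).ExactAt q := by
  rw [HomologicalComplex.exactAt_iff' _ (q - 1) q (q + 1) (by simp) (by simp),
    ShortComplex.moduleCat_exact_iff]
  intro z hz
  let F : (X).Modules := free1 R
  let x : F ⟶ C.X q := (Groth.Misc4.FreeOn.homEquiv (⊤ : (X).Opens) (C.X q : ModSite.Mod (X).sheaf)).symm z
  have hx : x ≫ C.d q (q + 1) = 0 := by
    refine (Groth.Misc4.FreeOn.homEquiv (O := (X).sheaf) (⊤ : (X).Opens) (C.X (q + 1))).injective ?_
    refine (Groth.Misc4.FreeOn.homEquiv_comp (O := (X).sheaf) _ _ _).trans ?_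
    refine Eq.trans ?_ ((Groth.Misc4.FreeOn.homEquiv_comp (O := (X).sheaf) (⊤ : (X).Opens) x
      (0 : C.X q ⟶ C.X (q + 1))).symm.trans (congrArg _ comp_zero))
    rw [show (Groth.Misc4.FreeOn.homEquiv (O := (X).sheaf) (⊤ : (X).Opens) (C.X q)) x = z from Equiv.apply_symm_apply _ _]
    exact hz
  let ψ : (HomologicalComplex.single (X).Modules up q).obj F ⟶ C :=
    HomologicalComplex.mkHomFromSingle x fun j hj => by
      obtain rfl : q + 1 = j := hj
      exact hx
  have hQ : DerivedCategory.Q.map ψ = DerivedCategory.Q.map (0 : _ ⟶ C) := by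
    rw [Functor.map_zero]
    refine (shiftFunctor (DerivedCategory (X).Modules) q).map_injective ?_
    let e : (DerivedCategory.Q.obj ((HomologicalComplex.single (X).Modules up q).obj F))⟦q⟧ ≅ S0.obj F :=
      (shiftFunctor (DerivedCategory (X).Modules) q).mapIso
          ((DerivedCategory.singleFunctorIsoCompQ _ q).app F).symm ≪≫
        ((DerivedCategory.singleFunctors _).shiftIso q 0 q (add_zero q)).app F ≪≫
        (DerivedCategory.singleFunctorIsoCompQ _ 0).app F
    rw [Functor.map_zero, ← cancel_epi e.inv, comp_zero]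
    exact h _
  obtain ⟨H⟩ := Groth.Misc4.DerivedAdj.exists_homotopy hQ
  have hc := H.comm q
  rw [prevD_eq H.hom (show (up).Rel (q - 1) q by simp), dNext_eq H.hom (show (up).Rel q (q + 1) by simp)] at hc
  simp only [HomologicalComplex.single_obj_d, zero_comp, zero_add, HomologicalComplex.zero_f, add_zero] at hc
  let a : F ⟶ C.X (q - 1) := (HomologicalComplex.singleObjXSelf up q F).inv ≫ H.hom q (q - 1)
  have ha : x = a ≫ C.d (q - 1) q := by
    have e : ψ.f q = (HomologicalComplex.singleObjXSelf up q F).hom ≫ x :=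
      HomologicalComplex.mkHomFromSingle_f _ _
    rw [e] at hc
    rw [← Iso.inv_hom_id_assoc (HomologicalComplex.singleObjXSelf up q F) x, hc, Category.assoc]
  refine ⟨Groth.Misc4.FreeOn.homEquiv (O := (X).sheaf) (⊤ : (X).Opens) (C.X (q - 1)) a, ?_⟩
  exact (Groth.Misc4.FreeOn.homEquiv_comp (O := (X).sheaf) (⊤ : (X).Opens) a (C.d (q - 1) q)).symm.trans
    ((congrArg _ ha.symm).trans (Equiv.apply_symm_apply _ _))

/-- Global sections of K-injective complexes see cohomology only in the same degree. -/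
theorem exactAt_Γ_of_isZero (C : CochainComplex (X).Modules ℤ) [C.IsKInjective]
    (hC : DCoh.IsQCohD (DerivedCategory.Q.obj C)) (q : ℤ) (hq : IsZero (DCoh.HD (DerivedCategory.Q.obj C) q)) :
    ((ΓCx).obj C).ExactAt q :=
  exactAt_Γ C q fun φ => eq_zero (R := R) (DerivedCategory.Q.obj C) hC q hq φ

/-- The counit on complexes. -/
noncomputable abbrev ε (I : CochainComplex (X).Modules ℤ) : (tCx).obj ((ΓCx).obj I) ⟶ I :=
  Groth.Misc4.DerivedAdj.counit' (tilde.adjunction (R := R)) I

variable [PreservesFiniteLimits (tilde.functor R)]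

lemma ε_natural {I I' : CochainComplex (X).Modules ℤ} (φ : I ⟶ I') :
    (tCx).map ((ΓCx).map φ) ≫ ε I' = ε I ≫ φ := by
  exact HomologicalComplex.hom_ext _ _ fun i => (tilde.adjunction (R := R)).counit.naturality (φ.f i)

omit [PreservesFiniteLimits (tilde.functor R)] in
/-- global sections commute with cones -/
noncomputable def hmap {I I' : CochainComplex (X).Modules ℤ} (φ : I ⟶ I') :
    (ΓCx).obj (CochainComplex.mappingCone φ) ≅ CochainComplex.mappingCone ((ΓCx).map φ) :=
  haveI : (Γ₀).Additive := additive_Γ₀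
  CochainComplex.mappingCone.mapHomologicalComplexIso φ (Γ₀)

/-- Maps which are invertible on cohomology near a degree. -/
lemma quasiIsoAt_iff {I I' : CochainComplex (X).Modules ℤ} [I.IsKInjective] [I'.IsKInjective]
    (hI : DCoh.IsQCohD (DerivedCategory.Q.obj I)) (hI' : DCoh.IsQCohD (DerivedCategory.Q.obj I'))
    (φ : I ⟶ I') (j : ℤ) (hj : IsIso ((homologyFunctor (X).Modules j).map (DerivedCategory.Q.map φ)))
    (hne : ∀ q, q = j - 1 ∨ q = j → IsZero (DCoh.HD (DerivedCategory.Q.obj (CochainComplex.mappingCone φ)) q)) :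
    QuasiIsoAt (ε I) j ↔ QuasiIsoAt (ε I') j := by
  let C := CochainComplex.mappingCone φ
  haveI : C.IsKInjective := Groth.DAlg.RFTriangle.isKInjective_cone φ
  have hT : DerivedCategory.Q.mapTriangle.obj (CochainComplex.mappingCone.triangle φ) ∈ distTriang _ :=
    (DerivedCategory.mem_distTriang_iff _).2 ⟨_, _, φ, ⟨Iso.refl _⟩⟩
  have hC : DCoh.IsQCohD (DerivedCategory.Q.obj C) :=
    Groth.Misc4.QCohDPerf.isQCohD_obj₂ _ (rot_of_distTriang _ hT) hI'
      (Groth.Misc4.QCohDPerf.isQCohD_shift hI 1)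
  have hz : ∀ q, q = j - 1 ∨ q = j → IsZero ((CochainComplex.mappingCone ((ΓCx).map φ)).homology q) := fun q hq =>
    (HomologicalComplex.exactAt_iff_isZero_homology _ q).1
      ((exactAt_Γ_of_isZero C hC q (hne q hq)).of_iso (hmap φ))
  let T' := DerivedCategory.Q.mapTriangle.obj (CochainComplex.mappingCone.triangle ((ΓCx).map φ))
  have hT' : T' ∈ distTriang _ := (DerivedCategory.mem_distTriang_iff _).2 ⟨_, _, (ΓCx).map φ, ⟨Iso.refl _⟩⟩
  have hz' : ∀ q, q = j - 1 ∨ q = j → IsZero ((homologyFunctor (ModuleCat.{u} R) q).obj T'.obj₃) := fun q hq =>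
    (hz q hq).of_iso ((homologyFunctorFactors _ q).app _)
  haveI : Mono ((homologyFunctor (ModuleCat.{u} R) j).map T'.mor₁) :=
    (HomologySequence.mono_homologyMap_mor₁_iff _ hT' (j - 1) j (by omega)).2
      ((hz' (j - 1) (Or.inl rfl)).eq_of_src _ _)
  haveI : Epi ((homologyFunctor (ModuleCat.{u} R) j).map T'.mor₁) :=
    (HomologySequence.epi_homologyMap_mor₁_iff _ hT' j).2 ((hz' j (Or.inr rfl)).eq_of_tgt _ _)
  haveI h₁ : IsIso ((homologyFunctor (ModuleCat.{u} R) j).map (DerivedCategory.Q.map ((ΓCx).map φ))) :=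
    isIso_of_mono_of_epi ((homologyFunctor (ModuleCat.{u} R) j).map T'.mor₁)
  haveI : QuasiIsoAt ((ΓCx).map φ) j := by
    rw [quasiIsoAt_iff_isIso_homologyMap]
    exact (NatIso.isIso_map_iff (homologyFunctorFactors _ j) ((ΓCx).map φ)).1 h₁
  haveI : QuasiIsoAt φ j := by
    rw [quasiIsoAt_iff_isIso_homologyMap]
    exact (NatIso.isIso_map_iff (homologyFunctorFactors _ j) φ).1 hj
  haveI : QuasiIsoAt ((tCx).map ((ΓCx).map φ)) j := inferInstance
  rw [← quasiIsoAt_iff_comp_left ((tCx).map ((ΓCx).map φ)) (ε I'), ε_natural φ,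
    quasiIsoAt_iff_comp_right (ε I) φ]

/-- The counit on a complex concentrated in high degrees, in its lowest degree. -/
lemma quasiIsoAt_bottom (J : CochainComplex (X).Modules ℤ) (j : ℤ) [J.IsStrictlyGE j]
    (hJ : Coh.IsQCoh (J.homology j)) : QuasiIsoAt (ε J) j := by
  have hd : ∀ (K : CochainComplex (X).Modules ℤ), K.IsStrictlyGE j → IsIso (K.homologyπ j) := fun K hK =>
    K.isIso_homologyπ (j - 1) j (by simp) ((K.isZero_of_isStrictlyGE j (j - 1) (by omega)).eq_of_src _ _)
  haveI := hd J inferInstance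
  haveI := hd ((tCx).obj ((ΓCx).obj J)) inferInstance
  haveI : (J.cycles j).IsQuasicoherent :=
    (Groth.QCohMod.isQCoh_iff_of_iso (asIso (J.homologyπ j))).2 hJ
  rw [quasiIsoAt_iff_isIso_homologyMap]
  suffices IsIso (HomologicalComplex.cyclesMap (ε J) j) by
    haveI : IsIso (((tCx).obj ((ΓCx).obj J)).homologyπ j ≫ HomologicalComplex.homologyMap (ε J) j) := by
      rw [HomologicalComplex.homologyπ_naturality]; infer_instance
    exact IsIso.of_isIso_comp_left (((tCx).obj ((ΓCx).obj J)).homologyπ j) _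
  let G := Γ₀ ⋙ tilde.functor R
  haveI : PreservesFiniteLimits G := comp_preservesFiniteLimits _ _
  have w : G.map (J.iCycles j) ≫ ((tCx).obj ((ΓCx).obj J)).d j (j + 1) = 0 := by
    show G.map (J.iCycles j) ≫ G.map (J.d j (j + 1)) = 0
    rw [← G.map_comp, J.iCycles_d, G.map_zero]
  have hk : IsLimit (KernelFork.ofι (G.map (J.iCycles j)) w) :=
    KernelFork.mapIsLimit _ (J.cyclesIsKernel j (j + 1) (by simp)) G
  let a : G.obj (J.cycles j) ≅ ((tCx).obj ((ΓCx).obj J)).cycles j :=
    hk.conePointUniqueUpToIso (((tCx).obj ((ΓCx).obj J)).cyclesIsKernel j (j + 1) (by simp))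
  have ha : a.hom ≫ ((tCx).obj ((ΓCx).obj J)).iCycles j = G.map (J.iCycles j) :=
    hk.conePointUniqueUpToIso_hom_comp _ WalkingParallelPair.zero
  haveI : IsIso ((tilde.adjunction (R := R)).counit.app (J.cycles j)) :=
    inferInstanceAs (IsIso (Scheme.Modules.fromTildeΓ (J.cycles j)))
  have e : a.hom ≫ HomologicalComplex.cyclesMap (ε J) j = (tilde.adjunction (R := R)).counit.app (J.cycles j) := by
    rw [← cancel_mono (J.iCycles j), Category.assoc, HomologicalComplex.cyclesMap_i, reassoc_of% ha]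
    exact (tilde.adjunction (R := R)).counit.naturality (J.iCycles j)
  haveI : IsIso (a.hom ≫ HomologicalComplex.cyclesMap (ε J) j) := by rw [e]; infer_instance
  exact IsIso.of_isIso_comp_left a.hom _

lemma exists_kInj (E : DCoh.D (X)) :
    ∃ I : CochainComplex (X).Modules ℤ, I.IsKInjective ∧ Nonempty (DerivedCategory.Q.obj I ≅ E) := by
  obtain ⟨I, hI, ⟨e⟩⟩ := Groth.DerivedCoh.KInjRes.exists_kInjective_iso E
  exact ⟨I, hI, ⟨e⟩⟩

/-- The counit is a quasi-isomorphism on K-injective complexes with quasi-coherent cohomology. -/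
theorem quasiIso_ε (I : CochainComplex (X).Modules ℤ) [I.IsKInjective]
    (hI : DCoh.IsQCohD (DerivedCategory.Q.obj I)) : QuasiIso (ε I) := by
  refine ⟨fun j => ?_⟩
  let t : Triangulated.TStructure (DCoh.D (X)) := TStructure.t
  let E : DCoh.D (X) := DerivedCategory.Q.obj I
  let E' := (t.truncGE j).obj E
  obtain ⟨I', _, ⟨e'⟩⟩ := exists_kInj E'
  obtain ⟨φ, hφ⟩ := Groth.Misc4.DerivedAdj.exists_lift ((t.truncGEπ j).app E ≫ e'.inv)
  have hT := t.triangleLTGE_distinguished j E
  haveI : ((t.truncLT j).obj E).IsLE (j - 1) := inferInstanceAs (t.IsLE ((t.truncLT j).obj E) (j - 1))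
  haveI hgeE : E'.IsGE j := inferInstanceAs (t.IsGE ((t.truncGE j).obj E) j)
  have hπ : ∀ q, j ≤ q → IsIso ((homologyFunctor (X).Modules q).map ((t.truncGEπ j).app E)) := fun q hq => by
    haveI : Mono ((homologyFunctor (X).Modules q).map ((t.truncGEπ j).app E)) :=
      (HomologySequence.mono_homologyMap_mor₂_iff _ hT q).2
        ((((t.truncLT j).obj E).isZero_of_isLE (j - 1) q (by omega)).eq_of_src _ _)
    haveI : Epi ((homologyFunctor (X).Modules q).map ((t.truncGEπ j).app E)) :=
      (HomologySequence.epi_homologyMap_mor₂_iff _ hT q (q + 1) rfl).2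
        ((((t.truncLT j).obj E).isZero_of_isLE (j - 1) (q + 1) (by omega)).eq_of_tgt _ _)
    exact isIso_of_mono_of_epi _
  have hqE' : DCoh.IsQCohD E' := fun q => by
    by_cases h : j ≤ q
    · haveI := hπ q h
      exact (Groth.QCohMod.isQCoh_iff_of_iso (asIso ((homologyFunctor (X).Modules q).map ((t.truncGEπ j).app E)))).1 (hI q)
    · exact Groth.Misc4.QCohDPerf.isQCoh_isZero (E'.isZero_of_isGE j q (by omega))
  have hqI' := Groth.Misc4.QCohDPerf.isQCohD_of_iso e'.symm hqE'
  have hφiso : ∀ q, j ≤ q → IsIso ((homologyFunctor (X).Modules q).map (DerivedCategory.Q.map φ)) := fun q hq => by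
    haveI := hπ q hq
    rw [hφ, Functor.map_comp]
    infer_instance
  have cone0 : ∀ {K L : CochainComplex (X).Modules ℤ} (ψ : K ⟶ L) (q : ℤ),
      Epi ((homologyFunctor (X).Modules q).map (DerivedCategory.Q.map ψ)) →
      Mono ((homologyFunctor (X).Modules (q + 1)).map (DerivedCategory.Q.map ψ)) →
      IsZero (DCoh.HD (DerivedCategory.Q.obj (CochainComplex.mappingCone ψ)) q) := fun {K L} ψ q h1 h2 => by
    have hTc : DerivedCategory.Q.mapTriangle.obj (CochainComplex.mappingCone.triangle ψ) ∈ distTriang _ :=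
      (DerivedCategory.mem_distTriang_iff _).2 ⟨_, _, ψ, ⟨Iso.refl _⟩⟩
    exact (HomologySequence.exact₃ _ hTc q (q + 1) rfl).isZero_X₂
      ((HomologySequence.epi_homologyMap_mor₁_iff _ hTc q).1 h1)
      ((HomologySequence.mono_homologyMap_mor₁_iff _ hTc q (q + 1) rfl).1 h2)
  have hlow : ∀ (M : DCoh.D (X)) [M.IsGE j] {K : DCoh.D (X)} (ψ : K ⟶ M) (q : ℤ), q < j →
      Epi ((homologyFunctor (X).Modules q).map ψ) := fun M _ K ψ q hq =>
    ⟨fun _ _ _ => (M.isZero_of_isGE j q hq).eq_of_src _ _⟩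
  haveI : DerivedCategory.IsGE (DerivedCategory.Q.obj I') j := t.isGE_of_iso e'.symm j
  rw [quasiIsoAt_iff hI hqI' φ j (hφiso j le_rfl) (fun q hq => by
    rcases hq with rfl | rfl
    · haveI := hφiso (j - 1 + 1) (by omega)
      exact cone0 φ (j - 1) (hlow _ _ _ (by omega)) inferInstance
    · haveI := hφiso q le_rfl
      haveI := hφiso (q + 1) (by omega)
      exact cone0 φ q inferInstance inferInstance)]
  -- the bottom cohomology sheaf as an object in one degree
  let U := (t.truncLT (j + 1)).obj E'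
  haveI : U.IsLE j := inferInstanceAs (t.IsLE ((t.truncLT (j + 1)).obj E') j)
  have hT₂ := t.triangleLTGE_distinguished (j + 1) E'
  haveI : ((t.truncGE (j + 1)).obj E').IsGE (j + 1) := inferInstanceAs (t.IsGE ((t.truncGE (j + 1)).obj E') (j + 1))
  have hι : ∀ q, q ≤ j → IsIso ((homologyFunctor (X).Modules q).map ((t.truncLTι (j + 1)).app E')) := fun q hq => by
    haveI : Mono ((homologyFunctor (X).Modules q).map ((t.truncLTι (j + 1)).app E')) :=
      (HomologySequence.mono_homologyMap_mor₁_iff _ hT₂ (q - 1) q (by omega)).2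
        ((((t.truncGE (j + 1)).obj E').isZero_of_isGE (j + 1) (q - 1) (by omega)).eq_of_src _ _)
    haveI : Epi ((homologyFunctor (X).Modules q).map ((t.truncLTι (j + 1)).app E')) :=
      (HomologySequence.epi_homologyMap_mor₁_iff _ hT₂ q).2
        ((((t.truncGE (j + 1)).obj E').isZero_of_isGE (j + 1) q (by omega)).eq_of_tgt _ _)
    exact isIso_of_mono_of_epi _
  haveI : U.IsGE j := (isGE_iff U j).2 fun q hq => by
    haveI := hι q (by omega)
    exact (E'.isZero_of_isGE j q hq).of_iso (asIso ((homologyFunctor (X).Modules q).map ((t.truncLTι (j + 1)).app E')))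
  obtain ⟨L, hL, ⟨eL⟩⟩ := DerivedCategory.exists_iso_Q_obj_of_isGE U j
  obtain ⟨J, i, hi, hinj, hJ⟩ := CochainComplex.Plus.modelCategoryQuillen.exists_quasiIso_injective L j
  have := hinj
  haveI : J.IsKInjective := CochainComplex.isKInjective_of_injective J j
  let eJ : U ≅ DerivedCategory.Q.obj J := eL ≪≫ asIso (DerivedCategory.Q.map i)
  obtain ⟨ψ, hψ⟩ := Groth.Misc4.DerivedAdj.exists_lift (eJ.inv ≫ (t.truncLTι (j + 1)).app E' ≫ e'.inv)
  have hqU : DCoh.IsQCohD U := fun q => by
    by_cases h : q ≤ j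
    · haveI := hι q h
      exact (Groth.QCohMod.isQCoh_iff_of_iso (asIso ((homologyFunctor (X).Modules q).map ((t.truncLTι (j + 1)).app E')))).2 (hqE' q)
    · exact Groth.Misc4.QCohDPerf.isQCoh_isZero (U.isZero_of_isLE j q (by omega))
  have hqJ := Groth.Misc4.QCohDPerf.isQCohD_of_iso eJ hqU
  have hψiso : ∀ q, q ≤ j → IsIso ((homologyFunctor (X).Modules q).map (DerivedCategory.Q.map ψ)) := fun q hq => by
    haveI := hι q hq
    rw [hψ, Functor.map_comp, Functor.map_comp]
    infer_instance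
  refine (quasiIsoAt_iff hqJ hqI' ψ j (hψiso j le_rfl) (fun q hq => ?_)).1 (quasiIsoAt_bottom J j
    ((Groth.QCohMod.isQCoh_iff_of_iso ((homologyFunctorFactors (X).Modules j).app J)).1 (hqJ j)))
  haveI := hψiso q (by omega)
  refine cone0 ψ q inferInstance ?_
  by_cases h : q + 1 ≤ j
  · haveI := hψiso (q + 1) h
    infer_instance
  · exact ⟨fun _ _ _ => (((U.isZero_of_isLE j (q + 1) (by omega)).of_iso
      ((homologyFunctor (X).Modules (q + 1)).mapIso eJ.symm))).eq_of_tgt _ _⟩

variable (R)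

/-- Units of the derived adjunction: a K-injective model of `M~` has global sections `M`. -/
theorem exists_model (M : CochainComplex (ModuleCat.{u} R) ℤ) :
    ∃ (I : CochainComplex (X).Modules ℤ) (i : (tCx).obj M ⟶ I), I.IsKInjective ∧ QuasiIso i ∧
      QuasiIso (Groth.Misc4.DerivedAdj.adjunct (tilde.adjunction (R := R)) i) := by
  obtain ⟨I, hI, ⟨e⟩⟩ := exists_kInj (DerivedCategory.Q.obj ((tCx).obj M))
  obtain ⟨i, hi⟩ := Groth.Misc4.DerivedAdj.exists_lift e.inv
  haveI : IsIso (DerivedCategory.Q.map i) := hi ▸ inferInstance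
  haveI hqi : QuasiIso i := (DerivedCategory.isIso_Q_map_iff_quasiIso _ i).1 inferInstance
  have hM : DCoh.IsQCohD (DerivedCategory.Q.obj ((tCx).obj M)) := fun q =>
    (Groth.QCohMod.isQCoh_iff_of_iso ((homologyFunctorFactors (X).Modules q).app ((tCx).obj M) ≪≫
      ((M.sc q).mapHomologyIso (tilde.functor R) :))).2 (inferInstanceAs ((tilde.functor R).obj (M.homology q)).IsQuasicoherent)
  haveI := hI
  haveI := quasiIso_ε I (Groth.Misc4.QCohDPerf.isQCohD_of_iso (asIso (DerivedCategory.Q.map i)) hM)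
  let α := Groth.Misc4.DerivedAdj.adjunct (tilde.adjunction (R := R)) i
  haveI : QuasiIso ((tCx).map α ≫ ε I) :=
    (Groth.Misc4.DerivedAdj.map_adjunct_counit (tilde.adjunction (R := R)) i).symm ▸ hqi
  haveI : QuasiIso ((tCx).map α) := quasiIso_of_comp_right _ (ε I)
  exact ⟨I, i, hI, hqi, (HomologicalComplex.quasiIso_map_iff_of_preservesHomology α (tilde.functor R)).1 inferInstance⟩

/-- `D(A) ⥤ D(Spec A)` is fully faithful. -/
theorem bijective_map (M N : DerivedCategory (ModuleCat.{u} R)) :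
    Function.Bijective fun φ : M ⟶ N => (DCoh.tildeD R).map φ := by
  let P := DCoh.tildeD R
  suffices ∀ (A B : CochainComplex (ModuleCat.{u} R) ℤ),
      Function.Bijective fun φ : DerivedCategory.Q.obj A ⟶ DerivedCategory.Q.obj B => P.map φ by
    let eM := DerivedCategory.Q.objObjPreimageIso M
    let eN := DerivedCategory.Q.objObjPreimageIso N
    have h := this (DerivedCategory.Q.objPreimage M) (DerivedCategory.Q.objPreimage N)
    refine ⟨fun a b hab => ?_, fun g => ?_⟩
    · have := h.1 (show P.map (eM.hom ≫ a ≫ eN.inv) = P.map (eM.hom ≫ b ≫ eN.inv) by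
        simp only [Functor.map_comp]; rw [show P.map a = P.map b from hab])
      simpa using this
    · obtain ⟨φ, hφ⟩ := h.2 (P.map eM.hom ≫ g ≫ P.map eN.inv)
      refine ⟨eM.inv ≫ φ ≫ eN.hom, ?_⟩
      show P.map (eM.inv ≫ φ ≫ eN.hom) = g
      rw [P.map_comp, P.map_comp, show P.map φ = _ from hφ]
      simp only [Category.assoc, ← P.map_comp, ← P.map_comp_assoc, Iso.inv_hom_id, CategoryTheory.Functor.map_id, Category.id_comp]
      exact Category.comp_id g
  intro A B
  obtain ⟨I, i, hI, hqi, hα⟩ := exists_model R B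
  haveI := hI
  haveI := hα
  let adj := tilde.adjunction (R := R)
  let α := Groth.Misc4.DerivedAdj.adjunct adj i
  haveI : CochainComplex.IsKInjective ((ΓCx).obj I) := Groth.SiteCohomology.isKInjective_map_of_adjunction adj I hI
  haveI := (DerivedCategory.isIso_Q_map_iff_quasiIso _ i).2 hqi
  haveI := (DerivedCategory.isIso_Q_map_iff_quasiIso _ α).2 inferInstance
  let F := fun C : CochainComplex (ModuleCat.{u} R) ℤ => (tilde.functor R).mapDerivedCategoryFactors.app C
  -- the image of the class of `γ : A ⟶ Γ I`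
  have key : ∀ γ : A ⟶ (ΓCx).obj I,
      (F A).inv ≫ P.map (DerivedCategory.Q.map γ ≫ inv (DerivedCategory.Q.map α)) ≫ (F B).hom ≫
        DerivedCategory.Q.map i = DerivedCategory.Q.map ((tCx).map γ ≫ ε I) := fun γ => by
    have hnat : ∀ {C D : CochainComplex (ModuleCat.{u} R) ℤ} (f : C ⟶ D),
        P.map (DerivedCategory.Q.map f) = (F C).hom ≫ DerivedCategory.Q.map ((tCx).map f) ≫ (F D).inv := fun f => by
      have e := (tilde.functor R).mapDerivedCategoryFactors.hom.naturality f
      simp only [Functor.comp_map] at e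
      simp only [F, Iso.app_hom, Iso.app_inv]
      rw [← reassoc_of% e, Iso.hom_inv_id_app]
      exact (Category.comp_id _).symm
    haveI : IsIso (DerivedCategory.Q.map ((tCx).map α)) :=
      (DerivedCategory.isIso_Q_map_iff_quasiIso _ _).2 inferInstance
    rw [Functor.map_comp, Functor.map_inv, hnat γ]
    rw [← cancel_epi (F A).hom, Iso.hom_inv_id_assoc]
    simp only [Category.assoc]
    rw [cancel_epi (F A).hom, DerivedCategory.Q.map_comp]
    refine congrArg (DerivedCategory.Q.map ((tCx).map γ) ≫ ·) ?_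
    have e : P.map (DerivedCategory.Q.map α) ≫ (F ((ΓCx).obj I)).hom ≫ DerivedCategory.Q.map (ε I) =
        (F B).hom ≫ DerivedCategory.Q.map i := by
      rw [hnat α]
      simp only [Category.assoc, Iso.inv_hom_id_assoc]
      rw [← DerivedCategory.Q.map_comp, Groth.Misc4.DerivedAdj.map_adjunct_counit adj i]
    rw [← e, IsIso.inv_hom_id_assoc, Iso.inv_hom_id_assoc]
  have adjunct_ε : ∀ γ : A ⟶ (ΓCx).obj I,
      Groth.Misc4.DerivedAdj.adjunct adj ((tCx).map γ ≫ ε I) = γ := fun γ => by
    rw [Groth.Misc4.DerivedAdj.adjunct_map]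
    refine HomologicalComplex.hom_ext _ _ fun q => ?_
    show γ.f q ≫ adj.unit.app _ ≫ (Γ₀).map (adj.counit.app _) = γ.f q
    exact (congrArg (γ.f q ≫ ·) (adj.right_triangle_components _)).trans (Category.comp_id _)
  refine ⟨fun a b hab => ?_, fun g => ?_⟩
  · obtain ⟨γa, hγa⟩ := Groth.Misc4.DerivedAdj.exists_lift (a ≫ DerivedCategory.Q.map α)
    obtain ⟨γb, hγb⟩ := Groth.Misc4.DerivedAdj.exists_lift (b ≫ DerivedCategory.Q.map α)
    have ea : a = DerivedCategory.Q.map γa ≫ inv (DerivedCategory.Q.map α) := by simp [hγa]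
    have eb : b = DerivedCategory.Q.map γb ≫ inv (DerivedCategory.Q.map α) := by simp [hγb]
    have h : DerivedCategory.Q.map ((tCx).map γa ≫ ε I) = DerivedCategory.Q.map ((tCx).map γb ≫ ε I) := by
      rw [← key, ← key, ← ea, ← eb, show P.map a = P.map b from hab]
    obtain ⟨H⟩ := Groth.Misc4.DerivedAdj.exists_homotopy h
    have H' : Homotopy (Groth.Misc4.DerivedAdj.adjunct adj ((tCx).map γa ≫ ε I))
        (Groth.Misc4.DerivedAdj.adjunct adj ((tCx).map γb ≫ ε I)) :=
      ((Γ₀).mapHomotopy H).compLeft (Groth.Misc4.DerivedAdj.unit' adj A)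
    rw [adjunct_ε, adjunct_ε] at H'
    rw [ea, eb, cancel_mono]
    exact (NatIso.naturality_1 (DerivedCategory.quotientCompQhIso _) γa).symm.trans
      ((congrArg (fun z => _ ≫ DerivedCategory.Qh.map z ≫ _) (HomotopyCategory.eq_of_homotopy _ _ H')).trans
        (NatIso.naturality_1 (DerivedCategory.quotientCompQhIso _) γb))
  · obtain ⟨δ, hδ⟩ := Groth.Misc4.DerivedAdj.exists_lift
      ((F A).inv ≫ g ≫ (F B).hom ≫ DerivedCategory.Q.map i)
    let γ := Groth.Misc4.DerivedAdj.adjunct adj δ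
    refine ⟨DerivedCategory.Q.map γ ≫ inv (DerivedCategory.Q.map α), ?_⟩
    have h := key γ
    rw [Groth.Misc4.DerivedAdj.map_adjunct_counit adj δ, hδ, cancel_epi] at h
    rw [← Category.assoc, ← Category.assoc g, cancel_mono, cancel_mono] at h
    exact h

/-- The essential image. -/
theorem isQCohD_iff (K : DCoh.D (X)) :
    DCoh.IsQCohD K ↔ ∃ M, Nonempty ((DCoh.tildeD R).obj M ≅ K) := by
  constructor
  · intro hK
    obtain ⟨I, hI, ⟨e⟩⟩ := exists_kInj K
    haveI := hI
    haveI := quasiIso_ε I (Groth.Misc4.QCohDPerf.isQCohD_of_iso e.symm hK)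
    exact ⟨DerivedCategory.Q.obj ((ΓCx).obj I),
      ⟨(tilde.functor R).mapDerivedCategoryFactors.app _ ≪≫ asIso (DerivedCategory.Q.map (ε I)) ≪≫ e⟩⟩
  · rintro ⟨M, ⟨e⟩⟩
    refine Groth.Misc4.QCohDPerf.isQCohD_of_iso e fun q => ?_
    let L := DerivedCategory.Q.objPreimage M
    exact (Groth.QCohMod.isQCoh_iff_of_iso ((homologyFunctor (X).Modules q).mapIso
      ((DCoh.tildeD R).mapIso (DerivedCategory.Q.objObjPreimageIso M).symm ≪≫
        (tilde.functor R).mapDerivedCategoryFactors.app L) ≪≫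
      (homologyFunctorFactors (X).Modules q).app _ ≪≫ (L.sc q).mapHomologyIso (tilde.functor R))).2
      (inferInstanceAs ((tilde.functor R).obj (L.homology q)).IsQuasicoherent)

end Groth.Misc4.QCohTildeD
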