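import Groth.Agent.Misc4.QCohDPerf
import Groth.Agent.DerivedAdj.Devissage
import Groth.Agent.AbSub.TruncFactor
import Groth.Agent.DerivedCoh.Duality.LocalModel
import Groth.Agent.DerivedCoh.PCoh.Pullback
import Groth.Agent.DerivedCoh.PCoh.Perfect

/-!
`RHom` out of pseudo-coherent objects.
-/

universe u

open CategoryTheory CategoryTheory.Limits AlgebraicGeometry HomologicalComplex Pretriangulated

namespace Groth.Misc4.QCohDRHom

open Groth.DerivedCoh.KFlat (T IsKFlat tot totL totR)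
open Groth.DerivedCoh.PCoh (Below Near)
open Groth.Misc4.QCohDPerf Groth.KTheory.Perf

attribute [local instance] HasDerivedCategory.standard

set_option maxHeartbeats 1000000

local notation "up" => ComplexShape.up ℤ

variable {X : Scheme.{u}}

lemma isPerfect_toD {E : CochainComplex X.Modules ℤ} (hE : DCoh.IsStrictlyPerfect E) :
    DCoh.IsPerfect (DCoh.toD X E) :=
  (isPerfect_iff _).2 fun _ => ⟨⊤, trivial, _, rc_isStrictlyPerfect _ hE, ⟨rdQIso _ E⟩⟩

/-- maps out of a triangle whose third object has no maps to the target -/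
theorem bijective_precomp {L : DCoh.D X} (T : Triangle (DCoh.D X)) (hT : T ∈ distTriang _)
    (h₁ : ∀ g : T.obj₃ ⟶ L, g = 0) (h₂ : ∀ g : T.obj₃⟦(-1 : ℤ)⟧ ⟶ L, g = 0) :
    Function.Bijective (fun g : T.obj₂ ⟶ L => T.mor₁ ≫ g) := by
  refine ⟨fun g g' h => ?_, fun g => ?_⟩
  · obtain ⟨k, hk⟩ := Triangle.yoneda_exact₂ T hT (g - g')
      (by rw [Preadditive.comp_sub]; exact sub_eq_zero.2 h)
    rw [h₁ k, comp_zero, sub_eq_zero] at hk
    exact hk
  · obtain ⟨k, hk⟩ := Triangle.yoneda_exact₂ T.invRotate (inv_rot_of_distTriang T hT) g (h₂ _)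
    exact ⟨k, hk.symm⟩

/-- a morphism is an isomorphism on low cohomology, if it is seen as such by objects bounded above -/
theorem isIso_hd_of_bijective {R R' : DCoh.D X} (φ : R ⟶ R') (N : ℤ)
    (h : ∀ S : DCoh.D X, S.IsLE N → Function.Bijective (fun a : S ⟶ R => a ≫ φ)) (i : ℤ)
    (hi : i + 1 ≤ N) : IsIso ((DerivedCategory.homologyFunctor X.Modules i).map φ) := by
  obtain ⟨Z, v, w, hT⟩ := distinguished_cocone_triangle φ
  let t : Triangulated.TStructure (DCoh.D X) := DerivedCategory.TStructure.t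
  have key : ∀ S : DCoh.D X, S.IsLE (N - 1) → ∀ f : S ⟶ Z, f = 0 := fun S hS f => by
    haveI := hS
    have h₁ : f ≫ w = 0 := by
      haveI : (S⟦(-1 : ℤ)⟧).IsLE N := t.isLE_shift S (N - 1) (-1) N (by omega)
      obtain ⟨g, hg⟩ : ∃ g : S⟦(-1 : ℤ)⟧ ⟶ R,
          g⟦(1 : ℤ)⟧' = (shiftNegShift S (1 : ℤ)).hom ≫ f ≫ w :=
        (shiftFunctor (DCoh.D X) (1 : ℤ)).map_surjective _
      have hz : w ≫ φ⟦(1 : ℤ)⟧' = 0 := comp_distTriang_mor_zero₃₁ _ hT
      have hg0 : g ≫ φ = 0 := (shiftFunctor (DCoh.D X) (1 : ℤ)).map_injective (by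
        rw [Functor.map_comp, hg, Functor.map_zero, Category.assoc, Category.assoc, hz, comp_zero,
          comp_zero])
      have hg1 : g = 0 := (h _ inferInstance).1 (hg0.trans (zero_comp).symm)
      rw [hg1, Functor.map_zero] at hg
      exact (cancel_epi _).1 (hg.symm.trans comp_zero.symm)
    obtain ⟨g, hg⟩ := Triangle.coyoneda_exact₃ _ hT f h₁
    haveI : S.IsLE N := t.isLE_of_le S (N - 1) N (by omega)
    obtain ⟨a, ha⟩ := (h S inferInstance).2 g
    subst ha
    rw [hg]
    exact (Category.assoc a φ v).trans ((congrArg (a ≫ ·)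
      (show φ ≫ v = 0 from comp_distTriang_mor_zero₁₂ _ hT)).trans comp_zero)
  have hZ : ∀ j, j ≤ N - 1 → IsZero ((DerivedCategory.homologyFunctor X.Modules j).obj Z) :=
    fun j hj => by
      have hι : ((t.truncLEι (N - 1)).app Z) = 0 :=
        key _ (inferInstanceAs (t.IsLE ((t.truncLE (N - 1)).obj Z) (N - 1))) _
      have := Groth.DerivedAdj.isIso_homologyMap_truncLE Z (N - 1) j hj
      rw [hι, Functor.map_zero] at this
      rw [IsZero.iff_id_eq_zero, ← cancel_epi (0 : (DerivedCategory.homologyFunctor X.Modules j).obj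
        ((t.truncLE (N - 1)).obj Z) ⟶ (DerivedCategory.homologyFunctor X.Modules j).obj Z)]
      simp
  haveI : Epi ((DerivedCategory.homologyFunctor X.Modules i).map φ) :=
    (DerivedCategory.HomologySequence.epi_homologyMap_mor₁_iff _ hT i).2
      ((hZ i (by omega)).eq_of_tgt _ _)
  haveI : Mono ((DerivedCategory.homologyFunctor X.Modules i).map φ) :=
    (DerivedCategory.HomologySequence.mono_homologyMap_mor₁_iff _ hT (i - 1) i (by omega)).2
      ((hZ (i - 1) (by omega)).eq_of_src _ _)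
  exact isIso_of_mono_of_epi _

/-- tensoring with a complex without cohomology in high degrees -/
theorem below_tot {S C : CochainComplex X.Modules ℤ} {a m : ℤ}
    (hS : ∀ i, a ≤ i → IsZero (S.X i)) (hSk : IsKFlat (T X).flip S) (hC : IsKFlat (T X) C)
    (hCb : Below m (DCoh.toD X C)) : Below (a + m - 1) (DCoh.toD X (tot (T X) S C)) := by
  obtain ⟨P, hP, -, h0, ⟨e⟩⟩ := Groth.DerivedCoh.PCoh.exists_flat_rep_of_below hCb
  haveI := Groth.DerivedCoh.KFlat.hasLTensorCx C
  haveI := Groth.DerivedCoh.KFlat.hasLTensorCx P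
  obtain ⟨c⟩ := Groth.DerivedCoh.Duality.nonempty_ltcx_congr hP hC e
  refine Below.of_iso (fun i hi => (Groth.DerivedCoh.KFlat.isZero_hd_toD_iff _ i).2
    (ExactAt.of_isZero ((IsZero.iff_id_eq_zero _).2 (mapBifunctor.hom_ext fun p q h => ?_))))
    ((Groth.DerivedCoh.KFlat.ltcxIso P hP S).symm ≪≫ c.app _ ≪≫
      Groth.DerivedCoh.KFlat.ltcxIso C hC S)
  have h' : p + q = i := h
  refine IsZero.eq_of_src ?_ _ _
  by_cases hp : a ≤ p
  · exact Functor.isZero_iff _ |>.1 ((T X).map_isZero (hS p hp)) _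
  · exact ((T X).obj (S.X p)).map_isZero (h0 q (by omega))

/-- comparing `RHom` out of two complexes linked by a near isomorphism -/
theorem isQCoh_hd_of_near {A K : CochainComplex X.Modules ℤ} (g : A ⟶ K) (hA : IsKFlat (T X) A)
    (hK : IsKFlat (T X) K) {m : ℤ} (hg : Near m (DerivedCategory.Q.map g)) [DCoh.HasLTensorCx K]
    [DCoh.HasRSheafHom K] [DCoh.HasLTensorCx A] [DCoh.HasRSheafHom A] {L : DCoh.D X} {a : ℤ}
    [L.IsGE a] (i : ℤ) (hi : i + m + 2 ≤ a)
    (hq : (DCoh.HD ((DCoh.RSheafHom A).obj L) i).IsQuasicoherent) :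
    (DCoh.HD ((DCoh.RSheafHom K).obj L) i).IsQuasicoherent := by
  let Z := CochainComplex.mappingCone (𝟙 A)
  have hZ : IsKFlat (T X) Z := hA.mappingCone (T X) (𝟙 A) hA
  let S₀ : ShortComplex (CochainComplex X.Modules ℤ) :=
    ShortComplex.mk (biprod.inl : K ⟶ K ⊞ Z) biprod.snd biprod.inl_snd
  let K₁ := K ⊞ Z
  have hK₁ : IsKFlat (T X) K₁ :=
    (Groth.DerivedCoh.KFlat.isKFlat_two_of_three (T X) S₀ fun Y q =>
      (((ShortComplex.Splitting.ofHasBinaryBiproduct K Z).map (eval X.Modules up q)).map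
        ((T X).obj Y)).shortExact).2.1 hK hZ
  have hz : IsZero (DerivedCategory.Q.obj Z) := by
    rw [IsZero.iff_id_eq_zero, ← CategoryTheory.Functor.map_id,
      DerivedCategory.Q_map_eq_of_homotopy _ (CochainComplex.mappingCone.homotopyToZeroOfId A)]
    exact Functor.map_zero _ _ _
  let p : K₁ ⟶ K := biprod.fst
  haveI : IsIso (DerivedCategory.Q.map p) := by
    refine ⟨DerivedCategory.Q.map biprod.inl, ?_, ?_⟩
    · rw [← Functor.map_comp, ← CategoryTheory.Functor.map_id]
      have : DerivedCategory.Q.map (biprod.snd ≫ biprod.inr : K₁ ⟶ K₁) = 0 := by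
        rw [Functor.map_comp, hz.eq_of_tgt (DerivedCategory.Q.map biprod.snd) 0, zero_comp]
      conv_rhs => rw [← biprod.total, Functor.map_add, this, add_zero]
    · rw [← Functor.map_comp, biprod.inl_fst, CategoryTheory.Functor.map_id]
  haveI : QuasiIso p := (DerivedCategory.isIso_Q_map_iff_quasiIso _ p).1 inferInstance
  let g₁ : A ⟶ K₁ := biprod.lift g (CochainComplex.mappingCone.inr (𝟙 A))
  have hg₁ : Near m (DerivedCategory.Q.map g₁) := by
    have : DerivedCategory.Q.map g₁ = DerivedCategory.Q.map g ≫ inv (DerivedCategory.Q.map p) := by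
      rw [IsIso.eq_comp_inv, ← Functor.map_comp, biprod.lift_fst]
    rw [this]
    exact hg.comp (Groth.DerivedCoh.PCoh.near_of_isIso _)
  let r : ∀ q, K₁.X q ⟶ A.X q := fun q =>
    (biprod.snd : K₁ ⟶ Z).f q ≫ (CochainComplex.mappingCone.snd (𝟙 A)).v q q (add_zero q)
  have hr : ∀ q, g₁.f q ≫ r q = 𝟙 _ := fun q => by
    rw [← Category.assoc, ← comp_f, biprod.lift_snd, CochainComplex.mappingCone.inr_f_snd_v]
  haveI : ∀ q, Mono (g₁.f q) := fun q => (show IsSplitMono (g₁.f q) from ⟨⟨r q, hr q⟩⟩).mono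
  haveI : Mono g₁ := HomologicalComplex.mono_of_mono_f _ fun q => inferInstance
  let S : ShortComplex (CochainComplex X.Modules ℤ) :=
    ShortComplex.mk g₁ (cokernel.π g₁) (cokernel.condition g₁)
  have hS : S.ShortExact :=
    ShortComplex.ShortExact.mk' (ShortComplex.exact_of_g_is_cokernel _ (cokernelIsCokernel g₁))
      inferInstance inferInstance
  have hsp : ∀ q, Nonempty (S.map (eval X.Modules up q)).Splitting := fun q => by
    have hSq := hS.map_of_exact (eval X.Modules up q)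
    exact ⟨ShortComplex.Splitting.ofExactOfRetraction _ hSq.exact (r q) (hr q) hSq.epi_g⟩
  have hC : IsKFlat (T X) S.X₃ :=
    (Groth.DerivedCoh.KFlat.isKFlat_two_of_three (T X) S fun Y q =>
      ((hsp q).some.map ((T X).obj Y)).shortExact).1 hA hK₁
  have hCb : Below m (DCoh.toD X S.X₃) :=
    Groth.DerivedCoh.PCoh.below_of_near _ (DerivedCategory.triangleOfSES_distinguished hS) hg₁
  haveI := Groth.DerivedCoh.KFlat.hasLTensorCx K₁
  let cK := Groth.DerivedCoh.Duality.ltcxMapIso hK₁ hK p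
  let adjK : DCoh.LTensorCx K₁ ⊣ DCoh.RSheafHom K := (DCoh.RSheafHomAdj K).ofNatIsoLeft cK.symm
  let adjA := DCoh.RSheafHomAdj A
  letI : Localization.Lifting DerivedCategory.Q (HomologicalComplex.quasiIso X.Modules up)
      (DCoh.tensorCxQ A) (DCoh.LTensorCx A) := ⟨Groth.DerivedCoh.KFlat.ltcxNatIso A hA⟩
  letI : Localization.Lifting DerivedCategory.Q (HomologicalComplex.quasiIso X.Modules up)
      (DCoh.tensorCxQ K₁) (DCoh.LTensorCx K₁) := ⟨Groth.DerivedCoh.KFlat.ltcxNatIso K₁ hK₁⟩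
  let τ : DCoh.LTensorCx A ⟶ DCoh.LTensorCx K₁ :=
    Localization.liftNatTrans DerivedCategory.Q (HomologicalComplex.quasiIso X.Modules up)
      (DCoh.tensorCxQ A) (DCoh.tensorCxQ K₁) _ _
      (Functor.whiskerRight ((DCoh.tensorCx (X := X)).flip.map g₁) DerivedCategory.Q)
  let φ : (DCoh.RSheafHom K).obj L ⟶ (DCoh.RSheafHom A).obj L :=
    adjA.homEquiv _ _ (τ.app _ ≫ adjK.counit.app L)
  have hb : ∀ S' : DCoh.D X, S'.IsLE (i + 1) →
      Function.Bijective (fun b : S' ⟶ (DCoh.RSheafHom K).obj L => b ≫ φ) := fun S' hS' => by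
    haveI := hS'
    have hτ : Function.Bijective (fun b : (DCoh.LTensorCx K₁).obj S' ⟶ L => τ.app S' ≫ b) := by
      have hB : Below (i + 2) S' := fun l hl => DerivedCategory.isZero_of_isLE S' (i + 1) l (by omega)
      obtain ⟨P, -, hPf, hP0, ⟨e⟩⟩ := Groth.DerivedCoh.PCoh.exists_flat_rep_of_below hB
      have hPk : IsKFlat (T X).flip P := by
        haveI : ∀ N, PreservesColimitsOfShape ℕ ((T X).flip.obj N) := fun N =>
          Groth.DerivedCoh.KFlat.preservesColimitsOfShape_tensorBi_flip N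
        exact Groth.DerivedCoh.KFlat.isKFlat_of_flat (T X).flip P (i + 1)
          (fun q hq => hP0 q (by omega))
          (fun q => Groth.DerivedCoh.KFlat.flat_flip_of_isFlat (hPf q))
      have hT := DerivedCategory.triangleOfSES_distinguished
        (Groth.DerivedCoh.KFlat.shortExact_totR (T X) P S fun _ q =>
          ((hsp q).some.map ((T X).obj _)).shortExact)
      have hTb := below_tot hP0 hPk hC hCb
      haveI : (DCoh.toD X (tot (T X) P S.X₃)).IsLE (i + m) := by
        rw [DerivedCategory.isLE_iff]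
        exact fun l hl => hTb l (by omega)
      haveI : ((DCoh.toD X (tot (T X) P S.X₃))⟦(-1 : ℤ)⟧).IsLE (i + m + 1) :=
        DerivedCategory.TStructure.t.isLE_shift _ (i + m) (-1) (i + m + 1) (by omega)
      have hbij := bijective_precomp (L := L) _ hT
        (fun g => Groth.TruncFactor.zero_of_isLE_of_isGE g (i + m) a (by omega)
          ‹(DCoh.toD X (tot (T X) P S.X₃)).IsLE (i + m)› inferInstance)
        (fun g => Groth.TruncFactor.zero_of_isLE_of_isGE g (i + m + 1) a (by omega)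
          ‹((DCoh.toD X (tot (T X) P S.X₃))⟦(-1 : ℤ)⟧).IsLE (i + m + 1)› inferInstance)
      let eA : (DCoh.LTensorCx A).obj S' ≅ DCoh.toD X (tot (T X) P A) :=
        (DCoh.LTensorCx A).mapIso e.symm ≪≫ Groth.DerivedCoh.KFlat.ltcxIso A hA P
      let eK : (DCoh.LTensorCx K₁).obj S' ≅ DCoh.toD X (tot (T X) P K₁) :=
        (DCoh.LTensorCx K₁).mapIso e.symm ≪≫ Groth.DerivedCoh.KFlat.ltcxIso K₁ hK₁ P
      have hsq : τ.app S' ≫ eK.hom = eA.hom ≫ DerivedCategory.Q.map ((totR (T X) P).map g₁) := by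
        have := τ.naturality e.inv
        simp only [eA, eK, Iso.trans_hom, Functor.mapIso_hom, Iso.symm_hom, Category.assoc]
        rw [← reassoc_of% this]
        refine congrArg (_ ≫ ·) ?_
        rw [show τ.app (DCoh.toD X P) = _ from Localization.liftNatTrans_app _ _ _ _ _ _ _ P]
        change ((Groth.DerivedCoh.KFlat.ltcxNatIso A hA).hom.app P ≫
            DerivedCategory.Q.map ((totR (T X) P).map g₁) ≫
            (Groth.DerivedCoh.KFlat.ltcxNatIso K₁ hK₁).inv.app P) ≫
            (Groth.DerivedCoh.KFlat.ltcxNatIso K₁ hK₁).hom.app P =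
          (Groth.DerivedCoh.KFlat.ltcxNatIso A hA).hom.app P ≫
            DerivedCategory.Q.map ((totR (T X) P).map g₁)
        refine (Category.assoc _ _ _).trans (congrArg
          (fun z => (Groth.DerivedCoh.KFlat.ltcxNatIso A hA).hom.app P ≫ z) ?_)
        exact (Category.assoc _ _ _).trans ((congrArg
          (fun z => DerivedCategory.Q.map ((totR (T X) P).map g₁) ≫ z)
          ((Groth.DerivedCoh.KFlat.ltcxNatIso K₁ hK₁).inv_hom_id_app P)).trans (Category.comp_id _))
      have : (fun b : (DCoh.LTensorCx K₁).obj S' ⟶ L => τ.app S' ≫ b) =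
          Iso.homFromEquiv eA.symm ∘ (fun b => DerivedCategory.Q.map ((totR (T X) P).map g₁) ≫ b) ∘
            Iso.homFromEquiv eK := by
        funext b
        change τ.app S' ≫ b = eA.hom ≫ DerivedCategory.Q.map ((totR (T X) P).map g₁) ≫ eK.inv ≫ b
        exact (congrArg (τ.app S' ≫ ·) (eK.hom_inv_id_assoc b)).symm.trans
          ((Category.assoc _ _ _).symm.trans ((congrArg (· ≫ eK.inv ≫ b) hsq).trans (Category.assoc _ _ _)))
      rw [this]
      exact eA.symm.homFromEquiv.bijective.comp (hbij.comp eK.homFromEquiv.bijective)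
    have : (fun b : S' ⟶ (DCoh.RSheafHom K).obj L => b ≫ φ) =
        adjA.homEquiv S' L ∘ (fun b => τ.app S' ≫ b) ∘ (adjK.homEquiv S' L).symm := by
      funext b
      refine (adjA.homEquiv_naturality_left b _).symm.trans (congrArg (adjA.homEquiv S' L) ?_)
      change _ = τ.app S' ≫ (adjK.homEquiv S' L).symm b
      rw [Adjunction.homEquiv_counit, ← τ.naturality_assoc]
    rw [this, Equiv.comp_bijective, Equiv.bijective_comp]
    exact hτ
  haveI := isIso_hd_of_bijective φ (i + 1) hb i le_rfl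
  exact (Groth.QCohMod.isQCoh_iff_of_iso
    (asIso ((DerivedCategory.homologyFunctor X.Modules i).map φ))).2 hq

/-- `RHom(K, L)` has quasi-coherent cohomology for pseudo-coherent `K` and bounded below `L` -/
theorem isQCohD_rhom_pcoh (K : CochainComplex X.Modules ℤ)
    (hKp : ∀ m : ℤ, DCoh.IsPseudoCoherentD m (DCoh.toD X K))
    [DCoh.HasLTensorCx K] [DCoh.HasRSheafHom K] {L : DCoh.D X} (hL : DCoh.IsQCohD L) (a : ℤ)
    [L.IsGE a] : DCoh.IsQCohD ((DCoh.RSheafHom K).obj L) := by
  let K₀ := (Groth.DerivedCoh.KFlat.flatResolution X).obj K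
  let π := (Groth.DerivedCoh.KFlat.flatResolutionAug X).app K
  haveI : QuasiIso π := Groth.DerivedCoh.KFlat.flatResolution_quasiIso K
  haveI : IsIso (DerivedCategory.Q.map π) :=
    (DerivedCategory.isIso_Q_map_iff_quasiIso _ _).2 inferInstance
  have hK₀ := Groth.DerivedCoh.KFlat.flatResolution_isKFlat K
  have hKf := Groth.DerivedCoh.KFlat.flatResolution_isFlat K
  haveI := Groth.DerivedCoh.KFlat.hasLTensorCx K₀
  haveI := Groth.Misc4.HasRSheafHom.hasRSheafHom K₀ hK₀ hKf
  haveI : ∀ C, IsIso ((Functor.whiskerLeft (Groth.DerivedCoh.KFlat.flatResolution X)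
      (Functor.whiskerRight ((DCoh.tensorCx (X := X)).flip.map π) DerivedCategory.Q)).app C) := fun C => by
    haveI : QuasiIso ((totR (T X) ((Groth.DerivedCoh.KFlat.flatResolution X).obj C)).map π) :=
      Groth.DerivedCoh.KFlat.quasiIso_totR (T X)
        (Groth.DerivedCoh.KFlat.flatResolution_isKFlat_flip C) π
    exact (DerivedCategory.isIso_Q_map_iff_quasiIso _ _).2 this
  haveI := NatIso.isIso_of_isIso_app (Functor.whiskerLeft (Groth.DerivedCoh.KFlat.flatResolution X)
    (Functor.whiskerRight ((DCoh.tensorCx (X := X)).flip.map π) DerivedCategory.Q))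
  let c : DCoh.LTensorCx K₀ ≅ DCoh.LTensorCx K :=
    Localization.liftNatIso DerivedCategory.Q (HomologicalComplex.quasiIso X.Modules up)
      (DerivedCategory.Q ⋙ DCoh.LTensorCx K₀) (DerivedCategory.Q ⋙ DCoh.LTensorCx K) _ _
      (Groth.DerivedCoh.KFlat.ltcxResIso K₀ ≪≫
        asIso (Functor.whiskerLeft (Groth.DerivedCoh.KFlat.flatResolution X)
          (Functor.whiskerRight ((DCoh.tensorCx (X := X)).flip.map π) DerivedCategory.Q)) ≪≫
        (Groth.DerivedCoh.KFlat.ltcxResIso K).symm)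
  refine isQCohD_of_iso ((((DCoh.RSheafHomAdj K).ofNatIsoLeft c.symm).rightAdjointUniq
    (DCoh.RSheafHomAdj K₀)).app L).symm fun i => ?_
  refine Groth.QCohMod.isQCoh_of_forall_exists _ fun x => ?_
  obtain ⟨V, hx, E, α, hE, hα⟩ := (Groth.DerivedCoh.PCoh.isPseudoCoherentD_iff _ _).1
    (Groth.DerivedCoh.PCoh.isPseudoCoherentD_of_iso (asIso (DerivedCategory.Q.map π)).symm
      (hKp (a - i - 2))) x
  refine ⟨V, hx, ?_⟩
  let K' := (Rc V.ι).obj K₀
  let α' : DCoh.toD _ E ⟶ DCoh.toD _ K' := α ≫ (rdQIso V.ι K₀).hom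
  obtain ⟨A, s, hs, g, hfac⟩ := DerivedCategory.right_fac α'
  haveI := hs
  have hsg : DerivedCategory.Q.map g = DerivedCategory.Q.map s ≫ α' := by
    rw [hfac, IsIso.hom_inv_id_assoc]
  let A₀ := (Groth.DerivedCoh.KFlat.flatResolution _).obj A
  let ρ := (Groth.DerivedCoh.KFlat.flatResolutionAug _).app A
  haveI : IsIso (DerivedCategory.Q.map ρ) := (DerivedCategory.isIso_Q_map_iff_quasiIso _ ρ).2
    (Groth.DerivedCoh.KFlat.flatResolution_quasiIso A)
  have hA₀ := Groth.DerivedCoh.KFlat.flatResolution_isKFlat A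
  have hK' : IsKFlat (T _) K' := Groth.DerivedCoh.PCoh.isKFlat_rc V.ι hK₀
  haveI := Groth.DerivedCoh.KFlat.hasLTensorCx A₀
  haveI := Groth.Misc4.HasRSheafHom.hasRSheafHom A₀ hA₀ (Groth.DerivedCoh.KFlat.flatResolution_isFlat A)
  haveI := Groth.DerivedCoh.KFlat.hasLTensorCx K'
  haveI := Groth.Misc4.HasRSheafHom.hasRSheafHom K' hK'
    (fun q => Groth.DerivedCoh.PCoh.isFlat_restrict V.ι (hKf q))
  let g₀ : A₀ ⟶ K' := ρ ≫ g
  have hg : Near (a - i - 2) (DerivedCategory.Q.map g₀) := by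
    rw [Functor.map_comp, hsg]
    exact (Groth.DerivedCoh.PCoh.near_of_isIso _).comp ((Groth.DerivedCoh.PCoh.near_of_isIso _).comp
      (hα.comp (Groth.DerivedCoh.PCoh.near_of_isIso _)))
  haveI : ((Rd V.ι).obj L).IsGE a := by
    rw [DerivedCategory.isGE_iff]
    intro l hl
    obtain ⟨d⟩ := nonempty_hdRd V.ι L l
    exact ((Scheme.Modules.restrictFunctor V.ι).map_isZero
      (DerivedCategory.isZero_of_isGE L a l hl)).of_iso d
  have hq := isQCoh_hd_of_near g₀ hA₀ hK' hg (L := (Rd V.ι).obj L) (a := a) i (by omega)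
    (isQCohD_rhom A₀ (isPerfect_of_iso (asIso (DerivedCategory.Q.map ρ) ≪≫
      asIso (DerivedCategory.Q.map s)).symm (isPerfect_toD hE)) (isQCohD_restrict V.ι hL) i)
  obtain ⟨d⟩ := nonempty_hdRd V.ι ((DCoh.RSheafHom K₀).obj L) i
  exact (Groth.QCohMod.isQCoh_iff_of_iso d).1 ((Groth.QCohMod.isQCoh_iff_of_iso
    ((DerivedCategory.homologyFunctor _ i).mapIso
      ((Groth.DerivedCoh.ExtZero.restrRHomIso V.ι K₀).app L))).2 hq)

end Groth.Misc4.QCohDRHom
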