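import Groth.Agent.Misc4.DerivedFF
import Mathlib.Algebra.Homology.DerivedCategory.Plus

/-! Full faithfulness on bounded below derived categories of composites of exact functors. -/

open CategoryTheory CategoryTheory.Category CategoryTheory.Limits

namespace Groth.Misc4.DerivedComp

universe w₁ w₂ w₃ v u₁ u₂ u₃

variable {A : Type u₁} [Category.{v} A] [Abelian A] [HasDerivedCategory.{w₁} A]
  {B : Type u₂} [Category.{v} B] [Abelian B] [HasDerivedCategory.{w₂} B]
  {C : Type u₃} [Category.{v} C] [Abelian C] [HasDerivedCategory.{w₃} C]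

/-- Full faithfulness of the derived functor on bounded below objects. -/
def Bij (F : A ⥤ B) [F.Additive] [PreservesFiniteLimits F] [PreservesFiniteColimits F] : Prop :=
  ∀ K J : DerivedCategory.Plus A, Function.Bijective fun g : K.obj ⟶ J.obj => F.mapDerivedCategory.map g

variable (F : A ⥤ B) [F.Additive] [PreservesFiniteLimits F] [PreservesFiniteColimits F]
  (G : B ⥤ C) [G.Additive] [PreservesFiniteLimits G] [PreservesFiniteColimits G]
  (H : A ⥤ C) [H.Additive] [PreservesFiniteLimits H] [PreservesFiniteColimits H]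

/-- The composite of derived exact functors. -/
noncomputable def compIso (e : F ⋙ G ≅ H) :
    F.mapDerivedCategory ⋙ G.mapDerivedCategory ≅ H.mapDerivedCategory :=
  let τ : F.mapHomologicalComplex (ComplexShape.up ℤ) ⋙ G.mapHomologicalComplex (ComplexShape.up ℤ) ≅
      H.mapHomologicalComplex (ComplexShape.up ℤ) :=
    NatIso.ofComponents (fun K => HomologicalComplex.Hom.isoOfComponents (fun i => e.app (K.X i))
      (fun i j _ => (e.hom.naturality (K.d i j)).symm)) (fun f => by ext i; exact e.hom.naturality (f.f i))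
  letI : Localization.Lifting DerivedCategory.Q (DerivedFF.W A)
      ((F.mapHomologicalComplex (ComplexShape.up ℤ) ⋙ G.mapHomologicalComplex (ComplexShape.up ℤ)) ⋙
        DerivedCategory.Q) (F.mapDerivedCategory ⋙ G.mapDerivedCategory) :=
    ⟨(Functor.associator _ _ _).symm ≪≫ Functor.isoWhiskerRight F.mapDerivedCategoryFactors _ ≪≫
      Functor.associator _ _ _ ≪≫ Functor.isoWhiskerLeft _ G.mapDerivedCategoryFactors ≪≫
      (Functor.associator _ _ _).symm⟩
  Localization.liftNatIso DerivedCategory.Q (DerivedFF.W A)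
    ((F.mapHomologicalComplex (ComplexShape.up ℤ) ⋙ G.mapHomologicalComplex (ComplexShape.up ℤ)) ⋙
      DerivedCategory.Q)
    (H.mapHomologicalComplex (ComplexShape.up ℤ) ⋙ DerivedCategory.Q) _ _ (Functor.isoWhiskerRight τ _)

/-- A derived exact functor preserves boundedness below. -/
lemma exists_plus (K : DerivedCategory.Plus A) :
    ∃ K' : DerivedCategory.Plus B, K'.obj = F.mapDerivedCategory.obj K.obj := by
  obtain ⟨K, n, hn⟩ := K
  have : K.IsGE n := hn
  obtain ⟨L, _, ⟨e⟩⟩ := DerivedCategory.exists_iso_Q_obj_of_isGE K n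
  refine ⟨⟨F.mapDerivedCategory.obj K, n, ?_⟩, rfl⟩
  have : DerivedCategory.TStructure.t.IsGE
      ((F.mapHomologicalComplex (ComplexShape.up ℤ) ⋙ DerivedCategory.Q).obj L) n :=
    inferInstanceAs (DerivedCategory.IsGE (DerivedCategory.Q.obj ((F.mapHomologicalComplex (ComplexShape.up ℤ)).obj L)) n)
  exact DerivedCategory.TStructure.t.isGE_of_iso
    ((F.mapDerivedCategory.mapIso e ≪≫ F.mapDerivedCategoryFactors.app L).symm) n

lemma bij_comp (e : F ⋙ G ≅ H) (hF : Bij F) (hG : Bij G) : Bij H := by
  intro K J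
  obtain ⟨K', hK⟩ := exists_plus F K
  obtain ⟨J', hJ⟩ := exists_plus F J
  have h := hG K' J'
  rw [hK, hJ] at h
  have h2 : Function.Bijective fun g : K.obj ⟶ J.obj => G.mapDerivedCategory.map (F.mapDerivedCategory.map g) :=
    h.comp (hF K J)
  rw [← Function.Bijective.of_comp_iff'
    (Iso.homCongr ((compIso F G H e).app K.obj) ((compIso F G H e).app J.obj)).bijective] at h2
  convert h2 using 1
  funext g
  show _ = ((compIso F G H e).app K.obj).inv ≫ (F.mapDerivedCategory ⋙ G.mapDerivedCategory).map g ≫ _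
  exact ((Iso.inv_comp_eq ((compIso F G H e).app K.obj)).2 ((compIso F G H e).hom.naturality g)).symm

lemma bij_of_comp (e : F ⋙ G ≅ H) (hG : Bij G) (hH : Bij H) : Bij F := by
  intro K J
  obtain ⟨K', hK⟩ := exists_plus F K
  obtain ⟨J', hJ⟩ := exists_plus F J
  have h := hG K' J'
  rw [hK, hJ] at h
  rw [← Function.Bijective.of_comp_iff' h,
    ← Function.Bijective.of_comp_iff' (Iso.homCongr ((compIso F G H e).app K.obj) ((compIso F G H e).app J.obj)).bijective]
  convert hH K J using 1
  funext g
  show ((compIso F G H e).app K.obj).inv ≫ (F.mapDerivedCategory ⋙ G.mapDerivedCategory).map g ≫ _ = _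
  exact (Iso.inv_comp_eq ((compIso F G H e).app K.obj)).2 ((compIso F G H e).hom.naturality g)

lemma bij_of_inverse (G' : B ⥤ A) [G'.Additive] [PreservesFiniteLimits G'] [PreservesFiniteColimits G']
    (c : F ⋙ G' ≅ 𝟭 A) (d : G' ⋙ F ≅ 𝟭 B) : Bij F := fun K J =>
  DerivedFF.bijective_map F G' (𝟭 B) c (𝟙 _) d.hom (fun _ => inferInstance) (fun _ => inferInstance) K.obj J.obj

end Groth.Misc4.DerivedComp
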