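import Mathlib.Algebra.Homology.DerivedCategory.ExactFunctor

/-! A criterion for full faithfulness of a derived exact functor, from a retraction up to homotopy. -/

open CategoryTheory CategoryTheory.Category CategoryTheory.Limits

namespace Groth.Misc4.DerivedFF

universe w₁ w₂ v₁ v₂ u₁ u₂

variable {A : Type u₁} [Category.{v₁} A] [Abelian A] [HasDerivedCategory.{w₁} A]
  {B : Type u₂} [Category.{v₂} B] [Abelian B] [HasDerivedCategory.{w₂} B]
  (P : A ⥤ B) [P.Additive] [PreservesFiniteLimits P] [PreservesFiniteColimits P]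
  (R : B ⥤ A) [R.Additive] [PreservesFiniteLimits R] [PreservesFiniteColimits R]
  (T : B ⥤ B) [T.Additive] [PreservesFiniteLimits T] [PreservesFiniteColimits T]

abbrev W (A : Type u₁) [Category.{v₁} A] [Abelian A] := HomologicalComplex.quasiIso A (ComplexShape.up ℤ)

/-- `a` on complexes. -/
noncomputable def mapA (a : 𝟭 B ⟶ T) :
    𝟭 (CochainComplex B ℤ) ⟶ T.mapHomologicalComplex (ComplexShape.up ℤ) where
  app K := { f := fun i => a.app (K.X i), comm' := fun i j _ => (a.naturality (K.d i j)).symm }
  naturality K L f := by ext i; exact a.naturality (f.f i)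

/-- `b` on complexes. -/
noncomputable def mapB (b : R ⋙ P ⟶ T) :
    R.mapHomologicalComplex (ComplexShape.up ℤ) ⋙ P.mapHomologicalComplex (ComplexShape.up ℤ) ⟶
      T.mapHomologicalComplex (ComplexShape.up ℤ) where
  app K := { f := fun i => b.app (K.X i), comm' := fun i j _ => (b.naturality (K.d i j)).symm }
  naturality K L f := by ext i; exact b.naturality (f.f i)

/-- `c` on complexes. -/
noncomputable def mapC (c : P ⋙ R ≅ 𝟭 A) :
    P.mapHomologicalComplex (ComplexShape.up ℤ) ⋙ R.mapHomologicalComplex (ComplexShape.up ℤ) ≅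
      𝟭 (CochainComplex A ℤ) :=
  NatIso.ofComponents (fun K => HomologicalComplex.Hom.isoOfComponents (fun i => c.app (K.X i))
    (fun i j _ => (c.hom.naturality (K.d i j)).symm)) (fun f => by ext i; exact c.hom.naturality (f.f i))

noncomputable instance liftingId :
    Localization.Lifting DerivedCategory.Q (W A) DerivedCategory.Q (𝟭 (DerivedCategory A)) :=
  ⟨Functor.rightUnitor _⟩

noncomputable instance liftingId' :
    Localization.Lifting DerivedCategory.Q (W A) (𝟭 (CochainComplex A ℤ) ⋙ DerivedCategory.Q)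
      (𝟭 (DerivedCategory A)) :=
  ⟨Functor.rightUnitor _ ≪≫ (Functor.leftUnitor _).symm⟩

section

variable {A' : Type u₁} [Category.{v₁} A'] [Abelian A'] [HasDerivedCategory.{w₁} A']
  (F : A ⥤ B) [F.Additive] [PreservesFiniteLimits F] [PreservesFiniteColimits F]
  (G : B ⥤ A') [G.Additive] [PreservesFiniteLimits G] [PreservesFiniteColimits G]

/-- Composites of derived exact functors lift composites. -/
noncomputable instance liftingComp :
    Localization.Lifting DerivedCategory.Q (W A)
      ((F.mapHomologicalComplex (ComplexShape.up ℤ) ⋙ G.mapHomologicalComplex (ComplexShape.up ℤ)) ⋙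
        DerivedCategory.Q)
      (F.mapDerivedCategory ⋙ G.mapDerivedCategory) :=
  ⟨(Functor.associator _ _ _).symm ≪≫ Functor.isoWhiskerRight F.mapDerivedCategoryFactors _ ≪≫
    Functor.associator _ _ _ ≪≫ Functor.isoWhiskerLeft _ G.mapDerivedCategoryFactors ≪≫
    (Functor.associator _ _ _).symm⟩

end

/-- Full faithfulness of a derived exact functor `P` having an exact retraction `R`, given a functor `T`
receiving transformations from the identity and from `R ⋙ P` which are invertible on the image of `P`. -/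
theorem bijective_map (c : P ⋙ R ≅ 𝟭 A) (a : 𝟭 B ⟶ T) (b : R ⋙ P ⟶ T)
    (ha : ∀ X, IsIso (a.app (P.obj X))) (hb : ∀ X, IsIso (b.app (P.obj X)))
    (K L : DerivedCategory A) :
    Function.Bijective fun g : K ⟶ L => P.mapDerivedCategory.map g := by
  let c' : P.mapDerivedCategory ⋙ R.mapDerivedCategory ≅ 𝟭 (DerivedCategory A) :=
    Localization.liftNatIso DerivedCategory.Q (W A)
      ((P.mapHomologicalComplex (ComplexShape.up ℤ) ⋙ R.mapHomologicalComplex (ComplexShape.up ℤ)) ⋙
        DerivedCategory.Q)
      (𝟭 (CochainComplex A ℤ) ⋙ DerivedCategory.Q) _ _ (Functor.isoWhiskerRight (mapC P R c) _)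
  let a' : 𝟭 (DerivedCategory B) ⟶ T.mapDerivedCategory :=
    Localization.liftNatTrans DerivedCategory.Q (W B)
      (𝟭 (CochainComplex B ℤ) ⋙ DerivedCategory.Q)
      (T.mapHomologicalComplex (ComplexShape.up ℤ) ⋙ DerivedCategory.Q) _ _
      (Functor.whiskerRight (mapA T a) _)
  let b' : R.mapDerivedCategory ⋙ P.mapDerivedCategory ⟶ T.mapDerivedCategory :=
    Localization.liftNatTrans DerivedCategory.Q (W B)
      ((R.mapHomologicalComplex (ComplexShape.up ℤ) ⋙ P.mapHomologicalComplex (ComplexShape.up ℤ)) ⋙
        DerivedCategory.Q)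
      (T.mapHomologicalComplex (ComplexShape.up ℤ) ⋙ DerivedCategory.Q) _ _
      (Functor.whiskerRight (mapB P R T b) _)
  have haQ : ∀ X : DerivedCategory A, IsIso (a'.app (P.mapDerivedCategory.obj X)) := fun X => by
    obtain ⟨K, ⟨e⟩⟩ : ∃ K, Nonempty (DerivedCategory.Q.obj K ≅ X) :=
      ⟨_, ⟨DerivedCategory.Q.objObjPreimageIso X⟩⟩
    let e₁ : P.mapDerivedCategory.obj (DerivedCategory.Q.obj K) ≅
        DerivedCategory.Q.obj ((P.mapHomologicalComplex (ComplexShape.up ℤ)).obj K) :=
      P.mapDerivedCategoryFactors.app K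
    rw [← NatTrans.isIso_app_iff_of_iso a' (P.mapDerivedCategory.mapIso e),
      NatTrans.isIso_app_iff_of_iso a' e₁, Localization.liftNatTrans_app]
    have : IsIso ((mapA T a).app ((P.mapHomologicalComplex (ComplexShape.up ℤ)).obj K)) := by
      have : ∀ i, IsIso (((mapA T a).app ((P.mapHomologicalComplex (ComplexShape.up ℤ)).obj K)).f i) :=
        fun i => ha (K.X i)
      exact HomologicalComplex.Hom.isIso_of_components _
    dsimp
    infer_instance
  have hbQ : ∀ X : DerivedCategory A, IsIso (b'.app (P.mapDerivedCategory.obj X)) := fun X => by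
    obtain ⟨K, ⟨e⟩⟩ : ∃ K, Nonempty (DerivedCategory.Q.obj K ≅ X) :=
      ⟨_, ⟨DerivedCategory.Q.objObjPreimageIso X⟩⟩
    let e₁ : P.mapDerivedCategory.obj (DerivedCategory.Q.obj K) ≅
        DerivedCategory.Q.obj ((P.mapHomologicalComplex (ComplexShape.up ℤ)).obj K) :=
      P.mapDerivedCategoryFactors.app K
    rw [← NatTrans.isIso_app_iff_of_iso b' (P.mapDerivedCategory.mapIso e),
      NatTrans.isIso_app_iff_of_iso b' e₁, Localization.liftNatTrans_app]
    have : IsIso ((mapB P R T b).app ((P.mapHomologicalComplex (ComplexShape.up ℤ)).obj K)) := by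
      have : ∀ i, IsIso (((mapB P R T b).app ((P.mapHomologicalComplex (ComplexShape.up ℤ)).obj K)).f i) :=
        fun i => hb (K.X i)
      exact HomologicalComplex.Hom.isIso_of_components _
    dsimp
    infer_instance
  constructor
  · intro g h hgh
    have := congrArg R.mapDerivedCategory.map hgh
    rw [← cancel_epi (c'.hom.app K)]
    exact (c'.hom.naturality g).symm.trans ((congrArg (· ≫ c'.hom.app L) this).trans (c'.hom.naturality h))
  · intro φ
    refine ⟨c'.inv.app K ≫ R.mapDerivedCategory.map φ ≫ c'.hom.app L, ?_⟩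
    have := haQ
    have := hbQ
    let θ : ∀ X, P.mapDerivedCategory.obj X ⟶ P.mapDerivedCategory.obj X := fun X =>
      P.mapDerivedCategory.map (c'.inv.app X) ≫ b'.app (P.mapDerivedCategory.obj X) ≫
        inv (a'.app (P.mapDerivedCategory.obj X))
    have : ∀ X, IsIso (θ X) := fun X => inferInstance
    set g := c'.inv.app K ≫ R.mapDerivedCategory.map φ ≫ c'.hom.app L with hg
    have h1 : θ K ≫ φ = P.mapDerivedCategory.map g ≫ θ L := by
      have hφa := a'.naturality φ
      have hφb := b'.naturality φ
      dsimp at hφa hφb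
      simp only [θ, hg, assoc, ← Functor.map_comp_assoc, Iso.hom_inv_id_app]
      simp only [Functor.map_comp, assoc]
      erw [CategoryTheory.Functor.map_id, id_comp]
      rw [reassoc_of% hφb, show T.mapDerivedCategory.map φ ≫ inv (a'.app (P.mapDerivedCategory.obj L)) =
        inv (a'.app (P.mapDerivedCategory.obj K)) ≫ φ by rw [IsIso.eq_inv_comp, ← reassoc_of% hφa, IsIso.hom_inv_id, comp_id]]
    have h2 : P.mapDerivedCategory.map g ≫ θ L = θ K ≫ P.mapDerivedCategory.map g := by
      have hga := a'.naturality (P.mapDerivedCategory.map g)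
      have hgb := b'.naturality (P.mapDerivedCategory.map g)
      dsimp at hga hgb
      have hgc := c'.inv.naturality g
      dsimp at hgc
      simp only [θ, assoc]
      rw [← P.mapDerivedCategory.map_comp_assoc, hgc, P.mapDerivedCategory.map_comp_assoc, reassoc_of% hgb]
      rw [show T.mapDerivedCategory.map (P.mapDerivedCategory.map g) ≫ inv (a'.app (P.mapDerivedCategory.obj L)) =
        inv (a'.app (P.mapDerivedCategory.obj K)) ≫ P.mapDerivedCategory.map g by
          rw [IsIso.eq_inv_comp, ← reassoc_of% hga, IsIso.hom_inv_id, comp_id]]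
    exact ((cancel_epi (θ K)).1 (h1.trans h2)).symm

end Groth.Misc4.DerivedFF
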