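import Groth.Agent.Misc4.QCoprod
import Groth.Agent.QCohMod.Category
import Groth.Agent.DerivedCoh.KFlat.LTensorGen
import Mathlib.Algebra.Category.ModuleCat.Colimits

/-!
Cohomology sheaves of direct sums.
-/

universe w v u

open CategoryTheory CategoryTheory.Limits AlgebraicGeometry HomologicalComplex

namespace Groth.Misc4.QCohDSum

attribute [local instance] HasDerivedCategory.standard

local notation "up" => ComplexShape.up ℤ

variable {A : Type u} [Category.{v} A] [Abelian A] [IsGrothendieckAbelian.{v} A]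

/-- the complex of families -/
noncomputable def famCx {ι : Type v} (C : ι → CochainComplex A ℤ) :
    CochainComplex (Discrete ι ⥤ A) ℤ where
  X n := Discrete.functor fun i => (C i).X n
  d n m := Discrete.natTrans fun i => (C i.as).d n m
  shape n m h := by ext i; exact (C i.as).shape n m h
  d_comp_d' n m k _ _ := by ext i; exact (C i.as).d_comp_d n m k

/-- homology of a direct sum is the direct sum of homologies -/
theorem exists_homology_sigma {ι : Type v} (C : ι → CochainComplex A ℤ) (n : ℤ) :
    ∃ H : Discrete ι ⥤ A, (∀ i, Nonempty (H.obj ⟨i⟩ ≅ (C i).homology n)) ∧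
      Nonempty ((∐ C).homology n ≅ colimit H) := by
  haveI : HasExactColimitsOfShape (Discrete ι) A := inferInstance
  let K := famCx C
  refine ⟨K.homology n, fun i => ⟨?_⟩, ⟨?_⟩⟩
  · let E := (evaluation (Discrete ι) A).obj ⟨i⟩
    refine ((K.sc n).mapHomologyIso E).symm ≪≫ ShortComplex.homologyMapIso ?_
    exact ShortComplex.isoMk (Iso.refl _) (Iso.refl _) (Iso.refl _)
      ((Category.id_comp _).trans (Category.comp_id _).symm)
      ((Category.id_comp _).trans (Category.comp_id _).symm)
  · let c : ∀ m, (∐ C).X m ≅ colimit (K.X m) := fun m =>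
      (isColimitOfPreserves (eval A up m) (colimit.isColimit (Discrete.functor C))).coconePointsIsoOfNatIso
        (colimit.isColimit _) (Discrete.natIso fun i => Iso.refl _)
    have hc : ∀ m i, (Sigma.ι C i).f m ≫ (c m).hom = colimit.ι (K.X m) ⟨i⟩ := fun m i => by
      exact (IsColimit.comp_coconePointsIsoOfNatIso_hom
        (isColimitOfPreserves (eval A up m) (colimit.isColimit (Discrete.functor C)))
        (colimit.isColimit (K.X m)) (Discrete.natIso fun i => Iso.refl _) ⟨i⟩).trans (Category.id_comp _)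
    have hd : ∀ p q, (c p).hom ≫ colimMap (K.d p q) = (∐ C).d p q ≫ (c q).hom := fun p q => by
      refine (isColimitOfPreserves (eval A up p) (colimit.isColimit (Discrete.functor C))).hom_ext fun ⟨i⟩ => ?_
      change (Sigma.ι C i).f p ≫ _ = (Sigma.ι C i).f p ≫ _
      rw [reassoc_of% (hc p i), ← Category.assoc ((Sigma.ι C i).f p), (Sigma.ι C i).comm, Category.assoc, hc]
      exact ι_colimMap (K.d p q) ⟨i⟩
    exact ShortComplex.homologyMapIso (S₂ := (K.sc n).map colim)
      (ShortComplex.isoMk (c _) (c _) (c _) (hd _ _) (hd _ _)) ≪≫ (K.sc n).mapHomologyIso colim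

theorem isQCohD_sigma (X : Scheme.{u}) {ι : Type u} (K : ι → DCoh.D X) (hK : ∀ i, DCoh.IsQCohD (K i))
    [HasCoproduct K] : DCoh.IsQCohD (∐ K) := by
  intro n
  let C := fun i => DerivedCategory.Q.objPreimage (K i)
  let e : ∀ i, DerivedCategory.Q.obj (C i) ≅ K i := fun i => DerivedCategory.Q.objObjPreimageIso (K i)
  obtain ⟨hQ⟩ := Groth.Misc4.QCoprod.nonempty_isColimit C
  let s : DerivedCategory.Q.obj (∐ C) ≅ ∐ K :=
    IsColimit.coconePointsIsoOfNatIso hQ (colimit.isColimit _) (Discrete.natIso fun i => e i.as)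
  obtain ⟨H, hH, ⟨σ⟩⟩ := exists_homology_sigma C n
  haveI : ∀ j, (H.obj j).IsQuasicoherent := fun ⟨i⟩ => by
    have h : Coh.IsQCoh (DCoh.HD (K i) n) := hK i n
    exact (Groth.QCohMod.isQCoh_iff_of_iso ((hH i).some ≪≫
      ((DerivedCategory.homologyFunctorFactors X.Modules n).app (C i)).symm ≪≫
      (DerivedCategory.homologyFunctor X.Modules n).mapIso (e i))).2 h
  have := Groth.QCohMod.isQCoh_of_isColimit H _ (colimit.isColimit H)
  exact (Groth.QCohMod.isQCoh_iff_of_iso ((DerivedCategory.homologyFunctor X.Modules n).mapIso s.symm ≪≫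
    (DerivedCategory.homologyFunctorFactors X.Modules n).app _ ≪≫ σ)).2 this

end Groth.Misc4.QCohDSum
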