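import Groth.Agent.DerivedCoh.KFlat.RpushComp
import Groth.Agent.DerivedCoh.ExtZero.Basic
import Groth.Agent.CohFin.BaseLocal
import Groth.Agent.SiteCohomology.ShriekExact
import Groth.Prelude.Def_DCoh3
import Groth.Prelude.Def_CxOX

/-!
Derived direct images commute with restriction to open subschemes and with derived global sections.
-/

universe u w v v'

open CategoryTheory CategoryTheory.Limits AlgebraicGeometry HomologicalComplex

namespace Groth.Misc4.PushRestrict

open Groth.DerivedCoh.KFlat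

attribute [local instance] HasDerivedCategory.standard

set_option maxHeartbeats 1000000

local notation "up" => ComplexShape.up ℤ

variable {X Y : Scheme.{u}}

section Gen

variable {B : Type v} [Category.{v'} B] [Abelian B] [HasDerivedCategory.{w} B]
  (F : X.Modules ⥤ B) [F.Additive]

/-- the localization of complexes -/
noncomputable abbrev LB (B : Type v) [Category.{v'} B] [Abelian B] [HasDerivedCategory.{w} B] :
    CochainComplex B ℤ ⥤ DerivedCategory B :=
  HomotopyCategory.quotient B up ⋙ DerivedCategory.Qh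

theorem hasRightDerived :
    (F.mapHomotopyCategory up ⋙ DerivedCategory.Qh (C := B)).HasRightDerivedFunctor
      (HomotopyCategory.quasiIso X.Modules up) := by
  have := Groth.DerivedAdj.hasPointwiseRightDerivedFunctor_of_bijective
    (F := F.mapHomotopyCategory up ⋙ DerivedCategory.Qh (C := B)) (L := DerivedCategory.Qh)
    (HomotopyCategory.quasiIso X.Modules up) (Groth.DerivedAdj.exists_good (enoughKInj X))
  infer_instance

variable [(F.mapHomotopyCategory up ⋙ DerivedCategory.Qh (C := B)).HasRightDerivedFunctor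
  (HomotopyCategory.quasiIso X.Modules up)]

lemma isIso_unit_app (J : CochainComplex X.Modules ℤ) [J.IsKInjective] :
    IsIso (((F.mapHomotopyCategory up ⋙ DerivedCategory.Qh (C := B)).totalRightDerivedUnit
      DerivedCategory.Qh (HomotopyCategory.quasiIso X.Modules up)).app
        ((HomotopyCategory.quotient X.Modules up).obj J)) :=
  Groth.DerivedAdj.isIso_app_of_bijective (HomotopyCategory.quasiIso X.Modules up) _ _
    (Groth.DerivedAdj.exists_good (enoughKInj X)) _ fun K =>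
      CochainComplex.IsKInjective.Qh_map_bijective K J

/-- a derived functor is computed by K-injective resolutions -/
noncomputable def resIso :
    L₀ X ⋙ Groth.DerivedAdj.totalR F ≅ kres X ⋙ F.mapHomologicalComplex up ⋙ LB B :=
  let a : L₀ X ⋙ Groth.DerivedAdj.totalR F ⟶ kres X ⋙ L₀ X ⋙ Groth.DerivedAdj.totalR F :=
    Functor.whiskerRight (kresAug X) (L₀ X ⋙ Groth.DerivedAdj.totalR F)
  let b : kres X ⋙ F.mapHomologicalComplex up ⋙ LB B ⟶ kres X ⋙ L₀ X ⋙ Groth.DerivedAdj.totalR F :=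
    Functor.whiskerLeft (kres X ⋙ HomotopyCategory.quotient X.Modules up)
      ((F.mapHomotopyCategory up ⋙ DerivedCategory.Qh (C := B)).totalRightDerivedUnit
        DerivedCategory.Qh (HomotopyCategory.quasiIso X.Modules up))
  have : ∀ K, IsIso (a.app K) := fun K => by
    have := isIso_L₀_map ((kresAug X).app K)
    exact inferInstanceAs (IsIso ((Groth.DerivedAdj.totalR F).map ((L₀ X).map _)))
  have : ∀ K, IsIso (b.app K) := fun K => isIso_unit_app F ((kres X).obj K)
  have := NatIso.isIso_of_isIso_app a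
  have := NatIso.isIso_of_isIso_app b
  asIso a ≪≫ (asIso b).symm

end Gen

section Exact

variable {U : Scheme.{u}} (j : U ⟶ X) [IsOpenImmersion j]

/-- restriction of complexes -/
noncomputable abbrev resCx : CochainComplex X.Modules ℤ ⥤ CochainComplex U.Modules ℤ :=
  (Scheme.Modules.restrictFunctor j).mapHomologicalComplex up

lemma isKInjective_resCx (I : CochainComplex X.Modules ℤ) [I.IsKInjective] :
    ((resCx j).obj I).IsKInjective :=
  Groth.SiteCohomology.isKInjective_map_of_adjunction (CxOX.extZeroAdj j) I inferInstance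

/-- restriction on derived categories is computed termwise -/
noncomputable def restrictDIso [PreservesFiniteLimits (Scheme.Modules.restrictFunctor j)] :
    L₀ X ⋙ DCoh.restrictD j ≅ resCx j ⋙ L₀ U :=
  Functor.isoWhiskerRight (DerivedCategory.quotientCompQhIso X.Modules) _ ≪≫
    (Scheme.Modules.restrictFunctor j).mapDerivedCategoryFactors ≪≫
    Functor.isoWhiskerLeft (resCx j) (DerivedCategory.quotientCompQhIso U.Modules).symm

end Exact

variable (f : X ⟶ Y) (V : Y.Opens)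

/-- `(f_* -)|_V ≅ g_*(-|_U)` -/
noncomputable def baseLocalIso :
    Scheme.Modules.pushforward f ⋙ Scheme.Modules.restrictFunctor V.ι ≅
      Scheme.Modules.restrictFunctor (f ⁻¹ᵁ V).ι ⋙ Scheme.Modules.pushforward (f ∣_ V) :=
  haveI := Groth.CohFin.isIso_baseLocalNat f V
  asIso (Groth.CohFin.baseLocalNat f V)

theorem restrictD_Rpush_iso [DCoh.HasRpush f] [DCoh.HasRpush (f ∣_ V)]
    [PreservesFiniteLimits (Scheme.Modules.restrictFunctor V.ι)]
    [PreservesFiniteLimits (Scheme.Modules.restrictFunctor (f ⁻¹ᵁ V).ι)] :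
    Nonempty (DCoh.Rpush f ⋙ DCoh.restrictD V.ι ≅
      DCoh.restrictD (f ⁻¹ᵁ V).ι ⋙ DCoh.Rpush (f ∣_ V)) := by
  let i := (f ⁻¹ᵁ V).ι
  let g := f ∣_ V
  let a : L₀ X ⋙ DCoh.restrictD i ⋙ DCoh.Rpush g ⟶
      kres X ⋙ L₀ X ⋙ DCoh.restrictD i ⋙ DCoh.Rpush g :=
    Functor.whiskerRight (kresAug X) (L₀ X ⋙ DCoh.restrictD i ⋙ DCoh.Rpush g)
  have : ∀ K, IsIso (a.app K) := fun K => by
    have := isIso_L₀_map ((kresAug X).app K)
    exact inferInstanceAs (IsIso ((DCoh.restrictD i ⋙ DCoh.Rpush g).map ((L₀ X).map _)))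
  haveI := NatIso.isIso_of_isIso_app a
  let b : kres X ⋙ resCx i ⋙ pushCx g ⋙ L₀ _ ⟶ kres X ⋙ resCx i ⋙ L₀ _ ⋙ DCoh.Rpush g :=
    Functor.whiskerLeft (kres X ⋙ resCx i ⋙ HomotopyCategory.quotient _ up)
      ((DCoh.pushKh g).totalRightDerivedUnit DerivedCategory.Qh
        (HomotopyCategory.quasiIso _ up))
  have : ∀ K, IsIso (b.app K) := fun K => by
    haveI := isKInjective_resCx i ((kres X).obj K)
    exact isIso_pushUnit_app g ((resCx i).obj ((kres X).obj K))
  haveI := NatIso.isIso_of_isIso_app b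
  let c : pushCx f ⋙ resCx V.ι ≅ resCx i ⋙ pushCx g :=
    NatIso.mapHomologicalComplex (baseLocalIso f V) up
  let e : L₀ X ⋙ DCoh.Rpush f ⋙ DCoh.restrictD V.ι ≅ L₀ X ⋙ DCoh.restrictD i ⋙ DCoh.Rpush g :=
    Functor.isoWhiskerRight (RpushResIso f) (DCoh.restrictD V.ι) ≪≫
    Functor.isoWhiskerLeft (kres X ⋙ pushCx f) (restrictDIso V.ι) ≪≫
    Functor.isoWhiskerLeft (kres X) (Functor.isoWhiskerRight c (L₀ _)) ≪≫
    asIso b ≪≫
    Functor.isoWhiskerLeft (kres X) (Functor.isoWhiskerRight (restrictDIso i).symm (DCoh.Rpush g)) ≪≫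
    (asIso a).symm
  exact ⟨Localization.liftNatIso (L₀ X) (HomologicalComplex.quasiIso X.Modules up)
    (L₀ X ⋙ DCoh.Rpush f ⋙ DCoh.restrictD V.ι) (L₀ X ⋙ DCoh.restrictD i ⋙ DCoh.Rpush g) _ _ e⟩

/-- sections of complexes -/
noncomputable abbrev gCx (X : Scheme.{u}) :
    CochainComplex X.Modules ℤ ⥤ CochainComplex AddCommGrpCat.{u} ℤ :=
  (DCoh.gammaAb X).mapHomologicalComplex up

lemma acyclic_gCx {C : CochainComplex Y.Modules ℤ} (hC : WeakKInj C) (hac : C.Acyclic) :
    ((gCx Y).obj C).Acyclic := by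
  intro i
  rw [exactAt_iff' _ (i - 1) i (i + 1) (by simp) (by simp), ShortComplex.ab_exact_iff]
  intro s hs
  exact hC.exact_sections hac ⊤ i s hs

lemma isIso_gCx_aug (J : CochainComplex X.Modules ℤ) [J.IsKInjective] :
    IsIso ((gCx Y ⋙ LB AddCommGrpCat.{u}).map ((kresAug Y).app ((pushCx f).obj J))) := by
  let u := (kresAug Y).app ((pushCx f).obj J)
  have h0 := acyclic_gCx
    (WeakKInj.mappingCone u (weakKInj_pushCx f J) (weakKInj_of_isKInjective _))
    (acyclic_mappingCone_of_quasiIso u)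
  let e := CochainComplex.mappingCone.mapHomologicalComplexIso u (DCoh.gammaAb Y)
  have h1 : (CochainComplex.mappingCone ((gCx Y).map u)).Acyclic := fun i => (h0 i).of_iso e
  have h2 : HomologicalComplex.quasiIso _ _ ((gCx Y).map u) := by
    rw [← HomotopyCategory.quotient_map_mem_quasiIso_iff,
      HomotopyCategory.quasiIso_eq_trW_subcategoryAcyclic]
    exact ((HomotopyCategory.subcategoryAcyclic AddCommGrpCat.{u}).trW_iff_of_distinguished
      (CochainComplex.mappingCone.triangleh ((gCx Y).map u))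
      (HomotopyCategory.mappingCone_triangleh_distinguished _)).2
        ((HomotopyCategory.quotient_obj_mem_subcategoryAcyclic_iff_acyclic _).2 h1)
  exact Localization.inverts DerivedCategory.Qh (HomotopyCategory.quasiIso AddCommGrpCat.{u} up) _
    ((HomotopyCategory.quotient_map_mem_quasiIso_iff _).2 h2)

theorem RΓ_Rpush_iso [DCoh.HasRpush f] [DCoh.HasRΓ X] [DCoh.HasRΓ Y] :
    Nonempty (DCoh.Rpush f ⋙ DCoh.RΓ Y ≅ DCoh.RΓ X) := by
  let c : kres X ⋙ pushCx f ⋙ gCx Y ⋙ LB _ ⟶ kres X ⋙ pushCx f ⋙ kres Y ⋙ gCx Y ⋙ LB _ :=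
    Functor.whiskerLeft (kres X ⋙ pushCx f)
      (Functor.whiskerRight (kresAug Y) (gCx Y ⋙ LB AddCommGrpCat.{u}))
  have : ∀ K, IsIso (c.app K) := fun K => isIso_gCx_aug f ((kres X).obj K)
  haveI := NatIso.isIso_of_isIso_app c
  let d : Scheme.Modules.pushforward f ⋙ DCoh.gammaAb Y ≅ DCoh.gammaAb X :=
    NatIso.ofComponents (fun _ => Iso.refl _)
  let d' : pushCx f ⋙ gCx Y ≅ gCx X := NatIso.mapHomologicalComplex d up
  let e : L₀ X ⋙ DCoh.Rpush f ⋙ DCoh.RΓ Y ≅ L₀ X ⋙ DCoh.RΓ X :=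
    Functor.isoWhiskerRight (RpushResIso f) (DCoh.RΓ Y) ≪≫
    Functor.isoWhiskerLeft (kres X ⋙ pushCx f) (resIso (DCoh.gammaAb Y)) ≪≫
    (asIso c).symm ≪≫
    Functor.isoWhiskerLeft (kres X) (Functor.isoWhiskerRight d' (LB _)) ≪≫
    (resIso (DCoh.gammaAb X)).symm
  exact ⟨Localization.liftNatIso (L₀ X) (HomologicalComplex.quasiIso X.Modules up)
    (L₀ X ⋙ DCoh.Rpush f ⋙ DCoh.RΓ Y) (L₀ X ⋙ DCoh.RΓ X) _ _ e⟩

theorem RΓ_restrictD_iso [DCoh.HasRpush f] [DCoh.HasRΓ (V : Scheme.{u})]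
    [DCoh.HasRΓ (f ⁻¹ᵁ V : Scheme.{u})]
    [PreservesFiniteLimits (Scheme.Modules.restrictFunctor V.ι)]
    [PreservesFiniteLimits (Scheme.Modules.restrictFunctor (f ⁻¹ᵁ V).ι)] :
    Nonempty (DCoh.restrictD (f ⁻¹ᵁ V).ι ⋙ DCoh.RΓ (f ⁻¹ᵁ V : Scheme.{u}) ≅
      DCoh.Rpush f ⋙ DCoh.restrictD V.ι ⋙ DCoh.RΓ (V : Scheme.{u})) := by
  haveI : DCoh.HasRpush (f ∣_ V) := hasRightDerived (Scheme.Modules.pushforward (f ∣_ V))
  obtain ⟨α⟩ := restrictD_Rpush_iso f V
  obtain ⟨β⟩ := RΓ_Rpush_iso (f ∣_ V)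
  exact ⟨Functor.isoWhiskerLeft _ β.symm ≪≫ (Functor.associator _ _ _).symm ≪≫
    Functor.isoWhiskerRight α.symm _ ≪≫ Functor.associator _ _ _⟩

end Groth.Misc4.PushRestrict
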