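import Groth.Agent.Misc4.QCohCd
import Groth.Agent.Misc4.PushRestrict
import Groth.Agent.CohBase.RpushAb

/-!
# `Rf_*` preserves quasi-coherent cohomology
-/

universe u

open CategoryTheory CategoryTheory.Limits AlgebraicGeometry TopologicalSpace Opposite

attribute [local instance] HasDerivedCategory.standard

set_option backward.isDefEq.respectTransparency false
set_option backward.defeqAttrib.useBackward true
set_option synthInstance.maxHeartbeats 400000
set_option maxHeartbeats 1000000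

namespace Groth.Misc4.QCohRpushD

open Groth.Misc4.QCohCd

variable {X S : Scheme.{u}} (f : X ⟶ S) [QuasiCompact f] [QuasiSeparated f]

/-- In each degree `Rf_*` only sees a bounded below truncation, over a quasi-compact base. -/
theorem exists_isIso_trunc [CompactSpace S] [SiteCmp.HasRpushD (ModSite.RMor.ofScheme f)] :
    ∃ N : ℤ, ∀ (E : DerivedCategory (ModSite.Mod X.sheaf)), WSerre.cohIn (qc X) E → ∀ (n : ℕ) (j : ℤ),
      N - (n : ℤ) ≤ j → IsIso ((DerivedCategory.homologyFunctor (ModSite.Mod S.sheaf) j).map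
        ((SiteCmp.RpushD (ModSite.RMor.ofScheme f)).map (CohCx.toTruncTower E n))) := by
  obtain ⟨N, hN⟩ := exists_isZero_Rpush f
  refine ⟨N, fun E hE n j hj => ?_⟩
  refine Groth.Misc4.RpushTrunc.isIso_homology_upstairs E (qc X) (ModSite.RMor.ofScheme f)
    {V | IsAffineOpen V} {V | IsAffineOpen V} (fun U => ?_) (fun V _ => ⟨0, fun T hT => ?_⟩)
    (fun U => ?_) (fun V hV => ?_) N hN hE n j hj
  · obtain ⟨ι, Y, g, -, hY, hB⟩ := exists_affine_cover U ⊤ (GrothendieckTopology.top_mem _ _)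
    exact ⟨ι, Y, g, hY, hB⟩
  · obtain ⟨ι, Y, g, hg, hY, hB⟩ := exists_affine_cover V T hT
    refine ⟨ι, Y, g, hg, hY, fun i F hF k hk => ?_⟩
    obtain ⟨k, rfl⟩ := Nat.exists_eq_succ_of_ne_zero (show k ≠ 0 by omega)
    exact @Groth.CohBase.hVanish_of_isAffineOpen X F hF _ (hB i) k
  · obtain ⟨ι, Y, g, -, hY, hB⟩ := exists_affine_cover U ⊤ (GrothendieckTopology.top_mem _ _)
    exact ⟨ι, Y, g, hY, hB⟩
  · obtain ⟨d, hd⟩ := exists_hVanish_basicOpen f hV
    refine ⟨d, fun T hT => ?_⟩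
    obtain ⟨ι, Y, j, hj, hY, hb⟩ := exists_basic_cover hV T hT
    refine ⟨ι, Y, j, hj, hY, fun i F hF k hk => ?_⟩
    obtain ⟨g, hg⟩ := hb i
    rw [hg]
    exact hd F hF g k (by omega)

/-- `Rf_*` preserves quasi-coherent cohomology over a quasi-compact base. -/
theorem isQCohD_of_compact [CompactSpace S] [DCoh.HasRpush f] (K : DCoh.D X) (hK : DCoh.IsQCohD K) :
    DCoh.IsQCohD ((DCoh.Rpush f).obj K) := by
  let g := ModSite.RMor.ofScheme f
  haveI : SiteCmp.HasRpushD g := (inferInstance : DCoh.HasRpush f)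
  let K' : DerivedCategory (ModSite.Mod X.sheaf) := K
  have hK' : WSerre.cohIn (qc X) K' := hK
  obtain ⟨N, hN⟩ := exists_isIso_trunc f
  intro j
  let n : ℕ := (N - j).toNat
  haveI := hN K' hK' n j (by omega)
  let Y := CohCx.truncTower K' n
  haveI : Y.IsGE (-(n : ℤ)) := inferInstanceAs (DerivedCategory.TStructure.t.IsGE _ _)
  have hY : WSerre.cohIn (qc X) Y := fun q => by
    by_cases h : -(n : ℤ) ≤ q
    · haveI := Groth.Misc4.RlimTrunc.isIso_homology_toTrunc K' n q h
      exact (qc X).prop_of_iso (asIso ((DerivedCategory.homologyFunctor _ q).map (CohCx.toTruncTower K' n)))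
        (hK' q)
    · exact (qc X).prop_of_isZero (Y.isZero_of_isGE (-(n : ℤ)) q (by omega))
  let β := (SiteCmp.pushKh g).totalRightDerivedUnit DerivedCategory.Qh
      (HomotopyCategory.quasiIso (ModSite.Mod X.sheaf) (ComplexShape.up ℤ))
  have h3 : ∀ F : ModSite.Mod X.sheaf, qc X F → ∀ k : ℕ, qc S ((g.push.rightDerived k).obj F) :=
    fun F hF k => @Groth.CohBase.isQCoh_Rpush X S f F k _ _ _ hF
  exact (qc S).prop_of_iso (asIso ((DerivedCategory.homologyFunctor _ j).map
    ((SiteCmp.RpushD g).map (CohCx.toTruncTower K' n)))).symm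
    (Groth.Misc4.RFBounded.cohIn_obj g.push (SiteCmp.RpushD g) β (qc X) (qc S) h3 Y (-(n : ℤ)) hY j)

/-- `Rf_*` preserves quasi-coherent cohomology. -/
theorem isQCohD [DCoh.HasRpush f] (K : DCoh.D X) (hK : DCoh.IsQCohD K) :
    DCoh.IsQCohD ((DCoh.Rpush f).obj K) := by
  refine Groth.Misc4.QCohDPerf.isQCohD_of_local fun s => ?_
  obtain ⟨_, ⟨V, hV, rfl⟩, hsV, -⟩ := S.isBasis_affineOpens.exists_subset_of_mem_open (Set.mem_univ s) isOpen_univ
  haveI : IsAffine (V : Scheme.{u}) := hV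
  haveI : DCoh.HasRpush (f ∣_ V) := Groth.Misc4.PushRestrict.hasRightDerived _
  obtain ⟨e⟩ := Groth.Misc4.PushRestrict.restrictD_Rpush_iso f V
  exact ⟨V, hsV, Groth.Misc4.QCohDPerf.isQCohD_of_iso (e.app K).symm
    (isQCohD_of_compact (f ∣_ V) _ (Groth.Misc4.QCohDPerf.isQCohD_restrict (f ⁻¹ᵁ V).ι hK))⟩

end Groth.Misc4.QCohRpushD
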