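import Groth.Agent.Misc4.PushSum
import Groth.Agent.Misc4.QCohRpushD
import Groth.Agent.Misc4.QCoprod
import Groth.Agent.Misc4.QCohDSum
import Groth.Agent.AdicLinTop.HomologyCoprod

/-!
# `Rf_*` commutes with direct sums in `D_QCoh`
-/

universe u

open CategoryTheory CategoryTheory.Limits AlgebraicGeometry Pretriangulated DerivedCategory

attribute [local instance] HasDerivedCategory.standard

set_option backward.isDefEq.respectTransparency false
set_option backward.defeqAttrib.useBackward true
set_option synthInstance.maxHeartbeats 400000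
set_option maxHeartbeats 1000000

namespace Groth.Misc4.RpushCoprod

local notation "up" => ComplexShape.up ℤ

section Gen

universe v₁ v₂ v₃ u₁ u₂ u₃

variable {C : Type u₁} [Category.{v₁} C] {D : Type u₂} [Category.{v₂} D] {E : Type u₃} [Category.{v₃} E]
  {ι : Type*}

/-- Preservation of a coproduct passes along a natural transformation which is invertible on it. -/
theorem preservesColimit_of_natTrans {G G' : C ⥤ D} (γ : G ⟶ G') (M : ι → C)
    [PreservesColimit (Discrete.functor M) G] (hi : ∀ i, IsIso (γ.app (M i)))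
    {c : Cofan M} (hc : IsColimit c) (hp : IsIso (γ.app c.pt)) :
    PreservesColimit (Discrete.functor M) G' :=
  preservesColimit_of_preserves_colimit_cocone hc
    (IsColimit.equivOfNatIsoOfIso (Discrete.natIso fun i => (asIso (γ.app (M i.as)) :) :
        Discrete.functor M ⋙ G ≅ Discrete.functor M ⋙ G') (G.mapCocone c) (G'.mapCocone c)
      (Cocone.ext (asIso (γ.app c.pt)) fun i => by
        show (inv (γ.app (M i.as)) ≫ G.map (c.ι.app i)) ≫ γ.app c.pt = G'.map (c.ι.app i)
        exact (Category.assoc _ _ _).trans ((congrArg (inv (γ.app (M i.as)) ≫ ·) (γ.naturality (c.ι.app i))).trans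
          (IsIso.inv_hom_id_assoc _ _)))
      (isColimitOfPreserves G hc))

/-- A comparison of coproducts becomes invertible under a functor preserving both of them. -/
theorem isIso_map_sigmaDesc (G : C ⥤ D) (H : D ⥤ E) (M : ι → C) [HasCoproduct M]
    [HasCoproduct fun i => G.obj (M i)] [PreservesColimit (Discrete.functor M) (G ⋙ H)]
    [PreservesColimit (Discrete.functor fun i => G.obj (M i)) H] :
    IsIso (H.map (Sigma.desc fun i => G.map (Sigma.ι M i))) := by
  let a := Cofan.isColimitMapCoconeEquiv H _ _ (isColimitOfPreserves H (coproductIsCoproduct fun i => G.obj (M i)))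
  let b := Cofan.isColimitMapCoconeEquiv (G ⋙ H) _ _ (isColimitOfPreserves (G ⋙ H) (coproductIsCoproduct M))
  let e := a.coconePointUniqueUpToIso b
  have : H.map (Sigma.desc fun i => G.map (Sigma.ι M i)) = e.hom := by
    refine Cofan.IsColimit.hom_ext a _ _ fun i => ?_
    refine Eq.trans ?_ (a.comp_coconePointUniqueUpToIso_hom b ⟨i⟩).symm
    show H.map (Sigma.ι (fun i => G.obj (M i)) i) ≫ _ = H.map (G.map (Sigma.ι M i))
    rw [← H.map_comp, Sigma.ι_desc]
  rw [this]
  infer_instance

/-- A map of coproducts, invertible termwise after a functor preserving them, becomes invertible. -/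
theorem isIso_map_sigmaMap (H : D ⥤ E) {M N : ι → D} (a : ∀ i, M i ⟶ N i) [HasCoproduct M] [HasCoproduct N]
    [PreservesColimit (Discrete.functor M) H] [PreservesColimit (Discrete.functor N) H]
    (ha : ∀ i, IsIso (H.map (a i))) : IsIso (H.map (Limits.Sigma.map a)) := by
  let hM := Cofan.isColimitMapCoconeEquiv H _ _ (isColimitOfPreserves H (coproductIsCoproduct M))
  let hN := Cofan.isColimitMapCoconeEquiv H _ _ (isColimitOfPreserves H (coproductIsCoproduct N))
  let e := hM.coconePointsIsoOfNatIso hN (Discrete.natIso fun i => (asIso (H.map (a i.as)) :))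
  have : H.map (Limits.Sigma.map a) = e.hom := by
    refine Cofan.IsColimit.hom_ext hM _ _ fun i => ?_
    refine Eq.trans ?_ (IsColimit.comp_coconePointsIsoOfNatIso_hom hM hN _ ⟨i⟩).symm
    show H.map (Sigma.ι M i) ≫ H.map (Limits.Sigma.map a) = H.map (a i) ≫ H.map (Sigma.ι N i)
    rw [← H.map_comp, ← H.map_comp, Sigma.ι_map]
  rw [this]
  infer_instance

end Gen

variable {X S : Scheme.{u}} (f : X ⟶ S)

/-- The natural comparison `f_* ⟶ Rf_*` on complexes. -/
noncomputable def γ [DCoh.HasRpush f] :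
    Groth.DerivedCoh.KFlat.pushCx f ⋙ DerivedCategory.Q ⟶ DerivedCategory.Q ⋙ DCoh.Rpush f :=
  Functor.whiskerLeft _ (DerivedCategory.quotientCompQhIso S.Modules).inv ≫
    Functor.whiskerLeft (HomotopyCategory.quotient X.Modules up) ((DCoh.pushKh f).totalRightDerivedUnit
      DerivedCategory.Qh (HomotopyCategory.quasiIso X.Modules up)) ≫
    Functor.whiskerRight (DerivedCategory.quotientCompQhIso X.Modules).hom (DCoh.Rpush f)

lemma isIso_γ_of_isKInjective [DCoh.HasRpush f] (J : CochainComplex X.Modules ℤ) [J.IsKInjective] :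
    IsIso ((γ f).app J) := by
  have h := Groth.DerivedCoh.KFlat.isIso_pushUnit_app f J
  exact @IsIso.comp_isIso _ _ _ _ _ _ _ inferInstance (@IsIso.comp_isIso _ _ _ _ _ _ _ h inferInstance)

lemma isIso_γ_of_acyclic [DCoh.HasRpush f] (C : CochainComplex X.Modules ℤ) (a : ℤ) [C.IsStrictlyGE a]
    (hC : ∀ n, Groth.CohFin.RightAcyclic (Scheme.Modules.pushforward f) (C.X n)) : IsIso ((γ f).app C) := by
  obtain ⟨J, i, hi, hinj, hJ⟩ := CochainComplex.Plus.modelCategoryQuillen.exists_quasiIso_injective C a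
  have := hinj
  haveI : J.IsKInjective := CochainComplex.isKInjective_of_injective J a
  haveI : PreservesLimitsOfSize.{0, 0} (Scheme.Modules.pushforward f) :=
    (Scheme.Modules.pullbackPushforwardAdjunction f).rightAdjoint_preservesLimits
  haveI : PreservesFiniteLimits (Scheme.Modules.pushforward f) := ⟨fun _ _ _ => inferInstance⟩
  haveI := Groth.Misc7.GSS.quasiIso_mapHomologicalComplex (Scheme.Modules.pushforward f) a hC
    (fun n => Groth.CohFin.rightAcyclic_of_injective _ _) i
  haveI := isIso_γ_of_isKInjective f J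
  haveI : IsIso (DerivedCategory.Q.map ((Groth.DerivedCoh.KFlat.pushCx f).map i)) :=
    (DerivedCategory.isIso_Q_map_iff_quasiIso _ _).2 inferInstance
  haveI := (DerivedCategory.isIso_Q_map_iff_quasiIso _ i).2 inferInstance
  have e := (γ f).naturality i
  simp only [Functor.comp_map] at e
  haveI : IsIso ((γ f).app C ≫ (DCoh.Rpush f).map (DerivedCategory.Q.map i)) := by rw [← e]; infer_instance
  exact IsIso.of_isIso_comp_right ((γ f).app C) ((DCoh.Rpush f).map (DerivedCategory.Q.map i))

variable [QuasiCompact f] [QuasiSeparated f]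

/-- Uniformly bounded below families. -/
theorem preservesColimit_of_isGE [DCoh.HasRpush f] {ι : Type u} (K : ι → DCoh.D X) (a : ℤ)
    (hK : ∀ i, (K i).IsGE a) : PreservesColimit (Discrete.functor K) (DCoh.Rpush f) := by
  have hrep : ∀ i, ∃ J : CochainComplex X.Modules ℤ, J.IsStrictlyGE a ∧ (∀ n, Injective (J.X n)) ∧
      Nonempty (DerivedCategory.Q.obj J ≅ K i) := fun i => by
    haveI := hK i
    obtain ⟨L, _, ⟨e⟩⟩ := DerivedCategory.exists_iso_Q_obj_of_isGE (K i) a
    obtain ⟨J, j, hj, hinj, hJ⟩ := CochainComplex.Plus.modelCategoryQuillen.exists_quasiIso_injective L a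
    exact ⟨J, hJ, hinj, ⟨(asIso (DerivedCategory.Q.map j)).symm ≪≫ e.symm⟩⟩
  choose J hJ hinj hJK using hrep
  haveI := hJ
  obtain ⟨hQ⟩ := Groth.Misc4.QCoprod.nonempty_isColimit J
  haveI := Groth.Misc4.PushSum.preservesColimitsOfShape_push f ι
  haveI : PreservesColimit (Discrete.functor J) (Groth.DerivedCoh.KFlat.pushCx f) :=
    ⟨fun {c} hc => ⟨HomologicalComplex.isColimitOfEval _ _ fun n =>
      isColimitOfPreserves (Scheme.Modules.pushforward f)
        (isColimitOfPreserves (HomologicalComplex.eval X.Modules up n) hc)⟩⟩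
  haveI := Groth.Misc4.QCoprod.preservesColimitsOfShape (A := S.Modules) ι
  have hsum : ∀ n, Groth.CohFin.RightAcyclic (Scheme.Modules.pushforward f) ((∐ J).X n) := fun n k => by
    haveI := fun i => hinj i n
    exact (Groth.Misc4.PushSum.rightAcyclic_sigma f (fun i => (J i).X n) inferInstance k).of_iso
      (((Scheme.Modules.pushforward f).rightDerived (k + 1)).mapIso
        (PreservesCoproduct.iso (HomologicalComplex.eval X.Modules up n) J))
  haveI : (∐ J).IsStrictlyGE a := (CochainComplex.isStrictlyGE_iff _ _).2 fun k hk =>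
    (Groth.Misc4.CompactAcyclic.isZero_of_isColimit_zero _
      (isColimitOfPreserves (HomologicalComplex.eval X.Modules up k) (coproductIsCoproduct J))
      fun i => (J i.as).isZero_of_isStrictlyGE a k hk)
  haveI := preservesColimit_of_natTrans (γ f) J
    (fun i => isIso_γ_of_acyclic f (J i) a fun n => haveI := hinj i n; Groth.CohFin.rightAcyclic_of_injective _ _)
    (coproductIsCoproduct J) (isIso_γ_of_acyclic f (∐ J) a hsum)
  haveI : PreservesColimit (Discrete.functor fun i => DerivedCategory.Q.obj (J i)) (DCoh.Rpush f) :=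
    preservesColimit_of_preserves_colimit_cocone hQ
      ((Cofan.isColimitMapCoconeEquiv _ _ _).symm
        (Cofan.isColimitMapCoconeEquiv (DerivedCategory.Q ⋙ DCoh.Rpush f) _ _
          (isColimitOfPreserves (DerivedCategory.Q ⋙ DCoh.Rpush f) (coproductIsCoproduct J))))
  exact preservesColimit_of_iso_diagram _ (Discrete.natIso fun i => (hJK i.as).some :
    Discrete.functor (fun i => DerivedCategory.Q.obj (J i)) ≅ Discrete.functor K)

variable [CompactSpace S]

/-- In each degree `Rf_*` only sees high degree cohomology. -/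
theorem exists_isIso_homology_map [DCoh.HasRpush f] :
    ∃ N : ℤ, 0 ≤ N ∧ ∀ {K L : DCoh.D X} (φ : K ⟶ L), DCoh.IsQCohD K → DCoh.IsQCohD L → ∀ m j : ℤ,
      (∀ q, m ≤ q → IsIso ((homologyFunctor X.Modules q).map φ)) → m + N < j →
      IsIso ((homologyFunctor S.Modules j).map ((DCoh.Rpush f).map φ)) := by
  obtain ⟨N, hN0, hN⟩ := Groth.Misc4.QCohCd.exists_isZero_HD f
  refine ⟨N, hN0, fun {K L} φ hK hL m j h hj => ?_⟩
  obtain ⟨Z, g, δ, hT⟩ := distinguished_cocone_triangle φ
  have hZ : DCoh.IsQCohD Z := Groth.Misc4.QCohDPerf.isQCohD_obj₂ (Triangle.mk φ g δ).rotate (rot_of_distTriang _ hT)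
    hL (Groth.Misc4.QCohDPerf.isQCohD_shift hK 1)
  haveI : Z.IsLE (m - 1) := (isLE_iff Z _).2 fun q hq => by
    haveI : IsIso ((homologyFunctor X.Modules q).map (Triangle.mk φ g δ).mor₁) := h q (by omega)
    haveI : IsIso ((homologyFunctor X.Modules (q + 1)).map (Triangle.mk φ g δ).mor₁) := h (q + 1) (by omega)
    exact (HomologySequence.exact₃ _ hT q (q + 1) rfl).isZero_X₂
      ((HomologySequence.epi_homologyMap_mor₁_iff _ hT q).1 inferInstance)
      ((HomologySequence.mono_homologyMap_mor₁_iff _ hT q (q + 1) rfl).1 inferInstance)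
  obtain ⟨δ', hT'⟩ := Groth.DAlg.RFTriangle.exists_distinguished (Scheme.Modules.pushforward f) (DCoh.Rpush f)
    ((DCoh.pushKh f).totalRightDerivedUnit DerivedCategory.Qh (HomotopyCategory.quasiIso X.Modules up)) _ hT
  have hz : ∀ i, j - 1 ≤ i → IsZero ((homologyFunctor S.Modules i).obj ((DCoh.Rpush f).obj Z)) :=
    fun i hi => hN Z hZ (m - 1) inferInstance i (by omega)
  haveI : Epi ((homologyFunctor S.Modules j).map ((DCoh.Rpush f).map φ)) :=
    (HomologySequence.epi_homologyMap_mor₁_iff _ hT' j).2 ((hz j (by omega)).eq_of_tgt _ _)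
  haveI : Mono ((homologyFunctor S.Modules j).map ((DCoh.Rpush f).map φ)) :=
    (HomologySequence.mono_homologyMap_mor₁_iff _ hT' (j - 1) j (by omega)).2
      ((hz (j - 1) le_rfl).eq_of_src _ _)
  exact isIso_of_mono_of_epi _

open Groth.Misc4.QCohCd in
/-- `Rf_*` commutes with direct sums in `D_QCoh`, over a quasi-compact base. -/
theorem preservesColimit_of_compact [DCoh.HasRpush f] {ι : Type u} (K : ι → DCoh.D X)
    (hK : ∀ i, DCoh.IsQCohD (K i)) : PreservesColimit (Discrete.functor K) (DCoh.Rpush f) := by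
  haveI := Groth.DerivedCoh.KInjRes.hasCoproducts (A := X.Modules)
  haveI := Groth.DerivedCoh.KInjRes.hasCoproducts (A := S.Modules)
  let c := Sigma.desc fun i => (DCoh.Rpush f).map (Sigma.ι K i)
  suffices IsIso c by
    haveI : IsIso (sigmaComparison (DCoh.Rpush f) K) := this
    exact PreservesCoproduct.of_iso_comparison _ _
  obtain ⟨N, hN0, hN⟩ := exists_isIso_homology_map f
  refine (DerivedCategory.isIso_iff S.Modules c).2 fun j => ?_
  let m : ℤ := j - N - 1
  let t : Triangulated.TStructure (DCoh.D X) := TStructure.t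
  let L := fun i => (t.truncGE m).obj (K i)
  let a : ∀ i, K i ⟶ L i := fun i => (t.truncGEπ m).app (K i)
  have hL : ∀ i, (L i).IsGE m := fun i => inferInstanceAs (t.IsGE ((t.truncGE m).obj (K i)) m)
  have ha : ∀ i q, m ≤ q → IsIso ((homologyFunctor X.Modules q).map (a i)) := fun i q hq => by
    have hT := t.triangleLTGE_distinguished m (K i)
    haveI : ((t.truncLT m).obj (K i)).IsLE (m - 1) :=
      inferInstanceAs (t.IsLE ((t.truncLT m).obj (K i)) (m - 1))
    haveI : Mono ((homologyFunctor X.Modules q).map (a i)) :=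
      (HomologySequence.mono_homologyMap_mor₂_iff _ hT q).2
        (((t.truncLT m).obj (K i)).isZero_of_isLE (m - 1) q (by omega) |>.eq_of_src _ _)
    haveI : Epi ((homologyFunctor X.Modules q).map (a i)) :=
      (HomologySequence.epi_homologyMap_mor₂_iff _ hT q (q + 1) rfl).2
        (((t.truncLT m).obj (K i)).isZero_of_isLE (m - 1) (q + 1) (by omega) |>.eq_of_tgt _ _)
    exact isIso_of_mono_of_epi _
  have hqL : ∀ i, DCoh.IsQCohD (L i) := fun i q => by
    by_cases h : m ≤ q
    · haveI := ha i q h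
      exact (Groth.QCohMod.isQCoh_iff_of_iso (asIso ((homologyFunctor X.Modules q).map (a i)))).1 (hK i q)
    · haveI := hL i
      exact Groth.Misc4.QCohDPerf.isQCoh_isZero ((L i).isZero_of_isGE m q (by omega))
  haveI := fun q => Groth.AdicLinTop.HomologyCoprod.preservesColimitsOfShape_homologyFunctor (A := X.Modules) ι q
  haveI := fun q => Groth.AdicLinTop.HomologyCoprod.preservesColimitsOfShape_homologyFunctor (A := S.Modules) ι q
  let Ψ := DCoh.Rpush f ⋙ homologyFunctor S.Modules j
  haveI := preservesColimit_of_isGE f L m hL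
  have hsum : IsIso (Ψ.map (Limits.Sigma.map a)) :=
    hN _ (Groth.Misc4.QCohDSum.isQCohD_sigma X K hK) (Groth.Misc4.QCohDSum.isQCohD_sigma X L hqL) m j
      (fun q hq => isIso_map_sigmaMap _ a fun i => ha i q hq) (by omega)
  haveI hi : ∀ i, IsIso (Ψ.map (a i)) := fun i => hN _ (hK i) (hqL i) m j (ha i) (by omega)
  haveI : PreservesColimit (Discrete.functor K) Ψ :=
    preservesColimit_of_preserves_colimit_cocone (coproductIsCoproduct K)
      ((IsColimit.equivOfNatIsoOfIso (Discrete.natIso fun i => (asIso (Ψ.map (a i.as))).symm :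
          Discrete.functor L ⋙ Ψ ≅ Discrete.functor K ⋙ Ψ) (Ψ.mapCocone (Cofan.mk (∐ L) (Sigma.ι L)))
        (Ψ.mapCocone (Cofan.mk (∐ K) (Sigma.ι K)))
        (Cocone.ext (asIso (Ψ.map (Limits.Sigma.map a))).symm fun i => by
          show (Ψ.map (a i.as) ≫ Ψ.map (Sigma.ι L i.as)) ≫ inv (Ψ.map (Limits.Sigma.map a)) = Ψ.map (Sigma.ι K i.as)
          rw [← Ψ.map_comp, ← Sigma.ι_map, Ψ.map_comp, Category.assoc, IsIso.hom_inv_id, Category.comp_id]))
        (isColimitOfPreserves Ψ (coproductIsCoproduct L)))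
  exact isIso_map_sigmaDesc (DCoh.Rpush f) (homologyFunctor S.Modules j) K

omit [CompactSpace S] in
/-- `Rf_*` commutes with direct sums in `D_QCoh`. -/
theorem isIso_sigmaDesc [DCoh.HasRpush f] {ι : Type u} (K : ι → DCoh.D X)
    (hK : ∀ i, DCoh.IsQCohD (K i)) [HasCoproduct K] [HasCoproduct fun i => (DCoh.Rpush f).obj (K i)] :
    IsIso (Sigma.desc fun i => (DCoh.Rpush f).map (Sigma.ι K i)) := by
  refine Groth.DerivedCoh.Duality.isIso_of_local _ fun s => ?_
  obtain ⟨_, ⟨V, hV, rfl⟩, hsV, -⟩ := S.isBasis_affineOpens.exists_subset_of_mem_open (Set.mem_univ s) isOpen_univ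
  haveI : IsAffine (V : Scheme.{u}) := hV
  haveI : DCoh.HasRpush (f ∣_ V) := Groth.Misc4.PushRestrict.hasRightDerived _
  obtain ⟨e⟩ := Groth.Misc4.PushRestrict.restrictD_Rpush_iso f V
  have hres : ∀ {Z U : Scheme.{u}} (j : U ⟶ Z) [IsOpenImmersion j] (M : ι → DCoh.D Z),
      PreservesColimit (Discrete.functor M) (DCoh.restrictD j) := fun {Z U} j _ M => by
    haveI : PreservesColimitsOfSize.{u, u} (Scheme.Modules.restrictFunctor j) :=
      (Scheme.Modules.restrictAdjunction j).leftAdjoint_preservesColimits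
    let C := fun i => DerivedCategory.Q.objPreimage (M i)
    obtain ⟨hQ⟩ := Groth.Misc4.QCoprod.nonempty_isColimit C
    haveI : PreservesColimit (Discrete.functor C) (Groth.DerivedCoh.ExtZero.resCx j) :=
      ⟨fun {c} hc => ⟨HomologicalComplex.isColimitOfEval _ _ fun n =>
        isColimitOfPreserves (Scheme.Modules.restrictFunctor j)
          (isColimitOfPreserves (HomologicalComplex.eval Z.Modules up n) hc)⟩⟩
    haveI := Groth.Misc4.QCoprod.preservesColimitsOfShape (A := U.Modules) ι
    let γ' := (Scheme.Modules.restrictFunctor j).mapDerivedCategoryFactors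
    haveI : PreservesColimit (Discrete.functor C) (DerivedCategory.Q ⋙ DCoh.restrictD j) :=
      preservesColimit_of_natIso _ γ'.symm
    haveI : PreservesColimit (Discrete.functor fun i => DerivedCategory.Q.obj (C i)) (DCoh.restrictD j) :=
      preservesColimit_of_preserves_colimit_cocone hQ
        ((Cofan.isColimitMapCoconeEquiv _ _ _).symm
          (Cofan.isColimitMapCoconeEquiv (DerivedCategory.Q ⋙ DCoh.restrictD j) _ _
            (isColimitOfPreserves (DerivedCategory.Q ⋙ DCoh.restrictD j) (coproductIsCoproduct C))))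
    exact preservesColimit_of_iso_diagram _ (Discrete.natIso fun i => DerivedCategory.Q.objObjPreimageIso (M i.as) :
      Discrete.functor (fun i => DerivedCategory.Q.obj (C i)) ≅ Discrete.functor M)
  haveI := hres (f ⁻¹ᵁ V).ι K
  haveI := hres (Scheme.Opens.ι V) fun i => (DCoh.Rpush f).obj (K i)
  haveI : PreservesColimit (Discrete.functor K ⋙ DCoh.restrictD (f ⁻¹ᵁ V).ι) (DCoh.Rpush (f ∣_ V)) :=
    haveI := preservesColimit_of_compact (f ∣_ V) (fun i => (DCoh.restrictD (f ⁻¹ᵁ V).ι).obj (K i))
      fun i => Groth.Misc4.QCohDPerf.isQCohD_restrict (f ⁻¹ᵁ V).ι (hK i)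
    preservesColimit_of_iso_diagram _ (Discrete.natIso fun i => Iso.refl _ :
      Discrete.functor (fun i => (DCoh.restrictD (f ⁻¹ᵁ V).ι).obj (K i)) ≅
        Discrete.functor K ⋙ DCoh.restrictD (f ⁻¹ᵁ V).ι)
  haveI : PreservesColimit (Discrete.functor K) (DCoh.Rpush f ⋙ DCoh.restrictD (Scheme.Opens.ι V)) :=
    preservesColimit_of_natIso _ e.symm
  exact ⟨V, hsV, isIso_map_sigmaDesc (DCoh.Rpush f) (DCoh.restrictD (Scheme.Opens.ι V)) K⟩

end Groth.Misc4.RpushCoprod
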