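import Groth.Agent.Misc4.RFBounded
import Groth.Agent.Misc4.QCohCd
import Groth.Agent.S0795
import Groth.Agent.S0796

/-!
# Weak Serre classes of coherent modules
-/

universe u

open CategoryTheory CategoryTheory.Limits AlgebraicGeometry

namespace Groth.Misc4.CohProperSupp

variable {X S : Scheme.{u}}

/-- The coherent modules. -/
def cohM (X : Scheme.{u}) : ObjectProperty X.Modules := fun M => Coh.IsCoh M

/-- The coherent modules whose support is proper over the base. -/
def P (f : X ⟶ S) : ObjectProperty X.Modules := fun M =>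
  Coh.IsCoh M ∧ ClSub.IsProperOver f (CohB1.support M)

theorem isQuasicoherent_mid {E : ShortComplex X.Modules} (hE : E.ShortExact)
    (h₁ : Coh.IsCoh E.X₁) (h₃ : Coh.IsCoh E.X₃) : E.X₂.IsQuasicoherent :=
  haveI := h₁.1
  haveI := h₃.1
  Groth.CohTwo.QCohExt.isQCoh_of_shortExact hE

theorem isCoh_of_isZero {M : X.Modules} (h : IsZero M) : Coh.IsCoh M := by
  refine (Groth.QCohMod.isCoh_iff M).2 ⟨Groth.Misc4.QCohDPerf.isQCoh_isZero h, fun U _ => ?_⟩
  haveI : Subsingleton Γ(M, U) :=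
    AddCommGrpCat.subsingleton_of_isZero ((Scheme.Modules.toPresheaf X ⋙
      (evaluation _ _).obj (Opposite.op U)).map_isZero h)
  infer_instance

instance [IsLocallyNoetherian X] : WSerre.IsWeakSerre (cohM X) where
  exists_zero := ⟨_, isZero_zero _, isCoh_of_isZero (X := X) (isZero_zero _)⟩
  kernels_le := by
    rintro _ ⟨φ, k, hk, hA, hB⟩
    haveI := hB.1
    exact Groth.QCohMod.isCoh_of_iso (IsLimit.conePointUniqueUpToIso (kernelIsKernel φ) hk)
      (Groth.QCohMod.isCoh_kernel φ hA)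
  cokernels_le := by
    rintro _ ⟨φ, k, hk, hA, hB⟩
    haveI := hA.1
    exact Groth.QCohMod.isCoh_of_iso (IsColimit.coconePointUniqueUpToIso (cokernelIsCokernel φ) hk)
      (Groth.QCohMod.isCoh_cokernel φ hB)
  prop_X₂_of_shortExact {E} hE h₁ h₃ :=
    haveI := isQuasicoherent_mid hE h₁ h₃
    Groth.QCohMod.isCoh_of_shortExact hE h₁ h₃

variable (f : X ⟶ S) [LocallyOfFiniteType f] [IsLocallyNoetherian S]

theorem isWeakSerre : WSerre.IsWeakSerre (P f) := by
  haveI : IsLocallyNoetherian X := LocallyOfFiniteType.isLocallyNoetherian f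
  have sub : ∀ {M : X.Modules} (hM : Coh.IsCoh M) {Z : Set X}, ClSub.IsProperOver f Z → CohB1.support M ⊆ Z →
      P f M := fun hM _ hZ h =>
    ⟨hM, Groth.CohDev.isProperOver_mono f hZ (Groth.CohC3.isClosed_support_of_isCoh _ hM) h⟩
  refine { exists_zero := ⟨_, isZero_zero _, ?_⟩, kernels_le := ?_, cokernels_le := ?_, prop_X₂_of_shortExact := ?_ }
  · refine sub (isCoh_of_isZero (X := X) (isZero_zero _))
      (Groth.Agent.S0791.result f Empty (fun e => e.elim) (fun e => e.elim)) fun x hx => ?_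
    exact absurd (AddCommGrpCat.subsingleton_of_isZero ((Groth.QCohMod.stalk x).map_isZero (isZero_zero _))) hx
  · rintro _ ⟨φ, k, hk, hA, hB⟩
    haveI := hB.1.1
    haveI := mono_of_isLimit_fork hk
    exact sub (Groth.QCohMod.isCoh_of_iso (IsLimit.conePointUniqueUpToIso (kernelIsKernel φ) hk)
      (Groth.QCohMod.isCoh_kernel φ hA.1)) hA.2 (Groth.CohTwo.support_subset_of_mono (Fork.ι k))
  · rintro _ ⟨φ, k, hk, hA, hB⟩
    haveI := hA.1.1
    haveI := epi_of_isColimit_cofork hk
    exact sub (Groth.QCohMod.isCoh_of_iso (IsColimit.coconePointUniqueUpToIso (cokernelIsCokernel φ) hk)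
      (Groth.QCohMod.isCoh_cokernel φ hB.1)) hB.2 (Groth.CohTwo.support_subset_of_epi (Cofork.π k))
  · intro E hE h₁ h₃
    haveI := isQuasicoherent_mid hE h₁.1 h₃.1
    have h₂ := Groth.QCohMod.isCoh_of_shortExact hE h₁.1 h₃.1
    exact ⟨h₂, (Groth.Agent.S0796.result f E hE h₁.1 h₂ h₃.1).2 ⟨h₁.2, h₃.2⟩⟩

end Groth.Misc4.CohProperSupp
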