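import Groth.Agent.Misc4.QCohDRHom
import Groth.Agent.Misc4.CohProperSupp
import Groth.Agent.RefRank.Divisor
import Groth.Agent.DerivedCoh.PCohDescent.Noetherian
import Groth.Agent.DerivedCoh.PCoh.ModuleFP

/-!
`RHom` between objects with coherent cohomology on locally Noetherian schemes.
-/

universe u

open CategoryTheory CategoryTheory.Limits AlgebraicGeometry HomologicalComplex Pretriangulated
open Groth.KTheory.Perf

namespace Groth.Misc4.CohDRHom

open Groth.DerivedCoh.KFlat (T IsKFlat tot totL totR)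
open Groth.DerivedCoh.PCoh (Below Near)
open Groth.Misc4.QCohDRHom (isPerfect_toD bijective_precomp isIso_hd_of_bijective below_tot)

attribute [local instance] HasDerivedCategory.standard

set_option maxHeartbeats 1000000

local notation "up" => ComplexShape.up ℤ

variable {X : Scheme.{u}} [IsLocallyNoetherian X]

lemma isCohD_of_iso {K L : DCoh.D X} (e : K ≅ L) (h : DCoh.IsCohD K) : DCoh.IsCohD L :=
  Groth.DerivedAdj.cohIn_of_iso (Groth.Misc4.CohProperSupp.cohM X) e h

lemma isCohD_shift {K : DCoh.D X} (h : DCoh.IsCohD K) (n : ℤ) : DCoh.IsCohD (K⟦n⟧) :=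
  Groth.DerivedAdj.cohIn_shift (Groth.Misc4.CohProperSupp.cohM X) K n h

theorem isCohD_mid (T : Triangle (DCoh.D X)) (hT : T ∈ distTriang _)
    (h₁ : DCoh.IsCohD T.obj₁) (h₃ : DCoh.IsCohD T.obj₃) : DCoh.IsCohD T.obj₂ :=
  Groth.DerivedAdj.cohIn_obj₂ (Groth.Misc4.CohProperSupp.cohM X) T hT h₁ h₃

lemma isCoh_restrict {M : X.Modules} (h : Coh.IsCoh M) {U : Scheme.{u}} (j : U ⟶ X) [IsOpenImmersion j] :
    Coh.IsCoh ((Scheme.Modules.restrictFunctor j).obj M) :=
  haveI := h.1
  Groth.QCohMod.isCoh_of_iso ((Scheme.Modules.restrictFunctorIsoPullback j).app M).symm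
    ⟨inferInstance, Groth.QCohMod.isFT_pullback _ M h.2⟩

lemma isCohD_restrict {U : Scheme.{u}} (j : U ⟶ X) [IsOpenImmersion j] {K : DCoh.D X}
    (h : DCoh.IsCohD K) : DCoh.IsCohD ((Rd j).obj K) := fun i => by
  obtain ⟨c⟩ := nonempty_hdRd j K i
  exact Groth.QCohMod.isCoh_of_iso c.symm (isCoh_restrict (h i) j)

lemma isCohD_of_local {K : DCoh.D X}
    (h : ∀ x : X, ∃ V : X.Opens, x ∈ V ∧ DCoh.IsCohD ((Rd V.ι).obj K)) : DCoh.IsCohD K := fun i =>
  isCoh_of_local fun x => by
    obtain ⟨V, hx, hV⟩ := h x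
    obtain ⟨c⟩ := nonempty_hdRd V.ι K i
    exact ⟨V, hx, Groth.QCohMod.isCoh_of_iso c (hV i)⟩

/-- the case of a complex in degree zero -/
theorem isCohD_tot_single (P : CochainComplex X.Modules ℤ) (hP : DCoh.IsCohD (DCoh.toD X P))
    {N : X.Modules} (hN : FlatMod.IsFinLocFree N) :
    DCoh.IsCohD (DCoh.toD X (tot (T X) P ((single X.Modules up 0).obj N))) := fun i => by
  let G := (T X).flip.obj N
  have hG : ∀ S : ShortComplex X.Modules, S.ShortExact → (S.map G).ShortExact :=
    Groth.DerivedCoh.KFlat.flat_of_isFlat (Groth.DerivedCoh.PCoh.isFlat_of_isFinLocFree hN)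
  obtain ⟨hl, hr⟩ : PreservesFiniteLimits G ∧ PreservesFiniteColimits G :=
    ((Functor.exact_tfae G).out 0 3).1 hG
  have hi : Coh.IsCoh (P.homology i) :=
    Groth.QCohMod.isCoh_of_iso ((DerivedCategory.homologyFunctorFactors X.Modules i).app P) (hP i)
  have hq : Coh.IsCoh (G.obj (P.homology i)) :=
    Groth.RefRank.isCoh_tensorMod hi (Groth.KTheory.LocFree.isCoh hN)
  let e : tot (T X) P ((single X.Modules up 0).obj N) ≅ (G.mapHomologicalComplex up).obj P :=
    (mapBifunctorFlipIso P ((single X.Modules up 0).obj N) (T X) up).symm ≪≫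
      Groth.DerivedCoh.KFlat.totSingleIso (T X).flip N P
  exact Groth.QCohMod.isCoh_of_iso ((DerivedCategory.homologyFunctorFactors X.Modules i).app _ ≪≫
    (HomologicalComplex.homologyFunctor X.Modules up i).mapIso e ≪≫ (P.sc i).mapHomologyIso G).symm hq

/-- the case of a complex in a single degree -/
theorem isCohD_tot_of_concentrated (P : CochainComplex X.Modules ℤ) (hP : DCoh.IsCohD (DCoh.toD X P))
    (C : CochainComplex X.Modules ℤ) (hC : DCoh.IsStrictlyPerfect C) (n : ℤ)
    (h : ∀ i, i ≠ n → IsZero (C.X i)) : DCoh.IsCohD (DCoh.toD X (tot (T X) P C)) := by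
  haveI : C.IsStrictlyGE n := (CochainComplex.isStrictlyGE_iff _ _).2 fun i hi => h i (by omega)
  haveI : C.IsStrictlyLE n := (CochainComplex.isStrictlyLE_iff _ _).2 fun i hi => h i (by omega)
  obtain ⟨M, ⟨e⟩⟩ := CochainComplex.exists_iso_single C n
  have hM : FlatMod.IsFinLocFree M := Groth.KTheory.LocFree.isFinLocFree_of_iso
    ((HomologicalComplex.eval _ _ n).mapIso e ≪≫ singleObjXSelf up n M) (hC.2 n)
  let e' : C ≅ ((single X.Modules up 0).obj M)⟦(-n)⟧ :=
    e ≪≫ ((CochainComplex.singleFunctors X.Modules).shiftIso (-n) n 0 (by omega)).symm.app M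
  exact isCohD_of_iso ((DerivedCategory.Q.commShiftIso (-n)).symm.app _ ≪≫
    DerivedCategory.Q.mapIso ((CochainComplex.mapBifunctorShift₂Iso P ((single X.Modules up 0).obj M) (T X) (-n)).symm ≪≫
      (totR (T X) P).mapIso e'.symm))
    (isCohD_shift (isCohD_tot_single P hP hM) (-n))

/-- a strictly perfect complex in degrees `[a, a + k)` -/
theorem isCohD_tot_perfect (P : CochainComplex X.Modules ℤ) (hP : DCoh.IsCohD (DCoh.toD X P)) :
    ∀ (k : ℕ) (a : ℤ) (C : CochainComplex X.Modules ℤ), DCoh.IsStrictlyPerfect C →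
      (∀ i, i < a ∨ a + k ≤ i → IsZero (C.X i)) → DCoh.IsCohD (DCoh.toD X (tot (T X) P C)) := by
  intro k
  induction k with
  | zero =>
    intro a C hC h
    refine isCohD_tot_of_concentrated P hP C hC a fun i _ => h i ?_
    omega
  | succ k ih =>
    intro a C hC h
    let E := HomologicalComplex.stupidTrunc C (ComplexShape.embeddingUpIntGE (a + 1))
    let ι : E ⟶ C := Groth.DerivedCoh.PCoh.stupidι C (a + 1)
    have h0 : ∀ i, i < a + 1 → IsZero (E.X i) := fun i hi =>
      HomologicalComplex.isZero_stupidTrunc_X C _ i fun m => by simp; lia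
    have hi : ∀ i, a + 1 ≤ i → IsIso (ι.f i) := Groth.DerivedCoh.PCoh.isIso_stupidι_f C (a + 1)
    haveI : ∀ i, Mono (ι.f i) := fun i => by
      by_cases hai : a + 1 ≤ i
      · have := hi i hai; infer_instance
      · exact ⟨fun u v _ => (h0 i (by omega)).eq_of_tgt u v⟩
    have hE : DCoh.IsStrictlyPerfect E := by
      refine ⟨⟨a, a + (k + 1 : ℕ), fun i hi' => ?_⟩, fun i => ?_⟩
      · by_cases hai : a + 1 ≤ i
        · have := hi i hai
          exact (h i (by omega)).of_iso (asIso (ι.f i))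
        · exact h0 i (by omega)
      · by_cases hai : a + 1 ≤ i
        · have := hi i hai
          exact Groth.KTheory.LocFree.isFinLocFree_of_iso (asIso (ι.f i)).symm (hC.2 i)
        · exact Groth.KTheory.LocFree.isFinLocFree_zero (h0 i (by omega))
    haveI : Mono ι := HomologicalComplex.mono_of_mono_f _ fun i => inferInstance
    let C' := cokernel ι
    let S : ShortComplex (CochainComplex X.Modules ℤ) := ShortComplex.mk ι (cokernel.π ι) (cokernel.condition ι)
    have hS : S.ShortExact :=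
      ShortComplex.ShortExact.mk' (ShortComplex.exact_of_g_is_cokernel _ (cokernelIsCokernel ι))
        inferInstance inferInstance
    have hne : ∀ i, i ≠ a → IsZero (C'.X i) := fun i hia => by
      have hSi := hS.map_of_exact (eval X.Modules up i)
      by_cases hai : a + 1 ≤ i
      · haveI := hi i hai
        refine (IsZero.iff_id_eq_zero _).2 ?_
        haveI : Epi ((cokernel.π ι).f i) := hSi.epi_g
        rw [← cancel_epi ((cokernel.π ι).f i), ← cancel_epi (ι.f i), Category.comp_id, comp_zero, comp_zero,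
          ← comp_f, cokernel.condition, zero_f]
      · haveI : Epi ((cokernel.π ι).f i) := hSi.epi_g
        exact IsZero.of_epi ((cokernel.π ι).f i) (h i (by omega))
    have hCa : IsIso ((cokernel.π ι).f a) := by
      have hSa := hS.map_of_exact (eval X.Modules up a)
      exact hSa.isIso_g_iff.2 (h0 a (by omega))
    have hC' : DCoh.IsStrictlyPerfect C' := by
      refine ⟨⟨a, a, fun i hi' => hne i (by omega)⟩, fun i => ?_⟩
      by_cases hia : i = a
      · subst hia
        exact Groth.KTheory.LocFree.isFinLocFree_of_iso (asIso ((cokernel.π ι).f i)) (hC.2 i)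
      · exact Groth.KTheory.LocFree.isFinLocFree_zero (hne i hia)
    have hsp : ∀ q, Nonempty (S.map (eval X.Modules up q)).Splitting := fun q => by
      have hSq := hS.map_of_exact (eval X.Modules up q)
      by_cases hai : a + 1 ≤ q
      · haveI : IsIso (S.map (eval X.Modules up q)).f := hi q hai
        exact ⟨ShortComplex.Splitting.ofExactOfRetraction _ hSq.exact (inv (S.map (eval X.Modules up q)).f)
          (IsIso.hom_inv_id _) hSq.epi_g⟩
      · haveI : IsIso (S.map (eval X.Modules up q)).g := hSq.isIso_g_iff.2 (h0 q (by omega))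
        exact ⟨ShortComplex.Splitting.ofExactOfSection _ hSq.exact (inv (S.map (eval X.Modules up q)).g)
          (IsIso.inv_hom_id _) hSq.mono_f⟩
    have hS' : (S.map (totR (T X) P)).ShortExact := Groth.DerivedCoh.KFlat.shortExact_totR (T X) P S
      fun p q => ((hsp q).some.map ((T X).obj (P.X p))).shortExact
    refine isCohD_mid _ (DerivedCategory.triangleOfSES_distinguished hS') ?_ ?_
    · exact ih (a + 1) E hE fun i hi' => by
        by_cases hai : a + 1 ≤ i
        · have := hi i hai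
          exact (h i (by omega)).of_iso (asIso (ι.f i))
        · exact h0 i (by omega)
    · exact isCohD_tot_of_concentrated P hP C' hC' a hne

/-- tensoring with a strictly perfect complex preserves quasi-coherence of cohomology -/
theorem isCohD_ltensor_perfect (δ : CochainComplex X.Modules ℤ) (hδ : DCoh.IsStrictlyPerfect δ)
    [DCoh.HasLTensorCx δ] {M : DCoh.D X} (hM : DCoh.IsCohD M) :
    DCoh.IsCohD ((DCoh.LTensorCx δ).obj M) := by
  obtain ⟨F, ⟨e⟩⟩ := exists_rep M
  obtain ⟨a, b, hab⟩ := hδ.1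
  refine isCohD_of_iso ((Groth.DerivedCoh.KFlat.ltcxIso δ
      (Groth.DerivedCoh.PCoh.isKFlat_of_isStrictlyPerfect hδ) F).symm ≪≫ (DCoh.LTensorCx δ).mapIso e)
    (isCohD_tot_perfect F (isCohD_of_iso e.symm hM) (b - a + 1).toNat a δ hδ fun i hi => hab i ?_)
  omega

/-- `RHom(K, L)` has quasi-coherent cohomology for perfect `K` -/
theorem isCohD_rhom (K : CochainComplex X.Modules ℤ) (hKp : DCoh.IsPerfect (DCoh.toD X K))
    [DCoh.HasLTensorCx K] [DCoh.HasRSheafHom K] {L : DCoh.D X} (hL : DCoh.IsCohD L) :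
    DCoh.IsCohD ((DCoh.RSheafHom K).obj L) := by
  let K₀ := (Groth.DerivedCoh.KFlat.flatResolution X).obj K
  let π := (Groth.DerivedCoh.KFlat.flatResolutionAug X).app K
  haveI : QuasiIso π := Groth.DerivedCoh.KFlat.flatResolution_quasiIso K
  haveI : IsIso (DerivedCategory.Q.map π) :=
    (DerivedCategory.isIso_Q_map_iff_quasiIso _ _).2 inferInstance
  have hK₀ := Groth.DerivedCoh.KFlat.flatResolution_isKFlat K
  haveI := Groth.DerivedCoh.KFlat.hasLTensorCx K₀
  haveI := Groth.Misc4.HasRSheafHom.hasRSheafHom K₀ hK₀ (Groth.DerivedCoh.KFlat.flatResolution_isFlat K)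
  haveI : ∀ C, IsIso ((Functor.whiskerLeft (Groth.DerivedCoh.KFlat.flatResolution X)
      (Functor.whiskerRight ((DCoh.tensorCx (X := X)).flip.map π) DerivedCategory.Q)).app C) := fun C => by
    haveI : QuasiIso ((totR (T X) ((Groth.DerivedCoh.KFlat.flatResolution X).obj C)).map π) :=
      Groth.DerivedCoh.KFlat.quasiIso_totR (T X)
        (Groth.DerivedCoh.KFlat.flatResolution_isKFlat_flip C) π
    exact (DerivedCategory.isIso_Q_map_iff_quasiIso _ _).2 this
  haveI := NatIso.isIso_of_isIso_app (Functor.whiskerLeft (Groth.DerivedCoh.KFlat.flatResolution X)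
    (Functor.whiskerRight ((DCoh.tensorCx (X := X)).flip.map π) DerivedCategory.Q))
  let c : DCoh.LTensorCx K₀ ≅ DCoh.LTensorCx K :=
    Localization.liftNatIso DerivedCategory.Q (HomologicalComplex.quasiIso X.Modules up)
      (DerivedCategory.Q ⋙ DCoh.LTensorCx K₀) (DerivedCategory.Q ⋙ DCoh.LTensorCx K) _ _
      (Groth.DerivedCoh.KFlat.ltcxResIso K₀ ≪≫
        asIso (Functor.whiskerLeft (Groth.DerivedCoh.KFlat.flatResolution X)
          (Functor.whiskerRight ((DCoh.tensorCx (X := X)).flip.map π) DerivedCategory.Q)) ≪≫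
        (Groth.DerivedCoh.KFlat.ltcxResIso K).symm)
  refine isCohD_of_iso ((((DCoh.RSheafHomAdj K).ofNatIsoLeft c.symm).rightAdjointUniq
    (DCoh.RSheafHomAdj K₀)).app L).symm ?_
  refine isCohD_of_local fun x => ?_
  obtain ⟨V, E, δ, hδ, hx, ⟨e⟩⟩ := Groth.DerivedCoh.Duality.exists_local_rhom K₀ hK₀
    (isPerfect_of_iso (asIso (DerivedCategory.Q.map π)).symm hKp) x
  haveI := hδ
  exact ⟨V, hx, isCohD_of_iso (e.app L).symm
    (isCohD_ltensor_perfect δ.V δ.isStrictlyPerfect (isCohD_restrict V.ι hL))⟩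

/-- comparing `RHom` out of two complexes linked by a near isomorphism -/
theorem isCoh_hd_of_near {A K : CochainComplex X.Modules ℤ} (g : A ⟶ K) (hA : IsKFlat (T X) A)
    (hK : IsKFlat (T X) K) {m : ℤ} (hg : Near m (DerivedCategory.Q.map g)) [DCoh.HasLTensorCx K]
    [DCoh.HasRSheafHom K] [DCoh.HasLTensorCx A] [DCoh.HasRSheafHom A] {L : DCoh.D X} {a : ℤ}
    [L.IsGE a] (i : ℤ) (hi : i + m + 2 ≤ a)
    (hq : Coh.IsCoh (DCoh.HD ((DCoh.RSheafHom A).obj L) i)) :
    Coh.IsCoh (DCoh.HD ((DCoh.RSheafHom K).obj L) i) := by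
  let Z := CochainComplex.mappingCone (𝟙 A)
  have hZ : IsKFlat (T X) Z := hA.mappingCone (T X) (𝟙 A) hA
  let S₀ : ShortComplex (CochainComplex X.Modules ℤ) :=
    ShortComplex.mk (biprod.inl : K ⟶ K ⊞ Z) biprod.snd biprod.inl_snd
  let K₁ := K ⊞ Z
  have hK₁ : IsKFlat (T X) K₁ :=
    (Groth.DerivedCoh.KFlat.isKFlat_two_of_three (T X) S₀ fun Y q =>
      (((ShortComplex.Splitting.ofHasBinaryBiproduct K Z).map (eval X.Modules up q)).map
        ((T X).obj Y)).shortExact).2.1 hK hZ
  have hz : IsZero (DerivedCategory.Q.obj Z) := by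
    rw [IsZero.iff_id_eq_zero, ← CategoryTheory.Functor.map_id,
      DerivedCategory.Q_map_eq_of_homotopy _ (CochainComplex.mappingCone.homotopyToZeroOfId A)]
    exact Functor.map_zero _ _ _
  let p : K₁ ⟶ K := biprod.fst
  haveI : IsIso (DerivedCategory.Q.map p) := by
    refine ⟨DerivedCategory.Q.map biprod.inl, ?_, ?_⟩
    · rw [← Functor.map_comp, ← CategoryTheory.Functor.map_id]
      have : DerivedCategory.Q.map (biprod.snd ≫ biprod.inr : K₁ ⟶ K₁) = 0 := by
        rw [Functor.map_comp, hz.eq_of_tgt (DerivedCategory.Q.map biprod.snd) 0, zero_comp]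
      conv_rhs => rw [← biprod.total, Functor.map_add, this, add_zero]
    · rw [← Functor.map_comp, biprod.inl_fst, CategoryTheory.Functor.map_id]
  haveI : QuasiIso p := (DerivedCategory.isIso_Q_map_iff_quasiIso _ p).1 inferInstance
  let g₁ : A ⟶ K₁ := biprod.lift g (CochainComplex.mappingCone.inr (𝟙 A))
  have hg₁ : Near m (DerivedCategory.Q.map g₁) := by
    have : DerivedCategory.Q.map g₁ = DerivedCategory.Q.map g ≫ inv (DerivedCategory.Q.map p) := by
      rw [IsIso.eq_comp_inv, ← Functor.map_comp, biprod.lift_fst]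
    rw [this]
    exact hg.comp (Groth.DerivedCoh.PCoh.near_of_isIso _)
  let r : ∀ q, K₁.X q ⟶ A.X q := fun q =>
    (biprod.snd : K₁ ⟶ Z).f q ≫ (CochainComplex.mappingCone.snd (𝟙 A)).v q q (add_zero q)
  have hr : ∀ q, g₁.f q ≫ r q = 𝟙 _ := fun q => by
    rw [← Category.assoc, ← comp_f, biprod.lift_snd, CochainComplex.mappingCone.inr_f_snd_v]
  haveI : ∀ q, Mono (g₁.f q) := fun q => (show IsSplitMono (g₁.f q) from ⟨⟨r q, hr q⟩⟩).mono
  haveI : Mono g₁ := HomologicalComplex.mono_of_mono_f _ fun q => inferInstance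
  let S : ShortComplex (CochainComplex X.Modules ℤ) :=
    ShortComplex.mk g₁ (cokernel.π g₁) (cokernel.condition g₁)
  have hS : S.ShortExact :=
    ShortComplex.ShortExact.mk' (ShortComplex.exact_of_g_is_cokernel _ (cokernelIsCokernel g₁))
      inferInstance inferInstance
  have hsp : ∀ q, Nonempty (S.map (eval X.Modules up q)).Splitting := fun q => by
    have hSq := hS.map_of_exact (eval X.Modules up q)
    exact ⟨ShortComplex.Splitting.ofExactOfRetraction _ hSq.exact (r q) (hr q) hSq.epi_g⟩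
  have hC : IsKFlat (T X) S.X₃ :=
    (Groth.DerivedCoh.KFlat.isKFlat_two_of_three (T X) S fun Y q =>
      ((hsp q).some.map ((T X).obj Y)).shortExact).1 hA hK₁
  have hCb : Below m (DCoh.toD X S.X₃) :=
    Groth.DerivedCoh.PCoh.below_of_near _ (DerivedCategory.triangleOfSES_distinguished hS) hg₁
  haveI := Groth.DerivedCoh.KFlat.hasLTensorCx K₁
  let cK := Groth.DerivedCoh.Duality.ltcxMapIso hK₁ hK p
  let adjK : DCoh.LTensorCx K₁ ⊣ DCoh.RSheafHom K := (DCoh.RSheafHomAdj K).ofNatIsoLeft cK.symm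
  let adjA := DCoh.RSheafHomAdj A
  letI : Localization.Lifting DerivedCategory.Q (HomologicalComplex.quasiIso X.Modules up)
      (DCoh.tensorCxQ A) (DCoh.LTensorCx A) := ⟨Groth.DerivedCoh.KFlat.ltcxNatIso A hA⟩
  letI : Localization.Lifting DerivedCategory.Q (HomologicalComplex.quasiIso X.Modules up)
      (DCoh.tensorCxQ K₁) (DCoh.LTensorCx K₁) := ⟨Groth.DerivedCoh.KFlat.ltcxNatIso K₁ hK₁⟩
  let τ : DCoh.LTensorCx A ⟶ DCoh.LTensorCx K₁ :=
    Localization.liftNatTrans DerivedCategory.Q (HomologicalComplex.quasiIso X.Modules up)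
      (DCoh.tensorCxQ A) (DCoh.tensorCxQ K₁) _ _
      (Functor.whiskerRight ((DCoh.tensorCx (X := X)).flip.map g₁) DerivedCategory.Q)
  let φ : (DCoh.RSheafHom K).obj L ⟶ (DCoh.RSheafHom A).obj L :=
    adjA.homEquiv _ _ (τ.app _ ≫ adjK.counit.app L)
  have hb : ∀ S' : DCoh.D X, S'.IsLE (i + 1) →
      Function.Bijective (fun b : S' ⟶ (DCoh.RSheafHom K).obj L => b ≫ φ) := fun S' hS' => by
    haveI := hS'
    have hτ : Function.Bijective (fun b : (DCoh.LTensorCx K₁).obj S' ⟶ L => τ.app S' ≫ b) := by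
      have hB : Below (i + 2) S' := fun l hl => DerivedCategory.isZero_of_isLE S' (i + 1) l (by omega)
      obtain ⟨P, -, hPf, hP0, ⟨e⟩⟩ := Groth.DerivedCoh.PCoh.exists_flat_rep_of_below hB
      have hPk : IsKFlat (T X).flip P := by
        haveI : ∀ N, PreservesColimitsOfShape ℕ ((T X).flip.obj N) := fun N =>
          Groth.DerivedCoh.KFlat.preservesColimitsOfShape_tensorBi_flip N
        exact Groth.DerivedCoh.KFlat.isKFlat_of_flat (T X).flip P (i + 1)
          (fun q hq => hP0 q (by omega))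
          (fun q => Groth.DerivedCoh.KFlat.flat_flip_of_isFlat (hPf q))
      have hT := DerivedCategory.triangleOfSES_distinguished
        (Groth.DerivedCoh.KFlat.shortExact_totR (T X) P S fun _ q =>
          ((hsp q).some.map ((T X).obj _)).shortExact)
      have hTb := below_tot hP0 hPk hC hCb
      haveI : (DCoh.toD X (tot (T X) P S.X₃)).IsLE (i + m) := by
        rw [DerivedCategory.isLE_iff]
        exact fun l hl => hTb l (by omega)
      haveI : ((DCoh.toD X (tot (T X) P S.X₃))⟦(-1 : ℤ)⟧).IsLE (i + m + 1) :=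
        DerivedCategory.TStructure.t.isLE_shift _ (i + m) (-1) (i + m + 1) (by omega)
      have hbij := bijective_precomp (L := L) _ hT
        (fun g => Groth.TruncFactor.zero_of_isLE_of_isGE g (i + m) a (by omega)
          ‹(DCoh.toD X (tot (T X) P S.X₃)).IsLE (i + m)› inferInstance)
        (fun g => Groth.TruncFactor.zero_of_isLE_of_isGE g (i + m + 1) a (by omega)
          ‹((DCoh.toD X (tot (T X) P S.X₃))⟦(-1 : ℤ)⟧).IsLE (i + m + 1)› inferInstance)
      let eA : (DCoh.LTensorCx A).obj S' ≅ DCoh.toD X (tot (T X) P A) :=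
        (DCoh.LTensorCx A).mapIso e.symm ≪≫ Groth.DerivedCoh.KFlat.ltcxIso A hA P
      let eK : (DCoh.LTensorCx K₁).obj S' ≅ DCoh.toD X (tot (T X) P K₁) :=
        (DCoh.LTensorCx K₁).mapIso e.symm ≪≫ Groth.DerivedCoh.KFlat.ltcxIso K₁ hK₁ P
      have hsq : τ.app S' ≫ eK.hom = eA.hom ≫ DerivedCategory.Q.map ((totR (T X) P).map g₁) := by
        have := τ.naturality e.inv
        simp only [eA, eK, Iso.trans_hom, Functor.mapIso_hom, Iso.symm_hom, Category.assoc]
        rw [← reassoc_of% this]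
        refine congrArg (_ ≫ ·) ?_
        rw [show τ.app (DCoh.toD X P) = _ from Localization.liftNatTrans_app _ _ _ _ _ _ _ P]
        change ((Groth.DerivedCoh.KFlat.ltcxNatIso A hA).hom.app P ≫
            DerivedCategory.Q.map ((totR (T X) P).map g₁) ≫
            (Groth.DerivedCoh.KFlat.ltcxNatIso K₁ hK₁).inv.app P) ≫
            (Groth.DerivedCoh.KFlat.ltcxNatIso K₁ hK₁).hom.app P =
          (Groth.DerivedCoh.KFlat.ltcxNatIso A hA).hom.app P ≫
            DerivedCategory.Q.map ((totR (T X) P).map g₁)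
        refine (Category.assoc _ _ _).trans (congrArg
          (fun z => (Groth.DerivedCoh.KFlat.ltcxNatIso A hA).hom.app P ≫ z) ?_)
        exact (Category.assoc _ _ _).trans ((congrArg
          (fun z => DerivedCategory.Q.map ((totR (T X) P).map g₁) ≫ z)
          ((Groth.DerivedCoh.KFlat.ltcxNatIso K₁ hK₁).inv_hom_id_app P)).trans (Category.comp_id _))
      have : (fun b : (DCoh.LTensorCx K₁).obj S' ⟶ L => τ.app S' ≫ b) =
          Iso.homFromEquiv eA.symm ∘ (fun b => DerivedCategory.Q.map ((totR (T X) P).map g₁) ≫ b) ∘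
            Iso.homFromEquiv eK := by
        funext b
        change τ.app S' ≫ b = eA.hom ≫ DerivedCategory.Q.map ((totR (T X) P).map g₁) ≫ eK.inv ≫ b
        exact (congrArg (τ.app S' ≫ ·) (eK.hom_inv_id_assoc b)).symm.trans
          ((Category.assoc _ _ _).symm.trans ((congrArg (· ≫ eK.inv ≫ b) hsq).trans (Category.assoc _ _ _)))
      rw [this]
      exact eA.symm.homFromEquiv.bijective.comp (hbij.comp eK.homFromEquiv.bijective)
    have : (fun b : S' ⟶ (DCoh.RSheafHom K).obj L => b ≫ φ) =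
        adjA.homEquiv S' L ∘ (fun b => τ.app S' ≫ b) ∘ (adjK.homEquiv S' L).symm := by
      funext b
      refine (adjA.homEquiv_naturality_left b _).symm.trans (congrArg (adjA.homEquiv S' L) ?_)
      change _ = τ.app S' ≫ (adjK.homEquiv S' L).symm b
      rw [Adjunction.homEquiv_counit, ← τ.naturality_assoc]
    rw [this, Equiv.comp_bijective, Equiv.bijective_comp]
    exact hτ
  haveI := isIso_hd_of_bijective φ (i + 1) hb i le_rfl
  exact Groth.QCohMod.isCoh_of_iso
    (asIso ((DerivedCategory.homologyFunctor X.Modules i).map φ)).symm hq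

/-- `RHom(K, L)` has bounded below coherent cohomology for `K` bounded above and coherent, `L` bounded below and coherent. -/
theorem isCohD_isGE_rhom (K : CochainComplex X.Modules ℤ) (b : ℤ) [(DCoh.toD X K).IsLE b]
    (hKc : DCoh.IsCohD (DCoh.toD X K)) [DCoh.HasLTensorCx K] [DCoh.HasRSheafHom K] {L : DCoh.D X}
    (hL : DCoh.IsCohD L) (a : ℤ) [L.IsGE a] :
    DCoh.IsCohD ((DCoh.RSheafHom K).obj L) ∧ ((DCoh.RSheafHom K).obj L).IsGE (a - b) := by
  have hKp : ∀ m, DCoh.IsPseudoCoherentD m (DCoh.toD X K) := fun m =>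
    Groth.DerivedCoh.PCoh.isPseudoCoherentD_of_local fun x => by
      obtain ⟨_, ⟨V, hV, rfl⟩, hxV, -⟩ := X.isBasis_affineOpens.exists_subset_of_mem_open (Set.mem_univ x) isOpen_univ
      haveI : IsAffine (V : Scheme.{u}) := hV
      haveI : IsNoetherian (V : Scheme.{u}) := {}
      have h := isCohD_restrict (Scheme.Opens.ι V) hKc
      refine ⟨V, hxV, (Groth.DerivedCoh.PCohDescent.pcoh_iff_coherent _ (fun i => (h i).1) m).2
        ⟨fun i _ => h i, b, ?_⟩⟩
      rw [DerivedCategory.isLE_iff]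
      intro i hi
      obtain ⟨c⟩ := nonempty_hdRd (Scheme.Opens.ι V) (DCoh.toD X K) i
      exact ((Scheme.Modules.restrictFunctor (Scheme.Opens.ι V)).map_isZero
        (DerivedCategory.isZero_of_isLE (DCoh.toD X K) b i hi)).of_iso c
  let K₀ := (Groth.DerivedCoh.KFlat.flatResolution X).obj K
  let π := (Groth.DerivedCoh.KFlat.flatResolutionAug X).app K
  haveI : QuasiIso π := Groth.DerivedCoh.KFlat.flatResolution_quasiIso K
  haveI : IsIso (DerivedCategory.Q.map π) :=
    (DerivedCategory.isIso_Q_map_iff_quasiIso _ _).2 inferInstance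
  have hK₀ := Groth.DerivedCoh.KFlat.flatResolution_isKFlat K
  have hKf := Groth.DerivedCoh.KFlat.flatResolution_isFlat K
  haveI := Groth.DerivedCoh.KFlat.hasLTensorCx K₀
  haveI := Groth.Misc4.HasRSheafHom.hasRSheafHom K₀ hK₀ hKf
  haveI : ∀ C, IsIso ((Functor.whiskerLeft (Groth.DerivedCoh.KFlat.flatResolution X)
      (Functor.whiskerRight ((DCoh.tensorCx (X := X)).flip.map π) DerivedCategory.Q)).app C) := fun C => by
    haveI : QuasiIso ((totR (T X) ((Groth.DerivedCoh.KFlat.flatResolution X).obj C)).map π) :=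
      Groth.DerivedCoh.KFlat.quasiIso_totR (T X)
        (Groth.DerivedCoh.KFlat.flatResolution_isKFlat_flip C) π
    exact (DerivedCategory.isIso_Q_map_iff_quasiIso _ _).2 this
  haveI := NatIso.isIso_of_isIso_app (Functor.whiskerLeft (Groth.DerivedCoh.KFlat.flatResolution X)
    (Functor.whiskerRight ((DCoh.tensorCx (X := X)).flip.map π) DerivedCategory.Q))
  let c : DCoh.LTensorCx K₀ ≅ DCoh.LTensorCx K :=
    Localization.liftNatIso DerivedCategory.Q (HomologicalComplex.quasiIso X.Modules up)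
      (DerivedCategory.Q ⋙ DCoh.LTensorCx K₀) (DerivedCategory.Q ⋙ DCoh.LTensorCx K) _ _
      (Groth.DerivedCoh.KFlat.ltcxResIso K₀ ≪≫
        asIso (Functor.whiskerLeft (Groth.DerivedCoh.KFlat.flatResolution X)
          (Functor.whiskerRight ((DCoh.tensorCx (X := X)).flip.map π) DerivedCategory.Q)) ≪≫
        (Groth.DerivedCoh.KFlat.ltcxResIso K).symm)
  let eR := (((DCoh.RSheafHomAdj K).ofNatIsoLeft c.symm).rightAdjointUniq (DCoh.RSheafHomAdj K₀)).app L
  suffices h : DCoh.IsCohD ((DCoh.RSheafHom K₀).obj L) ∧ ((DCoh.RSheafHom K₀).obj L).IsGE (a - b) from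
    ⟨isCohD_of_iso eR.symm h.1, haveI := h.2; DerivedCategory.TStructure.t.isGE_of_iso eR.symm (a - b)⟩
  refine ⟨fun i => isCoh_of_local fun x => ?_, (DerivedCategory.isGE_iff _ _).2 fun i hi => ?_⟩
  rotate_left
  · let t : Triangulated.TStructure (DCoh.D X) := DerivedCategory.TStructure.t
    let R := (DCoh.RSheafHom K₀).obj L
    have hι : (t.truncLEι i).app R = 0 := by
      let S := (t.truncLE i).obj R
      have hS : S.IsLE i := inferInstanceAs (t.IsLE ((t.truncLE i).obj R) i)
      have hsub : Subsingleton (S ⟶ R) := by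
        suffices Subsingleton ((DCoh.LTensorCx K₀).obj S ⟶ L) from
          (((DCoh.RSheafHomAdj K₀).homEquiv S L).symm).subsingleton
        refine ⟨fun g g' => ?_⟩
        haveI : ((DCoh.LTensorCx K₀).obj S).IsLE (a - 1) := by
          haveI := hS
          have hB : Below (i + 1) S := fun l hl => DerivedCategory.isZero_of_isLE S i l (by omega)
          obtain ⟨P, -, hPf, hP0, ⟨e⟩⟩ := Groth.DerivedCoh.PCoh.exists_flat_rep_of_below hB
          have hPk : IsKFlat (T X).flip P := by
            haveI : ∀ N, PreservesColimitsOfShape ℕ ((T X).flip.obj N) := fun N =>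
              Groth.DerivedCoh.KFlat.preservesColimitsOfShape_tensorBi_flip N
            exact Groth.DerivedCoh.KFlat.isKFlat_of_flat (T X).flip P i
              (fun q hq => hP0 q (by omega))
              (fun q => Groth.DerivedCoh.KFlat.flat_flip_of_isFlat (hPf q))
          have hKb : Below (b + 1) (DCoh.toD X K₀) :=
            Below.of_iso (fun l hl => DerivedCategory.isZero_of_isLE (DCoh.toD X K) b l (by omega))
              (asIso (DerivedCategory.Q.map π)).symm
          have hTb := below_tot hP0 hPk hK₀ hKb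
          rw [DerivedCategory.isLE_iff]
          exact fun l hl => (Below.of_iso hTb ((Groth.DerivedCoh.KFlat.ltcxIso K₀ hK₀ P).symm ≪≫
            (DCoh.LTensorCx K₀).mapIso e)) l (by omega)
        exact (Groth.TruncFactor.zero_of_isLE_of_isGE g (a - 1) a (by omega) inferInstance inferInstance).trans
          (Groth.TruncFactor.zero_of_isLE_of_isGE g' (a - 1) a (by omega) inferInstance inferInstance).symm
      exact hsub.elim _ _
    have := Groth.DerivedAdj.isIso_homologyMap_truncLE R i i le_rfl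
    rw [hι, Functor.map_zero] at this
    rw [IsZero.iff_id_eq_zero, ← cancel_epi (0 : (DerivedCategory.homologyFunctor X.Modules i).obj
      ((t.truncLE i).obj R) ⟶ (DerivedCategory.homologyFunctor X.Modules i).obj R)]
    simp
  obtain ⟨V, hx, E, α, hE, hα⟩ := (Groth.DerivedCoh.PCoh.isPseudoCoherentD_iff _ _).1
    (Groth.DerivedCoh.PCoh.isPseudoCoherentD_of_iso (asIso (DerivedCategory.Q.map π)).symm
      (hKp (a - i - 2))) x
  refine ⟨V, hx, ?_⟩
  let K' := (Rc (Scheme.Opens.ι V)).obj K₀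
  let α' : DCoh.toD _ E ⟶ DCoh.toD _ K' := α ≫ (rdQIso (Scheme.Opens.ι V) K₀).hom
  obtain ⟨A, s, hs, g, hfac⟩ := DerivedCategory.right_fac α'
  haveI := hs
  have hsg : DerivedCategory.Q.map g = DerivedCategory.Q.map s ≫ α' := by
    rw [hfac, IsIso.hom_inv_id_assoc]
  let A₀ := (Groth.DerivedCoh.KFlat.flatResolution _).obj A
  let ρ := (Groth.DerivedCoh.KFlat.flatResolutionAug _).app A
  haveI : IsIso (DerivedCategory.Q.map ρ) := (DerivedCategory.isIso_Q_map_iff_quasiIso _ ρ).2
    (Groth.DerivedCoh.KFlat.flatResolution_quasiIso A)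
  have hA₀ := Groth.DerivedCoh.KFlat.flatResolution_isKFlat A
  have hK' : IsKFlat (T _) K' := Groth.DerivedCoh.PCoh.isKFlat_rc (Scheme.Opens.ι V) hK₀
  haveI := Groth.DerivedCoh.KFlat.hasLTensorCx A₀
  haveI := Groth.Misc4.HasRSheafHom.hasRSheafHom A₀ hA₀ (Groth.DerivedCoh.KFlat.flatResolution_isFlat A)
  haveI := Groth.DerivedCoh.KFlat.hasLTensorCx K'
  haveI := Groth.Misc4.HasRSheafHom.hasRSheafHom K' hK'
    (fun q => Groth.DerivedCoh.PCoh.isFlat_restrict (Scheme.Opens.ι V) (hKf q))
  let g₀ : A₀ ⟶ K' := ρ ≫ g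
  have hg : Near (a - i - 2) (DerivedCategory.Q.map g₀) := by
    rw [Functor.map_comp, hsg]
    exact (Groth.DerivedCoh.PCoh.near_of_isIso _).comp ((Groth.DerivedCoh.PCoh.near_of_isIso _).comp
      (hα.comp (Groth.DerivedCoh.PCoh.near_of_isIso _)))
  haveI : ((Rd (Scheme.Opens.ι V)).obj L).IsGE a := by
    rw [DerivedCategory.isGE_iff]
    intro l hl
    obtain ⟨d⟩ := nonempty_hdRd (Scheme.Opens.ι V) L l
    exact ((Scheme.Modules.restrictFunctor (Scheme.Opens.ι V)).map_isZero
      (DerivedCategory.isZero_of_isGE L a l hl)).of_iso d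
  have hq := isCoh_hd_of_near g₀ hA₀ hK' hg (L := (Rd (Scheme.Opens.ι V)).obj L) (a := a) i (by omega)
    (isCohD_rhom A₀ (isPerfect_of_iso (asIso (DerivedCategory.Q.map ρ) ≪≫
      asIso (DerivedCategory.Q.map s)).symm (isPerfect_toD hE)) (isCohD_restrict (Scheme.Opens.ι V) hL) i)
  obtain ⟨d⟩ := nonempty_hdRd (Scheme.Opens.ι V) ((DCoh.RSheafHom K₀).obj L) i
  exact Groth.QCohMod.isCoh_of_iso d (Groth.QCohMod.isCoh_of_iso
    ((DerivedCategory.homologyFunctor _ i).mapIso
      ((Groth.DerivedCoh.ExtZero.restrRHomIso (Scheme.Opens.ι V) K₀).app L)).symm hq)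

end Groth.Misc4.CohDRHom
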