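import Groth.Agent.SiteCohomology.TotallyAcyclic
import Groth.Agent.SitesTopoi.Mod.TensorExact
import Mathlib.Algebra.Category.ModuleCat.Presheaf.Free
import Mathlib.CategoryTheory.Adjunction.Additive
import Mathlib.Algebra.Category.ModuleCat.Monoidal.Basic

/-! The internal hom into an injective module is totally acyclic. -/

universe u

open CategoryTheory CategoryTheory.Limits Opposite Simplicial AlgebraicTopology MonoidalCategory

set_option backward.defeqAttrib.useBackward true
set_option backward.isDefEq.respectTransparency false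
set_option synthInstance.maxHeartbeats 400000
set_option maxHeartbeats 1000000

namespace Groth.Misc4.InternalHomAcyclic

open Groth.SiteCohomology Groth.SitesTopoi.ModH

section General

variable {A B : Type*} [Category A] [Category B] [Abelian A] [Abelian B]

/-- Augmented resolutions are reflected by exact faithful functors. -/
lemma isAugResolution_of_map (G : A ⥤ B) [G.Additive] [G.Faithful] [PreservesFiniteLimits G]
    [PreservesFiniteColimits G] {X : SimplicialObject.Augmented A}
    (h : IsAugResolution (((SimplicialObject.Augmented.whiskering A B).obj G).obj X)) : IsAugResolution X := by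
  have hhom : ((((SimplicialObject.Augmented.whiskering A B).obj G).obj X).hom.app (op ⦋0⦌)) =
      G.map (X.hom.app (op ⦋0⦌)) := Category.comp_id _
  have hd := fun n => map_objD G X.left n
  refine { epi := ?_, zero₀ := objD_comp_ε _, exact₀ := ?_,
           zero := fun n => AlternatingFaceMapComplex.d_squared _ n, exact := fun n => ?_ }
  · have := h.epi
    rw [hhom] at this
    exact G.epi_of_epi_map this
  · exact ((ShortComplex.mk _ _ (objD_comp_ε X)).exact_map_iff_of_faithful G).1
      (exact_mk_of_eq (hd 0) hhom.symm _ h.exact₀)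
  · exact ((ShortComplex.mk _ _ (AlternatingFaceMapComplex.d_squared X.left n)).exact_map_iff_of_faithful G).1
      (exact_mk_of_eq (hd (n + 1)) (hd n) _ (h.exact n))

/-- Augmented resolutions only depend on the functor up to isomorphism. -/
lemma isAugResolution_of_natIso {E : Type*} [Category E] {F₁ F₂ : E ⥤ A} (e : F₁ ≅ F₂)
    {X : SimplicialObject.Augmented E}
    (h : IsAugResolution (((SimplicialObject.Augmented.whiskering E A).obj F₁).obj X)) :
    IsAugResolution (((SimplicialObject.Augmented.whiskering E A).obj F₂).obj X) := by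
  let φ := ((SimplicialObject.Augmented.whiskering E A).mapIso e).app X
  have : IsIso φ.hom.left := inferInstanceAs (IsIso (SimplicialObject.Augmented.drop.map φ.hom))
  have : IsIso φ.hom.right := inferInstanceAs (IsIso (SimplicialObject.Augmented.point.map φ.hom))
  exact h.congr_point φ.hom

end General

variable {C : Type u} [SmallCategory C] {J : GrothendieckTopology C} {O : Sheaf J CommRingCat.{u}}

/-- Sections of sheaves of modules as presheaves of sets. -/
noncomputable abbrev setsP (O : Sheaf J CommRingCat.{u}) : ModSite.Mod O ⥤ (Cᵒᵖ ⥤ Type u) :=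
  forgetP O ⋙ PresheafOfModules.toPresheaf _ ⋙ (Functor.whiskeringRight _ _ _).obj (forget AddCommGrpCat.{u})

/-- The free sheaf of modules on a presheaf of sets. -/
noncomputable abbrev freeM (O : Sheaf J CommRingCat.{u}) : (Cᵒᵖ ⥤ Type u) ⥤ ModSite.Mod O :=
  PresheafOfModules.free.{u} (O.obj ⋙ forget₂ CommRingCat.{u} RingCat.{u}) ⋙ aP O

/-- Its adjunction. -/
noncomputable def freeMAdj (O : Sheaf J CommRingCat.{u}) : freeM O ⊣ setsP O :=
  (PresheafOfModules.freeAdjunction (O.obj ⋙ forget₂ CommRingCat.{u} RingCat.{u})).comp (adjP O)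

/-- The comparison from free abelian sheaves. -/
noncomputable def cmpFree (O : Sheaf J CommRingCat.{u}) :
    freeSh J ⟶ freeM O ⋙ SheafOfModules.toSheaf (ModSite.ringSh O) where
  app P := ((freeShAdj J).homEquiv P ((SheafOfModules.toSheaf (ModSite.ringSh O)).obj ((freeM O).obj P))).symm
    ((freeMAdj O).unit.app P)
  naturality {P Q} f := by
    refine ((freeShAdj J).homEquiv_naturality_left_symm _ _).symm.trans ?_
    refine Eq.trans ?_ ((freeShAdj J).homEquiv_naturality_right_symm _ _)
    exact congrArg _ ((freeMAdj O).unit.naturality f)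

lemma bijective_cmpFree (P : Cᵒᵖ ⥤ Type u) (M : ModSite.Mod O) :
    Function.Bijective fun g : (freeM O).obj P ⟶ M =>
      (cmpFree O).app P ≫ (SheafOfModules.toSheaf (ModSite.ringSh O)).map g := by
  have : (fun g : (freeM O).obj P ⟶ M => (cmpFree O).app P ≫ (SheafOfModules.toSheaf (ModSite.ringSh O)).map g) =
      ((freeShAdj J).homEquiv P _).symm ∘ (freeMAdj O).homEquiv P M := by
    funext g
    refine ((freeShAdj J).homEquiv_naturality_right_symm _ _).symm.trans ?_
    exact congrArg _ ((freeMAdj O).homEquiv_unit _ _ _).symm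
  rw [this]
  exact (Equiv.bijective _).comp (Equiv.bijective _)

lemma isIso_freeM_map_of_W {P Q : Cᵒᵖ ⥤ Type u} (f : P ⟶ Q) (hf : J.W f) : IsIso ((freeM O).map f) := by
  rw [isIso_iff_coyoneda_map_bijective]
  intro G
  have hG : Presheaf.IsSheaf J ((setsP O).obj G) :=
    GrothendieckTopology.HasSheafCompose.isSheaf G.val.presheaf G.isSheaf
  have key : (fun x => (freeM O).map f ≫ x) =
      ((freeMAdj O).homEquiv P G).symm ∘ (fun y => f ≫ y) ∘ ((freeMAdj O).homEquiv Q G) := by
    funext x
    simp only [Function.comp_apply, Adjunction.homEquiv_naturality_left_symm, Equiv.symm_apply_apply]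
  rw [key]
  exact (Equiv.bijective _).comp ((hf _ hG).comp (Equiv.bijective _))

instance : (aP O).Additive :=
  have : (aP O).IsLeftAdjoint := (adjP O).isLeftAdjoint
  Functor.additive_of_preserves_binary_products _

/-- The free module on a Čech-type simplicial presheaf of sets, tensored with a module, resolves. -/
theorem isAugResolution_freeTensor (F : ModSite.Mod O) (X : SimplicialObject.Augmented (Cᵒᵖ ⥤ Type u))
    (hX : IsCechTypePresheaf X) [Presheaf.IsLocallySurjective J (X.hom.app (op ⦋0⦌))] :
    IsAugResolution (((SimplicialObject.Augmented.whiskering _ _).obj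
      (PresheafOfModules.free.{u} (O.obj ⋙ forget₂ CommRingCat.{u} RingCat.{u}) ⋙
        tensorRight (C := PM O) F.val ⋙ aP O)).obj X) := by
  let Y := imageAug X
  let T : (Cᵒᵖ ⥤ Type u) ⥤ PM O :=
    PresheafOfModules.free.{u} (O.obj ⋙ forget₂ CommRingCat.{u} RingCat.{u}) ⋙ tensorRight (C := PM O) F.val
  have hY : IsAugResolution (((SimplicialObject.Augmented.whiskering _ _).obj T).obj Y) := by
    refine isAugResolution_of_map (PresheafOfModules.toPresheaf _) ?_
    refine isAugResolution_of_evaluation _ fun c => ?_
    have hY0 : ((evalAug c).obj Y).hom.app (op ⦋0⦌) =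
        (Subfunctor.toRange (X.hom.app (op ⦋0⦌))).app c := by
      rw [← imageAug_hom_zero]
      exact Category.comp_id _
    have hX0 : ((evalAug c).obj X).hom.app (op ⦋0⦌) = (X.hom.app (op ⦋0⦌)).app c :=
      Category.comp_id _
    have hsur : Function.Surjective (((evalAug c).obj Y).hom.app (op ⦋0⦌)) := by
      rw [hY0]
      rintro ⟨b, a, ha⟩
      exact ⟨a, Subtype.ext ha⟩
    have hT : IsCechType ((evalAug c).obj Y) :=
      { ext := (hX c).ext
        lift := fun n t ht => (hX c).lift n t fun i j => by
          have h := ht i j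
          rw [hY0] at h
          rw [hX0]
          exact congrArg Subtype.val h }
    obtain ⟨ed⟩ := hT.nonempty_extraDegeneracy hsur
    let Fc : ModuleCat.{u} (O.obj.obj c) := F.val.obj c
    exact isAugResolution_of_extraDegeneracy (ed.map (ModuleCat.free.{u} (O.obj.obj c) ⋙
      tensorRight Fc ⋙ forget₂ (ModuleCat.{u} (O.obj.obj c)) AddCommGrpCat.{u}))
  have h2 := hY.map (aP O)
  have hι : IsIso ((T ⋙ aP O).map (Subfunctor.range (X.hom.app (op ⦋0⦌))).ι) := by
    have hW : J.W (Subfunctor.range (X.hom.app (op ⦋0⦌))).ι := by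
      have := Presheaf.isLocallySurjective_of_isLocallySurjective_fac J
        (Subfunctor.toRange_ι (X.hom.app (op ⦋0⦌)))
      have : Presheaf.IsLocallyInjective J (Subfunctor.range (X.hom.app (op ⦋0⦌))).ι :=
        Presheaf.isLocallyInjective_of_injective J _ fun _ => Subtype.val_injective
      exact J.W_of_isLocallyBijective _
    have : IsIso ((aP O).map ((PresheafOfModules.free.{u} (O.obj ⋙ forget₂ CommRingCat.{u} RingCat.{u})).map
        (Subfunctor.range (X.hom.app (op ⦋0⦌))).ι)) := isIso_freeM_map_of_W (O := O) _ hW
    exact isIso_aP_map_whiskerRight ((PresheafOfModules.free.{u} (O.obj ⋙ forget₂ CommRingCat.{u} RingCat.{u})).map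
      (Subfunctor.range (X.hom.app (op ⦋0⦌))).ι) F.val
  let e := ((SimplicialObject.Augmented.whiskering _ _).obj (T ⋙ aP O)).map (imageAugHom X)
  have : IsIso e.left := inferInstanceAs (IsIso
    (((SimplicialObject.whiskering _ _).obj (T ⋙ aP O)).map (𝟙 X.left)))
  have : IsIso e.right := hι
  exact @IsAugResolution.congr_point _ _ _ _ _ h2 e (by assumption) (by assumption)

variable (F : ModSite.Mod O)

/-- The free module on a sheaf of sets, tensored with `F`. -/
noncomputable abbrev freeTensor : Sheaf J (Type u) ⥤ ModSite.Mod O :=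
  sheafToPresheaf J (Type u) ⋙ freeM O ⋙ (ModSite.tensorBi O).flip.obj F

/-- The free modules on the Čech nerve of an epimorphism, tensored with `F`, resolve. -/
theorem isAugResolution_freeTensor_cechNerve {K' K : Sheaf J (Type u)} (f : K' ⟶ K) [Epi f] :
    IsAugResolution (((SimplicialObject.Augmented.whiskering _ _).obj (freeTensor F)).obj
      (Arrow.mk f).augmentedCechNerve) := by
  have := isLocallySurjective_cechNerve_hom J f
  have h := isAugResolution_freeTensor F
    (((SimplicialObject.Augmented.whiskering _ _).obj (sheafToPresheaf J (Type u))).obj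
      (Arrow.mk f).augmentedCechNerve)
    (fun c => isCechType_map (Arrow.mk f) (sheafToPresheaf J (Type u) ⋙ (evaluation _ _).obj c))
  refine isAugResolution_of_natIso (F₁ := sheafToPresheaf J (Type u) ⋙
      PresheafOfModules.free.{u} (O.obj ⋙ forget₂ CommRingCat.{u} RingCat.{u}) ⋙
        tensorRight (C := PM O) F.val ⋙ aP O) ?_ ?_
  · exact Functor.isoWhiskerLeft (sheafToPresheaf J (Type u))
      (Functor.isoWhiskerLeft (PresheafOfModules.free.{u} (O.obj ⋙ forget₂ CommRingCat.{u} RingCat.{u}))
        (aPTensorFlipIso F).symm ≪≫ (Functor.associator _ _ _).symm)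
  · let e : ((SimplicialObject.Augmented.whiskering _ _).obj
        (PresheafOfModules.free.{u} (O.obj ⋙ forget₂ CommRingCat.{u} RingCat.{u}) ⋙
          tensorRight (C := PM O) F.val ⋙ aP O)).obj
        (((SimplicialObject.Augmented.whiskering _ _).obj (sheafToPresheaf J (Type u))).obj
          (Arrow.mk f).augmentedCechNerve) ⟶ ((SimplicialObject.Augmented.whiskering _ _).obj
        (sheafToPresheaf J (Type u) ⋙ PresheafOfModules.free.{u} (O.obj ⋙ forget₂ CommRingCat.{u} RingCat.{u}) ⋙
          tensorRight (C := PM O) F.val ⋙ aP O)).obj (Arrow.mk f).augmentedCechNerve :=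
      { left := 𝟙 _
        right := 𝟙 _
        w := by
          apply NatTrans.ext
          funext n
          refine (Category.id_comp _).trans (Eq.trans ?_ (Category.comp_id _).symm)
          refine (Category.comp_id _).trans (Eq.trans ?_ (Category.comp_id _).symm)
          exact congrArg (PresheafOfModules.free.{u} (O.obj ⋙ forget₂ CommRingCat.{u} RingCat.{u}) ⋙
            tensorRight (C := PM O) F.val ⋙ aP O).map (Category.comp_id _).symm }
    have h1 : IsIso e.left := inferInstanceAs (IsIso (𝟙 _))
    have h2 : IsIso e.right := inferInstanceAs (IsIso (𝟙 _))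
    exact @IsAugResolution.congr_point _ _ _ _ _ h e h1 h2

variable [ModSite.HasSheafHom F] (G : ModSite.Mod O)

instance : ((ModSite.tensorBi O).flip.obj F).Additive :=
  have : ((ModSite.tensorBi O).flip.obj F).PreservesZeroMorphisms := inferInstance
  have := preservesBinaryBiproducts_of_preservesBinaryCoproducts ((ModSite.tensorBi O).flip.obj F)
  Functor.additive_of_preservesBinaryBiproducts _

instance : (ModSite.sheafHom F).Additive := (ModSite.sheafHomAdj F).right_adjoint_additive

/-- Cohomology in degree zero of the internal hom. -/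
noncomputable def hk0Equiv (K : Sheaf J (Type u)) :
    ((freeTensor F).obj K ⟶ G) ≃+
      ((CohCx.HK0Functor J (ModSite.toAb ((ModSite.sheafHom F).obj G))).obj (op K) : Type u) :=
  ((ModSite.sheafHomAdj F).homAddEquiv _ _).trans (AddEquiv.ofBijective
    (AddMonoidHom.mk' (fun g => (cmpFree O).app K.obj ≫ (SheafOfModules.toSheaf (ModSite.ringSh O)).map g)
      (fun a b => by rw [Functor.map_add, Preadditive.comp_add])) (bijective_cmpFree K.obj _))

/-- Cohomology in degree zero of the internal hom, naturally. -/
noncomputable def hk0Iso :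
    (freeTensor F).op ⋙ preadditiveYoneda.obj G ≅
      CohCx.HK0Functor J (ModSite.toAb ((ModSite.sheafHom F).obj G)) :=
  NatIso.ofComponents (fun K => (hk0Equiv F G K.unop).toAddCommGrpIso) (fun {K K'} g => by
    ext x
    change (cmpFree O).app K'.unop.obj ≫ (SheafOfModules.toSheaf (ModSite.ringSh O)).map
        ((ModSite.sheafHomAdj F).homEquiv _ _ (((ModSite.tensorBi O).flip.obj F).map ((freeM O).map g.unop.hom) ≫ x)) =
      (freeSh J).map g.unop.hom ≫ (cmpFree O).app K.unop.obj ≫
        (SheafOfModules.toSheaf (ModSite.ringSh O)).map ((ModSite.sheafHomAdj F).homEquiv _ _ x)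
    rw [Adjunction.homEquiv_naturality_left, Functor.map_comp]
    exact ((cmpFree O).naturality_assoc g.unop.hom _).symm)

/-- The internal hom into an injective module is totally acyclic. -/
theorem isTotallyAcyclic_sheafHom [Injective G] :
    CohCx.IsTotallyAcyclic (ModSite.toAb ((ModSite.sheafHom F).obj G)) := by
  refine isTotallyAcyclic_of_cech _ fun K' K f hf q => ?_
  have h := isAugResolution_freeTensor_cechNerve F f
  obtain ⟨e⟩ := nonempty_yonedaCofaceCx_homology_equiv (T := freeTensor F) G h (q + 1)
    (fun n i _ => Abelian.Ext.subsingleton_of_injective _ _ _)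
  have : Subsingleton ((yonedaCofaceCx (freeTensor F) (Arrow.mk f).augmentedCechNerve G).homology (q + 1)) :=
    @Equiv.subsingleton _ _ e.toEquiv (Abelian.Ext.subsingleton_of_injective _ _ _)
  let i : yonedaCofaceCx (freeTensor F) (Arrow.mk f).augmentedCechNerve G ≅
      CohCx.cechNerveCx (ModSite.toAb ((ModSite.sheafHom F).obj G)) f :=
    (AlgebraicTopology.alternatingCofaceMapComplex AddCommGrpCat.{u}).mapIso
      (Functor.isoWhiskerLeft _ (hk0Iso F G))
  have hz : IsZero ((yonedaCofaceCx (freeTensor F) (Arrow.mk f).augmentedCechNerve G).homology (q + 1)) :=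
    AddCommGrpCat.isZero_of_subsingleton _
  exact hz.of_iso ((HomologicalComplex.homologyFunctor AddCommGrpCat.{u} (ComplexShape.up ℕ) (q + 1)).mapIso i).symm

end Groth.Misc4.InternalHomAcyclic
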