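import Groth.Agent.Misc4.QCohDLeft
import Groth.Agent.DerivedCoh.PCoh.ModuleFP
import Groth.Agent.DerivedCoh.KFlat.Lpull
import Groth.Agent.QCohMod.PullbackQCoh
import Groth.Agent.PicAux.QCoh

/-!
Sequential colimits of complexes with quasi-coherent cohomology; derived inverse images.
-/

universe v u

open CategoryTheory CategoryTheory.Limits AlgebraicGeometry HomologicalComplex Pretriangulated

namespace Groth.Misc4.QCohDColim

open Groth.DerivedCoh.KFlat (T IsKFlat pullCx schemeCover flatResolution)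
open Groth.DerivedCoh.PCoh (Below)
open Groth.Misc4.QCohDPerf Groth.Misc4.QCohDLeft Groth.KTheory.Perf

attribute [local instance] HasDerivedCategory.standard

set_option maxHeartbeats 1000000

local notation "up" => ComplexShape.up ℤ

section

variable {A : Type u} [Category.{v} A] [Abelian A] {J : Type} [SmallCategory J]

/-- a diagram of complexes as a complex of diagrams -/
noncomputable def funCx (F : J ⥤ CochainComplex A ℤ) : CochainComplex (J ⥤ A) ℤ where
  X n := F ⋙ eval A up n
  d n m := { app := fun j => (F.obj j).d n m, naturality := fun _ _ g => (F.map g).comm n m }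
  shape n m h := by ext j; exact (F.obj j).shape n m h
  d_comp_d' n m k _ _ := by ext j; exact (F.obj j).d_comp_d n m k

/-- homology commutes with exact colimits -/
theorem exists_homology_colimit [HasColimitsOfShape J A] [HasExactColimitsOfShape J A]
    (F : J ⥤ CochainComplex A ℤ) (n : ℤ) :
    ∃ H : J ⥤ A, (∀ j, Nonempty (H.obj j ≅ (F.obj j).homology n)) ∧
      Nonempty ((colimit F).homology n ≅ colimit H) := by
  let K := funCx F
  refine ⟨K.homology n, fun j => ⟨?_⟩, ⟨?_⟩⟩
  · let E := (evaluation J A).obj j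
    refine ((K.sc n).mapHomologyIso E).symm ≪≫ ShortComplex.homologyMapIso ?_
    exact ShortComplex.isoMk (Iso.refl _) (Iso.refl _) (Iso.refl _)
      ((Category.id_comp _).trans (Category.comp_id _).symm)
      ((Category.id_comp _).trans (Category.comp_id _).symm)
  · let c : ∀ m, (colimit F).X m ≅ colimit (K.X m) := fun m =>
      (isColimitOfPreserves (eval A up m) (colimit.isColimit F)).coconePointUniqueUpToIso
        (colimit.isColimit _)
    have hc : ∀ m j, (colimit.ι F j).f m ≫ (c m).hom = colimit.ι (K.X m) j := fun m j =>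
      IsColimit.comp_coconePointUniqueUpToIso_hom
        (isColimitOfPreserves (eval A up m) (colimit.isColimit F)) (colimit.isColimit (K.X m)) j
    have hd : ∀ p q, (c p).hom ≫ colimMap (K.d p q) = (colimit F).d p q ≫ (c q).hom := fun p q => by
      refine (isColimitOfPreserves (eval A up p) (colimit.isColimit F)).hom_ext fun j => ?_
      change (colimit.ι F j).f p ≫ _ = (colimit.ι F j).f p ≫ _
      rw [reassoc_of% (hc p j), ← Category.assoc ((colimit.ι F j).f p), (colimit.ι F j).comm,
        Category.assoc, hc]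
      exact ι_colimMap (K.d p q) j
    exact ShortComplex.homologyMapIso (S₂ := (K.sc n).map colim)
      (ShortComplex.isoMk (c _) (c _) (c _) (hd _ _) (hd _ _)) ≪≫ (K.sc n).mapHomologyIso colim

end

variable {X Y : Scheme.{u}}

/-- a sequential colimit of complexes with quasi-coherent cohomology -/
theorem isQCohD_colimit (F : ℕ ⥤ CochainComplex X.Modules ℤ)
    (h : ∀ n, DCoh.IsQCohD (DCoh.toD X (F.obj n))) : DCoh.IsQCohD (DCoh.toD X (colimit F)) := fun i => by
  obtain ⟨H, hH, ⟨σ⟩⟩ := exists_homology_colimit F i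
  haveI : ∀ j, (H.obj j).IsQuasicoherent := fun j =>
    (Groth.QCohMod.isQCoh_iff_of_iso ((hH j).some ≪≫
      ((DerivedCategory.homologyFunctorFactors X.Modules i).app (F.obj j)).symm)).2 (h j i)
  have := Groth.QCohMod.isQCoh_of_isColimit H _ (colimit.isColimit H)
  exact (Groth.QCohMod.isQCoh_iff_of_iso
    ((DerivedCategory.homologyFunctorFactors X.Modules i).app _ ≪≫ σ)).2 this

/-- the stages of the resolution -/
theorem stage_spec (C : CochainComplex X.Modules ℤ) (hC : DCoh.IsQCohD (DCoh.toD X C)) (n : ℕ) :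
    (∀ q, FlatMod.IsFlat ((((schemeCover X).seqF.obj C).obj n).X q)) ∧
      (∀ q, (n : ℤ) < q → IsZero ((((schemeCover X).seqF.obj C).obj n).X q)) ∧
      IsKFlat (T X) (((schemeCover X).seqF.obj C).obj n) ∧
      IsKFlat (T X).flip (((schemeCover X).seqF.obj C).obj n) ∧
      Below ((n : ℤ) + 1) (DCoh.toD X (((schemeCover X).seqF.obj C).obj n)) ∧
      DCoh.IsQCohD (DCoh.toD X (((schemeCover X).seqF.obj C).obj n)) := by
  let L := C.truncLE (n : ℤ)
  let E := (schemeCover X).res.obj L
  have hL : ∀ p, (n : ℤ) < p → IsZero (L.X p) := fun p hp => L.isZero_of_isStrictlyLE (n : ℤ) p hp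
  have h0 : ∀ q, (n : ℤ) < q → IsZero (E.X q) := (schemeCover X).res_X_zero L n hL
  have hf : ∀ q, FlatMod.IsFlat (E.X q) := (schemeCover X).res_X_prop FlatMod.IsFlat
    Groth.DerivedCoh.KFlat.isFlat_coverObj (fun _ => Groth.DerivedCoh.KFlat.isFlat_of_isZero)
    (fun e h => Groth.CohTwo.isFlat_of_iso e.symm h) Groth.DerivedCoh.KFlat.isFlat_sigma₀ L
  haveI : ∀ N, PreservesColimitsOfShape ℕ ((T X).flip.obj N) := fun N =>
    Groth.DerivedCoh.KFlat.preservesColimitsOfShape_tensorBi_flip N
  refine ⟨hf, h0, Groth.DerivedCoh.KFlat.isKFlat_of_flat (T X) E n h0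
      (fun q => Groth.DerivedCoh.KFlat.flat_of_isFlat (hf q)),
    Groth.DerivedCoh.KFlat.isKFlat_of_flat (T X).flip E n h0
      (fun q => Groth.DerivedCoh.KFlat.flat_flip_of_isFlat (hf q)), fun i hi => ?_, ?_⟩
  · exact (Groth.DerivedCoh.KFlat.isZero_hd_toD_iff E i).2 (ExactAt.of_isZero (h0 i (by omega)))
  · haveI : QuasiIso ((schemeCover X).resAug.app L) := (schemeCover X).quasiIso_resAug L n hL
    haveI := (DerivedCategory.isIso_Q_map_iff_quasiIso X.Modules ((schemeCover X).resAug.app L)).2 inferInstance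
    refine isQCohD_of_iso (asIso (DerivedCategory.Q.map ((schemeCover X).resAug.app L))).symm fun i => ?_
    by_cases hi : i ≤ (n : ℤ)
    · haveI : QuasiIsoAt (C.ιTruncLE (n : ℤ)) i := C.quasiIsoAt_ιTruncLE _ _ hi
      have hh := (quasiIsoAt_iff_isIso_homologyMap (C.ιTruncLE (n : ℤ)) i).1 inferInstance
      exact hd_iso' hh (hC i)
    · exact isQCoh_isZero ((Groth.DerivedCoh.KFlat.isZero_hd_toD_iff L i).2
        (ExactAt.of_isZero (hL i (by omega))))
where
  hd_iso' {L C : CochainComplex X.Modules ℤ} {f : L ⟶ C} {i : ℤ}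
      (hh : IsIso (HomologicalComplex.homologyMap f i)) (h : (DCoh.HD (DCoh.toD X C) i).IsQuasicoherent) :
      (DCoh.HD (DCoh.toD X L) i).IsQuasicoherent :=
    (Groth.QCohMod.isQCoh_iff_of_iso (Groth.DerivedCoh.KFlat.hdIso L i ≪≫
      @asIso _ _ _ _ (HomologicalComplex.homologyMap f i) hh ≪≫
      (Groth.DerivedCoh.KFlat.hdIso C i).symm)).2 h

lemma isQCohD_single (M : X.Modules) [M.IsQuasicoherent] (n : ℤ) :
    DCoh.IsQCohD ((DerivedCategory.singleFunctor X.Modules n).obj M) := fun i => by
  by_cases hi : i = n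
  · subst hi
    exact (Groth.QCohMod.isQCoh_iff_of_iso
      ((DerivedCategory.singleFunctorCompHomologyFunctorIso X.Modules i).app M)).2 (inferInstanceAs M.IsQuasicoherent)
  · exact isQCoh_isZero ((Groth.DerivedCoh.KFlat.isZero_hd_toD_iff _ i).2
      (ExactAt.of_isZero (isZero_single_obj_X up n M i hi)))

lemma isQCoh_free (ι : Type u) : (∐ fun _ : ι => Coh.structureModule X).IsQuasicoherent :=
  haveI : ∀ j : Discrete ι,
      ((Discrete.functor fun _ : ι => Coh.structureModule X).obj j).IsQuasicoherent :=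
    fun _ => Groth.PicAux.isQCoh_structureModule X
  Groth.QCohMod.isQCoh_of_isColimit _ _ (colimit.isColimit _)

lemma isFlat_free (ι : Type u) : FlatMod.IsFlat (∐ fun _ : ι => Coh.structureModule X) :=
  Groth.CohTwo.isFlat_sigma _ fun _ => Groth.DerivedCoh.PCoh.isFlat_of_isFinLocFree
    (Groth.KTheory.LocFree.isFinLocFree_of_iso (coproductUniqueIso fun _ : PUnit.{u + 1} =>
      Coh.structureModule X) (Groth.DerivedCoh.PCoh.isFinLocFree_freeOn PUnit.{u + 1}))

lemma vanishes_single (M : X.Modules) (n : ℤ) :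
    DCoh.VanishesOutside ((single X.Modules up n).obj M) n n := fun i hi =>
  isZero_single_obj_X up n M i (by omega)

lemma isKFlat_single (M : X.Modules) (hM : FlatMod.IsFlat M) (n : ℤ) :
    IsKFlat (T X) ((single X.Modules up n).obj M) :=
  Groth.DerivedCoh.KFlat.isKFlat_of_isFlat_of_vanishes _ n n (vanishes_single M n) fun i => by
    by_cases hi : i = n
    · subst hi
      exact Groth.CohTwo.isFlat_of_iso (singleObjXSelf up i M) hM
    · exact Groth.DerivedCoh.KFlat.isFlat_of_isZero (isZero_single_obj_X up n M i hi)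

/-- bounded above objects on an affine scheme -/
theorem isQCohD_Lpull_affine (f : X ⟶ Y) [IsAffine Y] [DCoh.HasLpull f] {K : DCoh.D Y}
    (hK : DCoh.IsQCohD K) : DCoh.IsQCohD ((DCoh.Lpull f).obj K) := by
  obtain ⟨C, ⟨e⟩⟩ := exists_rep K
  have hC : DCoh.IsQCohD (DCoh.toD Y C) := isQCohD_of_iso e.symm hK
  let S := (schemeCover Y).seqF.obj C
  have hq : ∀ n, DCoh.IsQCohD (DCoh.toD X ((pullCx f).obj (S.obj n))) := fun n => by
    obtain ⟨-, -, hk, -, hbel, hqc⟩ := stage_spec C hC n
    refine isQCohD_of_iso (Groth.DerivedCoh.KFlat.lpullQIso f _ hk)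
      (isQCohD_of_below (c := 0) (DCoh.Lpull f) (fun T hT => ?_) (fun m D hD => ?_) (fun M hM => ?_)
        _ hbel hqc)
    · exact Groth.DerivedCoh.KFlat.exists_triangle (Scheme.Modules.pullback f) (DCoh.Lpull f)
        (fun P hP => ⟨Groth.DerivedCoh.KFlat.lpullQIso f P hP⟩) T hT
    · simpa using Groth.DerivedCoh.PCoh.below_Lpull f hD
    · haveI := hM
      obtain ⟨ι, p, hp⟩ := exists_epi_free M
      refine ⟨_, p, hp, isQCoh_free ι, fun k => ?_⟩
      haveI := isQCoh_free (X := Y) ι
      haveI := Groth.QCohMod.isQCoh_pullback_obj f (∐ fun _ : ι => Coh.structureModule Y)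
      exact isQCohD_of_iso (Groth.DerivedCoh.KFlat.lpullQIso f _ (isKFlat_single _ (isFlat_free ι) k) ≪≫
        DerivedCategory.Q.mapIso
          ((singleMapHomologicalComplex (Scheme.Modules.pullback f) up k).app _)).symm
        (isQCohD_single ((Scheme.Modules.pullback f).obj (∐ fun _ : ι => Coh.structureModule Y)) k)
  haveI : PreservesColimitsOfShape ℕ (Scheme.Modules.pullback f) :=
    (Scheme.Modules.pullbackPushforwardAdjunction f).leftAdjoint_preservesColimits.preservesColimitsOfShape
  haveI := Groth.DerivedCoh.KFlat.flatResolution_quasiIso C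
  exact isQCohD_of_iso ((DerivedCategory.Q.mapIso (preservesColimitIso (pullCx f) S).symm) ≪≫
    (Groth.DerivedCoh.KFlat.lpullQIso f _ (Groth.DerivedCoh.KFlat.flatResolution_isKFlat C)).symm ≪≫
      (DCoh.Lpull f).mapIso (asIso (DerivedCategory.Q.map
        ((Groth.DerivedCoh.KFlat.flatResolutionAug Y).app C)) ≪≫ e))
    (isQCohD_colimit (S ⋙ pullCx f) hq)

/-- derived inverse images preserve quasi-coherence of cohomology -/
theorem isQCohD_Lpull (f : X ⟶ Y) [DCoh.HasLpull f] {K : DCoh.D Y} (hK : DCoh.IsQCohD K) :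
    DCoh.IsQCohD ((DCoh.Lpull f).obj K) := isQCohD_of_local fun x => by
  obtain ⟨V, hV, hxV, -⟩ := exists_isAffineOpen_mem_and_subset (x := f.base x) (U := ⊤) trivial
  haveI := Groth.DerivedCoh.KFlat.hasLpull (f ∣_ V)
  haveI : IsAffine (V : Scheme.{u}) := hV
  obtain ⟨c⟩ := Groth.DerivedCoh.PCoh.nonempty_rd_Lpull f V K
  exact ⟨f ⁻¹ᵁ V, hxV, isQCohD_of_iso c.symm
    (isQCohD_Lpull_affine (f ∣_ V) (isQCohD_restrict V.ι hK))⟩

end Groth.Misc4.QCohDColim
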