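import Groth.Agent.Misc4.QCohDColim
import Groth.Agent.DerivedCoh.Duality.RestrictTot
import Mathlib.Algebra.Homology.HomotopyCategory.DegreewiseSplit
import Mathlib.Algebra.Homology.BifunctorShift

/-!
Derived tensor products of objects with quasi-coherent cohomology.
-/

universe u

open CategoryTheory CategoryTheory.Limits AlgebraicGeometry HomologicalComplex Pretriangulated

namespace Groth.Misc4.QCohDTensor

open Groth.DerivedCoh.KFlat (T IsKFlat tot totL totR schemeCover flatResolution)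
open Groth.DerivedCoh.PCoh (Below)
open Groth.Misc4.QCohDPerf Groth.Misc4.QCohDLeft Groth.Misc4.QCohDColim Groth.KTheory.Perf

attribute [local instance] HasDerivedCategory.standard

set_option maxHeartbeats 1000000

local notation "up" => ComplexShape.up ℤ

variable {X : Scheme.{u}}

/-- tensoring with a K-flat complex carries triangles to triangles -/
theorem triTr_ltcx (R : CochainComplex X.Modules ℤ) (hR : IsKFlat (T X) R) [DCoh.HasLTensorCx R] :
    TriTr (DCoh.LTensorCx R) := fun S hS => by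
  obtain ⟨A, B, f, ⟨e⟩⟩ := (DerivedCategory.mem_distTriang_iff S).1 hS
  let σ := CochainComplex.mappingCone.triangleRotateShortComplex f
  have hσ : (σ.map (totL (T X) R)).ShortExact :=
    Groth.DerivedCoh.KFlat.shortExact_totL (T X) R σ fun p q =>
      ((CochainComplex.mappingCone.triangleRotateShortComplexSplitting f p).map
        ((T X).flip.obj (R.X q))).shortExact
  let T₁ := DerivedCategory.triangleOfSES hσ
  have hT₁ : T₁ ∈ distTriang _ := DerivedCategory.triangleOfSES_distinguished hσ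
  let L := Groth.DerivedCoh.KFlat.ltcxIso R hR
  refine ⟨T₁.invRotate, inv_rot_of_distTriang _ hT₁, ⟨?_⟩, ⟨?_⟩, ⟨?_⟩⟩
  · exact (shiftFunctor (DCoh.D X) (-1 : ℤ)).mapIso
      (DerivedCategory.Q.mapIso (CochainComplex.mapBifunctorShift₁Iso A R (T X) (1 : ℤ)) ≪≫
        (DerivedCategory.Q.commShiftIso (1 : ℤ)).app _) ≪≫
      (shiftEquiv (DCoh.D X) (1 : ℤ)).unitIso.symm.app _ ≪≫ (L A).symm ≪≫
      (DCoh.LTensorCx R).mapIso (Triangle.π₁.mapIso e.symm)
  · exact (L B).symm ≪≫ (DCoh.LTensorCx R).mapIso (Triangle.π₂.mapIso e.symm)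
  · exact (L (CochainComplex.mappingCone f)).symm ≪≫
      (DCoh.LTensorCx R).mapIso (Triangle.π₃.mapIso e.symm)

/-- bounded above flat complexes with quasi-coherent cohomology, on an affine scheme -/
theorem isQCohD_tot_affine [IsAffine X] (P R : CochainComplex X.Modules ℤ) (a b : ℤ)
    (ha : ∀ q, a < q → IsZero (P.X q))
    (hb : ∀ q, b < q → IsZero (R.X q)) (hf : ∀ q, FlatMod.IsFlat (R.X q))
    (hP : DCoh.IsQCohD (DCoh.toD X P)) (hR : DCoh.IsQCohD (DCoh.toD X R)) :
    DCoh.IsQCohD (DCoh.toD X (tot (T X) P R)) := by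
  have hk : IsKFlat (T X) R := Groth.DerivedCoh.KFlat.isKFlat_of_flat (T X) R b hb
    fun q => Groth.DerivedCoh.KFlat.flat_of_isFlat (hf q)
  haveI := Groth.DerivedCoh.KFlat.hasLTensorCx_of_isKFlat R hk
  refine isQCohD_of_iso (Groth.DerivedCoh.KFlat.ltcxIso R hk P) (isQCohD_of_below (c := b)
    (m := a + 1) (DCoh.LTensorCx R) (triTr_ltcx R hk) (fun m D hD => ?_) (fun M hM => ?_) _
    (fun i hi => (Groth.DerivedCoh.KFlat.isZero_hd_toD_iff P i).2 (ExactAt.of_isZero (ha i (by omega))))
    hP)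
  · obtain ⟨E, -, -, h0, ⟨e⟩⟩ := Groth.DerivedCoh.PCoh.exists_flat_rep_of_below hD
    intro i hi
    refine Groth.DerivedCoh.KFlat.isZero_hd_of_iso ((DCoh.LTensorCx R).mapIso e.symm ≪≫
      Groth.DerivedCoh.KFlat.ltcxIso R hk E) ?_
    rw [Groth.DerivedCoh.KFlat.isZero_hd_toD_iff]
    refine ExactAt.of_isZero ((IsZero.iff_id_eq_zero _).2 (mapBifunctor.hom_ext fun p q h => ?_))
    have h' : p + q = i := h
    refine IsZero.eq_of_src ?_ _ _
    by_cases hp : m ≤ p
    · exact Functor.isZero_iff _ |>.1 ((T X).map_isZero (h0 p hp)) _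
    · exact ((T X).obj (E.X p)).map_isZero (hb q (by omega))
  · haveI := hM
    obtain ⟨ι, p, hp⟩ := exists_epi_free M
    refine ⟨_, p, hp, isQCoh_free ι, fun n => ?_⟩
    haveI := isQCoh_free (X := X) ι
    let N := ∐ fun _ : ι => Coh.structureModule X
    let G := (T X).obj N
    have hG : ∀ S : ShortComplex X.Modules, S.ShortExact → (S.map G).ShortExact :=
      Groth.DerivedCoh.KFlat.flat_flip_of_isFlat (isFlat_free ι)
    obtain ⟨hl, hr⟩ : PreservesFiniteLimits G ∧ PreservesFiniteColimits G :=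
      ((Functor.exact_tfae G).out 0 3).1 hG
    have hq : DCoh.IsQCohD (DCoh.toD X (tot (T X) ((single X.Modules up 0).obj N) R)) := fun i => by
      haveI : (R.homology i).IsQuasicoherent :=
        (Groth.QCohMod.isQCoh_iff_of_iso (Groth.DerivedCoh.KFlat.hdIso R i)).1 (hR i)
      exact (Groth.QCohMod.isQCoh_iff_of_iso (Groth.DerivedCoh.KFlat.hdIso _ i ≪≫
        (HomologicalComplex.homologyFunctor X.Modules up i).mapIso
          (Groth.DerivedCoh.KFlat.totSingleIso (T X) N R) ≪≫ (R.sc i).mapHomologyIso G)).2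
        (Groth.QCohMod.isQCoh_tensorMod (M := N) (N := R.homology i))
    let e : (single X.Modules up n).obj N ≅ ((single X.Modules up 0).obj N)⟦(-n)⟧ :=
      ((CochainComplex.singleFunctors X.Modules).shiftIso (-n) n 0 (by omega)).symm.app N
    exact isQCohD_of_iso ((DerivedCategory.Q.commShiftIso (-n)).symm.app _ ≪≫
      DerivedCategory.Q.mapIso ((CochainComplex.mapBifunctorShift₁Iso _ R (T X) (-n)).symm ≪≫
        (totL (T X) R).mapIso e.symm) ≪≫ (Groth.DerivedCoh.KFlat.ltcxIso R hk _).symm)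
      (isQCohD_shift hq (-n))

/-- bounded above flat complexes with quasi-coherent cohomology -/
theorem isQCohD_tot (P R : CochainComplex X.Modules ℤ) (a b : ℤ)
    (ha : ∀ q, a < q → IsZero (P.X q))
    (hb : ∀ q, b < q → IsZero (R.X q)) (hf : ∀ q, FlatMod.IsFlat (R.X q))
    (hP : DCoh.IsQCohD (DCoh.toD X P)) (hR : DCoh.IsQCohD (DCoh.toD X R)) :
    DCoh.IsQCohD (DCoh.toD X (tot (T X) P R)) := isQCohD_of_local fun x => by
  obtain ⟨V, hV, hxV, -⟩ := exists_isAffineOpen_mem_and_subset (x := x) (U := ⊤) trivial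
  haveI : IsAffine (V : Scheme.{u}) := hV
  exact ⟨V, hxV, isQCohD_of_iso
    (DerivedCategory.Q.mapIso (Groth.DerivedCoh.Duality.rtTot V.ι P R) ≪≫ (rdQIso V.ι _).symm)
    (isQCohD_tot_affine _ _ a b
      (fun q h => (Scheme.Modules.restrictFunctor V.ι).map_isZero (ha q h))
      (fun q h => (Scheme.Modules.restrictFunctor V.ι).map_isZero (hb q h))
      (fun q => Groth.DerivedCoh.PCoh.isFlat_restrict V.ι (hf q))
      (isQCohD_of_iso (rdQIso V.ι P) (isQCohD_restrict V.ι hP))
      (isQCohD_of_iso (rdQIso V.ι R) (isQCohD_restrict V.ι hR)))⟩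

/-- derived tensor products of objects with quasi-coherent cohomology -/
theorem isQCohD_LTensorCx (F : CochainComplex X.Modules ℤ) (hF : DCoh.IsQCohD (DCoh.toD X F))
    [DCoh.HasLTensorCx F] {E : DCoh.D X} (hE : DCoh.IsQCohD E) :
    DCoh.IsQCohD ((DCoh.LTensorCx F).obj E) := by
  obtain ⟨C, ⟨e⟩⟩ := exists_rep E
  have hC : DCoh.IsQCohD (DCoh.toD X C) := isQCohD_of_iso e.symm hE
  let S := (schemeCover X).seqF.obj C
  let R := (schemeCover X).seqF.obj F
  haveI : ∀ P : CochainComplex X.Modules ℤ, PreservesColimitsOfShape ℕ (totR (T X) P) := fun P =>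
    ⟨fun {K} => preservesColimit_of_preserves_colimit_cocone (colimit.isColimit K) (by
      have hb : IsColimit ((HomologicalComplex₂.totalFunctor X.Modules up up up).mapCocone
          (((Groth.DerivedCoh.KFlat.Bi (T X)).obj P).mapCocone (colimit.cocone K))) :=
        Groth.DerivedCoh.KFlat.isColimitTotal _ fun p q => isColimitOfPreserves ((T X).obj (P.X p))
          (isColimitOfPreserves (eval X.Modules up q) (colimit.isColimit K))
      exact IsColimit.mapCoconeEquiv (Groth.DerivedCoh.KFlat.totRIso (T X) P).symm hb)⟩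
  haveI := Groth.Misc4.HasRSheafHom.isLeftAdjoint_totL (colimit R)
  haveI : PreservesColimitsOfShape ℕ (totL (T X) (colimit R)) :=
    (Adjunction.ofIsLeftAdjoint (totL (T X) (colimit R))).leftAdjoint_preservesColimits.preservesColimitsOfShape
  have h₁ : ∀ n, DCoh.IsQCohD (DCoh.toD X (tot (T X) (S.obj n) (colimit R))) := fun n => by
    obtain ⟨-, hS0, -, -, -, hSq⟩ := stage_spec C hC n
    refine isQCohD_of_iso (DerivedCategory.Q.mapIso (preservesColimitIso (totR (T X) (S.obj n)) R).symm)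
      (isQCohD_colimit (R ⋙ totR (T X) (S.obj n)) fun m => ?_)
    obtain ⟨hRf, hR0, -, -, -, hRq⟩ := stage_spec F hF m
    exact isQCohD_tot _ _ n m hS0 hR0 hRf hSq hRq
  have h₂ : DCoh.IsQCohD (DCoh.toD X (tot (T X) (colimit S) (colimit R))) :=
    isQCohD_of_iso (DerivedCategory.Q.mapIso (preservesColimitIso (totL (T X) (colimit R)) S).symm)
      (isQCohD_colimit (S ⋙ totL (T X) (colimit R)) h₁)
  haveI : QuasiIso ((totR (T X) ((flatResolution X).obj C)).map
      ((Groth.DerivedCoh.KFlat.flatResolutionAug X).app F)) := by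
    haveI := Groth.DerivedCoh.KFlat.flatResolution_quasiIso F
    exact Groth.DerivedCoh.KFlat.quasiIso_totR (T X)
      (Groth.DerivedCoh.KFlat.flatResolution_isKFlat_flip C) _
  haveI := (DerivedCategory.isIso_Q_map_iff_quasiIso X.Modules ((totR (T X) ((flatResolution X).obj C)).map
      ((Groth.DerivedCoh.KFlat.flatResolutionAug X).app F))).2 inferInstance
  exact isQCohD_of_iso (asIso (DerivedCategory.Q.map ((totR (T X) ((flatResolution X).obj C)).map
      ((Groth.DerivedCoh.KFlat.flatResolutionAug X).app F))) ≪≫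
    ((Groth.DerivedCoh.KFlat.ltcxResIso F).app C).symm ≪≫ (DCoh.LTensorCx F).mapIso e) h₂

end Groth.Misc4.QCohDTensor
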