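import Groth.Agent.Misc4.KoszulUnit
import Groth.Agent.DerivedAdj.Devissage

/-!
# Truncations of the unit and Koszul orthogonality
-/

universe u

open CategoryTheory CategoryTheory.Limits AlgebraicGeometry Pretriangulated DerivedCategory

attribute [local instance] HasDerivedCategory.standard

set_option backward.isDefEq.respectTransparency false
set_option backward.defeqAttrib.useBackward true
set_option synthInstance.maxHeartbeats 400000
set_option maxHeartbeats 1000000

namespace Groth.Misc4.KoszulTrunc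

section Trunc

variable {X : Scheme.{u}}

/-- The t-structure. -/
noncomputable abbrev t (X : Scheme.{u}) : Triangulated.TStructure (DCoh.D X) := DerivedCategory.TStructure.t

lemma isIso_hd_π (K : DCoh.D X) (a q : ℤ) (hq : a ≤ q) :
    IsIso ((homologyFunctor X.Modules q).map (((t X).truncGEπ a).app K)) := by
  have hT := (t X).triangleLTGE_distinguished a K
  haveI : (((t X).truncLT a).obj K).IsLE (a - 1) :=
    inferInstanceAs ((t X).IsLE (((t X).truncLT a).obj K) (a - 1))
  haveI : Mono ((homologyFunctor X.Modules q).map (((t X).truncGEπ a).app K)) :=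
    (HomologySequence.mono_homologyMap_mor₂_iff _ hT q).2
      ((((t X).truncLT a).obj K).isZero_of_isLE (a - 1) q (by omega) |>.eq_of_src _ _)
  haveI : Epi ((homologyFunctor X.Modules q).map (((t X).truncGEπ a).app K)) :=
    (HomologySequence.epi_homologyMap_mor₂_iff _ hT q (q + 1) rfl).2
      ((((t X).truncLT a).obj K).isZero_of_isLE (a - 1) (q + 1) (by omega) |>.eq_of_tgt _ _)
  exact isIso_of_mono_of_epi _

theorem isIso_truncGE_map_iff {K L : DCoh.D X} (g : K ⟶ L) (a : ℤ) :
    IsIso (((t X).truncGE a).map g) ↔ ∀ q, a ≤ q → IsIso ((homologyFunctor X.Modules q).map g) := by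
  have e : ∀ q, (homologyFunctor X.Modules q).map g ≫ (homologyFunctor X.Modules q).map (((t X).truncGEπ a).app L) =
      (homologyFunctor X.Modules q).map (((t X).truncGEπ a).app K) ≫
        (homologyFunctor X.Modules q).map (((t X).truncGE a).map g) := fun q => by
    rw [← Functor.map_comp, ← Functor.map_comp]
    exact congrArg _ (((t X).truncGEπ a).naturality g)
  refine ⟨fun h q hq => ?_, fun h => (DerivedCategory.isIso_iff _ _).2 fun q => ?_⟩
  · haveI := isIso_hd_π K a q hq
    haveI := isIso_hd_π L a q hq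
    haveI : IsIso ((homologyFunctor X.Modules q).map g ≫ (homologyFunctor X.Modules q).map (((t X).truncGEπ a).app L)) := by
      rw [e]; infer_instance
    exact IsIso.of_isIso_comp_right _ ((homologyFunctor X.Modules q).map (((t X).truncGEπ a).app L))
  · by_cases hq : a ≤ q
    · haveI := isIso_hd_π K a q hq
      haveI := isIso_hd_π L a q hq
      haveI := h q hq
      haveI : IsIso ((homologyFunctor X.Modules q).map (((t X).truncGEπ a).app K) ≫
          (homologyFunctor X.Modules q).map (((t X).truncGE a).map g)) := by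
        rw [← e]; infer_instance
      exact IsIso.of_isIso_comp_left ((homologyFunctor X.Modules q).map (((t X).truncGEπ a).app K)) _
    · haveI : (((t X).truncGE a).obj K).IsGE a := inferInstanceAs ((t X).IsGE (((t X).truncGE a).obj K) a)
      haveI : (((t X).truncGE a).obj L).IsGE a := inferInstanceAs ((t X).IsGE (((t X).truncGE a).obj L) a)
      exact isIso_of_source_target_iso_zero _
        ((((t X).truncGE a).obj K).isZero_of_isGE a q (by omega)).isoZero
        ((((t X).truncGE a).obj L).isZero_of_isGE a q (by omega)).isoZero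

theorem isIso_truncLE_map_iff {K L : DCoh.D X} (g : K ⟶ L) (a : ℤ) :
    IsIso (((t X).truncLE a).map g) ↔ ∀ q, q ≤ a → IsIso ((homologyFunctor X.Modules q).map g) := by
  have e : ∀ q, (homologyFunctor X.Modules q).map (((t X).truncLE a).map g) ≫
      (homologyFunctor X.Modules q).map (((t X).truncLEι a).app L) =
      (homologyFunctor X.Modules q).map (((t X).truncLEι a).app K) ≫ (homologyFunctor X.Modules q).map g := fun q => by
    rw [← Functor.map_comp, ← Functor.map_comp]
    exact congrArg _ (((t X).truncLEι a).naturality g)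
  refine ⟨fun h q hq => ?_, fun h => (DerivedCategory.isIso_iff _ _).2 fun q => ?_⟩
  · haveI := Groth.DerivedAdj.isIso_homologyMap_truncLE K a q hq
    haveI := Groth.DerivedAdj.isIso_homologyMap_truncLE L a q hq
    haveI : IsIso ((homologyFunctor X.Modules q).map (((t X).truncLEι a).app K) ≫ (homologyFunctor X.Modules q).map g) := by
      rw [← e]; infer_instance
    exact IsIso.of_isIso_comp_left ((homologyFunctor X.Modules q).map (((t X).truncLEι a).app K)) _
  · by_cases hq : q ≤ a
    · haveI := Groth.DerivedAdj.isIso_homologyMap_truncLE K a q hq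
      haveI := Groth.DerivedAdj.isIso_homologyMap_truncLE L a q hq
      haveI := h q hq
      haveI : IsIso ((homologyFunctor X.Modules q).map (((t X).truncLE a).map g) ≫
          (homologyFunctor X.Modules q).map (((t X).truncLEι a).app L)) := by
        rw [e]; infer_instance
      exact IsIso.of_isIso_comp_right _ ((homologyFunctor X.Modules q).map (((t X).truncLEι a).app L))
    · haveI : (((t X).truncLE a).obj K).IsLE a := inferInstanceAs ((t X).IsLE (((t X).truncLE a).obj K) a)
      haveI : (((t X).truncLE a).obj L).IsLE a := inferInstanceAs ((t X).IsLE (((t X).truncLE a).obj L) a)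
      exact isIso_of_source_target_iso_zero _
        ((((t X).truncLE a).obj K).isZero_of_isLE a q (by omega)).isoZero
        ((((t X).truncLE a).obj L).isZero_of_isLE a q (by omega)).isoZero

lemma isQCohD_truncGE {K : DCoh.D X} (hK : DCoh.IsQCohD K) (a : ℤ) : DCoh.IsQCohD (((t X).truncGE a).obj K) := fun q => by
  by_cases hq : a ≤ q
  · haveI := isIso_hd_π K a q hq
    exact (Groth.QCohMod.isQCoh_iff_of_iso (asIso ((homologyFunctor X.Modules q).map (((t X).truncGEπ a).app K)))).1 (hK q)
  · haveI : (((t X).truncGE a).obj K).IsGE a := inferInstanceAs ((t X).IsGE (((t X).truncGE a).obj K) a)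
    exact Groth.Misc4.QCohDPerf.isQCoh_isZero ((((t X).truncGE a).obj K).isZero_of_isGE a q (by omega))

lemma isQCohD_truncLE {K : DCoh.D X} (hK : DCoh.IsQCohD K) (a : ℤ) : DCoh.IsQCohD (((t X).truncLE a).obj K) := fun q => by
  by_cases hq : q ≤ a
  · haveI := Groth.DerivedAdj.isIso_homologyMap_truncLE K a q hq
    exact (Groth.QCohMod.isQCoh_iff_of_iso (asIso ((homologyFunctor X.Modules q).map (((t X).truncLEι a).app K)))).2 (hK q)
  · haveI : (((t X).truncLE a).obj K).IsLE a := inferInstanceAs ((t X).IsLE (((t X).truncLE a).obj K) a)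
    exact Groth.Misc4.QCohDPerf.isQCoh_isZero ((((t X).truncLE a).obj K).isZero_of_isLE a q (by omega))

end Trunc

open Groth.Misc4.KoszulUnit

variable {A : Type u} [CommRing A] (fs : List A) [PreservesFiniteLimits (tilde.functor (CommRingCat.of A))]
  [PreservesFiniteLimits (Scheme.Modules.restrictFunctor (U fs).ι)] [DCoh.HasRpush (U fs).ι]
  (adj : DCoh.restrictD (U fs).ι ⊣ DCoh.Rpush (U fs).ι)
  (E : DCoh.D (Spec (CommRingCat.of A))) (hE : DCoh.IsQCohD E) (a : ℤ)


include adj in
lemma eq_zero_KS_to_Rpush (n : ℤ) (φ : (KS fs)⟦n⟧ ⟶ (DCoh.Rpush (U fs).ι).obj ((DCoh.restrictD (U fs).ι).obj E)) :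
    φ = 0 :=
  eq_zero_to_Rpush fs adj (isZero_restrictD_KS fs n) _ φ

include adj hE in
theorem isIso_truncGE_of_orth (h : ∀ n : ℤ, a ≤ n → ∀ φ : (KS fs)⟦-n⟧ ⟶ E, φ = 0) :
    IsIso (((t (Spec (CommRingCat.of A))).truncGE a).map (adj.unit.app E)) := by
  obtain ⟨C, p, d, hT, hC⟩ := exists_fibre fs adj E hE
  refine (isIso_truncGE_map_iff _ a).2 fun q hq => ?_
  haveI : Mono ((homologyFunctor _ q).map (adj.unit.app E)) :=
    (HomologySequence.mono_homologyMap_mor₁_iff _ hT (q - 1) q (by omega)).2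
      ((hC q (h q hq)).eq_of_src _ _)
  haveI : Epi ((homologyFunctor _ q).map (adj.unit.app E)) :=
    (HomologySequence.epi_homologyMap_mor₁_iff _ hT q).2
      ((show IsZero (DCoh.HD C q) by simpa using hC (q + 1) (h (q + 1) (by omega))).eq_of_tgt _ _)
  exact isIso_of_mono_of_epi _

include adj hE in
theorem isIso_truncLE_of_orth (h : ∀ n : ℤ, n ≤ a → ∀ φ : (KS fs)⟦-n⟧ ⟶ E, φ = 0) :
    IsIso (((t (Spec (CommRingCat.of A))).truncLE (a - 1)).map (adj.unit.app E)) := by
  obtain ⟨C, p, d, hT, hC⟩ := exists_fibre fs adj E hE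
  refine (isIso_truncLE_map_iff _ (a - 1)).2 fun q hq => ?_
  haveI : Mono ((homologyFunctor _ q).map (adj.unit.app E)) :=
    (HomologySequence.mono_homologyMap_mor₁_iff _ hT (q - 1) q (by omega)).2
      ((hC q (h q (by omega))).eq_of_src _ _)
  haveI : Epi ((homologyFunctor _ q).map (adj.unit.app E)) :=
    (HomologySequence.epi_homologyMap_mor₁_iff _ hT q).2
      ((show IsZero (DCoh.HD C q) by simpa using hC (q + 1) (h (q + 1) (by omega))).eq_of_tgt _ _)
  exact isIso_of_mono_of_epi _

include adj hE in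
theorem orth_of_isIso_truncGE (h : IsIso (((t (Spec (CommRingCat.of A))).truncGE a).map (adj.unit.app E))) (n : ℤ)
    (hn : a + (fs.length : ℤ) ≤ n) (φ : (KS fs)⟦-n⟧ ⟶ E) : φ = 0 := by
  have hR := isQCohD_Rpush_restrict fs hE
  have key : φ ≫ ((t (Spec (CommRingCat.of A))).truncGEπ a).app E = 0 := by
    refine (cancel_mono (((t (Spec (CommRingCat.of A))).truncGE a).map (adj.unit.app E))).1 ?_
    rw [zero_comp, Category.assoc]
    refine (congrArg (φ ≫ ·) (((t (Spec (CommRingCat.of A))).truncGEπ a).naturality (adj.unit.app E)).symm).trans ?_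
    rw [← Category.assoc]
    exact (congrArg (· ≫ ((t (Spec (CommRingCat.of A))).truncGEπ a).app _) (eq_zero_KS_to_Rpush fs adj E _ _)).trans zero_comp
  obtain ⟨χ, hχ⟩ := Triangle.coyoneda_exact₂ _ ((t (Spec (CommRingCat.of A))).triangleLTGE_distinguished a E) φ key
  haveI : (((t (Spec (CommRingCat.of A))).truncLT a).obj E).IsLE (a - 1) := inferInstanceAs ((t (Spec (CommRingCat.of A))).IsLE (((t (Spec (CommRingCat.of A))).truncLT a).obj E) (a - 1))
  have hq : DCoh.IsQCohD (((t (Spec (CommRingCat.of A))).truncLT a).obj E) :=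
    Groth.Misc4.QCohDPerf.isQCohD_obj₂ _ (inv_rot_of_distTriang _ ((t (Spec (CommRingCat.of A))).triangleLTGE_distinguished a E))
      (Groth.Misc4.QCohDPerf.isQCohD_shift (isQCohD_truncGE hE a) (-1)) hE
  have h0 : χ = 0 := eq_zero_KS_of_isLE fs hq (a - 1) n (by omega) χ
  rw [hχ, h0]
  exact zero_comp

include adj hE in
theorem orth_of_isIso_truncLE (h : IsIso (((t (Spec (CommRingCat.of A))).truncLE (a - 1)).map (adj.unit.app E))) (n : ℤ)
    (hn : n ≤ a - 1) (φ : (KS fs)⟦-n⟧ ⟶ E) : φ = 0 := by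
  have hR := isQCohD_Rpush_restrict fs hE
  have gt_zero : ∀ {G : DCoh.D (Spec (CommRingCat.of A))}, DCoh.IsQCohD G →
      ∀ (ψ : (KS fs)⟦-n⟧ ⟶ ((t (Spec (CommRingCat.of A))).truncGT (a - 1)).obj G), ψ = 0 := fun {G} hG ψ => by
    haveI : (((t (Spec (CommRingCat.of A))).truncGT (a - 1)).obj G).IsGE a := by
      haveI : (((t (Spec (CommRingCat.of A))).truncGT (a - 1)).obj G).IsGE (a - 1 + 1) :=
        inferInstanceAs ((t (Spec (CommRingCat.of A))).IsGE (((t (Spec (CommRingCat.of A))).truncGT (a - 1)).obj G) (a - 1 + 1))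
      exact (t (Spec (CommRingCat.of A))).isGE_of_ge _ a (a - 1 + 1) (by omega)
    refine eq_zero_KS_of_isGE fs ?_ a n (by omega) ψ
    exact Groth.Misc4.QCohDPerf.isQCohD_obj₂ _ (rot_of_distTriang _ ((t (Spec (CommRingCat.of A))).triangleLEGT_distinguished (a - 1) G))
      hG (Groth.Misc4.QCohDPerf.isQCohD_shift (isQCohD_truncLE hG (a - 1)) 1)
  obtain ⟨χ, hχ⟩ := Triangle.coyoneda_exact₂ _ ((t (Spec (CommRingCat.of A))).triangleLEGT_distinguished (a - 1) E) φ (gt_zero hE _)
  rw [hχ]
  suffices χ = 0 by rw [this]; exact zero_comp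
  let R := (DCoh.Rpush (U fs).ι).obj ((DCoh.restrictD (U fs).ι).obj E)
  refine (cancel_mono (((t (Spec (CommRingCat.of A))).truncLE (a - 1)).map (adj.unit.app E))).1 ?_
  rw [zero_comp]
  have hι : (χ ≫ ((t (Spec (CommRingCat.of A))).truncLE (a - 1)).map (adj.unit.app E)) ≫ ((t (Spec (CommRingCat.of A))).truncLEι (a - 1)).app R = 0 :=
    eq_zero_KS_to_Rpush fs adj E _ _
  obtain ⟨ψ, hψ⟩ := Triangle.coyoneda_exact₂ _ (inv_rot_of_distTriang _ ((t (Spec (CommRingCat.of A))).triangleLEGT_distinguished (a - 1) R)) _ hι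
  haveI : (((t (Spec (CommRingCat.of A))).truncGT (a - 1)).obj R).IsGE (a - 1 + 1) :=
    inferInstanceAs ((t (Spec (CommRingCat.of A))).IsGE (((t (Spec (CommRingCat.of A))).truncGT (a - 1)).obj R) (a - 1 + 1))
  haveI : ((((t (Spec (CommRingCat.of A))).truncGT (a - 1)).obj R)⟦(-1 : ℤ)⟧).IsGE (a + 1) :=
    (t (Spec (CommRingCat.of A))).isGE_shift _ (a - 1 + 1) (-1) (a + 1) (by omega)
  have h0 : ψ = 0 := eq_zero_KS_of_isGE fs (G := (((t (Spec (CommRingCat.of A))).truncGT (a - 1)).obj R)⟦(-1 : ℤ)⟧) (Groth.Misc4.QCohDPerf.isQCohD_shift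
    (Groth.Misc4.QCohDPerf.isQCohD_obj₂ _ (rot_of_distTriang _ ((t (Spec (CommRingCat.of A))).triangleLEGT_distinguished (a - 1) R))
      hR (Groth.Misc4.QCohDPerf.isQCohD_shift (isQCohD_truncLE hR (a - 1)) 1)) (-1)) (a + 1) n (by omega) ψ
  rw [hψ, h0]
  exact zero_comp

end Groth.Misc4.KoszulTrunc
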