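import Groth.Agent.Misc4.PerfVanishQcqs
import Groth.Agent.Misc4.KoszulTrunc
import Groth.Agent.Misc4.QCohDSum
import Groth.Agent.DerivedCoh.CoprodTriangle
import Groth.Prelude.Def_PerfAux

/-!
# Perfect objects are compact among objects with quasi-coherent cohomology
-/

universe u

open CategoryTheory CategoryTheory.Limits Pretriangulated AlgebraicGeometry DerivedCategory
open Groth.KTheory.Perf
open Groth.Misc4.KoszulTrunc (t)

attribute [local instance] HasDerivedCategory.standard

set_option backward.isDefEq.respectTransparency false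
set_option backward.defeqAttrib.useBackward true
set_option synthInstance.maxHeartbeats 400000
set_option maxHeartbeats 1000000

namespace Groth.Misc4.PerfectCompactQCoh

lemma homSum_of {D : Type*} [Category D] [Preadditive D] (P : D) {J : Type*} [DecidableEq J] (Y : J → D)
    [HasCoproduct Y] (j : J) (f : P ⟶ Y j) :
    PerfAux.homSumToHomCoprod P Y (DirectSum.of (fun j => P ⟶ Y j) j f) = f ≫ Limits.Sigma.ι Y j := by
  rw [PerfAux.homSumToHomCoprod]
  convert DirectSum.toAddMonoid_of (β := fun j => P ⟶ Y j) _ j f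
  rfl

/-- the canonical map out of a direct sum of groups of maps is injective -/
theorem injective_homSum {D : Type*} [Category D] [Preadditive D] (P : D) {J : Type*} (Y : J → D)
    [HasCoproduct Y] : Function.Injective (PerfAux.homSumToHomCoprod P Y) := by
  classical
  rw [injective_iff_map_eq_zero]
  intro x hx
  refine DFinsupp.ext fun i => ?_
  let p : ∐ Y ⟶ Y i := Limits.Sigma.desc fun j => if hji : j = i then eqToHom (congrArg Y hji) else 0
  have key : ∀ y, PerfAux.homSumToHomCoprod P Y y ≫ p = y i := by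
    intro y
    induction y using DirectSum.induction_on with
    | zero => simp
    | of j f =>
      rw [homSum_of, Category.assoc, Limits.Sigma.ι_desc]
      by_cases hji : j = i
      · subst hji
        rw [dif_pos rfl, eqToHom_refl, Category.comp_id, DirectSum.of_eq_same]
      · rw [dif_neg hji, comp_zero, DirectSum.of_eq_of_ne _ _ _ (Ne.symm hji)]
    | add a b ha hb => rw [map_add, Preadditive.add_comp, ha, hb]; rfl
  rw [← key x, hx, zero_comp]
  rfl

variable {X : Scheme.{u}}

lemma isLE_sigma {I : Type u} (M : I → DCoh.D X) [HasCoproduct M] (a : ℤ) (h : ∀ i, (M i).IsLE a) :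
    (∐ M).IsLE a := by
  refine (DerivedCategory.isLE_iff _ _).2 fun n hn => ?_
  let C := fun i => DerivedCategory.Q.objPreimage (M i)
  let e : ∀ i, DerivedCategory.Q.obj (C i) ≅ M i := fun i => DerivedCategory.Q.objObjPreimageIso (M i)
  obtain ⟨hQ⟩ := Groth.Misc4.QCoprod.nonempty_isColimit C
  let s : DerivedCategory.Q.obj (∐ C) ≅ ∐ M :=
    IsColimit.coconePointsIsoOfNatIso hQ (colimit.isColimit _) (Discrete.natIso fun i => e i.as)
  obtain ⟨H, hH, ⟨σ⟩⟩ := Groth.Misc4.QCohDSum.exists_homology_sigma C n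
  have hz : IsZero (colimit H) := by
    rw [IsZero.iff_id_eq_zero]
    refine colimit.hom_ext fun ⟨i⟩ => ?_
    refine IsZero.eq_of_src ?_ _ _
    exact ((DerivedCategory.isLE_iff (M i) a).1 (h i) n hn).of_iso ((hH i).some ≪≫
      ((DerivedCategory.homologyFunctorFactors X.Modules n).app (C i)).symm ≪≫
      (DerivedCategory.homologyFunctor X.Modules n).mapIso (e i))
  exact hz.of_iso ((DerivedCategory.homologyFunctor X.Modules n).mapIso s.symm ≪≫
    (DerivedCategory.homologyFunctorFactors X.Modules n).app _ ≪≫ σ)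

/-- maps from a perfect object into bounded below direct sums are finite sums -/
theorem exists_sum_of_isGE [CompactSpace X] [QuasiSeparatedSpace X] (K : DCoh.D X) (hK : DCoh.IsPerfect K)
    {I : Type u} (M : I → DCoh.D X) [HasCoproduct M] (a : ℤ) (ha : ∀ i, (M i).IsGE a) (φ : K ⟶ ∐ M) :
    ∃ (S : Finset I) (f : ∀ i, K ⟶ M i), φ = ∑ i ∈ S, f i ≫ Limits.Sigma.ι M i := by
  obtain ⟨F, ⟨eF⟩⟩ := exists_rep K
  let K₀ := (Groth.DerivedCoh.KFlat.flatResolution X).obj F
  haveI : IsIso (DerivedCategory.Q.map ((Groth.DerivedCoh.KFlat.flatResolutionAug X).app F)) :=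
    (DerivedCategory.isIso_Q_map_iff_quasiIso _ _).2 (Groth.DerivedCoh.KFlat.flatResolution_quasiIso F)
  let e : DCoh.toD X K₀ ≅ K :=
    asIso (DerivedCategory.Q.map ((Groth.DerivedCoh.KFlat.flatResolutionAug X).app F)) ≪≫ eF
  have hK₀ := Groth.DerivedCoh.KFlat.flatResolution_isKFlat F
  haveI := Groth.DerivedCoh.KFlat.hasLTensorCx K₀
  haveI := Groth.Misc4.HasRSheafHom.hasRSheafHom K₀ hK₀ (Groth.DerivedCoh.KFlat.flatResolution_isFlat F)
  obtain ⟨S, f, hf⟩ := Groth.Misc4.PerfectCompact.exists_sum K₀ hK₀ (isPerfect_of_iso e.symm hK) M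
    (Y := ∐ M) (ι := fun i => Limits.Sigma.ι M i) (coproductIsCoproduct M) (Or.inl ⟨a, ha⟩) (e.hom ≫ φ)
  refine ⟨S, fun i => e.inv ≫ f i, ?_⟩
  rw [← e.inv_hom_id_assoc φ, hf, Preadditive.comp_sum]
  exact Finset.sum_congr rfl fun i _ => (Category.assoc _ _ _).symm

/-- Perfect objects are compact with respect to objects with quasi-coherent cohomology. -/
theorem bijective [CompactSpace X] [QuasiSeparatedSpace X] (K : DCoh.D X) (hK : DCoh.IsPerfect K)
    {I : Type u} (M : I → DCoh.D X) [HasCoproduct M] (hM : ∀ i, DCoh.IsQCohD (M i)) :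
    Function.Bijective (PerfAux.homSumToHomCoprod K M) := by
  classical
  refine ⟨injective_homSum K M, fun φ => ?_⟩
  haveI : HasCoproducts.{u} (DCoh.D X) := Groth.DerivedCoh.KInjRes.hasCoproducts
  obtain ⟨c, hc⟩ := Groth.Misc4.PerfVanishQcqs.van X K hK
  let T : I → Triangle (DCoh.D X) := fun i => ((t X).triangleLTGE (c + 1)).obj (M i)
  have hT : ∀ i, T i ∈ distTriang (DCoh.D X) := fun i => (t X).triangleLTGE_distinguished (c + 1) (M i)
  have hge : ∀ i, (T i).obj₃.IsGE (c + 1) := fun i =>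
    inferInstanceAs ((t X).IsGE (((t X).truncGE (c + 1)).obj (M i)) (c + 1))
  have hle : ∀ i, (T i).obj₁.IsLE c := fun i => by
    have h : (((t X).truncLT (c + 1)).obj (M i)).IsLE (c + 1 - 1) :=
      inferInstanceAs ((t X).IsLE (((t X).truncLT (c + 1)).obj (M i)) (c + 1 - 1))
    rw [show c + 1 - 1 = c by omega] at h
    exact h
  have hq : ∀ i, DCoh.IsQCohD (T i).obj₁ := fun i =>
    Groth.Misc4.QCohDPerf.isQCohD_obj₂ (T i).invRotate (inv_rot_of_distTriang _ (hT i))
      (Groth.Misc4.QCohDPerf.isQCohD_shift (Groth.Misc4.KoszulTrunc.isQCohD_truncGE (hM i) _) (-1)) (hM i)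
  obtain ⟨S, f, hf⟩ := exists_sum_of_isGE K hK (fun i => (T i).obj₃) (c + 1) hge
    (φ ≫ Limits.Sigma.map fun i => (T i).mor₂)
  have hlift : ∀ i, ∃ g : K ⟶ M i, f i = g ≫ (T i).mor₂ := fun i =>
    Triangle.coyoneda_exact₃ _ (hT i) (f i)
      (hc _ (Groth.Misc4.QCohDPerf.isQCohD_shift (hq i) 1)
        (Groth.Misc4.PerfVanishQcqs.isLE_mono (Groth.Misc4.PerfVanishQcqs.isLE_shift (hle i) 1 (c - 1) (by omega))
          (by omega)) _)
  choose g hg using hlift
  let y : K ⟶ ∐ M := ∑ i ∈ S, g i ≫ Limits.Sigma.ι M i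
  have hy : y ≫ Limits.Sigma.map (fun i => (T i).mor₂) = φ ≫ Limits.Sigma.map (fun i => (T i).mor₂) := by
    rw [hf, Preadditive.sum_comp]
    refine Finset.sum_congr rfl fun i _ => ?_
    rw [Category.assoc, hg i, Category.assoc]
    exact congrArg (g i ≫ ·) (Limits.Sigma.ι_map (fun i => (T i).mor₂) i)
  obtain ⟨γ, hγ⟩ := Groth.DerivedCoh.exists_factor_sigma T hT (φ - y)
    (by rw [Preadditive.sub_comp, hy, sub_self])
  rw [hc _ (Groth.Misc4.QCohDSum.isQCohD_sigma X _ hq) (isLE_sigma _ c hle) γ, zero_comp, sub_eq_zero] at hγ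
  refine ⟨∑ i ∈ S, DirectSum.of (fun i => K ⟶ M i) i (g i), ?_⟩
  rw [map_sum, hγ]
  exact Finset.sum_congr rfl fun i _ => homSum_of K M i (g i)

end Groth.Misc4.PerfectCompactQCoh
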