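import Groth.Agent.Misc4.CompactSum
import Groth.Agent.CohTwo.ExtStructure
import Groth.Agent.CohDev.FTColim
import Groth.Agent.SitesTopoi.Mod.QcSum

/-!
On a quasi-compact quasi-separated scheme maps from `O_X` into direct sums in `D(O_X)` are finite sums, for
uniformly bounded below families, or for all families when the cohomological dimension is finite.
-/

universe u

open CategoryTheory CategoryTheory.Limits AlgebraicGeometry Opposite TopologicalSpace

namespace Groth.Misc4.StructCompact

open Groth.CohFin
open CompactAcyclic (Hm)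

attribute [local instance] HasDerivedCategory.standard

set_option maxHeartbeats 1000000

variable {X : Scheme.{u}}

lemma isZero_rightDerived [HasExt.{u} X.Modules] (F : X.Modules) (p : ℕ) [Subsingleton (Coh.HH X F p)] :
    IsZero (((Hm (Coh.structureModule X)).rightDerived p).obj F) := by
  obtain ⟨e⟩ := Groth.CohTwo.ExtStructure.nonempty_ext_structure_equiv X F p
  haveI : Subsingleton (((Abelian.extFunctor p).obj (op (Coh.structureModule X))).obj F) :=
    e.toEquiv.subsingleton
  exact IsZero.of_iso (AddCommGrpCat.isZero_of_subsingleton _)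
    ((Groth.LocCohZBase.ExtDerived.derivedIso (Coh.structureModule X) p).app F)

lemma subsingleton_HH_injective [HasExt.{u} X.Modules] (F : X.Modules) [Injective F] (j : ℕ) :
    Subsingleton (Coh.HH X F (j + 1)) := by
  obtain ⟨e⟩ := Groth.CohTwo.ExtStructure.nonempty_ext_structure_equiv X F (j + 1)
  haveI : Subsingleton (Abelian.Ext (Coh.structureModule X) F (j + 1)) :=
    subsingleton_of_forall_eq 0 fun x => Abelian.Ext.eq_zero_of_injective x
  exact e.symm.toEquiv.subsingleton

open CoproductsFromFiniteFiltered in
/-- direct sums of injective modules are acyclic on a qcqs scheme -/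
theorem rightAcyclic_sigma [CompactSpace X] [QuasiSeparatedSpace X] [HasExt.{u} X.Modules] {T : Type u}
    (I : T → X.Modules) (hI : ∀ t, Injective (I t)) : RightAcyclic (Hm (Coh.structureModule X)) (∐ I) := fun j => by
  classical
  suffices Subsingleton (Coh.HH X (∐ I) (j + 1)) from isZero_rightDerived _ _
  haveI : CompactSpace ↑X.toTopCat := ‹CompactSpace X›
  haveI : QuasiSeparatedSpace ↑X.toTopCat := ‹QuasiSeparatedSpace X›
  haveI : PrespectralSpace ↑X.toTopCat := inferInstanceAs (PrespectralSpace X)
  have hc := isColimitFiniteSubproductsCocone I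
  have hc' := ((Groth.CohTwo.preservesColimitsOfShape_toSheaf (X := X)
    (Finset (Discrete T))).preservesColimit.preserves hc).some
  let H := (Sheaf.cohomologyPresheafFunctor (Opens.grothendieckTopology X.toTopCat) (j + 1)).flip.obj (op ⊤)
  have hp : PreservesColimit (liftToFinsetObj (Discrete.functor I) ⋙ SheafOfModules.toSheaf.{u} X.ringCatSheaf) H :=
    Groth.FlatMor2.ColimCoh.preservesColimit_HU_space (X := X.toTopCat) ⊤ isCompact_univ
      (isQuasiSeparated_univ_iff.2 inferInstance) (j + 1) _
  have hz : IsZero (H.obj ((SheafOfModules.toSheaf.{u} X.ringCatSheaf).obj (∐ I))) :=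
    CompactAcyclic.isZero_of_isColimit_zero _ (hp.preserves hc').some fun s => by
      haveI : ∀ x : s, Injective ((Discrete.functor I).obj x) := fun x => hI _
      haveI := Abelian.hasFiniteBiproducts (C := X.Modules)
      haveI : Injective ((liftToFinsetObj (Discrete.functor I)).obj s) :=
        Injective.of_iso (biproduct.isoCoproduct fun x : s => (Discrete.functor I).obj x) inferInstance
      haveI : Subsingleton ↑(H.obj ((SheafOfModules.toSheaf.{u} X.ringCatSheaf).obj
          ((liftToFinsetObj (Discrete.functor I)).obj s))) :=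
        (Groth.CohBase.subsingleton_H_iff (X := X.toTopCat) _ (j + 1)).1
          (subsingleton_HH_injective ((liftToFinsetObj (Discrete.functor I)).obj s) j)
      exact (AddCommGrpCat.isZero_of_subsingleton
        (H.obj ((SheafOfModules.toSheaf.{u} X.ringCatSheaf).obj ((liftToFinsetObj (Discrete.functor I)).obj s))) :)
  exact (Groth.CohBase.subsingleton_H_iff (X := X.toTopCat) _ (j + 1)).2
    (AddCommGrpCat.subsingleton_of_isZero hz)

/-- maps from `O_X` into direct sums of modules are finite sums -/
theorem exists_finset_sum [CompactSpace X] {T : Type u} (I : T → X.Modules) (z : Coh.structureModule X ⟶ ∐ I) :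
    ∃ (S : Finset T) (t : ∀ i, Coh.structureModule X ⟶ I i), z = ∑ i ∈ S, t i ≫ Limits.Sigma.ι I i := by
  haveI : CompactSpace ↑X.toTopCat := ‹CompactSpace X›
  obtain ⟨S, t, ht⟩ := Groth.SitesTopoi.QcSum.exists_finset_sum (O := X.sheaf) (fun i => (I i : ModSite.Mod X.sheaf))
    (W := (⊤ : X.Opens)) (Groth.SitesTopoi.QcSum.isQcObject_of_isCompact (X := X.toTopCat) isCompact_univ)
    (z.app ⊤ (Groth.PicAux.oneSec X ⊤))
  refine ⟨S, fun i => Groth.PicAux.homOfSection (t i), Groth.PicAux.hom_structure_ext (ht.trans ?_)⟩
  let ev : (Coh.structureModule X ⟶ (∐ I : X.Modules)) →+ Γ((∐ I : X.Modules), ⊤) :=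
    AddMonoidHom.mk' (fun φ => φ.app ⊤ (Groth.PicAux.oneSec X ⊤)) (fun a b => rfl)
  refine Eq.trans ?_ (map_sum ev _ S).symm
  refine Finset.sum_congr rfl fun i _ => ?_
  exact congrArg ((Limits.Sigma.ι I i).app ⊤) (Groth.PicAux.homOfSection_one (t i)).symm

end Groth.Misc4.StructCompact
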