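import Groth.Agent.Misc4.HasRSheafHom
import Groth.Agent.Misc4.StructCompact
import Groth.Agent.Misc4.PushRestrict
import Groth.Agent.CohTwo.LocFreeDual
import Groth.Agent.DerivedCoh.Duality.Theta
import Groth.Agent.KTheory.PerfCoh

/-!
Perfect objects of `D(O_X)` on a qcqs scheme are compact for uniformly bounded below families, and compact when
the cohomological dimension is finite: `Hom(K, -) = Hom(O_X, RHom(K, -))`.
-/

universe u

open CategoryTheory CategoryTheory.Limits AlgebraicGeometry HomologicalComplex Opposite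
open Groth.KTheory.Perf

namespace Groth.Misc4.PerfectCompact

open Groth.DerivedCoh.KFlat (T IsKFlat tot totL)

attribute [local instance] HasDerivedCategory.standard

set_option maxHeartbeats 1000000

local notation "up" => ComplexShape.up ℤ

variable {X : Scheme.{u}}

lemma isLeftAdjoint_restrictD {U : Scheme.{u}} (j : U ⟶ X) [IsOpenImmersion j] :
    (DCoh.restrictD j).IsLeftAdjoint :=
  haveI := Groth.Misc4.PushRestrict.hasRightDerived (X := U) (Scheme.Modules.pushforward j)
  haveI : PreservesFiniteColimits (Scheme.Modules.restrictFunctor j) :=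
    haveI := (Scheme.Modules.restrictAdjunction j).leftAdjoint_preservesColimits
    inferInstance
  (Groth.DerivedAdj.derivedAdj (Scheme.Modules.restrictAdjunction j)
    (Groth.DerivedCoh.KFlat.enoughKInj U)).isLeftAdjoint

/-- tensoring with a complex living in degrees `≥ c` shifts lower bounds by `c` -/
lemma isStrictlyGE_tot (M P : CochainComplex X.Modules ℤ) (a c : ℤ) [M.IsStrictlyGE a]
    (hP : ∀ q, q < c → IsZero (P.X q)) : (tot (T X) M P).IsStrictlyGE (a + c) := by
  rw [CochainComplex.isStrictlyGE_iff]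
  intro n hn
  rw [IsZero.iff_id_eq_zero]
  refine mapBifunctor.hom_ext fun p q h => ?_
  have h' : p + q = n := h
  rcases lt_or_ge p a with hp | hp
  · exact (((T X).flip.obj (P.X q)).map_isZero (M.isZero_of_isStrictlyGE a p hp)).eq_of_src _ _
  · exact (((T X).obj (M.X p)).map_isZero (hP q (by omega))).eq_of_src _ _

variable (K : CochainComplex X.Modules ℤ) [DCoh.HasLTensorCx K]

/-- `O ⊗ K ≅ K` -/
noncomputable def unitTotIso : tot (T X) ((single X.Modules up 0).obj (Coh.structureModule X)) K ≅ K :=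
  Groth.DerivedCoh.KFlat.totSingleIso (T X) (Coh.structureModule X) K ≪≫
    (NatIso.mapHomologicalComplex Groth.CohTwo.LocFreeDual.lUnit up).app K ≪≫
    (Functor.mapHomologicalComplexIdIso X.Modules up).app K

/-- `O ⊗^L K ≅ K` -/
noncomputable def ltcxUnitIso (hK : IsKFlat (T X) K) :
    (DCoh.LTensorCx K).obj ((DerivedCategory.singleFunctor X.Modules 0).obj (Coh.structureModule X)) ≅
      DCoh.toD X K :=
  (DCoh.LTensorCx K).mapIso ((DerivedCategory.singleFunctorIsoCompQ X.Modules 0).app _) ≪≫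
    Groth.DerivedCoh.KFlat.ltcxIso K hK _ ≪≫ DerivedCategory.Q.mapIso (unitTotIso K)

variable (hK : IsKFlat (T X) K) (hKp : DCoh.IsPerfect (DCoh.toD X K)) [DCoh.HasRSheafHom K]

include hK hKp in
/-- `RHom(K, -)` lowers bounds by a uniform amount -/
theorem exists_bound [CompactSpace X] : ∃ c : ℤ, ∀ (a : ℤ) (M : DCoh.D X), M.IsGE a →
    ((DCoh.RSheafHom K).obj M).IsGE (a + c) := by
  choose V E δ hδ hx e using fun x : X => Groth.DerivedCoh.Duality.exists_local_rhom K hK hKp x
  obtain ⟨t, ht⟩ := isCompact_univ.elim_finite_subcover (fun x => (V x : Set X)) (fun x => (V x).2)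
    (fun x _ => Set.mem_iUnion.2 ⟨x, hx x⟩)
  obtain ⟨c, hc⟩ : ∃ c : ℤ, ∀ x ∈ t, c ≤ (δ x).lo := by
    refine ⟨-(t.sup fun x => (-(δ x).lo).toNat : ℕ), fun x hxt => ?_⟩
    have : (-(δ x).lo).toNat ≤ t.sup fun x => (-(δ x).lo).toNat :=
      Finset.le_sup (f := fun x => (-(δ x).lo).toNat) hxt
    omega
  refine ⟨c, fun a M hM => (DerivedCategory.isGE_iff _ _).2 fun i hi => isZero_of_local fun y => ?_⟩
  obtain ⟨x, hxt, hy⟩ := Set.mem_iUnion₂.1 (ht (Set.mem_univ y))
  refine ⟨V x, hy, ?_⟩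
  haveI := hδ x
  obtain ⟨h⟩ := nonempty_hdRd (V x).ι ((DCoh.RSheafHom K).obj M) i
  refine IsZero.of_iso ?_ h.symm
  haveI hMV : ((Rd (V x).ι).obj M).IsGE a := (DerivedCategory.isGE_iff _ _).2 fun k hk => by
    obtain ⟨h'⟩ := nonempty_hdRd (V x).ι M k
    exact ((Scheme.Modules.restrictFunctor (V x).ι).map_isZero
      ((DerivedCategory.isGE_iff M a).1 hM k hk)).of_iso h'
  obtain ⟨N, hN, ⟨eN⟩⟩ := DerivedCategory.exists_iso_Q_obj_of_isGE ((Rd (V x).ι).obj M) a
  haveI := hN
  haveI := isStrictlyGE_tot N (δ x).V a c fun q hq => (δ x).zero q (by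
    have := hc x hxt
    simp only [Finset.mem_Icc]; omega)
  haveI hge : (DerivedCategory.Q.obj (tot (T _) N (δ x).V)).IsGE (a + c) := by
    exact ⟨_, Iso.refl _, inferInstance⟩
  refine IsZero.of_iso (DerivedCategory.isZero_of_isGE (DerivedCategory.Q.obj (tot (T _) N (δ x).V))
    (a + c) i hi) ((DerivedCategory.homologyFunctor _ i).mapIso ?_)
  exact (e x).some.app M ≪≫ (DCoh.LTensorCx (δ x).V).mapIso eN ≪≫
    Groth.DerivedCoh.KFlat.ltcxIso (δ x).V
      (Groth.DerivedCoh.PCoh.isKFlat_of_isStrictlyPerfect (δ x).isStrictlyPerfect) N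

include hK hKp in
/-- `RHom(K, -)` preserves direct sums -/
theorem preservesCoproduct_rhom {I : Type u} (M : I → DCoh.D X) [HasCoproduct M]
    [HasCoproduct fun i => (DCoh.RSheafHom K).obj (M i)] :
    PreservesColimit (Discrete.functor M) (DCoh.RSheafHom K) := by
  let G := DCoh.RSheafHom K
  suffices IsIso (sigmaComparison G M) from PreservesCoproduct.of_iso_comparison G M
  refine Groth.DerivedCoh.Duality.isIso_of_local _ fun x => ?_
  obtain ⟨V, E, δ, hδ, hx, ⟨e⟩⟩ := Groth.DerivedCoh.Duality.exists_local_rhom K hK hKp x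
  haveI := hδ
  refine ⟨V, hx, ?_⟩
  let R := DCoh.restrictD V.ι
  haveI : R.IsLeftAdjoint := isLeftAdjoint_restrictD V.ι
  haveI : DCoh.HasRSheafHom δ.V := Groth.Misc4.HasRSheafHom.hasRSheafHom δ.V
    (Groth.DerivedCoh.PCoh.isKFlat_of_isStrictlyPerfect δ.isStrictlyPerfect)
    fun q => Groth.DerivedCoh.PCoh.isFlat_of_isFinLocFree (δ.fl q)
  haveI : (DCoh.LTensorCx δ.V).IsLeftAdjoint := ‹DCoh.HasRSheafHom δ.V›
  haveI hcomp : PreservesColimit (Discrete.functor M) (G ⋙ R) :=
    preservesColimit_of_natIso _ e.symm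
  let hc := isColimitOfPreserves (G ⋙ R) (coproductIsCoproduct M)
  let hd := isColimitOfPreserves R (coproductIsCoproduct fun i => G.obj (M i))
  let w : (Discrete.functor fun i => G.obj (M i)) ⋙ R ≅ Discrete.functor M ⋙ G ⋙ R :=
    Discrete.natIso fun _ => Iso.refl _
  have h : R.map (sigmaComparison G M) = (IsColimit.coconePointsIsoOfNatIso hd hc w).hom := by
    refine hd.hom_ext fun ⟨i⟩ => ?_
    rw [IsColimit.comp_coconePointsIsoOfNatIso_hom]
    change R.map (Sigma.ι (fun i => G.obj (M i)) i) ≫ R.map (sigmaComparison G M) = 𝟙 _ ≫ R.map (G.map (Sigma.ι M i))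
    rw [← R.map_comp, ι_comp_sigmaComparison, Category.id_comp]
  rw [h]
  infer_instance

include hK hKp in
/-- maps from a perfect object into direct sums are finite sums -/
theorem exists_sum [CompactSpace X] [QuasiSeparatedSpace X] {I : Type u} (M : I → DCoh.D X)
    {Y : DCoh.D X} {ι : ∀ i, M i ⟶ Y} (hc : IsColimit (Cofan.mk Y ι))
    (h : (∃ a, ∀ i, (M i).IsGE a) ∨
      ∃ d : ℕ, ∀ (F : X.Modules) (i : ℕ), d < i → Subsingleton (Coh.HH X F i))
    (φ : DCoh.toD X K ⟶ Y) :
    ∃ (S : Finset I) (f : ∀ i, DCoh.toD X K ⟶ M i), φ = ∑ i ∈ S, f i ≫ ι i := by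
  classical
  haveI : HasCoproducts.{u} (DCoh.D X) := Groth.DerivedCoh.KInjRes.hasCoproducts
  haveI : HasExt.{u} X.Modules := inferInstance
  let G := DCoh.RSheafHom K
  let adj := DCoh.RSheafHomAdj K
  haveI : (DCoh.LTensorCx K).Additive := Groth.Misc4.HasRSheafHom.additive_ltcx K hK
  haveI : G.Additive := adj.right_adjoint_additive
  haveI := preservesCoproduct_rhom K hK hKp M
  have hc' : IsColimit (Cofan.mk (G.obj Y) fun i => G.map (ι i)) :=
    (Cofan.isColimitMapCoconeEquiv G M (c := Cofan.mk Y ι)) (isColimitOfPreserves G hc)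
  let L := (DerivedCategory.singleFunctor X.Modules 0).obj (Coh.structureModule X)
  let eK := ltcxUnitIso K hK
  have hA := Groth.Misc4.StructCompact.rightAcyclic_sigma (X := X) (T := I)
  have hsum := Groth.Misc4.StructCompact.exists_finset_sum (X := X) (T := I)
  obtain ⟨S, f, hf⟩ : ∃ (S : Finset I) (f : ∀ i, L ⟶ G.obj (M i)),
      adj.homEquiv L Y (eK.hom ≫ φ) = ∑ i ∈ S, f i ≫ G.map (ι i) := by
    rcases h with ⟨a, ha⟩ | ⟨d, hd⟩
    · obtain ⟨c, hcb⟩ := exists_bound K hK hKp
      exact Groth.Misc4.CompactSum.exists_sum_of_isGE (Coh.structureModule X) hA hsum hc' (a + c)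
        (fun i => hcb a (M i) (ha i)) _
    · exact Groth.Misc4.CompactSum.exists_sum_of_cd (Coh.structureModule X) hA hsum hc' d
        (fun F => haveI := hd F (d + 1) (Nat.lt_succ_self d)
          Groth.Misc4.StructCompact.isZero_rightDerived F (d + 1)) _
  refine ⟨S, fun i => eK.inv ≫ (adj.homEquiv L (M i)).symm (f i), ?_⟩
  have h2 : eK.hom ≫ φ = ∑ i ∈ S, (adj.homEquiv L (M i)).symm (f i) ≫ ι i := by
    apply (adj.homAddEquiv L Y).injective
    rw [map_sum]
    refine hf.trans (Finset.sum_congr rfl fun i _ => ?_)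
    change _ = adj.homEquiv L Y _
    rw [Adjunction.homEquiv_naturality_right, Equiv.apply_symm_apply]
  rw [← eK.inv_hom_id_assoc φ, h2, Preadditive.comp_sum]
  exact Finset.sum_congr rfl fun i _ => (Category.assoc _ _ _).symm

/-- the canonical map out of a direct sum of groups of maps is injective -/
theorem injective_homSum {D : Type*} [Category D] [Preadditive D] (P : D) {J : Type _} (Y : J → D)
    [HasCoproduct Y] : Function.Injective (CohDer.homSumToHomCoprod P Y) := by
  classical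
  rw [injective_iff_map_eq_zero]
  intro x hx
  refine DFinsupp.ext fun i => ?_
  let p : ∐ Y ⟶ Y i := Sigma.desc fun j => if hji : j = i then eqToHom (congrArg Y hji) else 0
  have key : ∀ y, CohDer.homSumToHomCoprod P Y y ≫ p = y i := by
    intro y
    induction y using DirectSum.induction_on with
    | zero => simp
    | of j f =>
      rw [CohDer.homSumToHomCoprod]
      rw [show (DirectSum.toAddMonoid fun i => Preadditive.rightComp P (Sigma.ι Y i))
        (DirectSum.of (fun j => P ⟶ Y j) j f) = f ≫ Sigma.ι Y j from DirectSum.toAddMonoid_of _ _ _,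
        Category.assoc, Sigma.ι_desc]
      by_cases hji : j = i
      · subst hji
        rw [dif_pos rfl, eqToHom_refl, Category.comp_id, DirectSum.of_eq_same]
      · rw [dif_neg hji, comp_zero, DirectSum.of_eq_of_ne _ _ _ (Ne.symm hji)]
    | add a b ha hb => rw [map_add, Preadditive.add_comp, ha, hb]; rfl
  rw [← key x, hx, zero_comp]
  rfl

/-- perfect objects are compact for families as in `exists_sum` -/
theorem bijective_perfect [CompactSpace X] [QuasiSeparatedSpace X] (K : DCoh.D X) (hK : DCoh.IsPerfect K)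
    {I : Type u} (M : I → DCoh.D X) [HasCoproduct fun i : ULift.{u + 1} I => M i.down]
    (h : (∃ a, ∀ i, (M i).IsGE a) ∨
      ∃ d : ℕ, ∀ (F : X.Modules) (i : ℕ), d < i → Subsingleton (Coh.HH X F i)) :
    Function.Bijective (CohDer.homSumToHomCoprod K (fun i : ULift.{u + 1} I => M i.down)) := by
  classical
  refine ⟨injective_homSum K _, fun φ => ?_⟩
  let P := fun i : ULift.{u + 1} I => M i.down
  obtain ⟨F, ⟨eF⟩⟩ := exists_rep K
  let K₀ := (Groth.DerivedCoh.KFlat.flatResolution X).obj F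
  haveI : IsIso (DerivedCategory.Q.map ((Groth.DerivedCoh.KFlat.flatResolutionAug X).app F)) :=
    (DerivedCategory.isIso_Q_map_iff_quasiIso _ _).2 (Groth.DerivedCoh.KFlat.flatResolution_quasiIso F)
  let e : DCoh.toD X K₀ ≅ K :=
    asIso (DerivedCategory.Q.map ((Groth.DerivedCoh.KFlat.flatResolutionAug X).app F)) ≪≫ eF
  have hK₀ := Groth.DerivedCoh.KFlat.flatResolution_isKFlat F
  haveI := Groth.DerivedCoh.KFlat.hasLTensorCx K₀
  haveI := Groth.Misc4.HasRSheafHom.hasRSheafHom K₀ hK₀ (Groth.DerivedCoh.KFlat.flatResolution_isFlat F)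
  have hp : DCoh.IsPerfect (DCoh.toD X K₀) := isPerfect_of_iso e.symm hK
  have hc : IsColimit (Cofan.mk (∐ P) fun i : I => Limits.Sigma.ι P ⟨i⟩) :=
    mkCofanColimit _ (fun s => Limits.Sigma.desc (f := P) fun i => s.inj i.down)
      (fun s i => Limits.Sigma.ι_desc _ _)
      (fun s m hm => Limits.Sigma.hom_ext (f := P) _ _ fun i =>
        (hm i.down).trans (Limits.Sigma.ι_desc (f := P) (fun i => s.inj i.down) i).symm)
  obtain ⟨S, f, hf⟩ := exists_sum K₀ hK₀ hp M hc h (e.hom ≫ φ)
  refine ⟨∑ i ∈ S, DirectSum.of (fun i : ULift.{u + 1} I => K ⟶ P i) ⟨i⟩ (e.inv ≫ f i), ?_⟩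
  rw [map_sum, ← e.inv_hom_id_assoc φ, hf, Preadditive.comp_sum]
  refine Finset.sum_congr rfl fun i _ => ?_
  refine (DirectSum.toAddMonoid_of _ _ _).trans ?_
  change (e.inv ≫ f i) ≫ Limits.Sigma.ι P ⟨i⟩ = _
  exact Category.assoc _ _ _

end Groth.Misc4.PerfectCompact
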