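import Groth.Agent.Misc4.ProjQCohGood
import Groth.Agent.Misc4.QCohTildeD
import Groth.Agent.PropsBasic2.TildeExact
import Groth.Agent.LocFree.Basic

/-!
The projection formula for complexes with quasi-coherent cohomology along a quasi-compact quasi-separated
morphism.
-/

universe u

open CategoryTheory CategoryTheory.Limits AlgebraicGeometry HomologicalComplex Pretriangulated

namespace Groth.Misc4.ProjQCoh

open Groth.DerivedCoh.KFlat (T IsKFlat tot totL totR pushCx pullCx kres kresAug)
open Groth.DerivedCoh.ExtZero (resCx ezCx)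
open Groth.DerivedCoh.Duality (rtTot inc)
open Groth.DerivedCoh.PCoh (pullRestrictIso)
open Groth.Misc4.ProjMap (pR pR_right isIso_restrict_pR)
open Groth.Misc4.ProjCx (psi psiX inc_psiX)
open Groth.Misc4.ProjPerfect (theta quasiIso_theta_iff)
open Groth.Misc4.FreeTelescope (TFree)

attribute [local instance] HasDerivedCategory.standard

set_option backward.defeqAttrib.useBackward true
set_option backward.isDefEq.respectTransparency false
set_option maxHeartbeats 2000000
set_option synthInstance.maxHeartbeats 400000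

local notation "up" => ComplexShape.up ℤ

/-- free modules as sums of copies of the ring -/
lemma exists_iso_sigma {R : CommRingCat.{u}} {A : Type*} [Category.{u} A] [HasCoproducts.{u} A]
    (F : ModuleCat.{u} R ⥤ A) [PreservesColimitsOfSize.{u, u} F] (M : ModuleCat.{u} R) (hM : Module.Free R M) :
    ∃ (ι : Type u), Nonempty (F.obj M ≅ ∐ fun _ : ι => F.obj (ModuleCat.of R R)) := by
  classical
  let ι := Module.Free.ChooseBasisIndex R M
  let b : Module.Basis ι R M := Module.Free.chooseBasis R M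
  let e : (∐ fun _ : ι => ModuleCat.of R R) ≅ M :=
    ModuleCat.coprodIsoDirectSum _ ≪≫
      ((finsuppLEquivDirectSum R R ι).symm ≪≫ₗ b.repr.symm).toModuleIso
  exact ⟨ι, ⟨F.mapIso e.symm ≪≫ PreservesCoproduct.iso F _⟩⟩

variable {X Y : Scheme.{u}} (f : X ⟶ Y) [QuasiCompact f] [QuasiSeparated f] (V : Y.Opens)
  {R : CommRingCat.{u}} (h : (V : Scheme.{u}) ≅ Spec R)

/-- modules over `R` as modules on `V` -/
noncomputable def FV : ModuleCat.{u} R ⥤ (V : Scheme.{u}).Modules :=
  tilde.functor R ⋙ Scheme.Modules.restrictFunctor h.hom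

instance : (FV V h).Additive :=
  inferInstanceAs (tilde.functor R ⋙ Scheme.Modules.restrictFunctor h.hom).Additive

instance : PreservesColimitsOfSize.{u, u} (FV V h) :=
  haveI : PreservesColimitsOfSize.{u, u} (tilde.functor R) :=
    (tilde.adjunction (R := R)).leftAdjoint_preservesColimits
  haveI : PreservesColimitsOfSize.{u, u} (Scheme.Modules.restrictFunctor h.hom) :=
    (Scheme.Modules.restrictAdjunction h.hom).leftAdjoint_preservesColimits
  comp_preservesColimits _ _

lemma isFinLocFree_FV : FlatMod.IsFinLocFree ((FV V h).obj (ModuleCat.of R R)) :=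
  Groth.LocFree.isFinLocFree_restrict h.hom
    (show FlatMod.IsFinLocFree (tilde (ModuleCat.of R R)) from LocFree.isFinLocFree_unit _)

lemma isFlat_FV (M : ModuleCat.{u} R) (hM : Module.Free R M) : FlatMod.IsFlat ((FV V h).obj M) := by
  obtain ⟨ι, ⟨e⟩⟩ := exists_iso_sigma (FV V h) M hM
  exact Groth.CohTwo.isFlat_of_iso e (Groth.CohTwo.isFlat_sigma _ fun _ =>
    Groth.DerivedCoh.PCoh.isFlat_of_isFinLocFree (isFinLocFree_FV V h))

lemma isQCoh_FV (M : ModuleCat.{u} R) : ((FV V h).obj M).IsQuasicoherent := by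
  haveI : (tilde M).IsQuasicoherent := inferInstance
  exact inferInstanceAs ((Scheme.Modules.restrictFunctor h.hom).obj (tilde M)).IsQuasicoherent

/-- the projection map is invertible over `V` on extensions by zero of free modules -/
theorem isIso_restrict_pR_free (M : X.Modules) (N : ModuleCat.{u} R) (hN : Module.Free R N) :
    IsIso ((Scheme.Modules.restrictFunctor V.ι).map
      (pR f M ((CxOX.extZero V.ι).obj ((FV V h).obj N)))) := by
  let E : ModuleCat.{u} R ⥤ Y.Modules := FV V h ⋙ CxOX.extZero V.ι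
  let RV := Scheme.Modules.restrictFunctor V.ι
  let P : ModuleCat.{u} R ⥤ (V : Scheme.{u}).Modules :=
    E ⋙ (T Y).obj ((Scheme.Modules.pushforward f).obj M) ⋙ RV
  let Q : ModuleCat.{u} R ⥤ (V : Scheme.{u}).Modules :=
    E ⋙ Scheme.Modules.pullback f ⋙ (T X).obj M ⋙ Scheme.Modules.pushforward f ⋙ RV
  let η : P ⟶ Q :=
    { app := fun N => RV.map (pR f M (E.obj N))
      naturality := fun N N' φ => by
        show RV.map (((T Y).obj ((Scheme.Modules.pushforward f).obj M)).map (E.map φ)) ≫ _ = _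
        rw [← RV.map_comp, pR_right, RV.map_comp]
        rfl }
  show IsIso (η.app N)
  classical
  let ι := Module.Free.ChooseBasisIndex R N
  let b : Module.Basis ι R N := Module.Free.chooseBasis R N
  let e : (∐ fun _ : ι => ModuleCat.of R R) ≅ N :=
    ModuleCat.coprodIsoDirectSum _ ≪≫
      ((finsuppLEquivDirectSum R R ι).symm ≪≫ₗ b.repr.symm).toModuleIso
  rw [← NatTrans.isIso_app_iff_of_iso η e]
  haveI : PreservesColimitsOfSize.{u, u} (CxOX.extZero V.ι) :=
    (CxOX.extZeroAdj V.ι).leftAdjoint_preservesColimits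
  haveI : PreservesColimitsOfSize.{u, u} RV :=
    (Scheme.Modules.restrictAdjunction V.ι).leftAdjoint_preservesColimits
  haveI : PreservesColimitsOfSize.{u, u} (Scheme.Modules.pullback f) :=
    (Scheme.Modules.pullbackPushforwardAdjunction f).leftAdjoint_preservesColimits
  haveI := Groth.Misc4.PushSum.preservesColimitsOfShape_push f ι
  haveI := fun M : Y.Modules => Groth.Misc4.DerivedCoprod.preservesColimitsOfShape_obj (J := Discrete ι) M
  haveI := fun M : X.Modules => Groth.Misc4.DerivedCoprod.preservesColimitsOfShape_obj (J := Discrete ι) M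
  refine Groth.Misc4.UnitCountable.isIso_app_of_isColimit η _
    (isColimitOfPreserves P (coproductIsCoproduct fun _ : ι => ModuleCat.of R R))
    (isColimitOfPreserves Q (coproductIsCoproduct fun _ : ι => ModuleCat.of R R)) fun _ => ?_
  exact isIso_restrict_pR f (Groth.KTheory.LocFree.isFinLocFree_of_iso
    (@asIso _ _ _ _ ((CxOX.extZeroAdj V.ι).unit.app ((FV V h).obj (ModuleCat.of R R)))
      (Groth.DerivedCoh.ExtZero.isIso_unit V.ι _)) (isFinLocFree_FV V h)) M

lemma isIso_of_retract {C D : Type*} [Category* C] [Category* D] {P Q : C ⥤ D} (η : P ⟶ Q) {N M : C}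
    (i : N ⟶ M) (r : M ⟶ N) (e : i ≫ r = 𝟙 N) [IsIso (η.app M)] : IsIso (η.app N) :=
  ⟨Q.map i ≫ inv (η.app M) ≫ P.map r, by
      rw [← Category.assoc, ← η.naturality i, Category.assoc, IsIso.hom_inv_id_assoc, ← P.map_comp, e,
        P.map_id], by
      rw [Category.assoc, Category.assoc, η.naturality r, IsIso.inv_hom_id_assoc, ← Q.map_comp, e, Q.map_id]⟩

/-- the projection map is invertible over `V` on extensions by zero of direct summands of free modules -/
theorem isIso_restrict_pR_retract (M : X.Modules) {N F : ModuleCat.{u} R} (i : N ⟶ F) (r : F ⟶ N)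
    (hF : Module.Free R F) (e : i ≫ r = 𝟙 N) :
    IsIso ((Scheme.Modules.restrictFunctor V.ι).map
      (pR f M ((CxOX.extZero V.ι).obj ((FV V h).obj N)))) := by
  let RV := Scheme.Modules.restrictFunctor V.ι
  haveI := isIso_restrict_pR_free f V h M F hF
  let E : ModuleCat.{u} R ⥤ Y.Modules := FV V h ⋙ CxOX.extZero V.ι
  let η : E ⋙ (T Y).obj ((Scheme.Modules.pushforward f).obj M) ⋙ RV ⟶
      E ⋙ Scheme.Modules.pullback f ⋙ (T X).obj M ⋙ Scheme.Modules.pushforward f ⋙ RV :=
    { app := fun N => RV.map (pR f M (E.obj N))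
      naturality := fun N N' φ => by
        show RV.map (((T Y).obj ((Scheme.Modules.pushforward f).obj M)).map (E.map φ)) ≫ _ = _
        rw [← RV.map_comp, pR_right, RV.map_comp]
        rfl }
  haveI : IsIso (η.app F) := isIso_restrict_pR_free f V h M F hF
  exact isIso_of_retract η i r e

/-- the projection map of complexes is invertible over `V` when its components are -/
theorem isIso_restrict_psi (C : CochainComplex X.Modules ℤ) (B : CochainComplex Y.Modules ℤ)
    (hpR : ∀ p q, IsIso ((Scheme.Modules.restrictFunctor V.ι).map (pR f (C.X p) (B.X q)))) :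
    IsIso ((resCx V.ι).map (psi f C B)) := by
  let RV := Scheme.Modules.restrictFunctor V.ι
  suffices ∀ n, IsIso (((resCx V.ι).map (psi f C B)).f n) by
    haveI := this
    exact HomologicalComplex.Hom.isIso_of_components _
  intro n
  haveI : PreservesColimitsOfSize.{u, u} RV :=
    (Scheme.Modules.restrictAdjunction V.ι).leftAdjoint_preservesColimits
  haveI hsum : ∀ J : Type, PreservesColimitsOfShape (Discrete J) (Scheme.Modules.pushforward f ⋙ RV) := fun J =>
    haveI := Groth.Misc4.PushSum.preservesColimitsOfShape_push f (ULift.{u} J)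
    preservesColimitsOfShape_of_equiv (Discrete.equivalence (Equiv.ulift : ULift.{u} J ≃ J)) _
  haveI hsum' : ∀ J : Type, PreservesColimitsOfShape (Discrete J) RV := fun J =>
    preservesColimitsOfShape_of_equiv (Discrete.equivalence (Equiv.ulift : ULift.{u} J ≃ J)) _
  let K := HomologicalComplex₂.toGradedObject
    (((Functor.mapBifunctorHomologicalComplex (T X) up up).obj C).obj ((pullCx f).obj B))
  let K' := HomologicalComplex₂.toGradedObject
    (((Functor.mapBifunctorHomologicalComplex (T Y) up up).obj ((pushCx f).obj C)).obj B)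
  let h₂ : IsColimit (Cofan.mk _ fun j => (Scheme.Modules.pushforward f ⋙ RV).map
      ((K.cofanMapObj (ComplexShape.π up up up) n).inj j)) :=
    Cofan.isColimitMapCoconeEquiv (Scheme.Modules.pushforward f ⋙ RV) _ _
      (isColimitOfPreserves _ (K.isColimitCofanMapObj (ComplexShape.π up up up) n))
  let h₁ : IsColimit (Cofan.mk _ fun j => RV.map ((K'.cofanMapObj (ComplexShape.π up up up) n).inj j)) :=
    Cofan.isColimitMapCoconeEquiv RV _ _
      (isColimitOfPreserves _ (K'.isColimitCofanMapObj (ComplexShape.π up up up) n))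
  change IsIso (RV.map (psiX f C B n))
  have hinc : ∀ p q (e : p + q = n), RV.map (inc ((pushCx f).obj C) B p q n e) ≫ RV.map (psiX f C B n) =
      RV.map (pR f (C.X p) (B.X q)) ≫
        (Scheme.Modules.pushforward f ⋙ RV).map (inc C ((pullCx f).obj B) p q n e) := fun p q e => by
    rw [Functor.comp_map, ← RV.map_comp, ← RV.map_comp]
    exact congrArg RV.map (inc_psiX f C B p q n e)
  refine ⟨Cofan.IsColimit.desc h₂ fun j => @inv _ _ _ _ (RV.map (pR f (C.X j.1.1) (B.X j.1.2))) (hpR _ _) ≫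
    RV.map (inc ((pushCx f).obj C) B j.1.1 j.1.2 n j.2), ?_, ?_⟩
  · refine Cofan.IsColimit.hom_ext h₁ _ _ fun ⟨⟨p, q⟩, e⟩ => ?_
    change RV.map (inc ((pushCx f).obj C) B p q n e) ≫ _ = _
    refine (Category.assoc _ _ _).symm.trans ((congrArg (· ≫ _) (hinc p q e)).trans ((Category.assoc _ _ _).trans ?_))
    refine (congrArg (RV.map (pR f (C.X p) (B.X q)) ≫ ·) (Cofan.IsColimit.fac h₂ _ ⟨(p, q), e⟩)).trans ?_
    exact (IsIso.hom_inv_id_assoc _ _).trans (Category.comp_id _).symm
  · refine Cofan.IsColimit.hom_ext h₂ _ _ fun ⟨⟨p, q⟩, e⟩ => ?_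
    refine (Category.assoc _ _ _).symm.trans ?_
    refine (congrArg (· ≫ _) (Cofan.IsColimit.fac h₂ _ ⟨(p, q), e⟩)).trans ((Category.assoc _ _ _).trans ?_)
    refine (congrArg (@inv _ _ _ _ (RV.map (pR f (C.X p) (B.X q))) (hpR _ _) ≫ ·) (hinc p q e)).trans ?_
    exact (IsIso.inv_hom_id_assoc _ _).trans (Category.comp_id _).symm

omit [QuasiCompact f] [QuasiSeparated f] in
/-- complexes built from bounded above complexes of free modules are K-flat -/
theorem isKFlat_FV_colimit (F : ℕ ⥤ CochainComplex (ModuleCat.{u} R) ℤ)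
    (hF : ∀ n, TFree (F.obj n) ∧ ∃ b, (F.obj n).IsStrictlyLE b) :
    IsKFlat (T _) (((FV V h).mapHomologicalComplex up).obj (colimit F)) := by
  haveI : PreservesColimitsOfSize.{0, 0} (FV V h) := preservesSmallestColimits_of_preservesColimits _
  haveI : ∀ M : (V : Scheme.{u}).Modules, PreservesColimitsOfShape ℕ ((T _).obj M) := fun M =>
    haveI := Groth.Misc4.DerivedCoprod.preservesColimitsOfShape_obj (J := AsSmall.{u} ℕ) M
    preservesColimitsOfShape_of_equiv AsSmall.equiv.symm _
  have hk : ∀ n, IsKFlat (T _) ((F ⋙ (FV V h).mapHomologicalComplex up).obj n) := fun n => by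
    obtain ⟨b, hb⟩ := (hF n).2
    exact Groth.DerivedCoh.KFlat.isKFlat_of_flat (T _) _ b
      (fun q hq => (FV V h).map_isZero ((F.obj n).isZero_of_isStrictlyLE b q hq))
      fun q => Groth.DerivedCoh.KFlat.flat_of_isFlat (isFlat_FV V h _ ((hF n).1 q))
  exact Groth.DerivedCoh.KFlat.isKFlat_of_isColimit (T _) (F ⋙ (FV V h).mapHomologicalComplex up)
    (((FV V h).mapHomologicalComplex up).mapCocone (colimit.cocone F))
    (fun q => (isColimitOfPreserves (FV V h)
      (isColimitOfPreserves (HomologicalComplex.eval _ up q) (colimit.isColimit F)) :)) hk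

variable (I : CochainComplex X.Modules ℤ)

/-- the pullback to `f⁻¹ V` of modules over `R` -/
noncomputable abbrev FU : ModuleCat.{u} R ⥤ ((f ⁻¹ᵁ V : X.Opens) : Scheme.{u}).Modules :=
  FV V h ⋙ Scheme.Modules.pullback (f ∣_ V)

/-- the comparison map is a quasi-isomorphism on extensions by zero of complexes built from `R` -/
theorem quasiIso_theta_free [IsAffine (V : Scheme.{u})]
    (P₀ : CochainComplex (ModuleCat.{u} R) ℤ)
    (hfree : ∀ q, ∃ (M : ModuleCat.{u} R) (i : P₀.X q ⟶ M) (r : M ⟶ P₀.X q), Module.Free R M ∧ i ≫ r = 𝟙 _)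
    (hgood : Groth.Misc4.ProjQCohGood.Good (f ∣_ V)
      ((Groth.Misc4.ProjQCohGood.Φ (FU f V h) ((resCx (f ⁻¹ᵁ V).ι).obj I)).obj P₀)) :
    QuasiIso ((resCx V.ι).map (theta f I
      ((ezCx V.ι).obj (((FV V h).mapHomologicalComplex up).obj P₀)))) := by
  let U := f ⁻¹ᵁ V
  let g := f ∣_ V
  let A := ((FV V h).mapHomologicalComplex up).obj P₀
  let B := (ezCx V.ι).obj A
  let C := tot (T X) I ((pullCx f).obj B)
  haveI : IsIso ((resCx V.ι).map (psi f I B)) :=
    isIso_restrict_psi f V I B fun p q => by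
      obtain ⟨M, i, r, hM, e⟩ := hfree q
      exact isIso_restrict_pR_retract f V h (I.X p) i r hM e
  let adj : ezCx V.ι ⊣ resCx V.ι := Groth.DerivedCoh.ExtZero.cxAdj (CxOX.extZeroAdj V.ι)
  haveI : IsIso (adj.unit.app A) := by
    haveI : ∀ q, IsIso ((adj.unit.app A).f q) := fun q =>
      Groth.DerivedCoh.ExtZero.isIso_unit V.ι (A.X q)
    exact HomologicalComplex.Hom.isIso_of_components _
  let e : (resCx U.ι).obj ((pullCx f).obj B) ≅
      ((Scheme.Modules.pullback g).mapHomologicalComplex up).obj A :=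
    (NatIso.mapHomologicalComplex (pullRestrictIso f V) up).app B ≪≫
      ((Scheme.Modules.pullback g).mapHomologicalComplex up).mapIso (asIso (adj.unit.app A)).symm
  have hC : Groth.Misc4.ProjQCohGood.Good g ((resCx U.ι).obj C) :=
    hgood.of_iso ((totR (T _) ((resCx U.ι).obj I)).mapIso e.symm ≪≫ rtTot U.ι I ((pullCx f).obj B))
  haveI := Groth.Misc4.PushRestrict.isKInjective_resCx U.ι ((kres X).obj C)
  haveI : QuasiIso ((pushCx g).map ((resCx U.ι).map ((kresAug X).app C))) :=
    (Groth.Misc4.ProjQCohGood.good_iff ((resCx U.ι).map ((kresAug X).app C))).1 hC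
  let c : pushCx f ⋙ resCx V.ι ≅ resCx U.ι ⋙ pushCx g :=
    NatIso.mapHomologicalComplex (Groth.Misc4.PushRestrict.baseLocalIso f V) up
  haveI : QuasiIso ((resCx V.ι).map ((pushCx f).map ((kresAug X).app C))) := by
    have e := c.hom.naturality ((kresAug X).app C)
    haveI : QuasiIso ((pushCx f ⋙ resCx V.ι).map ((kresAug X).app C) ≫ c.hom.app ((kres X).obj C)) := by
      rw [e]; simp only [Functor.comp_map]; infer_instance
    exact quasiIso_of_comp_right ((pushCx f ⋙ resCx V.ι).map ((kresAug X).app C)) (c.hom.app ((kres X).obj C))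
  rw [theta, Functor.map_comp]
  infer_instance

/-- the comparison map is a quasi-isomorphism for complexes with quasi-coherent cohomology -/
theorem quasiIso_theta (hI : I.IsKInjective) (hIq : DCoh.IsQCohD (DCoh.toD X I))
    (P : CochainComplex Y.Modules ℤ) (hP : IsKFlat (T Y) P) (hPq : DCoh.IsQCohD (DCoh.toD Y P)) :
    QuasiIso (theta f I P) := by
  rw [← DerivedCategory.isIso_Q_map_iff_quasiIso]
  refine Groth.DerivedCoh.Duality.isIso_of_local _ fun y => ?_
  obtain ⟨V, hV, hy, -⟩ := exists_isAffineOpen_mem_and_subset (x := y) (U := ⊤) trivial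
  haveI : IsAffine (V : Scheme.{u}) := hV
  refine ⟨V, hy, (NatIso.isIso_map_iff (Scheme.Modules.restrictFunctor V.ι).mapDerivedCategoryFactors
    (theta f I P)).2 ((DerivedCategory.isIso_Q_map_iff_quasiIso _ ((resCx V.ι).map (theta f I P))).2 ?_)⟩
  let R := Γ(Y, V)
  haveI : PreservesFiniteLimits (tilde.functor R) := Groth.PropsBasic2.preservesFiniteLimits_tilde R
  let h : (V : Scheme.{u}) ≅ Spec R := hV.isoSpec
  let U := f ⁻¹ᵁ V
  haveI : DCoh.HasRpush (f ∣_ V) := Groth.Misc4.PushRestrict.hasRightDerived _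
  haveI hI' : ((resCx U.ι).obj I).IsKInjective :=
    haveI := hI
    Groth.Misc4.PushRestrict.isKInjective_resCx U.ι I
  have hFU : FlatMod.IsFinLocFree ((FU f V h).obj (ModuleCat.of R R)) :=
    Groth.LocFree.isFinLocFree_pullback (f ∣_ V) (isFinLocFree_FV V h)
  haveI : PreservesColimitsOfSize.{u, u} (Scheme.Modules.pullback (f ∣_ V)) :=
    (Scheme.Modules.pullbackPushforwardAdjunction (f ∣_ V)).leftAdjoint_preservesColimits
  haveI : (Scheme.Modules.pullback (f ∣_ V)).Additive := inferInstance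
  have hclosed := Groth.Misc4.ProjQCohGood.closed_good (g := f ∣_ V) (FU f V h) ((resCx U.ι).obj I) hI'
    (Groth.Misc4.QCohDPerf.isQCohD_of_iso (Groth.KTheory.Perf.rdQIso U.ι I)
      (Groth.Misc4.QCohDPerf.isQCohD_restrict U.ι hIq)) hFU
    (fun M hM => Groth.DerivedCoh.KFlat.isFlat_pullback (f ∣_ V) (isFlat_FV V h M hM))
    (fun M _ => haveI := isQCoh_FV V h M; inferInstanceAs
      ((Scheme.Modules.pullback (f ∣_ V)).obj ((FV V h).obj M)).IsQuasicoherent)
  -- a model over `R`
  let PV := (resCx V.ι).obj P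
  let J := (kres (Spec R)).obj ((resCx h.inv).obj PV)
  have hPV : DCoh.IsQCohD (DCoh.toD _ PV) :=
    Groth.Misc4.QCohDPerf.isQCohD_of_iso (Groth.KTheory.Perf.rdQIso V.ι P)
      (Groth.Misc4.QCohDPerf.isQCohD_restrict V.ι hPq)
  haveI := (DerivedCategory.isIso_Q_map_iff_quasiIso _ ((kresAug (Spec R)).app ((resCx h.inv).obj PV))).2
    inferInstance
  have hJ : DCoh.IsQCohD (DCoh.toD _ J) :=
    Groth.Misc4.QCohDPerf.isQCohD_of_iso
      (Groth.KTheory.Perf.rdQIso h.inv PV ≪≫
        asIso (DerivedCategory.Q.map ((kresAug (Spec R)).app ((resCx h.inv).obj PV))))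
      (Groth.Misc4.QCohDPerf.isQCohD_restrict h.inv hPV)
  haveI := Groth.Misc4.QCohTildeD.quasiIso_ε J hJ
  obtain ⟨F, π, hπ, hgood, hfree, hF⟩ := Groth.Misc4.FreeTelescope.exists_resolution hclosed
    (((moduleSpecΓFunctor (R := R)).mapHomologicalComplex up).obj J)
  let P₀ := colimit F
  haveI := hπ
  let tC := (tilde.functor R).mapHomologicalComplex up
  let σ : tC.obj P₀ ⟶ J := tC.map π ≫ Groth.Misc4.QCohTildeD.ε J
  haveI : QuasiIso σ := inferInstance
  haveI := (DerivedCategory.isIso_Q_map_iff_quasiIso _ σ).2 inferInstance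
  haveI := (DerivedCategory.isIso_Q_map_iff_quasiIso _ ((resCx h.hom).map σ)).2 inferInstance
  haveI := (DerivedCategory.isIso_Q_map_iff_quasiIso _
    ((resCx h.hom).map ((kresAug (Spec R)).app ((resCx h.inv).obj PV)))).2 inferInstance
  let E := ((FV V h).mapHomologicalComplex up).obj P₀
  let back : (resCx h.hom).obj ((resCx h.inv).obj PV) ≅ PV :=
    (NatIso.mapHomologicalComplex ((Scheme.Modules.restrictFunctorComp h.hom h.inv).symm ≪≫
      Scheme.Modules.restrictFunctorCongr h.hom_inv_id ≪≫ Scheme.Modules.restrictFunctorId) up).app PV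
  let e : DCoh.toD _ E ≅ DCoh.toD _ PV :=
    asIso (DerivedCategory.Q.map ((resCx h.hom).map σ)) ≪≫
      (asIso (DerivedCategory.Q.map ((resCx h.hom).map ((kresAug (Spec R)).app ((resCx h.inv).obj PV))))).symm ≪≫
      DerivedCategory.Q.mapIso back
  have hE : IsKFlat (T _) E := isKFlat_FV_colimit V h F hF
  obtain ⟨A, s, hs, g, hfac⟩ := DerivedCategory.right_fac e.hom
  haveI := hs
  haveI : IsIso (DerivedCategory.Q.map g) := by
    rw [show DerivedCategory.Q.map g = DerivedCategory.Q.map s ≫ e.hom by rw [hfac, IsIso.hom_inv_id_assoc]]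
    infer_instance
  haveI : QuasiIso g := (DerivedCategory.isIso_Q_map_iff_quasiIso _ g).1 inferInstance
  haveI : QuasiIso s := (DerivedCategory.isIso_Q_map_iff_quasiIso _ s).1 inferInstance
  let A₀ := (Groth.DerivedCoh.KFlat.flatResolution _).obj A
  let ρ := (Groth.DerivedCoh.KFlat.flatResolutionAug _).app A
  haveI : QuasiIso ρ := Groth.DerivedCoh.KFlat.flatResolution_quasiIso A
  let adj : ezCx V.ι ⊣ resCx V.ι := Groth.DerivedCoh.ExtZero.cxAdj (CxOX.extZeroAdj V.ι)
  haveI : ∀ M, IsIso (adj.unit.app M) := fun M => by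
    haveI : ∀ q, IsIso ((adj.unit.app M).f q) := fun q =>
      Groth.DerivedCoh.ExtZero.isIso_unit V.ι (M.X q)
    exact HomologicalComplex.Hom.isIso_of_components _
  have hA₀ : IsKFlat (T _) ((resCx V.ι).obj ((ezCx V.ι).obj A₀)) :=
    (Groth.DerivedCoh.KFlat.flatResolution_isKFlat A).of_iso (asIso (adj.unit.app A₀))
  have hE' : IsKFlat (T _) ((resCx V.ι).obj ((ezCx V.ι).obj E)) :=
    hE.of_iso (asIso (adj.unit.app E))
  let a₁ : (ezCx V.ι).obj A₀ ⟶ P := (adj.homEquiv _ _).symm (ρ ≫ g)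
  let a₂ : (ezCx V.ι).obj A₀ ⟶ (ezCx V.ι).obj E := (ezCx V.ι).map (ρ ≫ s)
  have h₁ : QuasiIso ((resCx V.ι).map a₁) := by
    haveI : QuasiIso (adj.unit.app A₀ ≫ (resCx V.ι).map a₁) := by
      rw [show adj.unit.app A₀ ≫ (resCx V.ι).map a₁ = ρ ≫ g from
        (adj.homEquiv_unit (X := A₀) (Y := P) (f := a₁)).symm.trans (Equiv.apply_symm_apply _ _)]
      infer_instance
    exact quasiIso_of_comp_left (adj.unit.app A₀) _
  have h₂ : QuasiIso ((resCx V.ι).map a₂) := by
    haveI : QuasiIso ((𝟭 _).map (ρ ≫ s)) := by rw [Functor.id_map]; infer_instance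
    haveI : QuasiIso (adj.unit.app A₀ ≫ (resCx V.ι).map a₂) := by
      rw [show adj.unit.app A₀ ≫ (resCx V.ι).map a₂ = (𝟭 _).map (ρ ≫ s) ≫ adj.unit.app E from
        (adj.unit.naturality (ρ ≫ s)).symm]
      infer_instance
    exact quasiIso_of_comp_left (adj.unit.app A₀) _
  exact (quasiIso_theta_iff f I V a₁ h₁ hA₀ (Groth.DerivedCoh.PCoh.isKFlat_rc V.ι hP)).1
    ((quasiIso_theta_iff f I V a₂ h₂ hA₀ hE').2 (quasiIso_theta_free f V h I P₀ hfree hgood))

open Groth.DerivedCoh.KFlat (flatResolution flatResolutionAug) in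
/-- `- ⊗^L K` at an object is computed by a K-flat resolution of `K` -/
theorem nonempty_ltcx_resolution {Z : Scheme.{u}} (K : CochainComplex Z.Modules ℤ) [DCoh.HasLTensorCx K]
    [DCoh.HasLTensorCx ((flatResolution Z).obj K)] (E : DCoh.D Z) :
    Nonempty ((DCoh.LTensorCx K).obj E ≅ (DCoh.LTensorCx ((flatResolution Z).obj K)).obj E) := by
  obtain ⟨C, ⟨e⟩⟩ := Groth.KTheory.Perf.exists_rep E
  let P := (flatResolution Z).obj K
  let C' := (flatResolution Z).obj C
  haveI := Groth.DerivedCoh.KFlat.flatResolution_quasiIso C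
  haveI : QuasiIso ((totR (T Z) C').map ((flatResolutionAug Z).app K)) := by
    haveI := Groth.DerivedCoh.KFlat.flatResolution_quasiIso K
    exact Groth.DerivedCoh.KFlat.quasiIso_totR (T Z)
      (Groth.DerivedCoh.KFlat.flatResolution_isKFlat_flip C) _
  haveI := (DerivedCategory.isIso_Q_map_iff_quasiIso _ ((flatResolutionAug Z).app C)).2 inferInstance
  haveI := (DerivedCategory.isIso_Q_map_iff_quasiIso _ ((totR (T Z) C').map ((flatResolutionAug Z).app K))).2
    inferInstance
  exact ⟨(DCoh.LTensorCx K).mapIso e.symm ≪≫ (Groth.DerivedCoh.KFlat.ltcxResIso K).app C ≪≫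
    (asIso (DerivedCategory.Q.map ((totR (T Z) C').map ((flatResolutionAug Z).app K)))).symm ≪≫
    (Groth.DerivedCoh.KFlat.ltcxIso P (Groth.DerivedCoh.KFlat.flatResolution_isKFlat K) C').symm ≪≫
    (DCoh.LTensorCx P).mapIso (asIso (DerivedCategory.Q.map ((flatResolutionAug Z).app C)) ≪≫ e)⟩

/-- the projection formula for complexes with quasi-coherent cohomology -/
theorem nonempty_projection (P : CochainComplex Y.Modules ℤ) (hP : IsKFlat (T Y) P)
    (hPq : DCoh.IsQCohD (DCoh.toD Y P)) [DCoh.HasRpush f] [DCoh.HasLTensorCx P]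
    [DCoh.HasLTensorCx ((pullCx f).obj P)] (E : DCoh.D X) (hE : DCoh.IsQCohD E) :
    Nonempty ((DCoh.LTensorCx P).obj ((DCoh.Rpush f).obj E) ≅
      (DCoh.Rpush f).obj ((DCoh.LTensorCx ((pullCx f).obj P)).obj E)) := by
  obtain ⟨F, ⟨eF⟩⟩ := Groth.KTheory.Perf.exists_rep E
  let I := (kres X).obj F
  haveI := fun M : CochainComplex X.Modules ℤ =>
    (DerivedCategory.isIso_Q_map_iff_quasiIso _ ((kresAug X).app M)).2 inferInstance
  let eI : E ≅ DCoh.toD X I := eF.symm ≪≫ asIso (DerivedCategory.Q.map ((kresAug X).app F))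
  have push : ∀ (J : CochainComplex X.Modules ℤ) [J.IsKInjective],
      Nonempty ((DCoh.Rpush f).obj (DCoh.toD X J) ≅ DCoh.toD Y ((pushCx f).obj J)) := fun J _ =>
    ⟨(DCoh.Rpush f).mapIso ((Groth.DerivedCoh.KFlat.L₀Q X).symm.app J) ≪≫
      (@asIso _ _ _ _ _ (Groth.DerivedCoh.KFlat.isIso_pushUnit_app f J)).symm ≪≫
      (Groth.DerivedCoh.KFlat.L₀Q Y).app ((pushCx f).obj J)⟩
  obtain ⟨p₁⟩ := push I
  obtain ⟨p₂⟩ := push ((kres X).obj (tot (T X) I ((pullCx f).obj P)))
  haveI := (DerivedCategory.isIso_Q_map_iff_quasiIso _ (theta f I P)).2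
    (quasiIso_theta f I inferInstance (Groth.Misc4.QCohDPerf.isQCohD_of_iso eI hE) P hP hPq)
  exact ⟨(DCoh.LTensorCx P).mapIso ((DCoh.Rpush f).mapIso eI ≪≫ p₁) ≪≫
    Groth.DerivedCoh.KFlat.ltcxIso P hP _ ≪≫ asIso (DerivedCategory.Q.map (theta f I P)) ≪≫
    p₂.symm ≪≫ (DCoh.Rpush f).mapIso
      ((asIso (DerivedCategory.Q.map ((kresAug X).app (tot (T X) I ((pullCx f).obj P))))).symm ≪≫
        (Groth.DerivedCoh.KFlat.ltcxIso _ (Groth.DerivedCoh.KFlat.isKFlat_pullCx f P hP) I).symm ≪≫
        (DCoh.LTensorCx ((pullCx f).obj P)).mapIso eI.symm)⟩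

end Groth.Misc4.ProjQCoh
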