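import Groth.Agent.Misc4.RFBounded

/-!
Total right derived functors of left exact functors on objects without higher derived images.
-/

universe w₁ w₂ v u₁ u₂

set_option backward.defeqAttrib.useBackward true
set_option backward.isDefEq.respectTransparency false
set_option linter.unusedSectionVars false
set_option linter.style.haveILetI false

open CategoryTheory CategoryTheory.Limits CategoryTheory.Pretriangulated DerivedCategory

namespace Groth.Misc4.RFSingle

variable {A : Type u₁} [Category.{v} A] [Abelian A] [IsGrothendieckAbelian.{v} A] [HasInjectiveResolutions A]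
  {B : Type u₂} [Category.{v} B] [Abelian B] (G : A ⥤ B) [G.Additive]
  [HasDerivedCategory.{w₁} A] [HasDerivedCategory.{w₂} B]

local notation "up" => ComplexShape.up ℤ

variable (RF : DerivedCategory A ⥤ DerivedCategory B)
  (β : G.mapHomotopyCategory (ComplexShape.up ℤ) ⋙ DerivedCategory.Qh ⟶ DerivedCategory.Qh ⋙ RF)
  [RF.IsRightDerivedFunctor β (HomotopyCategory.quasiIso A up)]

/-- The derived comparison on complexes. -/
noncomputable def comp : G.mapHomologicalComplex up ⋙ DerivedCategory.Q ⟶ DerivedCategory.Q ⋙ RF :=
  Functor.whiskerLeft _ (DerivedCategory.quotientCompQhIso B).inv ≫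
    (Functor.associator _ _ _).inv ≫
    Functor.whiskerRight (G.mapHomotopyCategoryFactors up).inv DerivedCategory.Qh ≫
    (Functor.associator _ _ _).hom ≫
    Functor.whiskerLeft _ β ≫ (Functor.associator _ _ _).inv ≫
    Functor.whiskerRight (DerivedCategory.quotientCompQhIso A).hom RF

include β in
lemma isIso_comp (J : CochainComplex A ℤ) [J.IsKInjective] : IsIso ((comp G RF β).app J) := by
  haveI := Groth.DAlg.RFTriangle.isIso_β G RF β J
  simp only [comp, NatTrans.comp_app, Functor.whiskerLeft_app, Functor.whiskerRight_app,
    Functor.associator_hom_app, Functor.associator_inv_app, Category.id_comp]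
  infer_instance

/-- The comparison on objects in degree zero. -/
noncomputable def compSingle : G ⋙ singleFunctor B 0 ⟶ singleFunctor A 0 ⋙ RF :=
  Functor.whiskerRight (HomologicalComplex.singleMapHomologicalComplex G up 0).inv DerivedCategory.Q ≫
    (Functor.associator _ _ _).hom ≫
    Functor.whiskerLeft (HomologicalComplex.single A up 0) (comp G RF β)

variable [PreservesFiniteLimits G]

lemma quasiIsoAt_map (F : A) :
    QuasiIsoAt ((G.mapHomologicalComplex up).map (injectiveResolution F).ι') 0 := by
  let I := injectiveResolution F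
  rw [quasiIsoAt_iff' _ (-1) 0 1 (by simp) (by simp)]
  have h1 : ((HomologicalComplex.single A up 0).obj F).d (-1) 0 = 0 := by simp
  have h2 : ((HomologicalComplex.single A up 0).obj F).d 0 1 = 0 := by simp
  have h3 : I.cochainComplex.d (-1) 0 = 0 :=
    (CochainComplex.isZero_of_isStrictlyGE I.cochainComplex 0 (-1) (by lia)).eq_of_src _ _
  rw [ShortComplex.quasiIso_iff_of_zeros _ (by simp [CochainComplex.singleFunctor,
      CochainComplex.singleFunctors]) (by simp [CochainComplex.singleFunctor, CochainComplex.singleFunctors])
    (by simp [I, h3])]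
  have hI : (ShortComplex.mk (I.ι.f 0) (I.cocomplex.d 0 1) I.ι_f_zero_comp_complex_d).Exact := I.exact₀
  have hex := hI.map_of_mono_of_preservesKernel G (inferInstanceAs (Mono (I.ι.f 0))) inferInstance
  constructor
  · refine (ShortComplex.exact_iff_of_iso (ShortComplex.isoMk
      (G.mapIso (HomologicalComplex.singleObjXSelf up 0 F))
      (G.mapIso (I.cochainComplexXIso 0 0 rfl)) (G.mapIso (I.cochainComplexXIso 1 1 rfl)) ?_ ?_)).2 hex
    · dsimp
      rw [← G.map_comp, ← G.map_comp, I.ι'_f_zero]
      congr 1
      simp [I]
    · dsimp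
      rw [← G.map_comp, ← G.map_comp, I.cochainComplex_d 0 1 0 1 rfl rfl]
      congr 1
      simp
  · have : Mono (I.ι'.f 0) := by
      rw [I.ι'_f_zero]
      infer_instance
    exact G.map_mono (I.ι'.f 0)

include β in
/-- Objects without higher derived images go to their images. -/
theorem isIso_compSingle (F : A)
    (hF : ∀ q : ℤ, q ≠ 0 → IsZero ((homologyFunctor B q).obj (RF.obj ((singleFunctor A 0).obj F)))) :
    IsIso ((compSingle G RF β).app F) := by
  let I := injectiveResolution F
  let S := (HomologicalComplex.single A up 0).obj F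
  have hJ : I.cochainComplex.IsKInjective := CochainComplex.isKInjective_of_injective _ 0
  have := isIso_comp G RF β I.cochainComplex
  have hn : (comp G RF β).app S ≫ RF.map (DerivedCategory.Q.map I.ι') =
      DerivedCategory.Q.map ((G.mapHomologicalComplex up).map I.ι') ≫ (comp G RF β).app I.cochainComplex :=
    ((comp G RF β).naturality I.ι').symm
  have : IsIso ((comp G RF β).app S) := by
    refine (DerivedCategory.isIso_iff (f := (comp G RF β).app S)).2 fun q => ?_
    by_cases hq : q = 0
    · subst hq
      have := quasiIsoAt_map G F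
      have h0 : IsIso ((homologyFunctor B 0).map
          (DerivedCategory.Q.map ((G.mapHomologicalComplex up).map I.ι'))) := by
        refine (NatIso.isIso_map_iff (homologyFunctorFactors B 0)
          ((G.mapHomologicalComplex up).map I.ι')).2 ?_
        exact inferInstanceAs (IsIso (HomologicalComplex.homologyMap
          ((G.mapHomologicalComplex up).map (injectiveResolution F).ι') 0))
      have e : (homologyFunctor B 0).map ((comp G RF β).app S) ≫
          (homologyFunctor B 0).map (RF.map (DerivedCategory.Q.map I.ι')) =
          (homologyFunctor B 0).map (DerivedCategory.Q.map ((G.mapHomologicalComplex up).map I.ι') ≫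
            (comp G RF β).app I.cochainComplex) := by
        rw [← Functor.map_comp, hn]
      have : IsIso ((homologyFunctor B 0).map (DerivedCategory.Q.map
          ((G.mapHomologicalComplex up).map I.ι') ≫ (comp G RF β).app I.cochainComplex)) := by
        rw [Functor.map_comp]; infer_instance
      exact IsIso.of_isIso_fac_right e
    · have h1 : IsZero ((homologyFunctor B q).obj (DerivedCategory.Q.obj ((G.mapHomologicalComplex up).obj S))) := by
        let e : DerivedCategory.Q.obj ((G.mapHomologicalComplex up).obj S) ≅ (singleFunctor B 0).obj (G.obj F) :=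
          DerivedCategory.Q.mapIso ((HomologicalComplex.singleMapHomologicalComplex G up 0).app F)
        refine IsZero.of_iso ?_ ((homologyFunctor B q).mapIso e)
        rcases lt_or_gt_of_ne hq with h | h
        · exact isZero_of_isGE _ 0 q h
        · exact isZero_of_isLE _ 0 q h
      exact ⟨0, h1.eq_of_src _ _, (hF q hq).eq_of_src _ _⟩
  simp only [compSingle, NatTrans.comp_app, Functor.whiskerRight_app, Functor.associator_hom_app,
    Functor.whiskerLeft_app, Category.id_comp]
  exact IsIso.comp_isIso' inferInstance this

include β in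
/-- On such objects the derived functor of a fully faithful functor is fully faithful. -/
theorem bijective_map [G.Full] [G.Faithful] {F F' : A}
    (hF : IsIso ((compSingle G RF β).app F)) (hF' : IsIso ((compSingle G RF β).app F')) :
    Function.Bijective (RF.map : ((singleFunctor A 0).obj F ⟶ (singleFunctor A 0).obj F') → _) := by
  let e := asIso ((compSingle G RF β).app F)
  let e' := asIso ((compSingle G RF β).app F')
  have key : ∀ k : F ⟶ F', RF.map ((singleFunctor A 0).map k) =
      e.inv ≫ (singleFunctor B 0).map (G.map k) ≫ e'.hom := fun k => by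
    rw [Iso.eq_inv_comp]
    exact ((compSingle G RF β).naturality k).symm
  constructor
  · intro a b hab
    obtain ⟨a, rfl⟩ := (singleFunctor A 0).map_surjective a
    obtain ⟨b, rfl⟩ := (singleFunctor A 0).map_surjective b
    rw [key, key, cancel_epi, cancel_mono] at hab
    rw [G.map_injective ((singleFunctor B 0).map_injective hab)]
  · intro g
    obtain ⟨g', hg'⟩ := (singleFunctor B 0).map_surjective (e.hom ≫ g ≫ e'.inv)
    obtain ⟨k, rfl⟩ := G.map_surjective g'
    exact ⟨(singleFunctor A 0).map k, by rw [key, hg']; simp⟩

/-- The unit of an adjunction is invertible at an image on whose endomorphisms the right adjoint is bijective. -/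
theorem isIso_unit {P Q : Type*} [Category P] [Category Q] {L : P ⥤ Q} {R : Q ⥤ P} (adj : L ⊣ R)
    {Y : P} {Z : Q} (ι : Y ≅ R.obj Z) (e : L.obj Y ≅ Z)
    (hb : Function.Bijective (R.map : (Z ⟶ Z) → (R.obj Z ⟶ R.obj Z))) : IsIso (adj.unit.app Y) := by
  let w : Y ⟶ R.obj Z := adj.unit.app Y ≫ R.map e.hom
  obtain ⟨v, hv⟩ := hb.2 (ι.inv ≫ w)
  obtain ⟨g, hg⟩ : ∃ g : Z ⟶ Z, w ≫ R.map g = ι.hom :=
    ⟨e.inv ≫ (adj.homEquiv Y Z).symm ι.hom, by
      simp only [w]
      rw [Category.assoc, ← R.map_comp, Iso.hom_inv_id_assoc, ← Adjunction.homEquiv_unit,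
        Equiv.apply_symm_apply]⟩
  have h1 : v ≫ g = 𝟙 Z := hb.1 (by rw [R.map_comp, hv, Category.assoc, hg, Iso.inv_hom_id, R.map_id])
  have h2 : g ≫ v = 𝟙 Z := by
    rw [← cancel_epi e.hom]
    apply (adj.homEquiv Y Z).injective
    simp only [Adjunction.homEquiv_unit, R.map_comp, Category.comp_id]
    change adj.unit.app Y ≫ R.map e.hom ≫ R.map g ≫ R.map v = w
    rw [← Category.assoc, ← Category.assoc, hg, hv, Iso.hom_inv_id_assoc]
  have : IsIso v := ⟨g, h1, h2⟩
  have hw : w = ι.hom ≫ R.map v := by rw [hv, Iso.hom_inv_id_assoc]
  have : IsIso w := hw ▸ inferInstance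
  exact IsIso.of_isIso_comp_right (adj.unit.app Y) (R.map e.hom)

end Groth.Misc4.RFSingle
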