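import Groth.Agent.Misc4.ApproxInduction
import Groth.Agent.CohBase.MayerVietoris

/-!
# Approximation by perfect complexes on quasi-compact quasi-separated schemes
-/

universe u

open CategoryTheory CategoryTheory.Limits AlgebraicGeometry
open Groth.Misc4.ApproxExtend Groth.Misc4.ApproxInduction

attribute [local instance] HasDerivedCategory.standard

set_option backward.isDefEq.respectTransparency false
set_option synthInstance.maxHeartbeats 400000
set_option maxHeartbeats 1000000

namespace Groth.Misc4.ApproxQcqs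

/-- Approximation by perfect complexes holds on `Y`. -/
def Holds (Y : Scheme.{u}) : Prop :=
  ∀ (T : Set Y), IsClosed T → IsRetrocompact Tᶜ → ∃ r : ℤ, ∀ (m : ℤ) (E : DCoh.D Y), DCoh.IsQCohD E →
    DCoh.IsPseudoCoherentD (m - r) E → (∀ i : ℤ, m - r ≤ i → CohB1.support (DCoh.HD E i) ⊆ T) → Approx T E m

/-- Approximation holds on affine schemes. -/
theorem holds_affine (Y : Scheme.{u}) [IsAffine Y] : Holds Y := by
  intro T hT hTc
  let j : Spec (CommRingCat.of Γ(Y, ⊤)) ⟶ Y := (isAffineOpen_top Y).fromSpec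
  have hj : Set.range j = Set.univ := (isAffineOpen_top Y).range_fromSpec
  obtain ⟨ts, hts⟩ := exists_list j Tᶜ hT.isOpen_compl (by
    rw [hj]
    exact hTc isCompact_univ isOpen_univ)
  refine ⟨ts.length, fun m E hE hpc hsupp => ?_⟩
  have hpre : j.base ⁻¹' T = {y | y ∉ Groth.Misc4.KoszulUnit.U ts} := by
    ext y
    exact not_iff_not.1 ((hts y).trans not_not.symm)
  refine approx_of_openImm j hT (fun x _ => by
    show x ∈ Set.range j
    rw [hj]; trivial) E m ?_ (fun i hi => hsupp i (by omega))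
  rw [hpre]
  exact Groth.Misc4.KoszulUnit.approx_spec ts m _ (Groth.Misc4.QCohDPerf.isQCohD_restrict j hE)
    (Groth.DerivedCoh.PCohDescent.pcoh_rd j (Groth.DerivedCoh.TildeD.isPseudoCoherentD_mono hpc (by omega)))
    fun i hi y hy => by
      have h : y ∈ j.base ⁻¹' T := hsupp i (by omega) ((mem_support_hd_rd j E i y).1 hy)
      rwa [hpre] at h

/-- Approximation holds on quasi-compact quasi-separated schemes. -/
theorem holds (X : Scheme.{u}) [CompactSpace X] [QuasiSeparatedSpace X] : Holds X := by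
  have key := Groth.CohBase.qcqs_induction_on
    (fun W : X.Opens => ∀ (Y : Scheme.{u}) (i : Y ⟶ X) [IsOpenImmersion i], i.opensRange = W → Holds Y) ⊤
    (by simpa using (isQuasiSeparated_univ_iff (α := X)).2 inferInstance) ?_ ?_ ⊤
    (by simpa using (isCompact_univ : IsCompact (Set.univ : Set X))) le_rfl
  · exact key X (𝟙 X) (TopologicalSpace.Opens.ext (by simp))
  · intro W hW _ Y i _ hi
    haveI : IsAffine Y := by
      haveI : IsAffine (W : Scheme.{u}) := hW
      exact IsAffine.of_isIso (IsOpenImmersion.isoOfRangeEq W.ι i (by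
        rw [Scheme.Opens.range_ι, ← hi]; rfl)).inv
    exact holds_affine Y
  · intro U V hUc hV _ _ hU _ _ Y i _ hi
    have hle : U ≤ i.opensRange ∧ V ≤ i.opensRange := by rw [hi]; exact ⟨le_sup_left, le_sup_right⟩
    have hc : ∀ Z : X.Opens, Z ≤ i.opensRange → IsCompact (Z : Set X) → IsCompact ((i ⁻¹ᵁ Z : Y.Opens) : Set Y) :=
      fun Z hZ hZc => by
        rw [i.isOpenEmbedding.isEmbedding.isCompact_iff]
        show IsCompact (i '' (i ⁻¹' (Z : Set X)))
        rwa [Set.image_preimage_eq_of_subset (fun x hx => hZ hx)]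
    have hcov : i ⁻¹ᵁ U ⊔ i ⁻¹ᵁ V = ⊤ := by
      refine TopologicalSpace.Opens.ext (Set.eq_univ_of_forall fun y => ?_)
      have h : i y ∈ U ⊔ V := hi ▸ ⟨y, rfl⟩
      exact h
    have hAU : Holds ((i ⁻¹ᵁ U : Y.Opens) : Scheme.{u}) := hU _ ((i ⁻¹ᵁ U).ι ≫ i) (by
      rw [Scheme.Hom.opensRange_comp, Scheme.Opens.opensRange_ι, Scheme.Hom.image_preimage_eq_opensRange_inf]
      exact inf_eq_right.2 hle.1)
    exact approx_union (i ⁻¹ᵁ U) (i ⁻¹ᵁ V) (hc U hle.1 hUc) (hV.preimage_of_isOpenImmersion i hle.2)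
      (hc (U ⊓ V) (inf_le_left.trans hle.1) (QuasiSeparatedSpace.inter_isCompact _ _ U.2 hUc V.2 hV.isCompact))
      hcov hAU

end Groth.Misc4.ApproxQcqs
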