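import Groth.Agent.Misc4.QcqsExtend
import Groth.Agent.Misc4.ApproxQcqs

/-!
# Perfect generators with support on quasi-compact quasi-separated schemes
-/

universe u

open CategoryTheory CategoryTheory.Limits Pretriangulated AlgebraicGeometry
open Groth.KTheory.Perf
open Groth.Misc4.ApproxExtend
open Groth.Misc4.KoszulOrth Groth.Misc4.KoszulUnit Groth.Misc4.Thomason Groth.Misc4.ApproxGlue
open scoped ZeroObject

attribute [local instance] HasDerivedCategory.standard

set_option backward.isDefEq.respectTransparency false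
set_option backward.defeqAttrib.useBackward true
set_option synthInstance.maxHeartbeats 400000
set_option maxHeartbeats 1000000

namespace Groth.Misc4.PerfectGenerator

variable {X : Scheme.{u}}

/-- The counit of `restriction ⊣ Rj_*` is invertible. -/
theorem isIso_rpush_counit (W : X.Opens) [PreservesFiniteLimits (Scheme.Modules.restrictFunctor W.ι)]
    [DCoh.HasRpush W.ι] (adj : DCoh.restrictD W.ι ⊣ DCoh.Rpush W.ι) : IsIso adj.counit := by
  let T : Adjunction.Triple (CxOX.extZeroD W.ι) (DCoh.restrictD W.ι) (DCoh.Rpush W.ι) :=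
    ⟨Groth.DerivedCoh.ExtZero.extZeroDAdj W.ι, adj⟩
  haveI : ∀ Z, IsIso (T.adj₁.unit.app Z) := fun Z => isIso_extZeroDAdj_unit W.ι Z
  haveI : IsIso T.adj₁.unit := NatIso.isIso_of_isIso_app _
  exact T.isIso_unit_iff_isIso_counit.1 inferInstance

/-- A generator of the objects with quasi-coherent cohomology supported on each suitable closed subset. -/
def Gen (Y : Scheme.{u}) : Prop :=
  ∀ (T : Set Y), IsClosed T → IsRetrocompact Tᶜ →
    ∃ P : DCoh.D Y, DCoh.IsPerfect P ∧ (∀ i, CohB1.support (DCoh.HD P i) ⊆ T) ∧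
      ∀ E : DCoh.D Y, DCoh.IsQCohD E → (∀ i, CohB1.support (DCoh.HD E i) ⊆ T) →
        (∀ (n : ℤ) (φ : P⟦n⟧ ⟶ E), φ = 0) → IsZero E

set_option maxHeartbeats 2000000 in
/-- Generators glue across an affine open. -/
theorem step {A : Type u} [CommRing A] [CompactSpace X] [QuasiSeparatedSpace X] (W : X.Opens)
    (hW : IsCompact (W : Set X)) (j : Spec (CommRingCat.of A) ⟶ X) [IsOpenImmersion j]
    (hcov : ∀ x, x ∉ W → x ∈ j.opensRange) (hG : Gen (W : Scheme.{u})) : Gen X := by
  intro T hT hTc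
  haveI := Groth.PropsBasic2.preservesFiniteLimits_tilde (CommRingCat.of A)
  haveI := preservesFiniteLimits_restrictFunctor W.ι
  haveI := preservesFiniteLimits_restrictFunctor j
  have hr : IsCompact (Set.range j) := isCompact_range j.continuous
  have hro : IsOpen (Set.range j) := j.isOpenEmbedding.isOpen_range
  obtain ⟨ts, hts'⟩ := ApproxInduction.exists_list j Tᶜ hT.isOpen_compl (hTc hr hro)
  have hts : ∀ y, j y ∈ T ↔ y ∉ U ts := fun y => not_iff_not.1 ((hts' y).trans not_not.symm)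
  obtain ⟨gs, hgs⟩ : ∃ gs : List A, ∀ y, j y ∈ W ↔ y ∈ U gs := ApproxInduction.exists_list j (W : Set X) W.2
    (QuasiSeparatedSpace.inter_isCompact _ _ W.2 hW hro hr)
  let T' : Set X := T ∩ (W : Set X)ᶜ
  have hT' : IsClosed T' := hT.inter W.2.isClosed_compl
  have hT'j : T' ⊆ (j.opensRange : Set X) := fun x hx => hcov x hx.2
  have hpre : ∀ y, j y ∈ T' ↔ y ∉ U (ts ++ gs) := fun y => by
    show j y ∈ T ∧ ¬ j y ∈ W ↔ y ∉ U (ts ++ gs)
    rw [ApproxInduction.mem_U_append, hts, hgs]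
  -- the generator of the part outside `W`
  let K' : DCoh.D (Spec (CommRingCat.of A)) := (DCoh.tildeD (CommRingCat.of A)).obj (K A (ts ++ gs))
  have hK' : DCoh.IsPerfect K' :=
    (Groth.DerivedCoh.TildeD.isPerfect_tildeD_iff _).2 (Groth.KoszulLCI.perfect_koszul _).1
  let P₁ : DCoh.D X := (CxOX.extZeroD j).obj K'
  have hP₁s : ∀ i, CohB1.support (DCoh.HD P₁ i) ⊆ T' := fun i x hx => by
    obtain ⟨y, rfl, hy⟩ := mem_support_ext j K' i hx
    rw [support_of_iso (nonempty_hd_tildeD _ i).some] at hy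
    exact (hpre y).2 ((support_tilde_subset_iff (ts ++ gs) _).2 (fun f hf => isTorsion_K f _ hf i) y hy)
  have hP₁ : DCoh.IsPerfect P₁ := by
    rw [isPerfect_iff]
    intro x
    by_cases hx : x ∈ j.opensRange
    · obtain ⟨y, rfl⟩ := hx
      haveI := isIso_extZeroDAdj_unit j K'
      exact exists_perfOn_of_rd j
        (isPerfect_of_iso (asIso ((Groth.DerivedCoh.ExtZero.extZeroDAdj j).unit.app K')) hK') y
    · let O : X.Opens := ⟨_, hT'.isOpen_compl⟩
      have hz := Groth.DerivedCoh.PerfPush.isZero_restrictD _ hP₁s O fun y hy => hy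
      exact exists_perfOn_of_rd O.ι (isPerfect_of_isZero hz) ⟨x, fun h => hx (hT'j h)⟩
  -- the lift of the generator of `W`
  obtain ⟨GW, hGW, hGWs, hgen⟩ := hG (W.ι.base ⁻¹' T) (hT.preimage W.ι.continuous) fun C hC hCo => by
    have h := hTc (hC.image W.ι.continuous) (W.ι.isOpenEmbedding.isOpenMap _ hCo)
    rw [W.ι.isOpenEmbedding.isEmbedding.isCompact_iff, Set.inter_comm, ← Set.preimage_compl,
      Set.image_inter_preimage, Set.inter_comm]
    exact h
  have hTc' : IsCompact Tᶜ := by simpa using hTc isCompact_univ isOpen_univ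
  obtain ⟨R, -, i, p, hR, hRs, hip, -⟩ := QcqsExtend.exists_retract W hW hT hTc' (E := (0 : DCoh.D X))
    (fun q => Groth.Misc4.QCohDPerf.isQCoh_isZero ((DerivedCategory.homologyFunctor _ q).map_isZero (isZero_zero _)))
    GW hGW hGWs 0
  refine ⟨P₁ ⊞ R, isPerfect_obj₂ _ (binaryBiproductTriangle_distinguished _ _) hP₁ hR,
    fun q => support_hd_middle _ (binaryBiproductTriangle_distinguished _ _) q
      ((hP₁s q).trans Set.inter_subset_left) (hRs q), fun E hE hEs horth => ?_⟩
  have h₁ : ∀ (n : ℤ) (φ : P₁⟦n⟧ ⟶ E), φ = 0 := fun n φ => by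
    have h := horth n ((biprod.fst : P₁ ⊞ R ⟶ P₁)⟦n⟧' ≫ φ)
    calc φ = (biprod.inl : P₁ ⟶ P₁ ⊞ R)⟦n⟧' ≫ (biprod.fst : P₁ ⊞ R ⟶ P₁)⟦n⟧' ≫ φ := by
          rw [← Functor.map_comp_assoc, biprod.inl_fst, CategoryTheory.Functor.map_id, Category.id_comp]
      _ = 0 := by rw [h, comp_zero]
  have h₂ : ∀ (n : ℤ) (φ : R⟦n⟧ ⟶ E), φ = 0 := fun n φ => by
    have h := horth n ((biprod.snd : P₁ ⊞ R ⟶ R)⟦n⟧' ≫ φ)
    calc φ = (biprod.inr : R ⟶ P₁ ⊞ R)⟦n⟧' ≫ (biprod.snd : P₁ ⊞ R ⟶ R)⟦n⟧' ≫ φ := by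
          rw [← Functor.map_comp_assoc, biprod.inr_snd, CategoryTheory.Functor.map_id, Category.id_comp]
      _ = 0 := by rw [h, comp_zero]
  -- the unit of restriction to `W`
  haveI : PreservesFiniteColimits (Scheme.Modules.restrictFunctor W.ι) :=
    haveI := (Scheme.Modules.restrictAdjunction W.ι).leftAdjoint_preservesColimits
    inferInstance
  haveI : DCoh.HasRpush W.ι := Groth.Misc4.PushRestrict.hasRightDerived _
  haveI := Groth.FlatMorOne.quasiCompact_ι hW
  let adj : DCoh.restrictD W.ι ⊣ DCoh.Rpush W.ι :=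
    Groth.DerivedAdj.derivedAdj (Scheme.Modules.restrictAdjunction W.ι)
      (Groth.DerivedCoh.KFlat.enoughKInj (W : Scheme.{u}))
  haveI := isIso_rpush_counit W adj
  haveI : (DCoh.Rpush W.ι).Additive := adj.right_adjoint_additive
  obtain ⟨C, q, d, hC⟩ := distinguished_cocone_triangle (adj.unit.app E)
  have hEW : DCoh.IsQCohD ((DCoh.restrictD W.ι).obj E) := Groth.Misc4.QCohDPerf.isQCohD_restrict W.ι hE
  have hCq : DCoh.IsQCohD C := Groth.Misc4.QCohDPerf.isQCohD_obj₂ (Triangle.mk (adj.unit.app E) q d).rotate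
    (rot_of_distTriang _ hC) (Groth.Misc4.QCohRpushD.isQCohD W.ι _ hEW) (Groth.Misc4.QCohDPerf.isQCohD_shift hE 1)
  have hC0 : IsZero ((DCoh.restrictD W.ι).obj C) := by
    refine (Triangle.isZero₃_iff_isIso₁ _ ((DCoh.restrictD W.ι).map_distinguished _ hC)).2 ?_
    show IsIso ((DCoh.restrictD W.ι).map (adj.unit.app E))
    have e := adj.left_triangle_components E
    haveI : IsIso ((DCoh.restrictD W.ι).map (adj.unit.app E) ≫ adj.counit.app ((DCoh.restrictD W.ι).obj E)) :=
      ⟨𝟙 _, (congrArg (· ≫ 𝟙 _) e).trans (Category.comp_id _), (congrArg (𝟙 _ ≫ ·) e).trans (Category.comp_id _)⟩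
    exact IsIso.of_isIso_comp_right _ (adj.counit.app ((DCoh.restrictD W.ι).obj E))
  have hCs : ∀ m, CohB1.support (DCoh.HD C m) ⊆ T' := fun m x hx => by
    refine ⟨?_, fun hxW => Set.eq_empty_iff_forall_notMem.1 (isZero_iff_support.1
      ((DerivedCategory.homologyFunctor _ m).map_isZero hC0)) ⟨x, hxW⟩ ((mem_support_hd_rd W.ι C m ⟨x, hxW⟩).2 hx)⟩
    exact support_hd_middle _ (rot_of_distTriang _ hC) m
      (Thomason.support_Rpush W hT _ (fun k y hy => hEs k ((mem_support_hd_rd W.ι E k y).1 hy)) m)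
      ((support_hd_shift E 1 m).le.trans (hEs _)) hx
  have horthC : ∀ (n : ℤ) (φ : P₁⟦n⟧ ⟶ C), φ = 0 := fun n φ => by
    have hd : φ ≫ d = 0 := by
      refine (cancel_epi ((shiftFunctorAdd' (DCoh.D X) (n - 1) 1 n (by omega)).inv.app P₁)).1 ?_
      obtain ⟨ψ, hψ⟩ := (shiftFunctor (DCoh.D X) (1 : ℤ)).map_surjective
        ((shiftFunctorAdd' (DCoh.D X) (n - 1) 1 n (by omega)).inv.app P₁ ≫ φ ≫ d)
      rw [comp_zero, ← hψ, h₁ (n - 1) ψ, Functor.map_zero]
    obtain ⟨ψ, hψ⟩ := Triangle.coyoneda_exact₃ _ hC φ hd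
    have hz : IsZero ((DCoh.restrictD W.ι).obj (P₁⟦n⟧)) :=
      Groth.DerivedCoh.PerfPush.isZero_restrictD (T := T') _
        (fun k => (support_hd_shift P₁ n k).le.trans (hP₁s _)) W fun x hx hx' => hx'.2 hx
    have : ψ = 0 := (adj.homEquiv _ _).symm.injective (hz.eq_of_src _ _)
    rw [hψ, this, zero_comp]
  have hCz : IsZero C := by
    obtain ⟨M, ⟨e⟩⟩ := (Groth.Misc4.QCohTildeD.isQCohD_iff (R := CommRingCat.of A) _).1
      (Groth.Misc4.QCohDPerf.isQCohD_restrict j hCq)
    have ht : ∀ f ∈ ts ++ gs, IsTorsion f M := fun f hf m =>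
      (support_tilde_subset_iff (ts ++ gs) _).1 (fun y hy => by
        rw [← support_of_iso ((nonempty_hd_tildeD M m).some.symm ≪≫
          (DerivedCategory.homologyFunctor _ m).mapIso e).symm] at hy
        exact (hpre y).1 (hCs m ((mem_support_hd_rd j C m y).1 hy))) f hf
    refine Groth.DerivedCoh.PerfPush.isZero_of_HD fun m => isZero_iff_support.2
      (Set.eq_empty_iff_forall_notMem.2 fun x hx => ?_)
    obtain ⟨y, rfl⟩ := hcov x (hCs m hx).2
    have hM : IsZero ((DerivedCategory.homologyFunctor (ModuleCat.{u} A) m).obj M) := by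
      refine isZero_of_orth (ts ++ gs) ht m fun φ => ?_
      let adjJ := Groth.DerivedCoh.ExtZero.extZeroDAdj j
      haveI : IsIso adjJ.unit := haveI := fun Z => isIso_extZeroDAdj_unit j Z; NatIso.isIso_of_isIso_app _
      -- the corresponding map `K' ⟶ (C|_j)[m]`
      let ψ : K' ⟶ (DCoh.restrictD j).obj (C⟦m⟧) :=
        (DCoh.tildeD (CommRingCat.of A)).map φ ≫ ((DCoh.tildeD (CommRingCat.of A)).commShiftIso m).hom.app M ≫
          e.hom⟦m⟧' ≫ ((DCoh.restrictD j).commShiftIso m).inv.app C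
      have hψ : ψ = 0 := by
        refine (adjJ.homEquiv _ _).symm.injective ?_
        have h0 : (adjJ.homEquiv _ _).symm ψ = 0 := by
          obtain ⟨χ, hχ⟩ := (shiftFunctor (DCoh.D X) m).map_surjective
            (((shiftFunctorCompIsoId (DCoh.D X) (-m) m (by omega)).app P₁).hom ≫ (adjJ.homEquiv _ _).symm ψ)
          refine (cancel_epi ((shiftFunctorCompIsoId (DCoh.D X) (-m) m (by omega)).app P₁).hom).1 ?_
          rw [← hχ, horthC (-m) χ, Functor.map_zero, comp_zero]
        rw [h0, Adjunction.homEquiv_counit, Functor.map_zero, zero_comp]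
      have h : (DCoh.tildeD (CommRingCat.of A)).map φ ≫
          (((DCoh.tildeD (CommRingCat.of A)).commShiftIso m).app M ≪≫ (shiftFunctor _ m).mapIso e ≪≫
            (((DCoh.restrictD j).commShiftIso m).app C).symm).hom = 0 := hψ
      have h' : (DCoh.tildeD (CommRingCat.of A)).map φ = 0 := (cancel_mono _).1 (h.trans zero_comp.symm)
      exact (Groth.Misc4.QCohTildeD.bijective_map (R := CommRingCat.of A) _ _).1 (h'.trans (Functor.map_zero _ _ _).symm)
    have h := (mem_support_hd_rd j C m y).2 hx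
    rw [← support_of_iso ((nonempty_hd_tildeD M m).some.symm ≪≫ (DerivedCategory.homologyFunctor _ m).mapIso e)] at h
    exact Set.eq_empty_iff_forall_notMem.1 (isZero_iff_support.1 ((tilde.functor (CommRingCat.of A)).map_isZero hM)) y h
  haveI : IsIso (adj.unit.app E) := (Triangle.isZero₃_iff_isIso₁ _ hC).1 hCz
  have hW0 : IsZero ((DCoh.restrictD W.ι).obj E) := by
    refine hgen _ hEW (fun k y hy => hEs k ((mem_support_hd_rd W.ι E k y).1 hy)) fun n φ => ?_
    let σ : (DCoh.restrictD W.ι).obj (R⟦n⟧) ⟶ GW⟦n⟧ := ((DCoh.restrictD W.ι).commShiftIso n).hom.app R ≫ p⟦n⟧'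
    have h0 : σ ≫ φ = 0 := by
      refine (adj.homEquiv _ _).injective ((cancel_mono (inv (adj.unit.app E))).1 ?_)
      rw [h₂ n ((adj.homEquiv _ _ (σ ≫ φ)) ≫ inv (adj.unit.app E))]
      refine (h₂ n _).symm
    calc φ = (i⟦n⟧' ≫ ((DCoh.restrictD W.ι).commShiftIso n).inv.app R) ≫ σ ≫ φ := by
          simp only [σ, Category.assoc, Iso.inv_hom_id_app_assoc]
          rw [← Functor.map_comp_assoc, hip, CategoryTheory.Functor.map_id, Category.id_comp]
      _ = 0 := by rw [h0, comp_zero]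
  exact ((DCoh.Rpush W.ι).map_isZero hW0).of_iso (asIso (adj.unit.app E))

/-- Generators exist on quasi-compact quasi-separated schemes. -/
theorem gen (X : Scheme.{u}) [CompactSpace X] [QuasiSeparatedSpace X] : Gen X := by
  have key := Groth.CohBase.qcqs_induction_on
    (fun O : X.Opens => ∀ (Y : Scheme.{u}) (i : Y ⟶ X) [IsOpenImmersion i], i.opensRange = O → Gen Y) ⊤
    (by simpa using (isQuasiSeparated_univ_iff (α := X)).2 inferInstance) ?_ ?_ ⊤
    (by simpa using (isCompact_univ : IsCompact (Set.univ : Set X))) le_rfl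
  · exact key X (𝟙 X) (TopologicalSpace.Opens.ext (by simp))
  · intro O hO _ Y i _ hi
    haveI : IsAffine Y := by
      haveI : IsAffine (O : Scheme.{u}) := hO
      exact IsAffine.of_isIso (IsOpenImmersion.isoOfRangeEq O.ι i (by
        rw [Scheme.Opens.range_ι, ← hi]; rfl)).inv
    refine step (⊥ : Y.Opens) (by simp) (AffineExtend.chart Y) (fun x _ => AffineExtend.mem_opensRange_chart Y x) ?_
    intro T _ _
    refine ⟨0, isPerfect_of_isZero (isZero_zero _), fun q z => z.2.elim, fun E _ _ _ => ?_⟩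
    exact Groth.DerivedCoh.PerfPush.isZero_of_HD fun q =>
      isZero_iff_support.2 (Set.eq_empty_iff_forall_notMem.2 fun z => z.2.elim)
  · intro U V hUc hV _ _ hU _ _ Y i _ hi
    have hle : U ≤ i.opensRange ∧ V ≤ i.opensRange := by rw [hi]; exact ⟨le_sup_left, le_sup_right⟩
    have hc : ∀ Z : X.Opens, Z ≤ i.opensRange → IsCompact (Z : Set X) → IsCompact ((i ⁻¹ᵁ Z : Y.Opens) : Set Y) :=
      fun Z hZ hZc => by
        rw [i.isOpenEmbedding.isEmbedding.isCompact_iff]
        show IsCompact (i '' (i ⁻¹' (Z : Set X)))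
        rwa [Set.image_preimage_eq_of_subset (fun x hx => hZ hx)]
    haveI : QuasiSeparatedSpace Y := QuasiSeparatedSpace.of_isOpenEmbedding i.isOpenEmbedding
    haveI : CompactSpace Y := by
      refine ⟨?_⟩
      rw [i.isOpenEmbedding.isEmbedding.isCompact_iff, Set.image_univ,
        show Set.range i = ((U ⊔ V : X.Opens) : Set X) from congrArg (fun O : X.Opens => (O : Set X)) hi]
      exact hUc.union hV.isCompact
    refine step (i ⁻¹ᵁ U) (hc U hle.1 hUc) (hV.preimage_of_isOpenImmersion i hle.2).fromSpec (fun y hy => ?_)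
      (hU _ ((i ⁻¹ᵁ U).ι ≫ i) (by
        rw [Scheme.Hom.opensRange_comp, Scheme.Opens.opensRange_ι, Scheme.Hom.image_preimage_eq_opensRange_inf]
        exact inf_eq_right.2 hle.1))
    show y ∈ Set.range (hV.preimage_of_isOpenImmersion i hle.2).fromSpec
    rw [(hV.preimage_of_isOpenImmersion i hle.2).range_fromSpec]
    have h : i y ∈ U ⊔ V := hi ▸ ⟨y, rfl⟩
    exact h.resolve_left hy

end Groth.Misc4.PerfectGenerator
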