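import Groth.Agent.Misc4.RFBounded
import Groth.Agent.Misc4.RlimTrunc
import Groth.Agent.DAlg.SitePushAdjoint
import Groth.Agent.DAlg.DerivedLeftAdjHom

/-!
Morphisms from free modules on objects to derived direct images are computed upstairs.
-/

universe w₁ w₂ v u u₁ u₂

set_option backward.defeqAttrib.useBackward true
set_option backward.isDefEq.respectTransparency false
set_option linter.unusedSectionVars false
set_option linter.unusedVariables false
set_option linter.style.haveILetI false
set_option synthInstance.maxHeartbeats 400000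
set_option maxHeartbeats 1000000

open CategoryTheory CategoryTheory.Limits CategoryTheory.Pretriangulated DerivedCategory Opposite

namespace Groth.Misc4.RFUpstairs

open Groth.Misc4.DerivedLift (S0)

section generic

variable {A : Type u₁} [Category.{v} A] [Abelian A] [IsGrothendieckAbelian.{v} A]
  {B : Type u₂} [Category.{v} B] [Abelian B] (G : A ⥤ B) [G.Additive]
  [HasDerivedCategory.{w₁} A] [HasDerivedCategory.{w₂} B]

local notation "up" => ComplexShape.up ℤ

variable (RF : DerivedCategory A ⥤ DerivedCategory B)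
  (β : G.mapHomotopyCategory (ComplexShape.up ℤ) ⋙ DerivedCategory.Qh ⟶ DerivedCategory.Qh ⋙ RF)
  [RF.IsRightDerivedFunctor β (HomotopyCategory.quasiIso A up)]

include β in
/-- The derived functor commutes with shifts, objectwise. -/
theorem nonempty_shift_iso (X : DerivedCategory A) (m : ℤ) : Nonempty ((RF.obj X)⟦m⟧ ≅ RF.obj (X⟦m⟧)) := by
  obtain ⟨J, hJ, ⟨e⟩⟩ := Groth.DerivedCoh.KInjRes.exists_kInjective_iso X
  obtain ⟨f⟩ := RFBounded.nonempty_iso_of_model G RF β J e
  obtain ⟨f'⟩ := RFBounded.nonempty_iso_of_model G RF β (J⟦m⟧)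
    (((DerivedCategory.Q (C := A)).commShiftIso m).app J ≪≫ (shiftFunctor (DerivedCategory A) m).mapIso e)
  exact ⟨(shiftFunctor (DerivedCategory B) m).mapIso f ≪≫
    ((DerivedCategory.Q (C := B)).commShiftIso m).symm.app _ ≪≫
    DerivedCategory.Q.mapIso (((G.mapHomologicalComplex up).commShiftIso m).symm.app J) ≪≫ f'.symm⟩

end generic

variable {C : Type u} [SmallCategory C] {J : GrothendieckTopology C} {O_C : Sheaf J CommRingCat.{u}}
  {D : Type u} [SmallCategory D] {K : GrothendieckTopology D} {O_D : Sheaf K CommRingCat.{u}}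
  (f : ModSite.RMor O_C O_D)

open Groth.SitesTopoi.ModH in
/-- The two free modules on an object agree. -/
theorem nonempty_freeOn_iso_freeMod (V : D) :
    Nonempty (ModSite.freeOn O_D V ≅ Groth.DAlg.SiteInj.freeMod K (ModSite.ringSh O_D) V) :=
  FreeOn.nonempty_iso_of_homEquiv (fun M : ModSite.Mod O_D => sc M.val V) (fun p => apm p.val V)
    (FreeOn.homEquiv V) (fun M => Groth.DAlg.SiteInj.freeModHomEquiv K _ V M)
    (fun p g => FreeOn.homEquiv_comp V g p) (fun p g => Groth.DAlg.SiteInj.freeModHomEquiv_comp K _ V g p)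

open Groth.SitesTopoi.ModH in
/-- The inverse image of the free module on an object is the free module on its image. -/
theorem nonempty_pull_freeOn_iso (V : D) :
    Nonempty (f.pull.obj (ModSite.freeOn O_D V) ≅ ModSite.freeOn O_C (f.fn.obj V)) :=
  FreeOn.nonempty_iso_of_homEquiv (fun M : ModSite.Mod O_C => sc M.val (f.fn.obj V))
    (fun p => apm p.val (f.fn.obj V))
    (fun M => (f.adj.homEquiv (ModSite.freeOn O_D V) M).trans (FreeOn.homEquiv V (f.push.obj M)))
    (FreeOn.homEquiv (f.fn.obj V))
    (fun {M N} p g => by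
      simp only [Equiv.trans_apply]
      rw [Adjunction.homEquiv_naturality_right]
      exact FreeOn.homEquiv_comp V (f.adj.homEquiv _ M g) (f.push.map p))
    (fun p g => FreeOn.homEquiv_comp (f.fn.obj V) g p)

attribute [local instance] HasDerivedCategory.standard

/-- Morphisms from a free module to a shifted direct image of an object in one degree vanish with the
cohomology over the image of the object. -/
theorem eq_zero_push [SiteCmp.HasRpushD f] (V : D) (F : ModSite.Mod O_C) (a m : ℤ)
    (h : ∀ k : ℕ, (k : ℤ) = m - a → Subsingleton (ModSite.HU O_C F k (f.fn.obj V)))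
    (φ : S0.obj (ModSite.freeOn O_D V) ⟶
      ((SiteCmp.RpushD f).obj ((singleFunctor (ModSite.Mod O_C) a).obj F))⟦m⟧) : φ = 0 := by
  have : HasExt.{u} (ModSite.Mod O_C) := hasExt_of_enoughInjectives _
  let β := (SiteCmp.pushKh f).totalRightDerivedUnit DerivedCategory.Qh
      (HomotopyCategory.quasiIso (ModSite.Mod O_C) (ComplexShape.up ℤ))
  let E := ((singleFunctor (ModSite.Mod O_C) a).obj F)⟦m⟧
  obtain ⟨eR⟩ := nonempty_shift_iso f.push (SiteCmp.RpushD f) β ((singleFunctor (ModSite.Mod O_C) a).obj F) m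
  obtain ⟨e₁⟩ := nonempty_freeOn_iso_freeMod (O_D := O_D) V
  obtain ⟨e₂⟩ := nonempty_pull_freeOn_iso f V
  -- morphisms upstairs vanish
  have hE : ∀ g : S0.obj (ModSite.freeOn O_C (f.fn.obj V)) ⟶ E, g = 0 := by
    refine RlimVanish.eq_zero_of_ext (a := a - m) (TStructure.t.isGE_shift _ a m (a - m) (by lia))
      fun q k hk => ?_
    by_cases hq : m + q = a
    · have : Subsingleton (Abelian.Ext (ModSite.freeOn O_C (f.fn.obj V)) F k) :=
        have := h k (by lia); ExtFree.subsingleton_ext_freeOn _ F k
      have : Subsingleton (((Abelian.extFunctor k).obj (op (ModSite.freeOn O_C (f.fn.obj V)))).obj F) := this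
      let eF : (homologyFunctor (ModSite.Mod O_C) q).obj E ≅ F :=
        RlimVanish.hShift _ m q a hq ≪≫ (singleFunctorCompHomologyFunctorIso _ a).app F
      exact (((Abelian.extFunctor k).obj (op (ModSite.freeOn O_C (f.fn.obj V)))).mapIso
        eF).addCommGroupIsoToAddEquiv.subsingleton
    · have hz : IsZero ((homologyFunctor (ModSite.Mod O_C) (m + q)).obj ((singleFunctor _ a).obj F)) := by
        rcases lt_or_gt_of_ne hq with h' | h'
        · exact isZero_of_isGE _ a _ h'
        · exact isZero_of_isLE _ a _ h'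
      have h0 := (hz.of_iso (RlimVanish.hShift _ m q _ rfl)).eq_of_src (𝟙 _) 0
      exact ⟨fun e e' => by
        rw [← Abelian.Ext.comp_mk₀_id e, ← Abelian.Ext.comp_mk₀_id e', h0, Abelian.Ext.mk₀_zero,
          Abelian.Ext.comp_zero, Abelian.Ext.comp_zero]⟩
  -- the adapted complex
  let M := Groth.DAlg.SiteInj.freeMod K (ModSite.ringSh O_D) V
  let P := (HomologicalComplex.single (ModSite.Mod O_D) (ComplexShape.up ℤ) 0).obj M
  have hP : Groth.DAlg.DerivedLeftAdj.Adapted f.push P :=
    Groth.DAlg.DerivedLeftAdj.adapted_of_bounded (G := f.push)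
      (fun V : D => Groth.DAlg.SiteInj.freeMod K (ModSite.ringSh O_D) V)
      (fun g g' h => Groth.DAlg.SitePush.freeMod_separates g g' h) (Groth.DAlg.SitePush.acy_freeMod f)
      P (b := 0) (fun q hq => HomologicalComplex.isZero_single_obj_X _ 0 M q (by lia)) (fun q => by
        by_cases hq : q = 0
        · subst hq
          exact Groth.DAlg.FAcyclic.acy_of_iso (HomologicalComplex.singleObjXSelf _ 0 M).symm
            (Groth.DAlg.SitePush.acy_freeMod f V)
        · exact Groth.DAlg.FAcyclic.acy_of_isZero (HomologicalComplex.isZero_single_obj_X _ 0 M q hq))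
  obtain ⟨ψ, hψ⟩ := (Groth.DAlg.DerivedLeftAdj.bijective_transp f.adj (SiteCmp.RpushD f) β hP E).2
    (((DerivedCategory.quotientCompQhIso _).app P).hom ≫ DerivedCategory.Q.map
      ((HomologicalComplex.single (ModSite.Mod O_D) (ComplexShape.up ℤ) 0).map e₁.inv) ≫ φ ≫ eR.hom)
  let e₀ : S0.obj (ModSite.freeOn O_C (f.fn.obj V)) ≅ DerivedCategory.Qh.obj
      ((f.pull.mapHomotopyCategory (ComplexShape.up ℤ)).obj ((HomotopyCategory.quotient _ _).obj P)) :=
    S0.mapIso (e₂.symm ≪≫ f.pull.mapIso e₁) ≪≫
      DerivedCategory.Q.mapIso ((HomologicalComplex.singleMapHomologicalComplex f.pull _ 0).app M).symm ≪≫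
      ((DerivedCategory.quotientCompQhIso _).app _).symm ≪≫
      DerivedCategory.Qh.mapIso ((f.pull.mapHomotopyCategoryFactors (ComplexShape.up ℤ)).app P).symm
  have hψ0 : ψ = 0 := by
    rw [← cancel_epi e₀.hom, hE (e₀.hom ≫ ψ), comp_zero]
  have h0 : ∀ ψ' : _ ⟶ E, ψ' = 0 →
      Groth.DAlg.DerivedLeftAdj.transp f.adj (SiteCmp.RpushD f) β
        ((HomotopyCategory.quotient _ _).obj P) E ψ' = 0 := by
    rintro _ rfl
    haveI := Groth.DAlg.SitePush.isRightAdjoint_RpushD f
    letI := (Adjunction.ofIsRightAdjoint (SiteCmp.RpushD f)).rightAdjoint_preservesLimits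
    haveI : (SiteCmp.RpushD f).Additive := by
      haveI : PreservesFiniteProducts (SiteCmp.RpushD f) := ⟨fun n => inferInstance⟩
      exact Functor.additive_of_preserves_binary_products _
    simp [Groth.DAlg.DerivedLeftAdj.transp]
  rw [h0 ψ hψ0] at hψ
  rw [← cancel_mono eR.hom, zero_comp]
  have he : IsIso (DerivedCategory.Q.map
      ((HomologicalComplex.single (ModSite.Mod O_D) (ComplexShape.up ℤ) 0).map e₁.inv)) := inferInstance
  rw [← cancel_epi (DerivedCategory.Q.map
      ((HomologicalComplex.single (ModSite.Mod O_D) (ComplexShape.up ℤ) 0).map e₁.inv)), comp_zero,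
    ← cancel_epi ((DerivedCategory.quotientCompQhIso _).app P).hom, comp_zero]
  exact hψ.symm

end Groth.Misc4.RFUpstairs
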