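import Groth.Agent.Misc4.ProjQCohGood
import Groth.Agent.Misc4.QCohTildeD
import Groth.Agent.PropsBasic2.TildeExact

/-!
Derived direct images along affine morphisms are conservative on objects with quasi-coherent cohomology.
-/

universe u

open CategoryTheory CategoryTheory.Limits AlgebraicGeometry HomologicalComplex Pretriangulated

namespace Groth.Misc4.RpushAffineReflect

open Groth.DerivedCoh.KFlat (pushCx)
open Groth.DerivedCoh.ExtZero (resCx)

attribute [local instance] HasDerivedCategory.standard

set_option backward.defeqAttrib.useBackward true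
set_option backward.isDefEq.respectTransparency false
set_option maxHeartbeats 1000000
set_option synthInstance.maxHeartbeats 400000

local notation "up" => ComplexShape.up ℤ

variable {X S : Scheme.{u}} (f : X ⟶ S) [IsAffineHom f]

/-- a K-injective complex with quasi-coherent cohomology and acyclic direct image is acyclic -/
theorem acyclic_of_acyclic_push (I : CochainComplex X.Modules ℤ) [I.IsKInjective]
    (hI : DCoh.IsQCohD (DCoh.toD X I)) (h : ((pushCx f).obj I).Acyclic) : I.Acyclic := by
  suffices IsZero (DerivedCategory.Q.obj I) from fun i => by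
    rw [exactAt_iff_isZero_homology]
    exact ((DerivedCategory.homologyFunctor X.Modules i).map_isZero this).of_iso
      ((DerivedCategory.homologyFunctorFactors X.Modules i).app I).symm
  rw [IsZero.iff_id_eq_zero]
  suffices IsIso (0 : DerivedCategory.Q.obj I ⟶ DerivedCategory.Q.obj I) by
    rw [← cancel_mono (0 : DerivedCategory.Q.obj I ⟶ DerivedCategory.Q.obj I)]
    simp
  refine Groth.DerivedCoh.Duality.isIso_of_local _ fun x => ?_
  obtain ⟨V, hV, hxV, -⟩ := exists_isAffineOpen_mem_and_subset (x := f.base x) (U := ⊤) trivial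
  have hW : IsAffineOpen (f ⁻¹ᵁ V) := hV.preimage f
  let R := Γ(X, f ⁻¹ᵁ V)
  let j : Spec R ⟶ X := hW.fromSpec
  let J := (resCx j).obj I
  haveI : J.IsKInjective := Groth.Misc4.PushRestrict.isKInjective_resCx j I
  have hJ : DCoh.IsQCohD (DCoh.toD _ J) := Groth.Misc4.QCohDPerf.isQCohD_of_iso
    (Groth.KTheory.Perf.rdQIso j I) (Groth.Misc4.QCohDPerf.isQCohD_restrict j hI)
  haveI : PreservesFiniteLimits (tilde.functor R) := Groth.PropsBasic2.preservesFiniteLimits_tilde R
  haveI := Groth.Misc4.QCohTildeD.quasiIso_ε J hJ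
  have key : ∀ O : X.Opens, O = f ⁻¹ᵁ V → ∀ (i : ℤ) (s : Γ(I.X i, O)), (I.d i (i + 1)).app O s = 0 →
      ∃ w : Γ(I.X (i - 1), O), (I.d (i - 1) i).app O w = s := by
    rintro O rfl i s hs
    exact (Groth.DerivedCoh.KFlat.weakKInj_pushCx f I).exact_sections h V i s hs
  have hΓ : (((moduleSpecΓFunctor (R := R)).mapHomologicalComplex up).obj J).Acyclic := fun i => by
    rw [exactAt_iff' _ (i - 1) i (i + 1) (by simp) (by simp), ShortComplex.moduleCat_exact_iff]
    intro s hs
    exact key (j ''ᵁ ⊤) (by rw [Scheme.Hom.image_top_eq_opensRange, hW.opensRange_fromSpec]) i s hs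
  have hJac : J.Acyclic := fun i => by
    have h1 := ((exactAt_iff_isZero_homology _ _).1 (hΓ i))
    have h2 : IsZero ((((tilde.functor R).mapHomologicalComplex up).obj
        (((moduleSpecΓFunctor (R := R)).mapHomologicalComplex up).obj J)).homology i) :=
      ((tilde.functor R).map_isZero h1).of_iso
        (((((moduleSpecΓFunctor (R := R)).mapHomologicalComplex up).obj J).sc i).mapHomologyIso (tilde.functor R))
    exact (exactAt_iff_isZero_homology _ _).2
      (h2.of_iso (asIso (homologyMap (Groth.Misc4.QCohTildeD.ε J) i)).symm)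
  let W := f ⁻¹ᵁ V
  haveI : IsIso ((Scheme.Modules.restrictFunctor W.ι).mapDerivedCategory.map
      (0 : DerivedCategory.Q.obj I ⟶ DerivedCategory.Q.obj I)) := by
    have hz : IsZero ((Scheme.Modules.restrictFunctor W.ι).mapDerivedCategory.obj (DerivedCategory.Q.obj I)) := by
      refine IsZero.of_iso ?_ ((Scheme.Modules.restrictFunctor W.ι).mapDerivedCategoryFactors.app I)
      suffices ((resCx W.ι).obj I).Acyclic by
        rw [IsZero.iff_id_eq_zero]
        haveI : IsIso (DerivedCategory.Q.map (0 : (resCx W.ι).obj I ⟶ (resCx W.ι).obj I)) :=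
          (DerivedCategory.isIso_Q_map_iff_quasiIso _ _).2 ⟨fun i => (quasiIsoAt_iff_exactAt _ i (this i)).2 (this i)⟩
        rw [Functor.map_zero] at *
        rw [← cancel_mono (0 : DerivedCategory.Q.obj ((resCx W.ι).obj I) ⟶ DerivedCategory.Q.obj ((resCx W.ι).obj I))]
        simp
      let e : (resCx hW.isoSpec.hom).obj J ≅ (resCx W.ι).obj I :=
        (NatIso.mapHomologicalComplex ((Scheme.Modules.restrictFunctorComp hW.isoSpec.hom j).symm ≪≫
          Scheme.Modules.restrictFunctorCongr hW.isoSpec_hom_fromSpec) up).app I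
      have hJ' : ((resCx hW.isoSpec.hom).obj J).Acyclic := fun i =>
        (hJac i).map (Scheme.Modules.restrictFunctor hW.isoSpec.hom)
      exact fun i => (hJ' i).of_iso e
    exact ⟨0, hz.eq_of_src _ _, hz.eq_of_src _ _⟩
  exact ⟨W, hxV, this⟩

variable [DCoh.HasRpush f]

/-- derived direct images along affine morphisms reflect isomorphisms between objects with quasi-coherent
cohomology -/
theorem isIso_of_isIso_map {E F : DCoh.D X} (hE : DCoh.IsQCohD E) (hF : DCoh.IsQCohD F) (α : E ⟶ F)
    (hα : IsIso ((DCoh.Rpush f).map α)) : IsIso α := by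
  obtain ⟨Z, g, δ, hT⟩ := distinguished_cocone_triangle α
  refine (Triangle.isZero₃_iff_isIso₁ _ hT).1 ?_
  have hZ : DCoh.IsQCohD Z := Groth.Misc4.QCohDPerf.isQCohD_obj₂ (Triangle.mk α g δ).rotate (rot_of_distTriang _ hT)
    hF (Groth.Misc4.QCohDPerf.isQCohD_shift hE 1)
  obtain ⟨δ', hT'⟩ := Groth.DAlg.RFTriangle.exists_distinguished (Scheme.Modules.pushforward f) (DCoh.Rpush f)
    ((DCoh.pushKh f).totalRightDerivedUnit DerivedCategory.Qh (HomotopyCategory.quasiIso X.Modules up)) _ hT
  have hz : IsZero ((DCoh.Rpush f).obj Z) := (Triangle.isZero₃_iff_isIso₁ _ hT').2 hα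
  obtain ⟨I, hI, ⟨e⟩⟩ := Groth.DerivedCoh.KInjRes.exists_kInjective_iso Z
  haveI := hI
  haveI := Groth.Misc4.RpushCoprod.isIso_γ_of_isKInjective f I
  have hz' : IsZero (DerivedCategory.Q.obj ((pushCx f).obj I)) :=
    hz.of_iso (asIso ((Groth.Misc4.RpushCoprod.γ f).app I) ≪≫ (DCoh.Rpush f).mapIso e)
  have hac : I.Acyclic := acyclic_of_acyclic_push f I (Groth.Misc4.QCohDPerf.isQCohD_of_iso e.symm hZ) fun i => by
    rw [exactAt_iff_isZero_homology]
    exact ((DerivedCategory.homologyFunctor S.Modules i).map_isZero hz').of_iso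
      ((DerivedCategory.homologyFunctorFactors S.Modules i).app _).symm
  refine IsZero.of_iso ?_ e.symm
  rw [IsZero.iff_id_eq_zero, ← DerivedCategory.Q.map_id, ← DerivedCategory.Q.map_zero I I]
  exact (NatIso.naturality_1 (DerivedCategory.quotientCompQhIso X.Modules) (𝟙 I)).symm.trans
    ((congrArg (fun z => _ ≫ DerivedCategory.Qh.map z ≫ _)
      (HomotopyCategory.eq_of_homotopy _ _ (CochainComplex.IsKInjective.homotopyZero (𝟙 I) hac) :
        (HomotopyCategory.quotient X.Modules up).map (𝟙 I) = (HomotopyCategory.quotient X.Modules up).map 0)).trans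
      (NatIso.naturality_1 (DerivedCategory.quotientCompQhIso X.Modules) (0 : I ⟶ I)))

end Groth.Misc4.RpushAffineReflect
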