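import Groth.Agent.Misc4.QCoprod
import Groth.Agent.Misc1.Telescope
import Groth.Agent.Misc7.GSS.Acyclic
import Groth.Agent.DerivedAdj.Basic
import Groth.Agent.DerivedCoh.KFlat.Basic
import Groth.Agent.FunMorFP.Extension
import Groth.Agent.DAlg.DerivedLeftAdj
import Groth.Agent.DAlg.RFTriangle
import Mathlib.Algebra.Homology.DerivedCategory.ShortExact
import Mathlib.Algebra.Homology.Embedding.StupidTrunc
import Mathlib.Algebra.Homology.HomotopyCategory.KInjective
import Mathlib.Algebra.Category.Grp.AB
import Mathlib.Algebra.Homology.DerivedCategory.RightDerivedFunctorPlus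

/-!
If the total right derived functor of a left exact functor preserves countable sums, then it is computed by
arbitrary complexes of acyclic objects.
-/

universe w w' v v' u u'

set_option backward.defeqAttrib.useBackward true
set_option backward.isDefEq.respectTransparency false

open CategoryTheory CategoryTheory.Limits HomologicalComplex Pretriangulated
open Groth.CohFin

namespace Groth.Misc4.UnitCountable

local notation "up" => ComplexShape.up ℤ

section Stupid

variable {A : Type u} [Category.{v} A] [Abelian A]

/-- stupid truncation `σ≥a` -/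
noncomputable abbrev σ (E : CochainComplex A ℤ) (a : ℤ) : CochainComplex A ℤ :=
  HomologicalComplex.stupidTrunc E (ComplexShape.embeddingUpIntGE a)

/-- the inclusion of the stupid truncation -/
noncomputable def σι (E : CochainComplex A ℤ) (a : ℤ) : σ E a ⟶ E where
  f i := if h : a ≤ i then
      (HomologicalComplex.stupidTruncXIso E (ComplexShape.embeddingUpIntGE a) (i := (i - a).toNat)
        (i' := i) (by simp; lia)).hom
    else 0
  comm' i j hij := by
    simp only [ComplexShape.up_Rel] at hij
    subst hij
    by_cases h : a ≤ i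
    · rw [dif_pos h, dif_pos (by lia)]
      simp [HomologicalComplex.stupidTrunc, HomologicalComplex.stupidTruncXIso,
        HomologicalComplex.extend_d_eq _ (ComplexShape.embeddingUpIntGE a)
          (show (ComplexShape.embeddingUpIntGE a).f (i - a).toNat = i by simp; lia)
          (show (ComplexShape.embeddingUpIntGE a).f (i + 1 - a).toNat = i + 1 by simp; lia),
        HomologicalComplex.restriction_d_eq _ (ComplexShape.embeddingUpIntGE a)
          (show (ComplexShape.embeddingUpIntGE a).f (i - a).toNat = i by simp; lia)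
          (show (ComplexShape.embeddingUpIntGE a).f (i + 1 - a).toNat = i + 1 by simp; lia),
        HomologicalComplex.restrictionXIso]
      have key : ∀ {p p' q q' : ℤ} (hp : p' = p) (hq : q' = q),
          eqToHom (by rw [hp]) ≫ E.d p q = E.d p' q' ≫ eqToHom (congrArg E.X hq) := by
        intro p p' q q' hp hq
        subst hp hq
        simp
      exact key (by simp; lia) (by simp; lia)
    · exact (HomologicalComplex.isZero_stupidTrunc_X _ _ _ fun k => by simp; lia).eq_of_src _ _

lemma isZero_σ_X (E : CochainComplex A ℤ) (a i : ℤ) (h : i < a) : IsZero ((σ E a).X i) :=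
  HomologicalComplex.isZero_stupidTrunc_X E _ i fun k => by simp; lia

lemma isIso_σι_f (E : CochainComplex A ℤ) (a i : ℤ) (h : a ≤ i) : IsIso ((σι E a).f i) := by
  dsimp only [σι]
  rw [dif_pos h]
  infer_instance

lemma exists_step (E : CochainComplex A ℤ) {a b : ℤ} (hab : b ≤ a) :
    ∃ t : σ E a ⟶ σ E b, t ≫ σι E b = σι E a := by
  have hi : ∀ i, a ≤ i → IsIso ((σι E b).f i) := fun i hi => isIso_σι_f E b i (hab.trans hi)
  let f : ∀ i, (σ E a).X i ⟶ (σ E b).X i := fun i =>
    if h : a ≤ i then haveI := hi i h; (σι E a).f i ≫ inv ((σι E b).f i) else 0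
  have hf : ∀ i, f i ≫ (σι E b).f i = (σι E a).f i := fun i => by
    by_cases h : a ≤ i
    · haveI := hi i h
      simp [f, dif_pos h]
    · exact (isZero_σ_X E a i (not_le.1 h)).eq_of_src _ _
  refine ⟨{ f := f, comm' := fun i j hij => ?_ }, HomologicalComplex.hom_ext _ _ hf⟩
  by_cases h : a ≤ i
  · simp only [ComplexShape.up_Rel] at hij
    haveI := hi j (by lia)
    rw [← cancel_mono ((σι E b).f j), Category.assoc, Category.assoc, ← (σι E b).comm, reassoc_of% (hf i),
      hf j, (σι E a).comm]
  · exact (isZero_σ_X E a i (not_le.1 h)).eq_of_src _ _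

/-- the system of stupid truncations -/
noncomputable def σSeq (E : CochainComplex A ℤ) : ℕ ⥤ CochainComplex A ℤ :=
  Functor.ofSequence (X := fun n : ℕ => σ E (-(n : ℤ))) fun n =>
    (exists_step E (show -((n + 1 : ℕ) : ℤ) ≤ -(n : ℤ) by lia)).choose

/-- the cocone of stupid truncations -/
noncomputable def σCocone (E : CochainComplex A ℤ) : Cocone (σSeq E) where
  pt := E
  ι := NatTrans.ofSequence (fun n : ℕ => σι E (-(n : ℤ))) fun n => by
    simp [σSeq]
    exact (exists_step E (show -((n + 1 : ℕ) : ℤ) ≤ -(n : ℤ) by lia)).choose_spec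

/-- stupid truncations exhaust a complex -/
noncomputable def isColimitσ (E : CochainComplex A ℤ) : IsColimit (σCocone E) :=
  HomologicalComplex.isColimitOfEval _ _ fun q =>
    Groth.DerivedCoh.KFlat.isColimitOfEventuallyIso _ (-q).toNat fun n hn =>
      isIso_σι_f E (-(n : ℤ)) q (by lia)

/-- A complex is a termwise split cokernel of an endomorphism of the sum of its stupid truncations. -/
theorem exists_splitting (E : CochainComplex A ℤ) [HasColimitsOfShape ℕ A] [HasExactColimitsOfShape ℕ A]
    [HasColimitsOfShape (Discrete ℕ) A] [HasExactColimitsOfShape ℕ (CochainComplex A ℤ)] :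
    ∃ (u : (∐ (σSeq E).obj) ⟶ ∐ (σSeq E).obj) (p : (∐ (σSeq E).obj) ⟶ E) (w : u ≫ p = 0),
      ∀ q, Nonempty (((ShortComplex.mk u p w).map (HomologicalComplex.eval A up q)).Splitting) := by
  obtain ⟨w, hw⟩ := Groth.Misc1.Telescope.telescope_shortExact (σSeq E)
  let e : colimit (σSeq E) ≅ E := (colimit.isColimit _).coconePointUniqueUpToIso (isColimitσ E)
  let p := (Sigma.desc fun n => colimit.ι (σSeq E) n) ≫ e.hom
  refine ⟨_, p, by rw [reassoc_of% w, zero_comp], fun q => ?_⟩
  let S : ShortComplex (CochainComplex A ℤ) := ShortComplex.mk _ p (by rw [reassoc_of% w, zero_comp])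
  have hS : S.ShortExact := ShortComplex.shortExact_of_iso
    (ShortComplex.isoMk (Iso.refl _) (Iso.refl _) e (by simp [S]) (by simp [S, p]) :
      ShortComplex.mk _ _ w ≅ S) hw
  let n := (-q).toNat
  have hp : Sigma.ι (σSeq E).obj n ≫ p = σι E (-(n : ℤ)) := by
    rw [show p = (Sigma.desc fun n => colimit.ι (σSeq E) n) ≫ e.hom from rfl, Sigma.ι_desc_assoc]
    exact IsColimit.comp_coconePointUniqueUpToIso_hom (colimit.isColimit _) (isColimitσ E) n
  haveI := isIso_σι_f E (-(n : ℤ)) q (by lia)
  have hSq := hS.map_of_exact (HomologicalComplex.eval A up q)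
  exact ⟨ShortComplex.Splitting.ofExactOfSection _ hSq.exact
    (inv ((σι E (-(n : ℤ))).f q) ≫ (Sigma.ι (σSeq E).obj n).f q)
    (by
      change (inv ((σι E (-(n : ℤ))).f q) ≫ (Sigma.ι (σSeq E).obj n).f q) ≫ p.f q = 𝟙 _
      rw [Category.assoc, ← HomologicalComplex.comp_f, hp, IsIso.inv_hom_id]) hSq.mono_f⟩

end Stupid

section Colim

variable {C : Type*} [Category* C] {D : Type*} [Category* D] {E : Type*} [Category* E]
  {J : Type*} [Category* J]

/-- a natural transformation invertible on a diagram is invertible at a preserved colimit -/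
theorem isIso_app_of_isColimit {P Q : C ⥤ D} (η : P ⟶ Q) {X : J ⥤ C} (c : Cocone X)
    (hP : IsColimit (P.mapCocone c)) (hQ : IsColimit (Q.mapCocone c))
    (h : ∀ j, IsIso (η.app (X.obj j))) : IsIso (η.app c.pt) := by
  haveI : ∀ j, IsIso ((Functor.whiskerLeft X η).app j) := h
  haveI := NatIso.isIso_of_isIso_app (Functor.whiskerLeft X η)
  have : η.app c.pt =
      (IsColimit.coconePointsIsoOfNatIso hP hQ (asIso (Functor.whiskerLeft X η))).hom := by
    refine hP.hom_ext fun j => ?_
    rw [IsColimit.comp_coconePointsIsoOfNatIso_hom]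
    exact η.naturality (c.ι.app j)
  rw [this]
  infer_instance

end Colim

variable {A : Type u} [Category.{v} A] [Abelian A] [IsGrothendieckAbelian.{v} A] [HasDerivedCategory.{w} A]
  {B : Type u'} [Category.{v} B] [Abelian B] [IsGrothendieckAbelian.{v} B] [HasDerivedCategory.{w'} B]
  (F : A ⥤ B) [F.Additive] [PreservesFiniteLimits F]

theorem preservesColimits_nat
    (hF : ∀ (J : Type v) [SmallCategory J] [IsFiltered J], PreservesColimitsOfShape J F) :
    PreservesColimitsOfShape (Discrete ℕ) F := by
  haveI : PreservesFiniteCoproducts F := ⟨fun _ => preservesCoproductsOfShape_of_preservesBiproductsOfShape F⟩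
  haveI := hF (Finset (Discrete (ULift.{v} ℕ)))
  haveI := Groth.FunMorFP.preservesColimitsOfShape_discrete F (α := ULift.{v} ℕ)
  exact preservesColimitsOfShape_of_equiv (Discrete.equivalence Equiv.ulift) F

section

variable {RF : DerivedCategory A ⥤ DerivedCategory B}
  (η : F.mapHomotopyCategory up ⋙ DerivedCategory.Qh ⟶ DerivedCategory.Qh ⋙ RF)
  [RF.IsRightDerivedFunctor η (HomotopyCategory.quasiIso A up)]

/-- the unit at a bounded below complex of acyclic objects -/
theorem isIso_unit_bounded (K : CochainComplex A ℤ) (a : ℤ) [K.IsStrictlyGE a]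
    (hK : ∀ n, RightAcyclic F (K.X n)) :
    IsIso (η.app ((HomotopyCategory.quotient A up).obj K)) := by
  obtain ⟨I, i, hi, hI, hge⟩ := CochainComplex.Plus.modelCategoryQuillen.exists_quasiIso_injective K a
  haveI := hI
  haveI := CochainComplex.isKInjective_of_injective I a
  have hA : Groth.DerivedAdj.EnoughKInj A := fun K => by
    obtain ⟨J, j, -, h1, h2, -⟩ := Groth.DerivedCoh.KInjRes.exists_resolution K
    exact ⟨J, j, h2, h1⟩
  haveI : IsIso (η.app ((HomotopyCategory.quotient A up).obj I)) :=
    Groth.DerivedAdj.isIso_app_of_bijective (HomotopyCategory.quasiIso A up) RF η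
      (Groth.DerivedAdj.exists_good hA) _ fun L => CochainComplex.IsKInjective.Qh_map_bijective L I
  haveI := hi
  let q := (HomotopyCategory.quotient A up).map i
  haveI h1 : IsIso ((DerivedCategory.Qh ⋙ RF).map q) := by
    haveI := Localization.inverts DerivedCategory.Qh (HomotopyCategory.quasiIso A up) q
      ((HomotopyCategory.quotient_map_mem_quasiIso_iff i).2 hi)
    exact RF.map_isIso _
  have h2 : IsIso ((F.mapHomotopyCategory up ⋙ DerivedCategory.Qh).map q) :=
    Localization.inverts DerivedCategory.Qh (HomotopyCategory.quasiIso B up) _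
      ((HomotopyCategory.quotient_map_mem_quasiIso_iff ((F.mapHomologicalComplex up).map i)).2
        (Groth.Misc7.GSS.quasiIso_mapHomologicalComplex F a hK
          (fun n => Groth.CohFin.rightAcyclic_of_injective F _) i))
  have hnat := η.naturality q
  haveI : IsIso (η.app ((HomotopyCategory.quotient A up).obj K) ≫ (DerivedCategory.Qh ⋙ RF).map q) := by
    rw [← hnat]
    infer_instance
  exact IsIso.of_isIso_comp_right _ ((DerivedCategory.Qh ⋙ RF).map q)

/-- the class of complexes computing the derived functor is closed under cones -/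
theorem isIso_unit_cone {X Y : CochainComplex A ℤ} (u : X ⟶ Y)
    (hX : IsIso (η.app ((HomotopyCategory.quotient A up).obj X)))
    (hY : IsIso (η.app ((HomotopyCategory.quotient A up).obj Y))) :
    IsIso (η.app ((HomotopyCategory.quotient A up).obj (CochainComplex.mappingCone u))) := by
  obtain ⟨I, i, -, hi, hI, -⟩ := Groth.DerivedCoh.KInjRes.exists_resolution X
  obtain ⟨J, j, -, hj, hJ, -⟩ := Groth.DerivedCoh.KInjRes.exists_resolution Y
  let q := HomotopyCategory.quotient A up
  haveI : IsIso (DerivedCategory.Qh.map (q.map i)) := Localization.inverts DerivedCategory.Qh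
    (HomotopyCategory.quasiIso A up) _ ((HomotopyCategory.quotient_map_mem_quasiIso_iff i).2 hi)
  haveI : IsIso (DerivedCategory.Qh.map (q.map j)) := Localization.inverts DerivedCategory.Qh
    (HomotopyCategory.quasiIso A up) _ ((HomotopyCategory.quotient_map_mem_quasiIso_iff j).2 hj)
  obtain ⟨φ, hφ⟩ := (CochainComplex.IsKInjective.Qh_map_bijective (q.obj I) J).2
    (inv (DerivedCategory.Qh.map (q.map i)) ≫ DerivedCategory.Qh.map (q.map (u ≫ j)))
  obtain ⟨v, rfl⟩ := q.map_surjective φ
  have hsq : q.map u ≫ q.map j = q.map i ≫ q.map v := by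
    refine (CochainComplex.IsKInjective.Qh_map_bijective (q.obj X) J).1 ?_
    rw [Functor.map_comp, Functor.map_comp, hφ, IsIso.hom_inv_id_assoc, Functor.map_comp,
      Functor.map_comp]
  let T := CochainComplex.mappingCone.triangleh u
  let T' := CochainComplex.mappingCone.triangleh v
  have hT : T ∈ distTriang _ := HomotopyCategory.mappingCone_triangleh_distinguished u
  have hT' : T' ∈ distTriang _ := HomotopyCategory.mappingCone_triangleh_distinguished v
  obtain ⟨c, hc₁, hc₂⟩ := complete_distinguished_triangle_morphism T T' hT hT' (q.map i) (q.map j) hsq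
  let ψ : T ⟶ T' := ⟨q.map i, q.map j, c, hsq, hc₁, hc₂⟩
  haveI := Groth.DAlg.RFTriangle.isKInjective_cone v
  haveI hηI := Groth.DAlg.RFTriangle.isIso_β F RF η I
  haveI hηJ := Groth.DAlg.RFTriangle.isIso_β F RF η J
  haveI hηC := Groth.DAlg.RFTriangle.isIso_β F RF η (CochainComplex.mappingCone v)
  let G := F.mapHomotopyCategory up ⋙ DerivedCategory.Qh
  have hA : ∀ {P P' : HomotopyCategory A up} (f : P ⟶ P'), IsIso (DerivedCategory.Qh.map f) →
      IsIso (η.app P) → IsIso (η.app P') → IsIso (G.map f) := fun {P P'} f hf h h' => by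
    haveI := hf
    haveI := h'
    have : IsIso (G.map f ≫ η.app P') := by
      rw [η.naturality]
      haveI := h
      exact inferInstanceAs (IsIso (η.app P ≫ RF.map (DerivedCategory.Qh.map f)))
    exact IsIso.of_isIso_comp_right _ (η.app P')
  have h3 : IsIso (G.map c) :=
    isIso₃_of_isIso₁₂ (G.mapTriangle.map ψ) (G.map_distinguished _ hT) (G.map_distinguished _ hT')
      (hA (q.map i) inferInstance hX hηI) (hA (q.map j) inferInstance hY hηJ)
  haveI hQ : IsIso (DerivedCategory.Qh.map c) :=
    isIso₃_of_isIso₁₂ (DerivedCategory.Qh.mapTriangle.map ψ)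
      (DerivedCategory.Qh.map_distinguished _ hT) (DerivedCategory.Qh.map_distinguished _ hT')
      (inferInstanceAs (IsIso (DerivedCategory.Qh.map (q.map i))))
      (inferInstanceAs (IsIso (DerivedCategory.Qh.map (q.map j))))
  have hnat := η.naturality c
  haveI : IsIso (η.app (q.obj (CochainComplex.mappingCone u)) ≫
      RF.map (DerivedCategory.Qh.map c)) := by
    erw [← hnat]
    exact @IsIso.comp_isIso' _ _ _ _ _ _ _ h3 hηC
  exact IsIso.of_isIso_comp_right _ (RF.map (DerivedCategory.Qh.map c))

/-- the unit in terms of complexes -/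
noncomputable def unitQ :
    F.mapHomologicalComplex up ⋙ DerivedCategory.Q ⟶ DerivedCategory.Q ⋙ RF :=
  Functor.whiskerLeft (F.mapHomologicalComplex up) (DerivedCategory.quotientCompQhIso B).inv ≫
    Functor.whiskerLeft (HomotopyCategory.quotient A up) η ≫
    Functor.whiskerRight (DerivedCategory.quotientCompQhIso A).hom RF

lemma isIso_unitQ_iff (K : CochainComplex A ℤ) :
    IsIso ((unitQ F η).app K) ↔ IsIso (η.app ((HomotopyCategory.quotient A up).obj K)) := by
  simp only [unitQ, NatTrans.comp_app, Functor.whiskerLeft_app, Functor.whiskerRight_app]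
  refine Iff.trans (isIso_comp_left_iff _ _) ?_
  exact isIso_comp_right_iff _ _

end

section

variable [(F.mapHomotopyCategory up ⋙ DerivedCategory.Qh).HasRightDerivedFunctor
  (HomotopyCategory.quasiIso A up)]

/-- the total right derived functor -/
noncomputable abbrev R : DerivedCategory A ⥤ DerivedCategory B :=
  (F.mapHomotopyCategory up ⋙ DerivedCategory.Qh).totalRightDerived DerivedCategory.Qh
    (HomotopyCategory.quasiIso A up)

/-- Complexes of acyclic objects compute a right derived functor preserving countable sums. -/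
theorem isIso_unit [HasColimitsOfShape (Discrete ℕ) (DerivedCategory A)]
    [PreservesColimitsOfShape (Discrete ℕ) (R (A := A) F)]
    (hF : ∀ (J : Type v) [SmallCategory J] [IsFiltered J], PreservesColimitsOfShape J F)
    (K : CochainComplex A ℤ) (hK : ∀ n, RightAcyclic F (K.X n)) :
    IsIso (((F.mapHomotopyCategory up ⋙ DerivedCategory.Qh).totalRightDerivedUnit DerivedCategory.Qh
      (HomotopyCategory.quasiIso A up)).app ((HomotopyCategory.quotient A up).obj K)) := by
  let η := (F.mapHomotopyCategory up ⋙ DerivedCategory.Qh).totalRightDerivedUnit DerivedCategory.Qh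
    (HomotopyCategory.quasiIso A up)
  haveI := Groth.DAlg.DerivedLeftAdj.hasColimits_nat A
  haveI := Groth.DAlg.DerivedLeftAdj.hasExactColimits_nat A
  haveI := Groth.DAlg.DerivedLeftAdj.hasColimits_discrete A ℕ
  haveI := Groth.DAlg.DerivedLeftAdj.hasColimits_discrete B ℕ
  haveI := preservesColimits_nat F hF
  haveI := Groth.Misc4.QCoprod.preservesColimitsOfShape_nat (A := A)
  haveI := Groth.Misc4.QCoprod.preservesColimitsOfShape_nat (A := B)
  obtain ⟨u, p, w, hsplit⟩ := exists_splitting K
  let L := (σSeq K).obj
  have hn : ∀ n : ℕ, IsIso ((unitQ F η).app (L n)) := fun n => by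
    refine (isIso_unitQ_iff F η _).2 ?_
    haveI : CochainComplex.IsStrictlyGE (L n) (-(n : ℤ)) := by
      rw [CochainComplex.isStrictlyGE_iff]
      exact fun i hi => isZero_σ_X K _ i hi
    refine isIso_unit_bounded F η (L n) (-(n : ℤ)) fun i => ?_
    by_cases h : -(n : ℤ) ≤ i
    · haveI := isIso_σι_f K (-(n : ℤ)) i h
      exact fun j => (hK i j).of_iso ((F.rightDerived (j + 1)).mapIso (asIso ((σι K (-(n : ℤ))).f i)))
    · have hz := isZero_σ_X K _ i (not_le.1 h)
      haveI : Injective ((L n).X i) := ⟨fun g f _ => ⟨0, hz.eq_of_tgt _ _⟩⟩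
      exact Groth.CohFin.rightAcyclic_of_injective F _
  have hsum : IsIso ((unitQ F η).app (∐ L)) :=
    isIso_app_of_isColimit (unitQ F η) (colimit.cocone (Discrete.functor L))
      (isColimitOfPreserves _ (colimit.isColimit _)) (isColimitOfPreserves _ (colimit.isColimit _))
      fun j => hn j.as
  let S : ShortComplex (CochainComplex A ℤ) := ShortComplex.mk u p w
  let φ := CochainComplex.mappingCone.descShortComplex S
  have hS : S.ShortExact := HomologicalComplex.shortExact_of_degreewise_shortExact S fun q =>
    (hsplit q).some.shortExact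
  have hFS : (S.map (F.mapHomologicalComplex up)).ShortExact :=
    HomologicalComplex.shortExact_of_degreewise_shortExact _ fun q =>
      (((hsplit q).some).map F).shortExact
  haveI hφ : QuasiIso φ := CochainComplex.mappingCone.quasiIso_descShortComplex hS
  haveI hψ := CochainComplex.mappingCone.quasiIso_descShortComplex hFS
  have hFφ : QuasiIso ((F.mapHomologicalComplex up).map φ) := by
    have e : (F.mapHomologicalComplex up).map φ =
        (CochainComplex.mappingCone.mapHomologicalComplexIso u F).hom ≫
          CochainComplex.mappingCone.descShortComplex (S.map (F.mapHomologicalComplex up)) := by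
      ext q
      apply (cancel_epi ((CochainComplex.mappingCone.mapHomologicalComplexIso u F).inv.f q)).1
      rw [← HomologicalComplex.comp_f, ← HomologicalComplex.comp_f, Iso.inv_hom_id_assoc]
      apply CochainComplex.mappingCone.ext_from _ (q + 1) q rfl
      · simp [φ, S, CochainComplex.mappingCone.descShortComplex,
          CochainComplex.mappingCone.mapHomologicalComplexIso,
          CochainComplex.mappingCone.mapHomologicalComplexXIso_eq u F q (q + 1) rfl,
          ← Functor.map_comp, ← Functor.map_comp_assoc]
      · simp [φ, S, CochainComplex.mappingCone.descShortComplex,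
          CochainComplex.mappingCone.mapHomologicalComplexIso,
          CochainComplex.mappingCone.mapHomologicalComplexXIso_eq u F q (q + 1) rfl,
          ← Functor.map_comp, ← Functor.map_comp_assoc]
    rw [e]
    infer_instance
  have hsum' := (isIso_unitQ_iff F η _).1 hsum
  have h3 := isIso_unit_cone F η u hsum' hsum'
  have h4 : IsIso ((unitQ F η).app (CochainComplex.mappingCone u)) := (isIso_unitQ_iff F η _).2 h3
  haveI : IsIso ((DerivedCategory.Q ⋙ R (A := A) F).map φ) := by
    haveI : IsIso (DerivedCategory.Q.map φ) := (DerivedCategory.isIso_Q_map_iff_quasiIso _ φ).2 hφ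
    exact (R (A := A) F).map_isIso _
  haveI : IsIso ((F.mapHomologicalComplex up ⋙ DerivedCategory.Q).map φ) :=
    (DerivedCategory.isIso_Q_map_iff_quasiIso _ _).2 hFφ
  have hnat := (unitQ F η).naturality φ
  refine (isIso_unitQ_iff F η K).1 ?_
  have : IsIso ((F.mapHomologicalComplex up ⋙ DerivedCategory.Q).map φ ≫ (unitQ F η).app K) := by
    rw [hnat]
    infer_instance
  exact IsIso.of_isIso_comp_left ((F.mapHomologicalComplex up ⋙ DerivedCategory.Q).map φ) _

end

end Groth.Misc4.UnitCountable
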