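import Groth.Agent.Misc4.ProjQCohGood
import Groth.Agent.Misc4.UnitCountable

/-!
Complexes of quasi-coherent modules acyclic for a quasi-compact quasi-separated direct image compute the
derived direct image.
-/

universe u

open CategoryTheory CategoryTheory.Limits AlgebraicGeometry HomologicalComplex

namespace Groth.Misc4.PushAcyclicQCoh

open Groth.DerivedCoh.KFlat (pushCx kres kresAug)
open Groth.DerivedCoh.ExtZero (resCx)
open Groth.Misc4.UnitCountable (σ σι isIso_σι_f isZero_σ_X)
open Groth.Misc4.ProjQCohGood (Good)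

attribute [local instance] HasDerivedCategory.standard

set_option backward.defeqAttrib.useBackward true
set_option backward.isDefEq.respectTransparency false
set_option maxHeartbeats 1000000
set_option synthInstance.maxHeartbeats 400000

local notation "up" => ComplexShape.up ℤ

lemma isIso_homologyMap_σι {A : Type*} [Category* A] [Abelian A] (E : CochainComplex A ℤ) (m j : ℤ) (h : m < j) :
    IsIso (homologyMap (σι E m) j) := by
  haveI : QuasiIsoAt (σι E m) j := by
    rw [quasiIsoAt_iff' _ (j - 1) j (j + 1) (by simp) (by simp)]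
    let φ := (HomologicalComplex.shortComplexFunctor' A up (j - 1) j (j + 1)).map (σι E m)
    haveI : Epi φ.τ₁ := by
      haveI := isIso_σι_f E m (j - 1) (by omega)
      exact inferInstanceAs (Epi ((σι E m).f (j - 1)))
    haveI : IsIso φ.τ₂ := isIso_σι_f E m j h.le
    haveI : Mono φ.τ₃ := by
      haveI := isIso_σι_f E m (j + 1) (by omega)
      exact inferInstanceAs (Mono ((σι E m).f (j + 1)))
    exact ShortComplex.quasiIso_of_epi_of_isIso_of_mono φ
  exact (quasiIsoAt_iff_isIso_homologyMap _ _).1 inferInstance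

variable {X S : Scheme.{u}} (f : X ⟶ S) [QuasiCompact f] [QuasiSeparated f]

/-- complexes of quasi-coherent modules with acyclic terms compute the derived direct image -/
theorem good_of_acyclic_qcoh (F : CochainComplex X.Modules ℤ) (hq : ∀ n, (F.X n).IsQuasicoherent)
    (hac : ∀ n, Groth.CohFin.RightAcyclic (Scheme.Modules.pushforward f) (F.X n)) : Good f F := by
  haveI : DCoh.HasRpush f := Groth.Misc4.PushRestrict.hasRightDerived _
  rw [Good, ← DerivedCategory.isIso_Q_map_iff_quasiIso]
  refine Groth.DerivedCoh.Duality.isIso_of_local _ fun s => ?_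
  obtain ⟨V, hV, hs, -⟩ := exists_isAffineOpen_mem_and_subset (x := s) (U := ⊤) trivial
  haveI : IsAffine (V : Scheme.{u}) := hV
  refine ⟨V, hs, (NatIso.isIso_map_iff (Scheme.Modules.restrictFunctor V.ι).mapDerivedCategoryFactors _).2
    ((DerivedCategory.isIso_Q_map_iff_quasiIso _ ((resCx V.ι).map ((pushCx f).map ((kresAug X).app F)))).2 ?_)⟩
  let U := f ⁻¹ᵁ V
  let g := f ∣_ V
  haveI : DCoh.HasRpush g := Groth.Misc4.PushRestrict.hasRightDerived _
  obtain ⟨N, hN0, hN⟩ := Groth.Misc4.RpushCoprod.exists_isIso_homology_map g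
  refine ⟨fun j => ?_⟩
  rw [quasiIsoAt_iff_isIso_homologyMap]
  let m : ℤ := j - N - 2
  let ι := σι F m
  let c : pushCx f ⋙ resCx V.ι ≅ resCx U.ι ⋙ pushCx g :=
    NatIso.mapHomologicalComplex (Groth.Misc4.PushRestrict.baseLocalIso f V) up
  haveI : (σ F m).IsStrictlyGE m := (CochainComplex.isStrictlyGE_iff _ _).2 fun i hi => isZero_σ_X F m i hi
  have hσ : Good f (σ F m) := by
    rw [← Groth.Misc4.ProjQCohGood.isIso_γ_iff]
    refine Groth.Misc4.RpushCoprod.isIso_γ_of_acyclic f _ m fun n => ?_
    by_cases hn : m ≤ n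
    · haveI := isIso_σι_f F m n hn
      exact fun k => (hac n k).of_iso
        (((Scheme.Modules.pushforward f).rightDerived (k + 1)).mapIso (asIso (ι.f n)))
    · haveI : Injective ((σ F m).X n) := ⟨fun _ _ _ => ⟨0, (isZero_σ_X F m n (by omega)).eq_of_tgt _ _⟩⟩
      exact Groth.CohFin.rightAcyclic_of_injective _ _
  haveI : QuasiIso ((pushCx f).map ((kresAug X).app (σ F m))) := hσ
  haveI : QuasiIso ((resCx V.ι).map ((pushCx f).map ((kresAug X).app (σ F m)))) := inferInstance
  have hq' : ∀ n, ((σ F m).X n).IsQuasicoherent := fun n => by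
    by_cases hn : m ≤ n
    · haveI := isIso_σι_f F m n hn
      exact (Groth.QCohMod.isQCoh_iff_of_iso (asIso (ι.f n))).2 (hq n)
    · exact Groth.Misc4.QCohDPerf.isQCoh_isZero (isZero_σ_X F m n (by omega))
  let J₁ := (resCx U.ι).obj ((kres X).obj (σ F m))
  let J₂ := (resCx U.ι).obj ((kres X).obj F)
  let φ : J₁ ⟶ J₂ := (resCx U.ι).map ((kres X).map ι)
  have hJ : ∀ (G : CochainComplex X.Modules ℤ), (∀ n, (G.X n).IsQuasicoherent) →
      DCoh.IsQCohD (DerivedCategory.Q.obj ((resCx U.ι).obj ((kres X).obj G))) := fun G hG => by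
    haveI := (DerivedCategory.isIso_Q_map_iff_quasiIso _ ((kresAug X).app G)).2 inferInstance
    exact Groth.Misc4.QCohDPerf.isQCohD_of_iso (Groth.KTheory.Perf.rdQIso U.ι _)
      (Groth.Misc4.QCohDPerf.isQCohD_restrict U.ι (Groth.Misc4.QCohDPerf.isQCohD_of_iso
        (asIso (DerivedCategory.Q.map ((kresAug X).app G)))
        (Groth.Misc4.ProjQCohGood.isQCohD_of_terms G hG)))
  -- in high degrees the comparison of resolutions is invertible
  have hφ : ∀ q, m + 1 ≤ q → IsIso (homologyMap φ q) := fun q hq => by
    haveI := isIso_homologyMap_σι F m q (by omega)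
    haveI : IsIso (homologyMap ((kres X).map ι) q) := by
      haveI : IsIso (homologyMap ((kresAug X).app (σ F m) ≫ (kres X).map ι) q) := by
        rw [← (kresAug X).naturality ι, Functor.id_map, homologyMap_comp]
        infer_instance
      rw [homologyMap_comp] at this
      exact IsIso.of_isIso_comp_left (homologyMap ((kresAug X).app (σ F m)) q) _
    haveI : QuasiIsoAt ((kres X).map ι) q := (quasiIsoAt_iff_isIso_homologyMap _ _).2 inferInstance
    exact (quasiIsoAt_iff_isIso_homologyMap φ q).1 inferInstance
  haveI := Groth.Misc4.PushRestrict.isKInjective_resCx U.ι ((kres X).obj (σ F m))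
  haveI := Groth.Misc4.PushRestrict.isKInjective_resCx U.ι ((kres X).obj F)
  haveI := Groth.Misc4.RpushCoprod.isIso_γ_of_isKInjective g J₁
  haveI := Groth.Misc4.RpushCoprod.isIso_γ_of_isKInjective g J₂
  haveI : IsIso (homologyMap ((pushCx g).map φ) j) := by
    have h := hN (DerivedCategory.Q.map φ) (hJ _ hq') (hJ _ hq) (m + 1) j (fun q hq => by
      haveI := hφ q hq
      exact (NatIso.isIso_map_iff (DerivedCategory.homologyFunctorFactors _ q) φ).2
        (inferInstanceAs (IsIso (homologyMap φ q)))) (by omega)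
    have e := (Groth.Misc4.RpushCoprod.γ g).naturality φ
    simp only [Functor.comp_map] at e
    haveI : IsIso ((DerivedCategory.homologyFunctor _ j).map (DerivedCategory.Q.map ((pushCx g).map φ))) := by
      haveI := h
      haveI : IsIso ((DerivedCategory.homologyFunctor _ j).map
          (DerivedCategory.Q.map ((pushCx g).map φ) ≫ (Groth.Misc4.RpushCoprod.γ g).app J₂)) := by
        rw [e, Functor.map_comp]; infer_instance
      rw [Functor.map_comp] at this
      exact IsIso.of_isIso_comp_right _ ((DerivedCategory.homologyFunctor _ j).map ((Groth.Misc4.RpushCoprod.γ g).app J₂))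
    exact (NatIso.isIso_map_iff (DerivedCategory.homologyFunctorFactors _ j) ((pushCx g).map φ)).1 this
  haveI : IsIso (homologyMap ((resCx V.ι).map ((pushCx f).map ((kres X).map ι))) j) := by
    have e := c.hom.naturality ((kres X).map ι)
    haveI : IsIso (homologyMap ((pushCx f ⋙ resCx V.ι).map ((kres X).map ι) ≫ c.hom.app ((kres X).obj F)) j) := by
      rw [e, homologyMap_comp]
      haveI : IsIso (homologyMap ((resCx U.ι ⋙ pushCx g).map ((kres X).map ι)) j) :=
        inferInstanceAs (IsIso (homologyMap ((pushCx g).map φ) j))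
      infer_instance
    rw [homologyMap_comp] at this
    exact @IsIso.of_isIso_comp_right _ _ _ _ _ _ (homologyMap (c.hom.app ((kres X).obj F)) j) inferInstance this
  haveI : IsIso (homologyMap ((resCx V.ι).map ((pushCx f).map ι)) j) := by
    let G := Scheme.Modules.pushforward f ⋙ Scheme.Modules.restrictFunctor V.ι
    let M := (resCx V.ι).map ((pushCx f).map ι)
    haveI : QuasiIsoAt M j := by
      rw [quasiIsoAt_iff' _ (j - 1) j (j + 1) (by simp) (by simp)]
      have hi : ∀ i, m ≤ i → IsIso (M.f i) := fun i hi => by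
        haveI := isIso_σι_f F m i hi
        exact inferInstanceAs (IsIso (G.map (ι.f i)))
      let ψ := (HomologicalComplex.shortComplexFunctor' _ up (j - 1) j (j + 1)).map M
      haveI : Epi ψ.τ₁ := by
        haveI := hi (j - 1) (by omega)
        exact inferInstanceAs (Epi (M.f (j - 1)))
      haveI : IsIso ψ.τ₂ := hi j (by omega)
      haveI : Mono ψ.τ₃ := by
        haveI := hi (j + 1) (by omega)
        exact inferInstanceAs (Mono (M.f (j + 1)))
      exact ShortComplex.quasiIso_of_epi_of_isIso_of_mono ψ
    exact (quasiIsoAt_iff_isIso_homologyMap _ _).1 inferInstance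
  have e : homologyMap ((resCx V.ι).map ((pushCx f).map ι)) j ≫
      homologyMap ((resCx V.ι).map ((pushCx f).map ((kresAug X).app F))) j =
      homologyMap ((resCx V.ι).map ((pushCx f).map ((kresAug X).app (σ F m)))) j ≫
        homologyMap ((resCx V.ι).map ((pushCx f).map ((kres X).map ι))) j := by
    rw [← homologyMap_comp, ← homologyMap_comp, ← Functor.map_comp, ← Functor.map_comp, ← Functor.map_comp,
      ← Functor.map_comp, ← (kresAug X).naturality ι, Functor.id_map]
  haveI : IsIso (homologyMap ((resCx V.ι).map ((pushCx f).map ι)) j ≫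
      homologyMap ((resCx V.ι).map ((pushCx f).map ((kresAug X).app F))) j) := by
    rw [e]; infer_instance
  exact IsIso.of_isIso_comp_left (homologyMap ((resCx V.ι).map ((pushCx f).map ι)) j) _

omit [QuasiCompact f] [QuasiSeparated f] in
/-- quasi-coherent modules are acyclic for affine morphisms -/
theorem rightAcyclic_of_isAffineHom [IsAffineHom f] (M : X.Modules) [M.IsQuasicoherent] :
    Groth.CohFin.RightAcyclic (Scheme.Modules.pushforward f) M := by
  refine Groth.CohFin.rightAcyclic_of_pushAcyclic f _ fun V y hy => ?_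
  obtain ⟨_, ⟨W, hW, rfl⟩, hyW, hWV⟩ := S.isBasis_affineOpens.exists_subset_of_mem_open hy V.2
  exact ⟨W, hWV, hyW, fun q => Groth.CohBase.hVanish_of_isAffineOpen M (hW.preimage f) q⟩

omit [QuasiCompact f] [QuasiSeparated f] in
/-- the unit of the total right derived functor is invertible exactly at complexes computing it -/
theorem isIso_unit_iff [DCoh.HasRpush f] (C : CochainComplex X.Modules ℤ) :
    IsIso (((DCoh.pushKh f).totalRightDerivedUnit DerivedCategory.Qh (HomotopyCategory.quasiIso X.Modules up)).app
      ((HomotopyCategory.quotient X.Modules up).obj C)) ↔ Good f C := by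
  let β := (DCoh.pushKh f).totalRightDerivedUnit DerivedCategory.Qh (HomotopyCategory.quasiIso X.Modules up)
  let e₁ := (DerivedCategory.quotientCompQhIso S.Modules).inv.app ((pushCx f).obj C)
  let e₂ := (DCoh.Rpush f).map ((DerivedCategory.quotientCompQhIso X.Modules).hom.app C)
  let b := β.app ((HomotopyCategory.quotient X.Modules up).obj C)
  have hγ : (Groth.Misc4.RpushCoprod.γ f).app C = e₁ ≫ b ≫ e₂ := rfl
  rw [← Groth.Misc4.ProjQCohGood.isIso_γ_iff, hγ]
  constructor <;> intro h
  · haveI : IsIso b := h
    exact @IsIso.comp_isIso _ _ _ _ _ e₁ (b ≫ e₂) inferInstance (@IsIso.comp_isIso _ _ _ _ _ b e₂ h inferInstance)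
  · haveI : IsIso e₁ := inferInstance
    haveI : IsIso e₂ := inferInstance
    haveI : IsIso (b ≫ e₂) := @IsIso.of_isIso_comp_left _ _ _ _ _ e₁ _ inferInstance h
    exact IsIso.of_isIso_comp_right b e₂

end Groth.Misc4.PushAcyclicQCoh
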