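import Groth.Agent.Misc4.ApproxGlue

/-!
# The induction step of approximation by perfect complexes
-/

universe u

open CategoryTheory CategoryTheory.Limits Pretriangulated AlgebraicGeometry
open Groth.KTheory.Perf
open Groth.DerivedCoh.PCoh (Near Below hShiftIso)
open Groth.Misc4.ApproxExtend
open Groth.Misc4.KoszulOrth Groth.Misc4.KoszulUnit Groth.Misc4.Thomason Groth.Misc4.ApproxGlue

attribute [local instance] HasDerivedCategory.standard

set_option backward.isDefEq.respectTransparency false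
set_option backward.defeqAttrib.useBackward true
set_option synthInstance.maxHeartbeats 400000
set_option maxHeartbeats 1000000

namespace Groth.Misc4.ApproxInduction

variable {X : Scheme.{u}} {A : Type u} [CommRing A]

lemma mem_U_append (l l' : List A) (y : Spec (CommRingCat.of A)) :
    y ∉ U (l ++ l') ↔ y ∉ U l ∧ y ∉ U l' := by
  simp only [mem_U, List.mem_append, not_exists, not_and, not_not]
  exact ⟨fun h => ⟨fun f hf => h f (Or.inl hf), fun f hf => h f (Or.inr hf)⟩,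
    fun h f hf => hf.elim (h.1 f) (h.2 f)⟩

set_option maxHeartbeats 2000000 in
/-- The induction step. -/
theorem step (W : X.Opens) [CompactSpace (W : Scheme.{u})] (j : Spec (CommRingCat.of A) ⟶ X) [IsOpenImmersion j]
    (hcov : ∀ x, x ∉ W → x ∈ j.opensRange) (ts gs : List A) {T : Set X} (hT : IsClosed T)
    (hts : ∀ y, j y ∈ T ↔ y ∉ U ts) (hgs : ∀ y, j y ∈ W ↔ y ∈ U gs) (rU : ℤ)
    (hAU : ∀ (m : ℤ) (E : DCoh.D (W : Scheme.{u})), DCoh.IsQCohD E → DCoh.IsPseudoCoherentD (m - rU) E →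
      (∀ i : ℤ, m - rU ≤ i → CohB1.support (DCoh.HD E i) ⊆ W.ι.base ⁻¹' T) →
      Approx (W.ι.base ⁻¹' T) E m)
    (m : ℤ) (E : DCoh.D X) (hE : DCoh.IsQCohD E)
    (hpc : DCoh.IsPseudoCoherentD (m - (max rU 0 + (ts ++ gs).length)) E)
    (hsupp : ∀ i : ℤ, m - (max rU 0 + (ts ++ gs).length) ≤ i → CohB1.support (DCoh.HD E i) ⊆ T) :
    Approx T E m := by
  haveI := Groth.PropsBasic2.preservesFiniteLimits_tilde (CommRingCat.of A)
  haveI := preservesFiniteLimits_restrictFunctor W.ι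
  haveI := preservesFiniteLimits_restrictFunctor j
  haveI := preservesFiniteLimits_restrictFunctor (U gs).ι
  let r' : ℤ := (ts ++ gs).length
  let n : ℤ := m - r'
  have hmax : rU ≤ max rU 0 ∧ 0 ≤ max rU 0 := ⟨le_max_left _ _, le_max_right _ _⟩
  -- approximation on `W`
  obtain ⟨A₀, α₀, hA₀, hA₀s, hiso₀, hepi₀⟩ := hAU n ((DCoh.restrictD W.ι).obj E)
    (Groth.Misc4.QCohDPerf.isQCohD_restrict W.ι hE)
    (Groth.DerivedCoh.PCohDescent.pcoh_rd W.ι (Groth.DerivedCoh.TildeD.isPseudoCoherentD_mono hpc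
      (by simp only [n, r']; omega)))
    (fun i hi y hy => hsupp i (by simp only [n, r'] at hi; omega) ((mem_support_hd_rd W.ι E i y).1 hy))
  obtain ⟨b, hb⟩ := Groth.DerivedCoh.TildeD.exists_bound
    (Groth.DerivedCoh.PCoh.isPseudoCoherentD_of_isPerfect hA₀ 0)
  let k : ℕ := (b - n).toNat
  let N : ℤ := ((2 * k + 1 : ℕ) : ℤ)
  let A₁ : DCoh.D (W : Scheme.{u}) := A₀⟦N⟧ ⊞ A₀
  have hA₁ : DCoh.IsPerfect A₁ :=
    isPerfect_obj₂ _ (binaryBiproductTriangle_distinguished _ _) (isPerfect_shift hA₀ N) hA₀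
  have hA₁s : ∀ i, CohB1.support (DCoh.HD A₁ i) ⊆ W.ι.base ⁻¹' T := fun i =>
    support_hd_middle _ (binaryBiproductTriangle_distinguished _ _) i
      ((support_hd_shift A₀ N i).le.trans (hA₀s _)) (hA₀s i)
  let α₁ : A₁ ⟶ (DCoh.restrictD W.ι).obj E := biprod.snd ≫ α₀
  have hα₁ : Near n α₁ := by
    refine Near.comp ?_ ⟨hiso₀, hepi₀⟩
    refine Groth.DerivedCoh.PCoh.near_of_below _ (rot_of_distTriang _
      (binaryBiproductTriangle_distinguished (A₀⟦N⟧) A₀)) fun i hi => ?_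
    exact (hb (N + (1 + i)) (by simp only [N, k]; push_cast; omega)).of_iso
      ((hShiftIso 1 i (1 + i) rfl).app _ ≪≫ (hShiftIso N (1 + i) (N + (1 + i)) rfl).app A₀)
  let adjW := Groth.DerivedCoh.ExtZero.extZeroDAdj W.ι
  let adjJ := Groth.DerivedCoh.ExtZero.extZeroDAdj j
  let PA : DCoh.D X := (CxOX.extZeroD W.ι).obj A₁
  let αX : PA ⟶ E := (adjW.homEquiv A₁ E).symm α₁
  -- the restriction to the overlap lifts
  let kk : ((U gs : (Spec (CommRingCat.of A)).Opens) : Scheme.{u}) ⟶ (W : Scheme.{u}) :=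
    IsOpenImmersion.lift W.ι ((U gs).ι ≫ j) (by
      rw [Scheme.Opens.range_ι]
      rintro _ ⟨z, rfl⟩
      exact (hgs _).2 z.2)
  have hkk : kk ≫ W.ι = (U gs).ι ≫ j := IsOpenImmersion.lift_fac _ _ _
  haveI : IsOpenImmersion kk := by
    haveI : IsOpenImmersion (kk ≫ W.ι) := hkk ▸ inferInstance
    exact IsOpenImmersion.of_comp kk W.ι
  let G : DCoh.D (W : Scheme.{u}) ⥤ DCoh.D ((U gs : (Spec (CommRingCat.of A)).Opens) : Scheme.{u}) :=
    CxOX.extZeroD W.ι ⋙ DCoh.restrictD j ⋙ DCoh.restrictD (U gs).ι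
  obtain ⟨c₁⟩ := nonempty_rdComp (k := kk) (j := W.ι) (l := (U gs).ι ≫ j) hkk.symm ((CxOX.extZeroD W.ι).obj A₀)
  obtain ⟨c₂⟩ := nonempty_rdComp (k := (U gs).ι) (j := j) (l := (U gs).ι ≫ j) rfl ((CxOX.extZeroD W.ι).obj A₀)
  haveI := isIso_extZeroDAdj_unit W.ι A₀
  let g₀ : G.obj A₀ ≅ (DCoh.restrictD kk).obj A₀ :=
    c₂.symm ≪≫ c₁ ≪≫ (DCoh.restrictD kk).mapIso (asIso (adjW.unit.app A₀)).symm
  have hF₀ : DCoh.IsPerfect (G.obj A₀) :=
    isPerfect_of_iso g₀.symm (Groth.DerivedCoh.PCohDescent.isPerfect_rd kk hA₀)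
  have hF₀s : ∀ i, ∀ z ∈ CohB1.support (DCoh.HD (G.obj A₀) i), (U gs).ι z ∉ U ts := fun i z hz => by
    rw [support_of_iso ((DerivedCategory.homologyFunctor _ i).mapIso g₀)] at hz
    have h : W.ι (kk z) ∈ T := hA₀s i ((mem_support_hd_rd kk A₀ i z).1 hz)
    rw [← Scheme.Hom.comp_apply, hkk, Scheme.Hom.comp_apply] at h
    exact (hts _).1 h
  haveI := preservesBinaryBiproducts_of_preservesBiproducts G
  obtain ⟨Gm, hGm, ⟨ψ⟩⟩ : Lift ts gs (G.obj A₁) := (lift_of_perfect (G.obj A₀) hF₀ hF₀s k).of_iso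
    (biprod.mapIso ((G.commShiftIso N).app A₀).symm (Iso.refl _) ≪≫ (G.mapBiprod (A₀⟦N⟧) A₀).symm)
  -- extend the map
  let MV := (DCoh.restrictD j).obj PA
  let αV : MV ⟶ (DCoh.restrictD j).obj E := (DCoh.restrictD j).map αX
  obtain ⟨E₁, β, γ, hE₁, hβ, hγ⟩ := exists_extend hGm (E' := (DCoh.restrictD j).obj E)
    (Groth.Misc4.QCohDPerf.isQCohD_restrict j hE) (ψ.hom ≫ (DCoh.restrictD (U gs).ι).map αV)
  have hMV : ∀ i, CohB1.support (DCoh.HD MV i) ⊆ ((U gs).ι.opensRange : Set (Spec (CommRingCat.of A))) :=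
    fun i y hy => by
      rw [Scheme.Opens.opensRange_ι]
      obtain ⟨z, hz, -⟩ := mem_support_ext W.ι A₁ i ((mem_support_hd_rd j PA i y).1 hy)
      exact (hgs y).1 (hz ▸ z.2)
  let B := (DCoh.tildeD (CommRingCat.of A)).obj E₁
  haveI := hβ
  obtain ⟨τ, hτ⟩ := rd_surjective (U gs).ι (M := MV) (N := B) hMV (ψ.inv ≫ inv ((Φ gs).map β))
  have hτγ : τ ≫ γ = αV := by
    refine rd_injective (U gs).ι hMV ?_
    rw [Functor.map_comp, hτ, ← hγ, Category.assoc, IsIso.inv_hom_id_assoc]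
    exact ψ.inv_hom_id_assoc _
  haveI hτiso : IsIso ((DCoh.restrictD (U gs).ι).map τ) := by rw [hτ]; infer_instance
  -- glue
  let s : (CxOX.extZeroD j).obj MV ⟶ PA := adjJ.counit.app PA
  let t : (CxOX.extZeroD j).obj MV ⟶ (CxOX.extZeroD j).obj B := (CxOX.extZeroD j).map τ
  let βX : (CxOX.extZeroD j).obj B ⟶ E := (CxOX.extZeroD j).map γ ≫ adjJ.counit.app E
  have hw : s ≫ αX = t ≫ βX := by
    show adjJ.counit.app PA ≫ αX = (CxOX.extZeroD j).map τ ≫ (CxOX.extZeroD j).map γ ≫ adjJ.counit.app E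
    rw [← Category.assoc, ← Functor.map_comp, hτγ]
    exact (adjJ.counit.naturality αX).symm
  haveI : IsIso ((DCoh.restrictD j).map s) := isIso_rd_counit j PA
  haveI : IsIso ((DCoh.restrictD W.ι).map t) := by
    obtain ⟨Cτ, v, w, hC⟩ := distinguished_cocone_triangle τ
    have hz : IsZero ((DCoh.restrictD (U gs).ι).obj Cτ) :=
      (Triangle.isZero₃_iff_isIso₁ _ ((DCoh.restrictD (U gs).ι).map_distinguished _ hC)).2 hτiso
    refine isIso_rd_of_support W.ι _ ((CxOX.extZeroD j).map_distinguished _ hC) fun q z hq => ?_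
    obtain ⟨y, hy, hy'⟩ := mem_support_ext j Cτ q hq
    have hyU : y ∈ U gs := (hgs y).1 (hy ▸ z.2)
    exact Set.eq_empty_iff_forall_notMem.1 (isZero_iff_support.1
      ((DerivedCategory.homologyFunctor _ q).map_isZero hz)) ⟨y, hyU⟩
        ((mem_support_hd_rd (U gs).ι Cτ q ⟨y, hyU⟩).2 hy')
  obtain ⟨F, h, a, b', ha, -, haI, hbI⟩ := ApproxGlue.glue W.ι j s t αX βX hw
  haveI := haI
  haveI := hbI
  haveI := isIso_extZeroDAdj_unit W.ι A₁
  haveI := isIso_extZeroDAdj_unit j B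
  let eW : A₁ ≅ (DCoh.restrictD W.ι).obj F := asIso (adjW.unit.app A₁) ≪≫ asIso ((DCoh.restrictD W.ι).map a)
  let eV : B ≅ (DCoh.restrictD j).obj F := asIso (adjJ.unit.app B) ≪≫ asIso ((DCoh.restrictD j).map b')
  have hB : DCoh.IsPerfect B := (Groth.DerivedCoh.TildeD.isPerfect_tildeD_iff E₁).2 hE₁.1
  have hF : DCoh.IsPerfect F := by
    rw [isPerfect_iff]
    intro x
    by_cases hx : x ∈ W
    · exact exists_perfOn_of_rd W.ι (isPerfect_of_iso eW hA₁) ⟨x, hx⟩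
    · obtain ⟨y, rfl⟩ := hcov x hx
      exact exists_perfOn_of_rd j (isPerfect_of_iso eV hB) y
  have hFs : ∀ i, CohB1.support (DCoh.HD F i) ⊆ T := fun i x hx => by
    by_cases hxW : x ∈ W
    · exact hA₁s i ((Set.ext_iff.1 (support_of_iso ((DerivedCategory.homologyFunctor _ i).mapIso eW)) ⟨x, hxW⟩).2
        ((mem_support_hd_rd W.ι F i ⟨x, hxW⟩).2 hx))
    · obtain ⟨y, rfl⟩ := hcov x hxW
      refine (hts y).2 ((support_tilde_subset_iff ts _).2 (fun f hf => hE₁.2 f hf i) y ?_)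
      rw [← support_of_iso (nonempty_hd_tildeD E₁ i).some]
      exact (Set.ext_iff.1 (support_of_iso ((DerivedCategory.homologyFunctor _ i).mapIso eV)) y).2
        ((mem_support_hd_rd j F i y).2 hx)
  -- the cone
  obtain ⟨D, p, d, hD⟩ := distinguished_cocone_triangle h
  have hhW : Near n ((DCoh.restrictD W.ι).map h) := by
    have e : eW.hom ≫ (DCoh.restrictD W.ι).map h = α₁ := by
      show (adjW.unit.app A₁ ≫ (DCoh.restrictD W.ι).map a) ≫ (DCoh.restrictD W.ι).map h = α₁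
      rw [Category.assoc, ← Functor.map_comp, ha]
      exact rd_symm W.ι α₁
    rw [← Iso.inv_hom_id_assoc eW ((DCoh.restrictD W.ι).map h), e]
    exact (Groth.DerivedCoh.PCoh.near_of_isIso _).comp hα₁
  have hDW : Below n ((DCoh.restrictD W.ι).obj D) :=
    Groth.DerivedCoh.PCoh.below_of_near _ ((DCoh.restrictD W.ι).map_distinguished _ hD) hhW
  let T' : Set X := T ∩ (W : Set X)ᶜ
  have hT' : IsClosed T' := hT.inter W.2.isClosed_compl
  have hDs : ∀ i : ℤ, n ≤ i → CohB1.support (DCoh.HD D i) ⊆ T' := fun i hi x hx => by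
    refine ⟨?_, fun hxW => Set.eq_empty_iff_forall_notMem.1 (isZero_iff_support.1 (hDW i hi)) ⟨x, hxW⟩
      ((mem_support_hd_rd W.ι D i ⟨x, hxW⟩).2 hx)⟩
    by_contra hxT
    refine isZero_stalk_iff.1 ?_ hx
    exact ((DerivedCategory.HomologySequence.exact₃ _ hD i (i + 1) rfl).map
      (Groth.QCohMod.stalk x)).isZero_of_both_zeros
      ((isZero_stalk_iff.2 fun h => hxT (hsupp i (by simp only [n, r'] at hi; omega) h)).eq_of_src _ _)
      ((isZero_stalk_iff.2 fun h => hxT (hFs (i + 1) h)).eq_of_tgt _ _)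
  have hDq : DCoh.IsQCohD ((DCoh.restrictD j).obj D) :=
    Groth.Misc4.QCohDPerf.isQCohD_obj₂ _
      (rot_of_distTriang _ ((DCoh.restrictD j).map_distinguished _ hD))
      (Groth.Misc4.QCohDPerf.isQCohD_restrict j hE)
      (Groth.Misc4.QCohDPerf.isQCohD_shift (Groth.Misc4.Thomason.isQCohD_of_isPerfect
        (isPerfect_of_iso eV hB)) 1)
  have hDpc : DCoh.IsPseudoCoherentD m D := Groth.DerivedCoh.PCoh.isPseudoCoherentD_obj₃ _ hD
    (Groth.DerivedCoh.PCoh.isPseudoCoherentD_of_isPerfect hF _)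
    (Groth.DerivedCoh.TildeD.isPseudoCoherentD_mono hpc (by omega))
  have hpre : j.base ⁻¹' T' = {y | y ∉ U (ts ++ gs)} := by
    ext y
    show j y ∈ T ∧ ¬ j y ∈ W ↔ y ∉ U (ts ++ gs)
    rw [mem_U_append, hts, hgs]
  obtain ⟨P', α', hP', hP's, hiso', hepi'⟩ := approx_of_openImm j hT' (fun x hx => hcov x hx.2) D m
    (by
      rw [hpre]
      refine approx_spec (ts ++ gs) m _ hDq (Groth.DerivedCoh.PCohDescent.pcoh_rd j hDpc) fun i hi y hy => ?_
      have h : y ∈ j.base ⁻¹' T' := hDs i (by simp only [n, r']; omega) ((mem_support_hd_rd j D i y).1 hy)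
      rwa [hpre] at h)
    (fun i hi => hDs i (by simp only [n, r']; omega))
  -- assemble
  obtain ⟨C', p', d', hC'⟩ := distinguished_cocone_triangle α'
  obtain ⟨Z, z₁, z₂, hZ⟩ := distinguished_cocone_triangle (p ≫ p')
  let o := Triangulated.someOctahedron (rfl : p ≫ p' = p ≫ p') (rot_of_distTriang _ hD)
    (rot_of_distTriang _ hC') hZ
  have hZp : DCoh.IsPerfect Z := isPerfect_obj₂ _ o.mem (isPerfect_shift hF 1) (isPerfect_shift hP' 1)
  obtain ⟨h1, h2⟩ := Groth.DerivedCoh.PCoh.near_of_below _ (inv_rot_of_distTriang _ hZ)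
    (Groth.DerivedCoh.PCoh.below_of_near (Triangle.mk α' p' d') hC' ⟨hiso', hepi'⟩)
  refine ⟨Z⟦(-1 : ℤ)⟧, (Triangle.mk (p ≫ p') z₁ z₂).invRotate.mor₁, isPerfect_shift hZp (-1),
    fun i => (support_hd_shift Z (-1) i).le.trans ?_, h1, h2⟩
  exact support_hd_middle _ o.mem (-1 + i) ((support_hd_shift F 1 _).le.trans (hFs _))
    ((support_hd_shift P' 1 _).le.trans ((hP's _).trans Set.inter_subset_left))

end Groth.Misc4.ApproxInduction

namespace Groth.Misc4.ApproxInduction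

variable {X : Scheme.{u}}

/-- Finitely many functions cut out a quasi-compact open. -/
theorem exists_list {A : Type u} [CommRing A] (j : Spec (CommRingCat.of A) ⟶ X) [IsOpenImmersion j]
    (S : Set X) (hS : IsOpen S) (hc : IsCompact (S ∩ Set.range j)) :
    ∃ l : List A, ∀ y, j y ∈ S ↔ y ∈ Groth.Misc4.KoszulUnit.U l := by
  have hc' : IsCompact (j ⁻¹' S) := by
    rw [j.isOpenEmbedding.isEmbedding.isCompact_iff, Set.image_preimage_eq_inter_range]
    exact hc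
  obtain ⟨s, hs⟩ := PrimeSpectrum.isCompact_isOpen_iff.1 ⟨hc', hS.preimage j.continuous⟩
  refine ⟨s.toList, fun y => ?_⟩
  have h : y ∈ j ⁻¹' S ↔ y ∈ (PrimeSpectrum.zeroLocus (s : Set A))ᶜ := by rw [hs]
  rw [Groth.Misc4.KoszulUnit.mem_U]
  refine h.trans ?_
  show ¬ (∀ f ∈ (s : Set A), f ∈ y.asIdeal) ↔ _
  simp

/-- Approximation holds on `X = U ∪ V` with `V` affine, if it holds on `U`. -/
theorem approx_union (U V : X.Opens) (hU : IsCompact (U : Set X)) (hV : IsAffineOpen V)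
    (hUV : IsCompact ((U ⊓ V : X.Opens) : Set X)) (hcov : U ⊔ V = ⊤)
    (hAU : ∀ (T : Set (U : Scheme.{u})), IsClosed T → IsRetrocompact Tᶜ → ∃ r : ℤ, ∀ (m : ℤ)
      (E : DCoh.D (U : Scheme.{u})), DCoh.IsQCohD E → DCoh.IsPseudoCoherentD (m - r) E →
      (∀ i : ℤ, m - r ≤ i → CohB1.support (DCoh.HD E i) ⊆ T) → Approx T E m)
    (T : Set X) (hT : IsClosed T) (hTc : IsRetrocompact Tᶜ) :
    ∃ r : ℤ, ∀ (m : ℤ) (E : DCoh.D X), DCoh.IsQCohD E → DCoh.IsPseudoCoherentD (m - r) E →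
      (∀ i : ℤ, m - r ≤ i → CohB1.support (DCoh.HD E i) ⊆ T) → Approx T E m := by
  let j : Spec (CommRingCat.of Γ(X, V)) ⟶ X := hV.fromSpec
  have hj : Set.range j = (V : Set X) := hV.range_fromSpec
  obtain ⟨ts, hts⟩ := exists_list j Tᶜ hT.isOpen_compl (by rw [hj]; exact hTc hV.isCompact V.2)
  obtain ⟨gs, hgs⟩ := exists_list j (U : Set X) U.2 (by rw [hj]; exact hUV)
  haveI : CompactSpace (U : Scheme.{u}) := isCompact_iff_compactSpace.1 hU
  obtain ⟨rU, hrU⟩ := hAU (U.ι.base ⁻¹' T) (hT.preimage U.ι.continuous) fun K hK hKo => by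
    have h := hTc (hK.image U.ι.continuous) (U.ι.isOpenEmbedding.isOpenMap _ hKo)
    rw [U.ι.isOpenEmbedding.isEmbedding.isCompact_iff]
    convert h using 1
    ext x
    constructor
    · rintro ⟨y, ⟨hy1, hy2⟩, rfl⟩
      exact ⟨hy1, y, hy2, rfl⟩
    · rintro ⟨hx, y, hy, rfl⟩
      exact ⟨y, ⟨hx, hy⟩, rfl⟩
  refine ⟨max rU 0 + (ts ++ gs).length, fun m E hE hpc hsupp => step U j (fun x hx => ?_) ts gs hT
    (fun y => ?_) hgs rU hrU m E hE hpc hsupp⟩
  · show x ∈ Set.range j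
    rw [hj]
    have h : x ∈ U ⊔ V := hcov ▸ trivial
    exact h.resolve_left hx
  · exact (not_iff_not.1 ((hts y).trans not_not.symm))

end Groth.Misc4.ApproxInduction
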