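import Groth.Agent.Misc4.ExtendStep
import Groth.Agent.Misc4.ApproxInduction

/-!
# Thomason's extension lemma on an affine scheme
-/

universe u

open CategoryTheory CategoryTheory.Limits Pretriangulated AlgebraicGeometry
open Groth.KTheory.Perf
open scoped ZeroObject
open Groth.Misc4.ApproxExtend
open Groth.Misc4.KoszulOrth Groth.Misc4.KoszulUnit Groth.Misc4.Thomason Groth.Misc4.ApproxGlue Groth.Misc4.ExtendStep

attribute [local instance] HasDerivedCategory.standard

set_option backward.isDefEq.respectTransparency false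
set_option backward.defeqAttrib.useBackward true
set_option synthInstance.maxHeartbeats 400000
set_option maxHeartbeats 1000000

namespace Groth.Misc4.AffineExtend

variable (X : Scheme.{u}) [IsAffine X]

/-- The chart of an affine scheme. -/
noncomputable abbrev chart : Spec (CommRingCat.of Γ(X, ⊤)) ⟶ X := (isAffineOpen_top X).fromSpec

lemma range_chart : Set.range (chart X) = Set.univ := (isAffineOpen_top X).range_fromSpec

lemma mem_opensRange_chart (x : X) : x ∈ (chart X).opensRange := by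
  show x ∈ Set.range (chart X)
  rw [range_chart]
  trivial

/-- A closed subset with quasi-compact complement is a common zero locus. -/
theorem exists_zeroLocus {T : Set X} (hT : IsClosed T) (hTc : IsCompact Tᶜ) :
    ∃ ts : List Γ(X, ⊤), ∀ y, chart X y ∈ T ↔ y ∉ U (A := Γ(X, ⊤)) ts := by
  obtain ⟨ts, hts⟩ := ApproxInduction.exists_list (chart X) Tᶜ hT.isOpen_compl (by
    rw [range_chart, Set.inter_univ]
    exact hTc)
  exact ⟨ts, fun y => not_iff_not.1 ((hts y).trans not_not.symm)⟩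

/-- A quasi-compact open is a finite union of basic opens. -/
theorem exists_open (W : X.Opens) (hW : IsCompact (W : Set X)) :
    ∃ gs : List Γ(X, ⊤), ∀ y, chart X y ∈ W ↔ y ∈ U (A := Γ(X, ⊤)) gs := by
  exact ApproxInduction.exists_list (chart X) (W : Set X) W.2 (by rwa [range_chart, Set.inter_univ])

/-- `F ⊕ F[2k+1]` extends to the affine scheme as a perfect object with the same support. -/
theorem exists_extend_doubled {T : Set X} (hT : IsClosed T) (hTc : IsCompact Tᶜ) (W : X.Opens)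
    (hW : IsCompact (W : Set X)) (F : DCoh.D (W : Scheme.{u})) (hF : DCoh.IsPerfect F)
    (hFT : ∀ i, CohB1.support (DCoh.HD F i) ⊆ W.ι.base ⁻¹' T) (k : ℕ) :
    ∃ G : DCoh.D X, DCoh.IsPerfect G ∧ (∀ i, CohB1.support (DCoh.HD G i) ⊆ T) ∧
      Nonempty ((DCoh.restrictD W.ι).obj G ≅ F⟦((2 * k + 1 : ℕ) : ℤ)⟧ ⊞ F) := by
  haveI := Groth.PropsBasic2.preservesFiniteLimits_tilde (CommRingCat.of Γ(X, ⊤))
  haveI := preservesFiniteLimits_restrictFunctor W.ι
  haveI := preservesFiniteLimits_restrictFunctor (chart X)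
  obtain ⟨ts, hts⟩ := exists_zeroLocus X hT hTc
  obtain ⟨gs, hgs⟩ := exists_open X W hW
  haveI := preservesFiniteLimits_restrictFunctor (U (A := Γ(X, ⊤)) gs).ι
  have hs : ∀ i, CohB1.support (DCoh.HD (F⟦((2 * k + 1 : ℕ) : ℤ)⟧ ⊞ F) i) ⊆ W.ι.base ⁻¹' T := fun i =>
    support_hd_middle _ (binaryBiproductTriangle_distinguished _ _) i
      ((support_hd_shift F _ i).le.trans (hFT _)) (hFT i)
  obtain ⟨E, hE⟩ : ∃ E : DCoh.D X, IsZero E := ⟨0, isZero_zero _⟩
  obtain ⟨G, -, e, hG, hGs, -⟩ := extend W (chart X) ts gs hts hgs (fun x _ => mem_opensRange_chart X x)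
    (F⟦((2 * k + 1 : ℕ) : ℤ)⟧ ⊞ F)
    (isPerfect_obj₂ _ (binaryBiproductTriangle_distinguished _ _) (isPerfect_shift hF _) hF) hs
    (lift_doubled W (chart X) ts gs hts hgs F hF hFT k) (E := E)
    (fun i => Groth.Misc4.QCohDPerf.isQCoh_isZero ((DerivedCategory.homologyFunctor _ i).map_isZero
      ((DCoh.restrictD (chart X)).map_isZero hE))) 0
  exact ⟨G, hG, hGs, ⟨e.symm⟩⟩

/-- Maps on a quasi-compact open extend after modifying the source away from it. -/
theorem exists_extend_map (W : X.Opens) (hW : IsCompact (W : Set X))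
    [PreservesFiniteLimits (Scheme.Modules.restrictFunctor W.ι)] {T : Set X} (hT : IsClosed T) (hTc : IsCompact Tᶜ)
    (E E' : DCoh.D X) (hE : DCoh.IsPerfect E) (hET : ∀ i, CohB1.support (DCoh.HD E i) ⊆ T) (hE' : DCoh.IsQCohD E')
    (α : (DCoh.restrictD W.ι).obj E ⟶ (DCoh.restrictD W.ι).obj E') :
    ∃ (E₁ : DCoh.D X) (β : E₁ ⟶ E) (γ : E₁ ⟶ E'), DCoh.IsPerfect E₁ ∧
      (∀ i, CohB1.support (DCoh.HD E₁ i) ⊆ T) ∧ IsIso ((DCoh.restrictD W.ι).map β) ∧
      (DCoh.restrictD W.ι).map β ≫ α = (DCoh.restrictD W.ι).map γ := by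
  haveI := Groth.PropsBasic2.preservesFiniteLimits_tilde (CommRingCat.of Γ(X, ⊤))
  haveI := preservesFiniteLimits_restrictFunctor (chart X)
  obtain ⟨ts, hts⟩ := exists_zeroLocus X hT hTc
  obtain ⟨gs, hgs⟩ := exists_open X W hW
  haveI := preservesFiniteLimits_restrictFunctor (U (A := Γ(X, ⊤)) gs).ι
  have hlift : Lift ts gs ((rdExt W (chart X) gs).obj ((DCoh.restrictD W.ι).obj E)) := by
    obtain ⟨M, ⟨eM⟩⟩ := (Groth.Misc4.QCohTildeD.isQCohD_iff (R := CommRingCat.of Γ(X, ⊤))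
      ((DCoh.restrictD (chart X)).obj E)).1
        (Groth.Misc4.QCohDPerf.isQCohD_restrict (chart X) (Thomason.isQCohD_of_isPerfect hE))
    have hM : PerfTors ts M :=
      ⟨(Groth.DerivedCoh.TildeD.isPerfect_tildeD_iff M).1
        (isPerfect_of_iso eM.symm (Groth.DerivedCoh.PCohDescent.isPerfect_rd (chart X) hE)),
      fun f hf q => (support_tilde_subset_iff ts _).1 (fun y hy => (hts y).1 (by
        rw [← support_of_iso ((nonempty_hd_tildeD M q).some.symm ≪≫
          (DerivedCategory.homologyFunctor _ q).mapIso eM).symm] at hy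
        exact hET q ((mem_support_hd_rd (chart X) E q y).1 hy))) f hf⟩
    let adjW := Groth.DerivedCoh.ExtZero.extZeroDAdj W.ι
    let c := adjW.counit.app E
    obtain ⟨C, v, w, hT'⟩ := distinguished_cocone_triangle c
    have hC : ∀ q, ∀ z : (W : Scheme.{u}), W.ι z ∉ CohB1.support (DCoh.HD C q) := fun q z hz => by
      have h0 : IsZero ((DCoh.restrictD W.ι).obj C) :=
        (Triangle.isZero₃_iff_isIso₁ _ ((DCoh.restrictD W.ι).map_distinguished _ hT')).2 (isIso_rd_counit W.ι E)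
      exact Set.eq_empty_iff_forall_notMem.1 (isZero_iff_support.1
        ((DerivedCategory.homologyFunctor _ q).map_isZero h0)) z ((mem_support_hd_rd W.ι C q z).2 hz)
    haveI : IsIso ((DCoh.restrictD (U (A := Γ(X, ⊤)) gs).ι).map ((DCoh.restrictD (chart X)).map c)) :=
      isIso_rd_of_support (U (A := Γ(X, ⊤)) gs).ι _ ((DCoh.restrictD (chart X)).map_distinguished _ hT')
        fun q y hy => hC q ⟨chart X ((U (A := Γ(X, ⊤)) gs).ι y), (hgs _).2 y.2⟩
          ((mem_support_hd_rd (chart X) C q _).1 hy)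
    refine Lift.of_iso ⟨M, hM, ⟨Iso.refl _⟩⟩ ((DCoh.restrictD (U (A := Γ(X, ⊤)) gs).ι).mapIso eM ≪≫ ?_)
    exact (asIso ((DCoh.restrictD (U (A := Γ(X, ⊤)) gs).ι).map ((DCoh.restrictD (chart X)).map c))).symm
  haveI := preservesBinaryBiproducts_of_preservesBiproducts (DCoh.restrictD W.ι)
  let σ := (DCoh.restrictD W.ι).mapBiprod E E'
  have hq : DCoh.IsQCohD (E ⊞ E') := Groth.Misc4.QCohDPerf.isQCohD_obj₂ _
    (binaryBiproductTriangle_distinguished E E') (Thomason.isQCohD_of_isPerfect hE) hE'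
  obtain ⟨F, h, e, hF, hFs, he⟩ := extend W (chart X) ts gs hts hgs (fun x _ => mem_opensRange_chart X x)
    ((DCoh.restrictD W.ι).obj E) (Groth.DerivedCoh.PCohDescent.isPerfect_rd W.ι hE)
    (fun i y hy => hET i ((mem_support_hd_rd W.ι E i y).1 hy)) hlift
    (Groth.Misc4.QCohDPerf.isQCohD_restrict (chart X) hq) (biprod.lift (𝟙 _) α ≫ σ.inv)
  have hfst : σ.inv ≫ (DCoh.restrictD W.ι).map biprod.fst = biprod.fst := by
    rw [Iso.inv_comp_eq]; exact (biprod.lift_fst _ _).symm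
  have hsnd : σ.inv ≫ (DCoh.restrictD W.ι).map biprod.snd = biprod.snd := by
    rw [Iso.inv_comp_eq]; exact (biprod.lift_snd _ _).symm
  have h1 : (DCoh.restrictD W.ι).map (h ≫ biprod.fst) = e.inv := by
    refine (cancel_epi e.hom).1 ?_
    rw [Functor.map_comp, reassoc_of% he, e.hom_inv_id, hfst, biprod.lift_fst]
  refine ⟨F, h ≫ biprod.fst, h ≫ biprod.snd, hF, hFs, h1 ▸ inferInstance, ?_⟩
  rw [h1, Iso.inv_comp_eq, Functor.map_comp, reassoc_of% he, hsnd, biprod.lift_snd]

/-- Restriction of a representing complex. -/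
theorem nonempty_rep {W : X.Opens} {G : DCoh.D X} :
    ∃ G₀ : CochainComplex X.Modules ℤ, ∃ _ : DCoh.toD X G₀ ≅ G,
      Nonempty (DerivedCategory.Q.obj ((DCoh.restrictCx W).obj G₀) ≅ (DCoh.restrictD W.ι).obj G) := by
  obtain ⟨G₀, ⟨e⟩⟩ := exists_rep G
  exact ⟨G₀, e, ⟨(rdQIso W.ι G₀).symm ≪≫ (DCoh.restrictD W.ι).mapIso e⟩⟩

end Groth.Misc4.AffineExtend
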