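import Groth.Agent.Misc4.MVExtZero

/-!
Gluing two objects of derived categories along two opens.
-/

universe u

open CategoryTheory CategoryTheory.Limits AlgebraicGeometry HomologicalComplex Pretriangulated

namespace Groth.Misc4.GlueTwo

open Groth.DerivedCoh.KFlat Groth.Misc4.PushRestrict Groth.Misc4.MVTriangle Groth.Misc4.MVExtZero

attribute [local instance] HasDerivedCategory.standard

set_option maxHeartbeats 1000000

local notation "up" => ComplexShape.up ℤ

theorem isIso_inl {D : Type*} [Category* D] [Preadditive D] [HasZeroObject D]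
    [HasShift D ℤ] [∀ n : ℤ, (shiftFunctor D n).Additive] [Pretriangulated D]
    (T : Triangle D) (hT : T ∈ distTriang D) {B₁ B₂ : D}
    (i₁ : B₁ ⟶ T.obj₂) (i₂ : B₂ ⟶ T.obj₂) (p₁ : T.obj₂ ⟶ B₁) (p₂ : T.obj₂ ⟶ B₂)
    (h₁ : i₁ ≫ p₁ = 𝟙 B₁) (h₁₂ : i₁ ≫ p₂ = 0) (htot : p₁ ≫ i₁ + p₂ ≫ i₂ = 𝟙 T.obj₂)
    [IsIso (T.mor₁ ≫ p₂)] : IsIso (i₁ ≫ T.mor₂) := by
  haveI : Mono T.mor₁ := mono_of_mono T.mor₁ p₂
  haveI : Epi T.mor₂ := (Triangle.mor₃_eq_zero_iff_epi₂ _ hT).1
    ((Triangle.mor₃_eq_zero_iff_mono₁ _ hT).2 (by assumption : Mono T.mor₁))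
  let q := inv (T.mor₁ ≫ p₂)
  have hq : T.mor₁ ≫ p₂ ≫ q = 𝟙 _ := by
    rw [← Category.assoc]; exact IsIso.hom_inv_id _
  obtain ⟨r, hr⟩ := Triangle.yoneda_exact₂ T hT (p₁ - p₂ ≫ q ≫ T.mor₁ ≫ p₁)
    (by rw [Preadditive.comp_sub, reassoc_of% hq, sub_self])
  have hr' : p₁ - p₂ ≫ q ≫ T.mor₁ ≫ p₁ = T.mor₂ ≫ r := hr
  have h0 : T.mor₁ ≫ T.mor₂ = 0 := comp_distTriang_mor_zero₁₂ T hT
  refine ⟨r, ?_, ?_⟩
  · rw [Category.assoc, ← hr', Preadditive.comp_sub, h₁, reassoc_of% h₁₂, zero_comp, sub_zero]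
  · rw [← cancel_epi T.mor₂, Category.comp_id, ← Category.assoc, ← hr', Preadditive.sub_comp]
    have e : T.mor₁ ≫ p₁ ≫ i₁ ≫ T.mor₂ = -(T.mor₁ ≫ p₂ ≫ i₂ ≫ T.mor₂) := by
      rw [eq_neg_iff_add_eq_zero, ← Preadditive.comp_add, ← Category.assoc p₁, ← Category.assoc p₂,
        ← Preadditive.add_comp, htot, Category.id_comp, h0]
    simp only [Category.assoc]
    rw [e]
    simp only [Preadditive.comp_neg, sub_neg_eq_add]
    have hq' : q ≫ T.mor₁ ≫ p₂ = 𝟙 _ := IsIso.inv_hom_id _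
    rw [reassoc_of% hq', ← Category.assoc p₁, ← Category.assoc p₂, ← Preadditive.add_comp, htot,
      Category.id_comp]

variable {X : Scheme.{u}} {U W : X.Opens}

/-- transpose data for `i_!(M|_W) ⟶ j_! M` -/
noncomputable def θhom (h : W ≤ U) : Scheme.Modules.restrictFunctor (X.homOfLE h) ⟶
    CxOX.extZero U.ι ⋙ Scheme.Modules.restrictFunctor W.ι :=
  Functor.whiskerRight (CxOX.extZeroAdj U.ι).unit (Scheme.Modules.restrictFunctor (X.homOfLE h)) ≫
    Functor.whiskerLeft (CxOX.extZero U.ι)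
      ((Scheme.Modules.restrictFunctorComp (X.homOfLE h) U.ι).inv ≫
        (Scheme.Modules.restrictFunctorCongr (X.homOfLE_ι h)).hom)

lemma isIso_θhom_app (h : W ≤ U) (M : (U : Scheme.{u}).Modules) : IsIso ((θhom h).app M) := by
  haveI := Groth.DerivedCoh.ExtZero.isIso_unit U.ι M
  simp only [θhom, NatTrans.comp_app, Functor.whiskerRight_app, Functor.whiskerLeft_app]
  infer_instance

/-- `i_!(M|_W) ⟶ j_! M` -/
noncomputable def θ (h : W ≤ U) :
    Scheme.Modules.restrictFunctor (X.homOfLE h) ⋙ CxOX.extZero W.ι ⟶ CxOX.extZero U.ι :=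
  Functor.whiskerRight (θhom h) (CxOX.extZero W.ι) ≫
    Functor.whiskerLeft (CxOX.extZero U.ι) (CxOX.extZeroAdj W.ι).counit

lemma isIso_stalk_θ (h : W ≤ U) (M : (U : Scheme.{u}).Modules) {x : X} (hx : x ∈ W) :
    IsIso ((st x).map ((θ h).app M)) := by
  haveI := isIso_θhom_app h M
  simp only [θ, NatTrans.comp_app, Functor.whiskerRight_app, Functor.whiskerLeft_app, Functor.map_comp]
  haveI := isIso_stalk_counit hx ((CxOX.extZero U.ι).obj M)
  exact IsIso.comp_isIso' inferInstance this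

lemma isIso_restrict_θ {V : X.Opens} (h : W ≤ U) (hV : ∀ x ∈ V, x ∈ U → x ∈ W)
    (M : (U : Scheme.{u}).Modules) : IsIso ((Scheme.Modules.restrictFunctor V.ι).map ((θ h).app M)) := by
  refine Groth.QCohMod.isIso_of_stalk _ fun y =>
    (NatIso.isIso_map_iff (Scheme.Modules.restrictStalkNatIso V.ι y) _).2 ?_
  by_cases hy : V.ι y ∈ W
  · exact isIso_stalk_θ h M hy
  · refine isIso_of_source_target_iso_zero _ ?_ ?_
    · exact (Groth.DerivedCoh.ExtZero.isZero_stalk_obj W.ι _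
        (by rwa [Scheme.Opens.opensRange_ι])).isoZero
    · exact (Groth.DerivedCoh.ExtZero.isZero_stalk_obj U.ι _
        (by rw [Scheme.Opens.opensRange_ι]; exact fun h' => hy (hV _ y.2 h'))).isoZero

variable {V : X.Opens} [PreservesFiniteLimits (Scheme.Modules.restrictFunctor V.ι)]

/-- restriction of the map in the derived category is invertible -/
lemma isIso_restrictD_θ (h : W ≤ U) (hV : ∀ x ∈ V, x ∈ U → x ∈ W)
    (K : CochainComplex (U : Scheme.{u}).Modules ℤ) :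
    IsIso ((DCoh.restrictD V.ι).map
      ((L₀ X).map ((NatTrans.mapHomologicalComplex (θ h) up).app K))) := by
  refine (NatIso.isIso_map_iff (restrictDIso V.ι) _).2 ?_
  haveI : IsIso ((resCx V.ι).map ((NatTrans.mapHomologicalComplex (θ h) up).app K)) := by
    haveI : ∀ i, IsIso (((resCx V.ι).map ((NatTrans.mapHomologicalComplex (θ h) up).app K)).f i) :=
      fun i => isIso_restrict_θ h hV (K.X i)
    exact HomologicalComplex.Hom.isIso_of_components _
  exact (L₀ _).map_isIso _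

/-- `(j_! K)|_U ≅ K` -/
noncomputable def restrictEzIso [PreservesFiniteLimits (Scheme.Modules.restrictFunctor U.ι)]
    (K : CochainComplex (U : Scheme.{u}).Modules ℤ) :
    (DCoh.restrictD U.ι).obj ((L₀ X).obj (((CxOX.extZero U.ι).mapHomologicalComplex up).obj K)) ≅
      (L₀ _).obj K :=
  haveI : ∀ M, IsIso ((CxOX.extZeroAdj U.ι).unit.app M) := Groth.DerivedCoh.ExtZero.isIso_unit U.ι
  haveI := NatIso.isIso_of_isIso_app (CxOX.extZeroAdj U.ι).unit
  (restrictDIso U.ι).app _ ≪≫ (L₀ _).mapIso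
    ((NatIso.mapHomologicalComplex (asIso (CxOX.extZeroAdj U.ι).unit).symm up).app K ≪≫
      (Functor.mapHomologicalComplexIdIso _ up).app K)

/-- extension by zero of a restriction to a smaller open, computed termwise -/
noncomputable def ezResIso (h : W ≤ U) [PreservesFiniteLimits (CxOX.extZero W.ι)]
    [PreservesFiniteLimits (Scheme.Modules.restrictFunctor (X.homOfLE h))]
    {A : DCoh.D (U : Scheme.{u})} (K : CochainComplex (U : Scheme.{u}).Modules ℤ) (e : A ≅ (L₀ _).obj K) :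
    (CxOX.extZeroD W.ι).obj ((DCoh.restrictD (X.homOfLE h)).obj A) ≅
      (LB X.Modules).obj (((Scheme.Modules.restrictFunctor (X.homOfLE h) ⋙ CxOX.extZero W.ι).mapHomologicalComplex up).obj K) :=
  (CxOX.extZeroD W.ι).mapIso ((DCoh.restrictD (X.homOfLE h)).mapIso e ≪≫
      (restrictDIso (X.homOfLE h)).app K ≪≫ (DerivedCategory.quotientCompQhIso _).app _) ≪≫
    (CxOX.extZero W.ι).mapDerivedCategoryFactors.app _ ≪≫
    ((DerivedCategory.quotientCompQhIso X.Modules).app _).symm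

lemma map_eq_id {C D : Type*} [Category* C] [Category* D] (R : C ⥤ D) {P Q : C} (f : P ⟶ Q) (g : Q ⟶ P)
    (h : f ≫ g = 𝟙 P) : R.map f ≫ R.map g = 𝟙 _ := by
  rw [← R.map_comp, h, R.map_id]

lemma map_eq_zero {C D : Type*} [Category* C] [Category* D] [Preadditive C] [Preadditive D]
    (R : C ⥤ D) [R.Additive] {P Q S : C} (f : P ⟶ Q) (g : Q ⟶ S)
    (h : f ≫ g = 0) : R.map f ≫ R.map g = 0 := by
  rw [← R.map_comp, h, R.map_zero]

lemma map_total {C D : Type*} [Category* C] [Category* D] [Preadditive C] [Preadditive D]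
    (R : C ⥤ D) [R.Additive] {P Q S : C} (p : S ⟶ P) (i : P ⟶ S) (p' : S ⟶ Q) (i' : Q ⟶ S)
    (h : p ≫ i + p' ≫ i' = 𝟙 S) : R.map p ≫ R.map i + R.map p' ≫ R.map i' = 𝟙 _ := by
  rw [← R.map_comp, ← R.map_comp, ← R.map_add, h, R.map_id]

theorem glue (U V : X.Opens)
    [PreservesFiniteLimits (Scheme.Modules.restrictFunctor U.ι)]
    [PreservesFiniteLimits (Scheme.Modules.restrictFunctor V.ι)]
    [PreservesFiniteLimits (Scheme.Modules.restrictFunctor (X.homOfLE (inf_le_left : U ⊓ V ≤ U)))]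
    [PreservesFiniteLimits (Scheme.Modules.restrictFunctor (X.homOfLE (inf_le_right : U ⊓ V ≤ V)))]
    (A : DCoh.D (U : Scheme.{u})) (B : DCoh.D (V : Scheme.{u}))
    (c : (DCoh.restrictD (X.homOfLE (inf_le_left : U ⊓ V ≤ U))).obj A ≅
      (DCoh.restrictD (X.homOfLE (inf_le_right : U ⊓ V ≤ V))).obj B) :
    ∃ F : DCoh.D X, Nonempty ((DCoh.restrictD U.ι).obj F ≅ A) ∧
      Nonempty ((DCoh.restrictD V.ι).obj F ≅ B) := by
  haveI := Groth.DerivedCoh.ExtZero.preservesFiniteLimits_extZero (U ⊓ V).ι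
  haveI := Localization.essSurj (L₀ (U : Scheme.{u})) (HomologicalComplex.quasiIso _ up)
  haveI := Localization.essSurj (L₀ (V : Scheme.{u})) (HomologicalComplex.quasiIso _ up)
  let KA := (L₀ (U : Scheme.{u})).objPreimage A
  let KB := (L₀ (V : Scheme.{u})).objPreimage B
  let eA : A ≅ (L₀ _).obj KA := ((L₀ (U : Scheme.{u})).objObjPreimageIso A).symm
  let eB : B ≅ (L₀ _).obj KB := ((L₀ (V : Scheme.{u})).objObjPreimageIso B).symm
  let f₁ := (ezResIso (inf_le_left : U ⊓ V ≤ U) KA eA).hom ≫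
    (L₀ X).map ((NatTrans.mapHomologicalComplex (θ (inf_le_left : U ⊓ V ≤ U)) up).app KA)
  let f₂ := (CxOX.extZeroD (U ⊓ V).ι).map c.hom ≫
    (ezResIso (inf_le_right : U ⊓ V ≤ V) KB eB).hom ≫
    (L₀ X).map ((NatTrans.mapHomologicalComplex (θ (inf_le_right : U ⊓ V ≤ V)) up).app KB)
  obtain ⟨F, g, δ, hT⟩ := distinguished_cocone_triangle (biprod.lift f₁ f₂)
  refine ⟨F, ⟨?_⟩, ⟨?_⟩⟩
  · let R := DCoh.restrictD U.ι
    have hi : IsIso (R.map f₂) := by
      haveI := isIso_restrictD_θ (V := U) (inf_le_right : U ⊓ V ≤ V) (fun x h h' => ⟨h, h'⟩) KB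
      simp only [f₂, Functor.map_comp]
      exact IsIso.comp_isIso' inferInstance (IsIso.comp_isIso' inferInstance this)
    have hRT := R.map_distinguished _ hT
    haveI : IsIso ((R.mapTriangle.obj (Triangle.mk (biprod.lift f₁ f₂) g δ)).mor₁ ≫
        R.map biprod.snd) := by
      change IsIso (R.map (biprod.lift f₁ f₂) ≫ R.map biprod.snd)
      rw [← Functor.map_comp, biprod.lift_snd]
      exact hi
    have := isIso_inl _ hRT (R.map biprod.inl) (R.map biprod.inr) (R.map biprod.fst) (R.map biprod.snd)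
      (map_eq_id R _ _ biprod.inl_fst) (map_eq_zero R _ _ biprod.inl_snd)
      (map_total R _ _ _ _ biprod.total)
    exact (@asIso _ _ _ _ _ this).symm ≪≫ restrictEzIso KA ≪≫ eA.symm
  · let R := DCoh.restrictD V.ι
    have hi : IsIso (R.map f₁) := by
      haveI := isIso_restrictD_θ (V := V) (inf_le_left : U ⊓ V ≤ U) (fun x h h' => ⟨h', h⟩) KA
      simp only [f₁, Functor.map_comp]
      exact IsIso.comp_isIso' inferInstance this
    have hRT := R.map_distinguished _ hT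
    haveI : IsIso ((R.mapTriangle.obj (Triangle.mk (biprod.lift f₁ f₂) g δ)).mor₁ ≫
        R.map biprod.fst) := by
      change IsIso (R.map (biprod.lift f₁ f₂) ≫ R.map biprod.fst)
      rw [← Functor.map_comp, biprod.lift_fst]
      exact hi
    have := isIso_inl _ hRT (R.map biprod.inr) (R.map biprod.inl) (R.map biprod.snd) (R.map biprod.fst)
      (map_eq_id R _ _ biprod.inr_snd) (map_eq_zero R _ _ biprod.inr_fst)
      (map_total R _ _ _ _ (by rw [add_comm]; exact biprod.total))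
    exact (@asIso _ _ _ _ _ this).symm ≪≫ restrictEzIso KB ≪≫ eB.symm

end Groth.Misc4.GlueTwo
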