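import Groth.Agent.Misc4.KoszulSummand
import Groth.Agent.Misc4.GlueTwo

/-!
# Gluing morphisms into a fixed object along two opens
-/

universe u

open CategoryTheory CategoryTheory.Limits Pretriangulated AlgebraicGeometry
open Groth.KTheory.Perf
open Groth.Misc4.ApproxExtend (isZero_stalk_iff support_of_iso mem_support_hd_rd)

attribute [local instance] HasDerivedCategory.standard

set_option backward.isDefEq.respectTransparency false
set_option backward.defeqAttrib.useBackward true
set_option synthInstance.maxHeartbeats 400000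
set_option maxHeartbeats 1000000

namespace Groth.Misc4.ApproxGlue

variable {X U V : Scheme.{u}}

/-- Restriction inverts a morphism whose cone is supported away from the open. -/
theorem isIso_rd_of_support (i : U ⟶ X) [IsOpenImmersion i] [PreservesFiniteLimits (Scheme.Modules.restrictFunctor i)]
    (T : Triangle (DCoh.D X)) (hT : T ∈ distTriang _)
    (h : ∀ n, ∀ y : U, i y ∉ CohB1.support (DCoh.HD T.obj₃ n)) : IsIso ((DCoh.restrictD i).map T.mor₁) := by
  refine (Triangle.isZero₃_iff_isIso₁ _ ((DCoh.restrictD i).map_distinguished _ hT)).1 ?_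
  refine Groth.DerivedCoh.PerfPush.isZero_of_HD fun n => Groth.Misc4.ApproxExtend.isZero_iff_support.2 ?_
  exact Set.eq_empty_iff_forall_notMem.2 fun y hy => h n y ((mem_support_hd_rd i _ n y).1 hy)

/-- Shifts do not change supports. -/
lemma support_hd_shift (K : DCoh.D X) (n i : ℤ) :
    CohB1.support (DCoh.HD (K⟦n⟧) i) = CohB1.support (DCoh.HD K (n + i)) :=
  support_of_iso ((Groth.DerivedCoh.PCoh.hShiftIso n i (n + i) rfl).app K)

/-- Perfection near the points of an open immersion. -/
theorem exists_perfOn_of_rd (i : U ⟶ X) [IsOpenImmersion i] {K : DCoh.D X}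
    (h : DCoh.IsPerfect ((DCoh.restrictD i).obj K)) (y : U) : ∃ W : X.Opens, i y ∈ W ∧ PerfOn K W := by
  obtain ⟨W, hy, F, hF, ⟨e⟩⟩ := (isPerfect_iff _).1 h y
  obtain ⟨c⟩ := nonempty_rdComp (k := W.ι) (j := i) (l := W.ι ≫ i) rfl K
  exact ⟨(W.ι ≫ i).opensRange, ⟨⟨y, hy⟩, rfl⟩, perfOn_of_range _ hF (c ≪≫ e)⟩

section ExtZero

variable (j : V ⟶ X) [IsOpenImmersion j] [PreservesFiniteLimits (Scheme.Modules.restrictFunctor j)]

local notation "adjE" => Groth.DerivedCoh.ExtZero.extZeroDAdj j

lemma isIso_rd_counit (M : DCoh.D X) : IsIso ((DCoh.restrictD j).map ((adjE).counit.app M)) := by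
  haveI := Groth.Misc4.ApproxExtend.isIso_extZeroDAdj_unit j ((DCoh.restrictD j).obj M)
  exact IsIso.of_isIso_fac_left ((adjE).right_triangle_components M)

lemma rd_symm {P : DCoh.D V} {M : DCoh.D X} (α : P ⟶ (DCoh.restrictD j).obj M) :
    (adjE).unit.app P ≫ (DCoh.restrictD j).map (((adjE).homEquiv P M).symm α) = α :=
  ((adjE).homEquiv_unit _ _ _).symm.trans (((adjE).homEquiv P M).apply_symm_apply α)

/-- The support of an extension by zero. -/
lemma mem_support_ext (P : DCoh.D V) (i : ℤ) {x : X} (hx : x ∈ CohB1.support (DCoh.HD ((CxOX.extZeroD j).obj P) i)) :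
    ∃ y, j y = x ∧ y ∈ CohB1.support (DCoh.HD P i) := by
  by_cases hxU : x ∈ j.opensRange
  · obtain ⟨y, rfl⟩ := hxU
    refine ⟨y, rfl, ?_⟩
    haveI := Groth.Misc4.ApproxExtend.isIso_extZeroDAdj_unit j P
    have h := (mem_support_hd_rd j _ i y).2 hx
    exact (Set.ext_iff.1 (support_of_iso ((DerivedCategory.homologyFunctor _ i).mapIso (asIso ((adjE).unit.app P)))) y).2 h
  · exact absurd hx (isZero_stalk_iff.1 ((Groth.DerivedCoh.ExtZero.isZero_stalk_obj j (DCoh.HD P i) hxU).of_iso
      ((Groth.QCohMod.stalk x).mapIso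
        (Groth.Calg1.DualSch.nonempty_homology_mapDerivedCategory (CxOX.extZero j) P i).some)))

/-- An object supported on the open is the extension by zero of its restriction. -/
theorem isIso_counit_of_support (M : DCoh.D X)
    (hM : ∀ i, CohB1.support (DCoh.HD M i) ⊆ (j.opensRange : Set X)) : IsIso ((adjE).counit.app M) := by
  obtain ⟨C, v, w, hT⟩ := distinguished_cocone_triangle ((adjE).counit.app M)
  refine (Triangle.isZero₃_iff_isIso₁ _ hT).1 (Groth.DerivedCoh.PerfPush.isZero_of_HD fun i =>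
    Groth.Misc4.ApproxExtend.isZero_iff_support.2 (Set.eq_empty_iff_forall_notMem.2 fun x hx => ?_))
  by_cases hxU : x ∈ j.opensRange
  · obtain ⟨y, rfl⟩ := hxU
    have hz : IsZero ((DCoh.restrictD j).obj C) :=
      (Triangle.isZero₃_iff_isIso₁ _ ((DCoh.restrictD j).map_distinguished _ hT)).2 (isIso_rd_counit j M)
    exact Set.eq_empty_iff_forall_notMem.1 (Groth.Misc4.ApproxExtend.isZero_iff_support.1
      ((DerivedCategory.homologyFunctor _ i).map_isZero hz)) y ((mem_support_hd_rd j C i y).2 hx)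
  · refine isZero_stalk_iff.1 ?_ hx
    exact ((DerivedCategory.HomologySequence.exact₃ _ hT i (i + 1) rfl).map
      (Groth.QCohMod.stalk x)).isZero_of_both_zeros
      ((isZero_stalk_iff.2 fun h => hxU (hM i h)).eq_of_src _ _)
      ((isZero_stalk_iff.2 fun h => hxU (by
        obtain ⟨y, hy, -⟩ := mem_support_ext j _ (i + 1) h
        exact ⟨y, hy⟩)).eq_of_tgt _ _)

/-- Maps out of an object supported on the open are detected there. -/
theorem rd_injective {M N : DCoh.D X} (hM : ∀ i, CohB1.support (DCoh.HD M i) ⊆ (j.opensRange : Set X))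
    {f g : M ⟶ N} (h : (DCoh.restrictD j).map f = (DCoh.restrictD j).map g) : f = g := by
  haveI := isIso_counit_of_support j M hM
  refine (cancel_epi ((adjE).counit.app M)).1 ?_
  exact ((adjE).counit.naturality f).symm.trans
    ((congrArg (fun t => (CxOX.extZeroD j).map t ≫ (adjE).counit.app N) h).trans ((adjE).counit.naturality g))

/-- Maps from an object supported on the open extend from it. -/
theorem rd_surjective {M N : DCoh.D X} (hM : ∀ i, CohB1.support (DCoh.HD M i) ⊆ (j.opensRange : Set X))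
    (φ : (DCoh.restrictD j).obj M ⟶ (DCoh.restrictD j).obj N) :
    ∃ f : M ⟶ N, (DCoh.restrictD j).map f = φ := by
  haveI := isIso_counit_of_support j M hM
  haveI := isIso_rd_counit j M
  refine ⟨inv ((adjE).counit.app M) ≫ ((adjE).homEquiv _ N).symm φ, ?_⟩
  rw [Functor.map_comp, Functor.map_inv, IsIso.inv_comp_eq]
  haveI := Groth.Misc4.ApproxExtend.isIso_extZeroDAdj_unit j ((DCoh.restrictD j).obj M)
  refine (cancel_epi ((adjE).unit.app ((DCoh.restrictD j).obj M))).1 ((rd_symm j φ).trans ?_)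
  exact ((congrArg (· ≫ φ) ((adjE).right_triangle_components M)).trans (Category.id_comp φ)).symm.trans (Category.assoc _ _ _)

end ExtZero

/-- Gluing morphisms into a fixed object. -/
theorem glue (i : U ⟶ X) [IsOpenImmersion i] [PreservesFiniteLimits (Scheme.Modules.restrictFunctor i)]
    (j : V ⟶ X) [IsOpenImmersion j] [PreservesFiniteLimits (Scheme.Modules.restrictFunctor j)]
    {PA PB PC E : DCoh.D X} (s : PC ⟶ PA) (t : PC ⟶ PB) (α : PA ⟶ E) (β : PB ⟶ E) (w : s ≫ α = t ≫ β)
    [IsIso ((DCoh.restrictD j).map s)] [IsIso ((DCoh.restrictD i).map t)] :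
    ∃ (F : DCoh.D X) (h : F ⟶ E) (a : PA ⟶ F) (b : PB ⟶ F), a ≫ h = α ∧ b ≫ h = β ∧
      IsIso ((DCoh.restrictD i).map a) ∧ IsIso ((DCoh.restrictD j).map b) := by
  obtain ⟨F, g, δ, hT⟩ := distinguished_cocone_triangle (biprod.lift s t)
  have h0 : (Triangle.mk (biprod.lift s t) g δ).mor₁ ≫ biprod.desc α (-β) = 0 := by
    show biprod.lift s t ≫ _ = 0
    rw [biprod.lift_desc, Preadditive.comp_neg, w, add_neg_cancel]
  obtain ⟨h, hh⟩ := Triangle.yoneda_exact₂ _ hT _ h0
  have hh' : g ≫ h = biprod.desc α (-β) := hh.symm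
  refine ⟨F, h, biprod.inl ≫ g, -(biprod.inr ≫ g), ?_, ?_, ?_, ?_⟩
  · rw [Category.assoc, hh', biprod.inl_desc]
  · rw [Preadditive.neg_comp, Category.assoc, hh', biprod.inr_desc, neg_neg]
  · let R := DCoh.restrictD i
    have hRT := R.map_distinguished _ hT
    haveI : IsIso ((R.mapTriangle.obj (Triangle.mk (biprod.lift s t) g δ)).mor₁ ≫ R.map biprod.snd) := by
      change IsIso (R.map (biprod.lift s t) ≫ R.map biprod.snd)
      rw [← Functor.map_comp, biprod.lift_snd]
      infer_instance
    rw [Functor.map_comp]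
    exact GlueTwo.isIso_inl _ hRT (R.map biprod.inl) (R.map biprod.inr) (R.map biprod.fst) (R.map biprod.snd)
      (GlueTwo.map_eq_id R _ _ biprod.inl_fst) (GlueTwo.map_eq_zero R _ _ biprod.inl_snd)
      (GlueTwo.map_total R _ _ _ _ biprod.total)
  · let R := DCoh.restrictD j
    have hRT := R.map_distinguished _ hT
    haveI : IsIso ((R.mapTriangle.obj (Triangle.mk (biprod.lift s t) g δ)).mor₁ ≫ R.map biprod.fst) := by
      change IsIso (R.map (biprod.lift s t) ≫ R.map biprod.fst)
      rw [← Functor.map_comp, biprod.lift_fst]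
      infer_instance
    haveI hi : IsIso (R.map biprod.inr ≫ R.map g) :=
      GlueTwo.isIso_inl _ hRT (R.map biprod.inr) (R.map biprod.inl) (R.map biprod.snd) (R.map biprod.fst)
        (GlueTwo.map_eq_id R _ _ biprod.inr_snd) (GlueTwo.map_eq_zero R _ _ biprod.inr_fst)
        (GlueTwo.map_total R _ _ _ _ (by rw [add_comm]; exact biprod.total))
    rw [Functor.map_neg, Functor.map_comp]
    exact ⟨-inv (R.map biprod.inr ≫ R.map g), (Preadditive.neg_comp_neg _ _).trans (IsIso.hom_inv_id _),
      (Preadditive.neg_comp_neg _ _).trans (IsIso.inv_hom_id _)⟩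

end Groth.Misc4.ApproxGlue
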