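import Groth.Agent.Misc4.MVTriangle

/-!
The Mayer–Vietoris triangle for extensions by zero, and gluing of two objects of the derived
category along two opens.
-/

universe u

open CategoryTheory CategoryTheory.Limits AlgebraicGeometry HomologicalComplex Opposite TopologicalSpace

namespace Groth.Misc4.MVExtZero

open Groth.DerivedCoh.KFlat Groth.Misc4.PushRestrict Groth.Misc4.MVTriangle

attribute [local instance] HasDerivedCategory.standard

set_option maxHeartbeats 1000000

local notation "up" => ComplexShape.up ℤ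

variable {X : Scheme.{u}}

/-- the stalk functor -/
noncomputable abbrev st (x : X) := Groth.QCohMod.stalk (X := X) x

theorem shortExact_of_stalk {M₀ M₁ M₂ M₃ : X.Modules} {a : M₀ ⟶ M₁} {b : M₀ ⟶ M₂} {c : M₁ ⟶ M₃}
    {d : M₂ ⟶ M₃} (w : biprod.lift a b ≫ biprod.desc c (-d) = 0)
    (inj : ∀ x s, (st x).map a s = 0 → (st x).map b s = 0 → s = 0)
    (mid : ∀ x s t, (st x).map c s = (st x).map d t → ∃ r, (st x).map a r = s ∧ (st x).map b r = t)
    (surj : ∀ x v, (∃ s, (st x).map c s = v) ∨ (∃ t, (st x).map d t = v)) :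
    (ShortComplex.mk (biprod.lift a b) (biprod.desc c (-d)) w).ShortExact := by
  have hl : ∀ x s,
      (st x).map (biprod.fst : M₁ ⊞ M₂ ⟶ M₁) ((st x).map (biprod.lift a b) s) = (st x).map a s ∧
      (st x).map (biprod.snd : M₁ ⊞ M₂ ⟶ M₂) ((st x).map (biprod.lift a b) s) = (st x).map b s :=
    fun x s => ⟨by rw [← ConcreteCategory.comp_apply, ← Functor.map_comp, biprod.lift_fst],
      by rw [← ConcreteCategory.comp_apply, ← Functor.map_comp, biprod.lift_snd]⟩
  have tot : ∀ x (z : (st x).obj (M₁ ⊞ M₂)),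
      (st x).map (biprod.inl : M₁ ⟶ M₁ ⊞ M₂) ((st x).map (biprod.fst : M₁ ⊞ M₂ ⟶ M₁) z) +
        (st x).map (biprod.inr : M₂ ⟶ M₁ ⊞ M₂) ((st x).map (biprod.snd : M₁ ⊞ M₂ ⟶ M₂) z) = z := by
    intro x z
    have e : (st x).map (biprod.fst : M₁ ⊞ M₂ ⟶ M₁) ≫ (st x).map biprod.inl +
        (st x).map (biprod.snd : M₁ ⊞ M₂ ⟶ M₂) ≫ (st x).map biprod.inr = 𝟙 _ := by
      rw [← Functor.map_comp, ← Functor.map_comp, ← Functor.map_add, biprod.total, CategoryTheory.Functor.map_id]
    exact congr($e z)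
  refine ShortComplex.ShortExact.mk' ?_ ?_ ?_
  · rw [Groth.QCohMod.exact_iff_stalk]
    intro x
    rw [ShortComplex.ab_exact_iff]
    intro z hz
    have e : biprod.desc c (-d) = biprod.fst ≫ c - biprod.snd ≫ d := by
      apply biprod.hom_ext' <;> simp
    have h2 : (st x).map (biprod.desc c (-d)) =
        (st x).map biprod.fst ≫ (st x).map c - (st x).map biprod.snd ≫ (st x).map d := by
      rw [e, Functor.map_sub, Functor.map_comp, Functor.map_comp]
    have hz' : (st x).map c ((st x).map biprod.fst z) = (st x).map d ((st x).map biprod.snd z) :=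
      sub_eq_zero.1 ((congr($h2 z)).symm.trans hz)
    obtain ⟨r, hr₁, hr₂⟩ := mid x _ _ hz'
    refine ⟨r, ?_⟩
    change (st x).map (biprod.lift a b) r = z
    rw [← tot x z, ← tot x ((st x).map (biprod.lift a b) r), (hl x r).1, (hl x r).2, hr₁, hr₂]
  · rw [Groth.QCohMod.mono_iff_stalk]
    intro x
    refine (injective_iff_map_eq_zero _).2 fun s hs => inj x s ?_ ?_
    · rw [← (hl x s).1]
      exact (congrArg _ hs).trans (map_zero _)
    · rw [← (hl x s).2]
      exact (congrArg _ hs).trans (map_zero _)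
  · rw [Groth.QCohMod.epi_iff_stalk]
    intro x v
    rcases surj x v with ⟨s, hs⟩ | ⟨t, ht⟩
    · refine ⟨(st x).map biprod.inl s, ?_⟩
      rw [← ConcreteCategory.comp_apply, ← Functor.map_comp, biprod.inl_desc, hs]
    · refine ⟨(st x).map biprod.inr (-t), ?_⟩
      rw [← ConcreteCategory.comp_apply, ← Functor.map_comp, biprod.inr_desc, Functor.map_neg,
        map_neg, ← ht]
      exact congrArg Neg.neg (rfl : (-(st x).map d) t = -((st x).map d t)) |>.trans (neg_neg _)

/-- `j_! j^*` -/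
noncomputable abbrev L (U : X.Opens) : X.Modules ⥤ X.Modules :=
  Scheme.Modules.restrictFunctor U.ι ⋙ CxOX.extZero U.ι

/-- the counit `j_! j^* M → M` -/
noncomputable abbrev counit (U : X.Opens) : L U ⟶ 𝟭 X.Modules := (CxOX.extZeroAdj U.ι).counit

lemma isIso_stalk_counit {U : X.Opens} {x : X} (hx : x ∈ U) (M : X.Modules) :
    IsIso ((st x).map ((counit U).app M)) := by
  have : IsIso ((Scheme.Modules.restrictFunctor U.ι).map ((counit U).app M)) := by
    haveI := Groth.DerivedCoh.ExtZero.isIso_unit U.ι ((Scheme.Modules.restrictFunctor U.ι).obj M)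
    exact IsIso.of_isIso_fac_left ((CxOX.extZeroAdj U.ι).right_triangle_components M)
  exact (NatIso.isIso_map_iff (Scheme.Modules.restrictStalkNatIso U.ι ⟨x, hx⟩) _).1
    (inferInstanceAs (IsIso ((Groth.QCohMod.stalk (X := (U : Scheme.{u})) ⟨x, hx⟩).map
      ((Scheme.Modules.restrictFunctor U.ι).map ((counit U).app M)))))

lemma subsingleton_stalk {U : X.Opens} {x : X} (hx : x ∉ U) (M : X.Modules) :
    Subsingleton ((st x).obj ((L U).obj M)) :=
  AddCommGrpCat.subsingleton_of_isZero
    (Groth.DerivedCoh.ExtZero.isZero_stalk_obj U.ι _ (by rwa [Scheme.Opens.opensRange_ι]))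

variable {U W : X.Opens}

lemma isIso_L_map_counit (h : W ≤ U) (M : X.Modules) : IsIso ((L W).map ((counit U).app M)) := by
  haveI : IsIso ((Scheme.Modules.restrictFunctor W.ι).map ((counit U).app M)) :=
    Groth.QCohMod.isIso_of_stalk _ fun y =>
      (NatIso.isIso_map_iff (Scheme.Modules.restrictStalkNatIso W.ι y) _).2
        (isIso_stalk_counit (h y.2) M)
  exact (CxOX.extZero W.ι).map_isIso _

/-- the extension map for a smaller open -/
noncomputable def ρ (h : W ≤ U) : L W ⟶ L U :=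
  haveI : ∀ M, IsIso ((Functor.whiskerRight (counit U) (L W)).app M) := isIso_L_map_counit h
  haveI := NatIso.isIso_of_isIso_app (Functor.whiskerRight (counit U) (L W))
  inv (Functor.whiskerRight (counit U) (L W)) ≫ Functor.whiskerLeft (L U) (counit W)

lemma ρ_counit (h : W ≤ U) : ρ h ≫ counit U = counit W := by
  haveI : ∀ M, IsIso ((Functor.whiskerRight (counit U) (L W)).app M) := isIso_L_map_counit h
  haveI := NatIso.isIso_of_isIso_app (Functor.whiskerRight (counit U) (L W))
  rw [ρ, Category.assoc, IsIso.inv_comp_eq]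
  ext1
  ext1 M
  exact ((counit W).naturality ((counit U).app M)).symm

theorem shortExact_ez (U V : X.Opens) (hUV : U ⊔ V = ⊤) (M : X.Modules)
    (w : biprod.lift ((ρ (inf_le_left : U ⊓ V ≤ U)).app M) ((ρ (inf_le_right : U ⊓ V ≤ V)).app M) ≫
      biprod.desc ((counit U).app M) (-(counit V).app M) = 0) :
    (ShortComplex.mk _ _ w).ShortExact := by
  have hmem : ∀ x, x ∈ U ∨ x ∈ V := fun x => by
    have : x ∈ U ⊔ V := hUV ▸ trivial
    exact this
  have hU : ∀ x s, (st x).map ((counit U).app M) ((st x).map ((ρ (inf_le_left : U ⊓ V ≤ U)).app M) s) =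
      (st x).map ((counit (U ⊓ V)).app M) s := fun x s => by
    rw [← ConcreteCategory.comp_apply, ← Functor.map_comp, ← NatTrans.comp_app, ρ_counit]
  have hV : ∀ x s, (st x).map ((counit V).app M) ((st x).map ((ρ (inf_le_right : U ⊓ V ≤ V)).app M) s) =
      (st x).map ((counit (U ⊓ V)).app M) s := fun x s => by
    rw [← ConcreteCategory.comp_apply, ← Functor.map_comp, ← NatTrans.comp_app, ρ_counit]
  have bij : ∀ (A : X.Opens) (x : X), x ∈ A → Function.Bijective ((st x).map ((counit A).app M)) :=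
    fun A x hx => by
      haveI := isIso_stalk_counit hx M
      exact ConcreteCategory.bijective_of_isIso _
  refine shortExact_of_stalk w (fun x s hs _ => ?_) (fun x s t hst => ?_) (fun x v => ?_)
  · by_cases hx : x ∈ U ⊓ V
    · refine (bij _ x hx).1 ?_
      rw [← hU x s, hs, map_zero, map_zero]
    · exact @Subsingleton.elim _ (subsingleton_stalk hx M) _ _
  · by_cases hx : x ∈ U ⊓ V
    · obtain ⟨r, hr⟩ := (bij _ x hx).2 ((st x).map ((counit U).app M) s)
      exact ⟨r, (bij U x hx.1).1 ((hU x r).trans hr), (bij V x hx.2).1 (((hV x r).trans hr).trans hst)⟩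
    · refine ⟨0, ?_⟩
      rw [map_zero, map_zero]
      rcases hmem x with h | h
      · have ht : t = 0 := @Subsingleton.elim _ (subsingleton_stalk (fun h' => hx ⟨h, h'⟩) M) _ _
        subst ht
        rw [map_zero] at hst
        exact ⟨((bij U x h).1 (hst.trans (map_zero _).symm)).symm, rfl⟩
      · have hs : s = 0 := @Subsingleton.elim _ (subsingleton_stalk (fun h' => hx ⟨h', h⟩) M) _ _
        subst hs
        rw [map_zero] at hst
        exact ⟨rfl, ((bij V x h).1 (hst.symm.trans (map_zero _).symm)).symm⟩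
  · rcases hmem x with h | h
    · exact Or.inl ((bij U x h).2 v)
    · exact Or.inr ((bij V x h).2 v)

/-- extension by zero of a restriction, computed termwise -/
noncomputable def extRestrictIso (A : X.Opens) [PreservesFiniteLimits (CxOX.extZero A.ι)]
    {E : DCoh.D X} (K : CochainComplex X.Modules ℤ) (e : E ≅ (L₀ X).obj K) :
    (CxOX.extZeroD A.ι).obj ((DCoh.restrictD A.ι).obj E) ≅
      (LB X.Modules).obj (((L A).mapHomologicalComplex up).obj K) :=
  (CxOX.extZeroD A.ι).mapIso ((DCoh.restrictD A.ι).mapIso e ≪≫ (restrictDIso A.ι).app K ≪≫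
      (DerivedCategory.quotientCompQhIso _).app _) ≪≫
    (CxOX.extZero A.ι).mapDerivedCategoryFactors.app _ ≪≫
    ((DerivedCategory.quotientCompQhIso X.Modules).app _).symm

theorem exists_triangle_ez (U V : X.Opens) (hUV : U ⊔ V = ⊤)
    [PreservesFiniteLimits (CxOX.extZero U.ι)] [PreservesFiniteLimits (CxOX.extZero V.ι)]
    [PreservesFiniteLimits (CxOX.extZero (U ⊓ V).ι)] (E : DCoh.D X) :
    ∃ (a : (CxOX.extZeroD (U ⊓ V).ι).obj ((DCoh.restrictD (U ⊓ V).ι).obj E) ⟶ ((CxOX.extZeroD U.ι).obj ((DCoh.restrictD U.ι).obj E) ⊞ (CxOX.extZeroD V.ι).obj ((DCoh.restrictD V.ι).obj E))) (b : ((CxOX.extZeroD U.ι).obj ((DCoh.restrictD U.ι).obj E) ⊞ (CxOX.extZeroD V.ι).obj ((DCoh.restrictD V.ι).obj E)) ⟶ E) (c : E ⟶ ((CxOX.extZeroD (U ⊓ V).ι).obj ((DCoh.restrictD (U ⊓ V).ι).obj E))⟦(1 : ℤ)⟧),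
      Pretriangulated.Triangle.mk a b c ∈ Pretriangulated.distinguishedTriangles := by
  haveI := Localization.essSurj (L₀ X) (HomologicalComplex.quasiIso X.Modules up)
  let K := (L₀ X).objPreimage E
  let e : E ≅ (L₀ X).obj K := ((L₀ X).objObjPreimageIso E).symm
  let e₃ : E ≅ (LB X.Modules).obj (((𝟭 X.Modules).mapHomologicalComplex up).obj K) :=
    e ≪≫ (LB X.Modules).mapIso ((Functor.mapHomologicalComplexIdIso X.Modules up).symm.app K)
  exact exists_triangle (F₀ := L (U ⊓ V)) (F₁ := L U) (F₂ := L V) (F₃ := 𝟭 X.Modules)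
    (ρ inf_le_left) (ρ inf_le_right) (counit U) (counit V) K (by rw [ρ_counit, ρ_counit])
    (fun n => shortExact_ez U V hUV _ _)
    (extRestrictIso (U ⊓ V) K e) (extRestrictIso U K e) (extRestrictIso V K e) e₃

end Groth.Misc4.MVExtZero
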