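import Groth.Agent.Misc4.KoszulExtend
import Groth.Agent.Misc4.PerfectCompact
import Groth.Agent.Misc4.QCohDPerf

/-!
# Maps from perfect objects into objects with cohomology only in very low degrees vanish
-/

universe u

open CategoryTheory CategoryTheory.Limits AlgebraicGeometry HomologicalComplex Pretriangulated
open Groth.KTheory.Perf
open Groth.DerivedCoh.PCoh (Near Below)
open Groth.DerivedCoh.KFlat (T tot IsKFlat)

attribute [local instance] HasDerivedCategory.standard

set_option backward.isDefEq.respectTransparency false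
set_option backward.defeqAttrib.useBackward true
set_option synthInstance.maxHeartbeats 400000
set_option maxHeartbeats 1000000

namespace Groth.Misc4.PerfVanish

variable {X : Scheme.{u}}

local notation "up" => ComplexShape.up ℤ

lemma isLE_of_below {C : DCoh.D X} {e : ℤ} (h : Below e C) : C.IsLE (e - 1) :=
  (DerivedCategory.isLE_iff _ _).2 fun i hi => h i (by omega)

/-- tensoring with a complex living in degrees `≤ c` raises upper bounds by at most `c` -/
lemma isStrictlyLE_tot (M P : CochainComplex X.Modules ℤ) (a c : ℤ) [M.IsStrictlyLE a]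
    (hP : ∀ q, c < q → IsZero (P.X q)) : (tot (T X) M P).IsStrictlyLE (a + c) := by
  rw [CochainComplex.isStrictlyLE_iff]
  intro n hn
  rw [IsZero.iff_id_eq_zero]
  refine mapBifunctor.hom_ext fun p q h => ?_
  have h' : p + q = n := h
  rcases lt_or_ge a p with hp | hp
  · exact (((T X).flip.obj (P.X q)).map_isZero (M.isZero_of_isStrictlyLE a p hp)).eq_of_src _ _
  · exact (((T X).obj (M.X p)).map_isZero (hP q (by omega))).eq_of_src _ _

/-- `RHom(K, -)` raises upper bounds by a uniform amount -/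
theorem exists_bound_le [CompactSpace X] (K : CochainComplex X.Modules ℤ) [DCoh.HasLTensorCx K]
    (hK : IsKFlat (T X) K) (hKp : DCoh.IsPerfect (DCoh.toD X K)) [DCoh.HasRSheafHom K] :
    ∃ c : ℤ, ∀ (a : ℤ) (M : DCoh.D X), M.IsLE a → ((DCoh.RSheafHom K).obj M).IsLE (a + c) := by
  choose V E δ hδ hx e using fun x : X => Groth.DerivedCoh.Duality.exists_local_rhom K hK hKp x
  obtain ⟨t, ht⟩ := isCompact_univ.elim_finite_subcover (fun x => (V x : Set X)) (fun x => (V x).2)
    (fun x _ => Set.mem_iUnion.2 ⟨x, hx x⟩)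
  obtain ⟨c, hc⟩ : ∃ c : ℤ, ∀ x ∈ t, (δ x).hi ≤ c := by
    refine ⟨(t.sup fun x => ((δ x).hi).toNat : ℕ), fun x hxt => ?_⟩
    have : ((δ x).hi).toNat ≤ t.sup fun x => ((δ x).hi).toNat :=
      Finset.le_sup (f := fun x => ((δ x).hi).toNat) hxt
    omega
  refine ⟨c, fun a M hM => (DerivedCategory.isLE_iff _ _).2 fun i hi => isZero_of_local fun y => ?_⟩
  obtain ⟨x, hxt, hy⟩ := Set.mem_iUnion₂.1 (ht (Set.mem_univ y))
  refine ⟨V x, hy, ?_⟩
  haveI := hδ x
  obtain ⟨h⟩ := nonempty_hdRd (V x).ι ((DCoh.RSheafHom K).obj M) i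
  refine IsZero.of_iso ?_ h.symm
  haveI hMV : ((Rd (V x).ι).obj M).IsLE a := (DerivedCategory.isLE_iff _ _).2 fun k hk => by
    obtain ⟨h'⟩ := nonempty_hdRd (V x).ι M k
    exact ((Scheme.Modules.restrictFunctor (V x).ι).map_isZero
      ((DerivedCategory.isLE_iff M a).1 hM k hk)).of_iso h'
  obtain ⟨N, hN, ⟨eN⟩⟩ := DerivedCategory.exists_iso_Q_obj_of_isLE ((Rd (V x).ι).obj M) a
  haveI := hN
  haveI := isStrictlyLE_tot N (δ x).V a c fun q hq => (δ x).zero q (by
    have := hc x hxt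
    simp only [Finset.mem_Icc]; omega)
  haveI hle : (DerivedCategory.Q.obj (tot (T _) N (δ x).V)).IsLE (a + c) := ⟨_, Iso.refl _, inferInstance⟩
  refine IsZero.of_iso (DerivedCategory.isZero_of_isLE (DerivedCategory.Q.obj (tot (T _) N (δ x).V))
    (a + c) i hi) ((DerivedCategory.homologyFunctor _ i).mapIso ?_)
  exact (e x).some.app M ≪≫ (DCoh.LTensorCx (δ x).V).mapIso eN ≪≫
    Groth.DerivedCoh.KFlat.ltcxIso (δ x).V
      (Groth.DerivedCoh.PCoh.isKFlat_of_isStrictlyPerfect (δ x).isStrictlyPerfect) N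

section Spec

open Groth.Misc4.KoszulOrth Groth.Misc4.KoszulUnit

variable {A : Type u} [CommRing A] (gs : List A)

/-- Maps from the structure sheaf into objects in very low degrees vanish. -/
theorem exists_structure_vanish :
    ∃ c : ℤ, ∀ Z : DCoh.D ((U gs : (Spec (CommRingCat.of A)).Opens) : Scheme.{u}), DCoh.IsQCohD Z → Z.IsLE c →
      ∀ φ : DCoh.inD _ (Coh.structureModule ((U gs : (Spec (CommRingCat.of A)).Opens) : Scheme.{u})) ⟶ Z, φ = 0 := by
  haveI := Groth.PropsBasic2.preservesFiniteLimits_tilde (CommRingCat.of A)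
  haveI := Groth.Misc4.ApproxExtend.preservesFiniteLimits_restrictFunctor (U gs).ι
  haveI : PreservesFiniteColimits (Scheme.Modules.restrictFunctor (U gs).ι) :=
    haveI := (Scheme.Modules.restrictAdjunction (U gs).ι).leftAdjoint_preservesColimits
    inferInstance
  haveI : DCoh.HasRpush (U gs).ι := Groth.Misc4.PushRestrict.hasRightDerived _
  haveI := quasiCompact_ι gs
  let adj : DCoh.restrictD (U gs).ι ⊣ DCoh.Rpush (U gs).ι :=
    Groth.DerivedAdj.derivedAdj (Scheme.Modules.restrictAdjunction (U gs).ι)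
      (Groth.DerivedCoh.KFlat.enoughKInj ((U gs : (Spec (CommRingCat.of A)).Opens) : Scheme.{u}))
  haveI : (DCoh.Rpush (U gs).ι).Additive := adj.right_adjoint_additive
  obtain ⟨N, -, hN⟩ := Groth.Misc4.QCohCd.exists_isZero_HD (U gs).ι
  refine ⟨-N - 1, fun Z hZ hle φ => ?_⟩
  let σ : (DCoh.restrictD (U gs).ι).obj (DCoh.inD (Spec (CommRingCat.of A)) (Coh.structureModule _)) ≅
      DCoh.inD _ (Coh.structureModule ((U gs : (Spec (CommRingCat.of A)).Opens) : Scheme.{u})) :=
    ((Scheme.Modules.restrictFunctor (U gs).ι).mapDerivedCategorySingleFunctor 0).app _ ≪≫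
      (DerivedCategory.singleFunctor _ 0).mapIso (Scheme.Modules.restrictUnitIso (U gs).ι)
  obtain ⟨M, ⟨eM⟩⟩ := (Groth.Misc4.QCohTildeD.isQCohD_iff (R := CommRingCat.of A) _).1
    (Groth.Misc4.QCohRpushD.isQCohD (U gs).ι Z hZ)
  have hM : IsZero ((DerivedCategory.homologyFunctor (ModuleCat.{u} A) 0).obj M) := by
    obtain ⟨d⟩ := nonempty_hd_tildeD M 0
    exact isZero_of_isZero_tilde (R := CommRingCat.of A) _ ((hN Z hZ _ hle 0 (by omega)).of_iso
      (d.symm ≪≫ (DerivedCategory.homologyFunctor _ 0).mapIso eM))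
  obtain ⟨ι⟩ := nonempty_K_nil_iso (A := A)
  obtain ⟨ψ, hψ⟩ := (Groth.Misc4.QCohTildeD.bijective_map (R := CommRingCat.of A) (K A []) M).2
    (ι.hom ≫ adj.homEquiv _ _ (σ.hom ≫ φ) ≫ eM.inv)
  haveI : Subsingleton ((DerivedCategory.homologyFunctor (ModuleCat.{u} A) 0).obj M) :=
    ModuleCat.subsingleton_of_isZero hM
  have hψ0 : ψ = 0 := by
    refine (cancel_mono ((shiftFunctorZero _ ℤ).inv.app M)).1 ?_
    rw [zero_comp]
    refine (evalNil_injective M 0).1 ?_
    exact hM.eq_of_tgt _ _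
  have h1 : adj.homEquiv _ _ (σ.hom ≫ φ) = 0 := by
    rw [← cancel_epi ι.hom, ← cancel_mono eM.inv, Category.assoc]
    refine hψ.symm.trans ?_
    simp [hψ0]
  refine (cancel_epi σ.hom).1 ((adj.homEquiv _ _).injective (h1.trans ?_))
  rw [comp_zero, Adjunction.homEquiv_unit, Functor.map_zero, comp_zero]

/-- Maps from a perfect object into objects in very low degrees vanish. -/
theorem exists_vanish (F : DCoh.D ((U gs : (Spec (CommRingCat.of A)).Opens) : Scheme.{u})) (hF : DCoh.IsPerfect F) :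
    ∃ c : ℤ, ∀ C : DCoh.D ((U gs : (Spec (CommRingCat.of A)).Opens) : Scheme.{u}), DCoh.IsQCohD C → Below c C →
      ∀ φ : F ⟶ C, φ = 0 := by
  let W : Scheme.{u} := ((U gs : (Spec (CommRingCat.of A)).Opens) : Scheme.{u})
  haveI := quasiCompact_ι gs
  haveI : CompactSpace W := QuasiCompact.compactSpace_of_compactSpace (U gs).ι
  obtain ⟨F₀, ⟨eF⟩⟩ := exists_rep F
  let K₀ := (Groth.DerivedCoh.KFlat.flatResolution W).obj F₀
  haveI : IsIso (DerivedCategory.Q.map ((Groth.DerivedCoh.KFlat.flatResolutionAug W).app F₀)) :=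
    (DerivedCategory.isIso_Q_map_iff_quasiIso _ _).2 (Groth.DerivedCoh.KFlat.flatResolution_quasiIso F₀)
  let e : DCoh.toD W K₀ ≅ F :=
    asIso (DerivedCategory.Q.map ((Groth.DerivedCoh.KFlat.flatResolutionAug W).app F₀)) ≪≫ eF
  have hK₀ := Groth.DerivedCoh.KFlat.flatResolution_isKFlat F₀
  haveI := Groth.DerivedCoh.KFlat.hasLTensorCx K₀
  haveI := Groth.Misc4.HasRSheafHom.hasRSheafHom K₀ hK₀ (Groth.DerivedCoh.KFlat.flatResolution_isFlat F₀)
  have hp : DCoh.IsPerfect (DCoh.toD W K₀) := isPerfect_of_iso e.symm hF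
  obtain ⟨c₁, hc₁⟩ := exists_bound_le K₀ hK₀ hp
  obtain ⟨c₀, hc₀⟩ := exists_structure_vanish gs
  refine ⟨c₀ - c₁ + 1, fun C hC hCb φ => ?_⟩
  let adj := DCoh.RSheafHomAdj K₀
  have hle := hc₁ (c₀ - c₁) C (by simpa using isLE_of_below hCb)
  rw [sub_add_cancel] at hle
  let eK := Groth.Misc4.PerfectCompact.ltcxUnitIso K₀ hK₀
  have h := hc₀ _ (Groth.Misc4.QCohDPerf.isQCohD_rhom K₀ hp hC) hle (adj.homEquiv _ _ (eK.hom ≫ e.hom ≫ φ))
  refine (cancel_epi e.hom).1 ((cancel_epi eK.hom).1 ((adj.homEquiv _ _).injective (h.trans ?_)))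
  haveI : (DCoh.RSheafHom K₀).Additive :=
    haveI : (DCoh.LTensorCx K₀).Additive := Groth.Misc4.HasRSheafHom.additive_ltcx K₀ hK₀
    adj.right_adjoint_additive
  rw [comp_zero, comp_zero, Adjunction.homEquiv_unit, Functor.map_zero, comp_zero]

end Spec

end Groth.Misc4.PerfVanish
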