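import Groth.Agent.Misc4.ApproxQcqs
import Groth.Agent.Misc4.PerfVanish
import Groth.Agent.Misc4.MVExtZero
import Groth.Agent.DAlg.PCoh

/-!
# Maps from perfect objects into quasi-coherent objects of very low degrees vanish, qcqs case
-/

universe u

open CategoryTheory CategoryTheory.Limits Pretriangulated AlgebraicGeometry
open Groth.KTheory.Perf
open Groth.Misc4.ApproxExtend Groth.Misc4.ApproxGlue

attribute [local instance] HasDerivedCategory.standard

set_option backward.isDefEq.respectTransparency false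
set_option backward.defeqAttrib.useBackward true
set_option synthInstance.maxHeartbeats 400000
set_option maxHeartbeats 1000000

namespace Groth.Misc4.PerfVanishQcqs

/-- Uniform vanishing on `Y`. -/
def Van (Y : Scheme.{u}) : Prop :=
  ∀ F : DCoh.D Y, DCoh.IsPerfect F →
    ∃ c : ℤ, ∀ Z : DCoh.D Y, DCoh.IsQCohD Z → Z.IsLE c → ∀ φ : F ⟶ Z, φ = 0

lemma isLE_mono {A : Type*} [Category A] [Abelian A] [HasDerivedCategory A] {Z : DerivedCategory A} {a b : ℤ}
    (h : Z.IsLE a) (hab : a ≤ b) : Z.IsLE b :=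
  (DerivedCategory.isLE_iff _ _).2 fun i hi => (DerivedCategory.isLE_iff Z a).1 h i (by omega)

lemma isLE_shift {A : Type*} [Category A] [Abelian A] [HasDerivedCategory A] {Z : DerivedCategory A} {a : ℤ}
    (h : Z.IsLE a) (n a' : ℤ) (he : n + a' = a) : (Z⟦n⟧).IsLE a' :=
  haveI := h
  DerivedCategory.TStructure.t.isLE_shift Z a n a' he

lemma isLE_rd {X Y : Scheme.{u}} (j : Y ⟶ X) [IsOpenImmersion j] {Z : DCoh.D X} {a : ℤ} (h : Z.IsLE a) :
    ((DCoh.restrictD j).obj Z).IsLE a :=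
  (DerivedCategory.isLE_iff _ _).2 fun i hi => by
    obtain ⟨e⟩ := nonempty_hdRd j Z i
    exact ((Scheme.Modules.restrictFunctor j).map_isZero ((DerivedCategory.isLE_iff Z a).1 h i hi)).of_iso e

/-- Perfect complexes of modules cannot map into very low degrees. -/
lemma exists_vanish_module {A : Type u} [CommRing A] (M : Dual.D A) (hM : DRing.IsPerfect A M) :
    ∃ c : ℤ, ∀ N : Dual.D A, DerivedCategory.IsLE N c → ∀ φ : M ⟶ N, φ = 0 := by
  obtain ⟨P, a, b, hP, hproj, ⟨e⟩⟩ := hM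
  haveI := Groth.DAlg.isKProjective_of_bounded (b := b) (fun i hi => hP i (Or.inr hi))
    fun i => (hproj i).2
  refine ⟨a - 1, fun N hN φ => ?_⟩
  obtain ⟨L, hL, ⟨eN⟩⟩ := DerivedCategory.exists_iso_Q_obj_of_isLE N (a - 1)
  obtain ⟨γ, hγ⟩ : ∃ γ : P ⟶ L, DerivedCategory.Q.map γ = e.hom ≫ φ ≫ eN.hom := by
    obtain ⟨x, hx⟩ := (CochainComplex.IsKProjective.Qh_map_bijective P
      ((HomotopyCategory.quotient _ _).obj L)).surjective
      ((DerivedCategory.quotientCompQhIso _).hom.app P ≫ (e.hom ≫ φ ≫ eN.hom) ≫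
        (DerivedCategory.quotientCompQhIso _).inv.app L)
    obtain ⟨γ, rfl⟩ := (HomotopyCategory.quotient _ _).map_surjective x
    refine ⟨γ, ?_⟩
    have h := (DerivedCategory.quotientCompQhIso (ModuleCat.{u} A)).hom.naturality γ
    simp only [Functor.comp_map] at h
    rw [hx] at h
    exact ((cancel_epi _).1 (h.symm.trans (by simp)))
  have h0 : γ = 0 := HomologicalComplex.hom_ext _ _ fun i => by
    rcases lt_or_ge i a with hi | hi
    · exact (hP i (Or.inl hi)).eq_of_src _ _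
    · exact (L.isZero_of_isStrictlyLE (a - 1) i (by omega)).eq_of_tgt _ _
  rw [h0, Functor.map_zero] at hγ
  exact (cancel_epi e.hom).1 ((cancel_mono eN.hom).1 ((Category.assoc _ _ _).trans (hγ.symm.trans (by simp))))

/-- Vanishing on an affine scheme. -/
theorem van_affine (Y : Scheme.{u}) [IsAffine Y] : Van Y := by
  intro F hF
  let R := Γ(Y, ⊤)
  let j : Spec R ⟶ Y := Y.isoSpec.inv
  haveI := Groth.PropsBasic2.preservesFiniteLimits_tilde R
  haveI := preservesFiniteLimits_restrictFunctor j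
  have hFj : DCoh.IsPerfect ((DCoh.restrictD j).obj F) := Groth.DerivedCoh.PCohDescent.isPerfect_rd j hF
  obtain ⟨M, ⟨eM⟩⟩ := (Groth.Misc4.QCohTildeD.isQCohD_iff (R := R) _).1
    (Groth.Misc4.Thomason.isQCohD_of_isPerfect hFj)
  obtain ⟨c, hc⟩ := exists_vanish_module M
    ((Groth.DerivedCoh.TildeD.isPerfect_tildeD_iff M).1 (isPerfect_of_iso eM.symm hFj))
  refine ⟨c, fun Z hZ hle φ => ?_⟩
  obtain ⟨N, ⟨eN⟩⟩ := (Groth.Misc4.QCohTildeD.isQCohD_iff (R := R) _).1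
    (Groth.Misc4.QCohDPerf.isQCohD_restrict j hZ)
  have hN : DerivedCategory.IsLE N c := (DerivedCategory.isLE_iff _ _).2 fun i hi => by
    obtain ⟨d⟩ := Groth.Misc4.KoszulUnit.nonempty_hd_tildeD N i
    exact Groth.Misc4.KoszulUnit.isZero_of_isZero_tilde (R := R) _
      (((DerivedCategory.isLE_iff _ _).1 (isLE_rd j hle) i hi).of_iso
        (d.symm ≪≫ (DerivedCategory.homologyFunctor _ i).mapIso eN))
  obtain ⟨ψ, hψ⟩ := (Groth.Misc4.QCohTildeD.bijective_map (R := R) M N).2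
    (eM.hom ≫ (DCoh.restrictD j).map φ ≫ eN.inv)
  obtain rfl := hc N hN ψ
  have hψ' : eM.hom ≫ (DCoh.restrictD j).map φ ≫ eN.inv = 0 := hψ.symm.trans (Functor.map_zero _ _ _)
  have h0 : (DCoh.restrictD j).map φ = 0 :=
    (cancel_epi eM.hom).1 ((cancel_mono eN.inv).1 ((Category.assoc _ _ _).trans (hψ'.trans (by simp))))
  refine rd_injective j (fun i x _ => ⟨Y.isoSpec.hom.base x, ?_⟩) (h0.trans (Functor.map_zero _ _ _).symm)
  show (Y.isoSpec.hom ≫ Y.isoSpec.inv).base x = x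
  simp

lemma vanish_ext {X Y : Scheme.{u}} (j : Y ⟶ X) [IsOpenImmersion j] {c : ℤ} {F : DCoh.D X}
    (h : ∀ Z : DCoh.D Y, DCoh.IsQCohD Z → Z.IsLE c → ∀ φ : (DCoh.restrictD j).obj F ⟶ Z, φ = 0)
    (Z : DCoh.D X) (hZ : DCoh.IsQCohD Z) (hle : Z.IsLE c)
    (ψ : (CxOX.extZeroD j).obj ((DCoh.restrictD j).obj F) ⟶ Z) : ψ = 0 := by
  let adj := Groth.DerivedCoh.ExtZero.extZeroDAdj j
  refine (adj.homEquiv _ _).injective ?_
  exact (h _ (Groth.Misc4.QCohDPerf.isQCohD_restrict j hZ) (isLE_rd j hle) _).trans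
    (h _ (Groth.Misc4.QCohDPerf.isQCohD_restrict j hZ) (isLE_rd j hle) _).symm

/-- Vanishing glues. -/
theorem van_union {Y : Scheme.{u}} (U V : Y.Opens) (hUV : U ⊔ V = ⊤) (hU : Van (U : Scheme.{u}))
    (hV : Van (V : Scheme.{u})) (hW : Van ((U ⊓ V : Y.Opens) : Scheme.{u})) : Van Y := by
  intro F hF
  haveI := preservesFiniteLimits_restrictFunctor U.ι
  obtain ⟨a, b, d, hT⟩ := Groth.Misc4.MVExtZero.exists_triangle_ez U V hUV F
  obtain ⟨cU, hcU⟩ := hU _ (Groth.DerivedCoh.PCohDescent.isPerfect_rd U.ι hF)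
  obtain ⟨cV, hcV⟩ := hV _ (Groth.DerivedCoh.PCohDescent.isPerfect_rd V.ι hF)
  obtain ⟨cW, hcW⟩ := hW _ (Groth.DerivedCoh.PCohDescent.isPerfect_rd (U ⊓ V).ι hF)
  refine ⟨min cU (min cV (cW - 1)), fun Z hZ hle φ => ?_⟩
  have hb : b ≫ φ = 0 := by
    refine biprod.hom_ext' _ _ ?_ ?_
    · rw [comp_zero]
      exact vanish_ext U.ι hcU Z hZ (isLE_mono hle (by omega)) _
    · rw [comp_zero]
      exact vanish_ext V.ι hcV Z hZ (isLE_mono hle (by omega)) _
  obtain ⟨ψ, hψ⟩ := Triangle.yoneda_exact₃ _ hT φ hb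
  have hψ0 : ψ = 0 := by
    let W' := Z⟦(-1 : ℤ)⟧
    let ε : W'⟦(1 : ℤ)⟧ ≅ Z := (shiftFunctorCompIsoId (DCoh.D Y) (-1 : ℤ) 1 (by omega)).app Z
    obtain ⟨χ, hχ⟩ := (shiftFunctor (DCoh.D Y) (1 : ℤ)).map_surjective (ψ ≫ ε.inv)
    rw [vanish_ext (U ⊓ V).ι hcW W' (Groth.Misc4.QCohDPerf.isQCohD_shift hZ (-1))
      (isLE_mono (isLE_shift hle (-1) (min cU (min cV (cW - 1)) + 1) (by omega)) (by omega)) χ,
      Functor.map_zero] at hχ
    exact (cancel_mono ε.inv).1 (hχ.symm.trans zero_comp.symm)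
  rw [hψ, hψ0, comp_zero]

/-- Vanishing on quasi-compact quasi-separated schemes. -/
theorem van (X : Scheme.{u}) [CompactSpace X] [QuasiSeparatedSpace X] : Van X := by
  have key := Groth.CohBase.qcqs_induction_on
    (fun W : X.Opens => ∀ (Y : Scheme.{u}) (i : Y ⟶ X) [IsOpenImmersion i], i.opensRange = W → Van Y) ⊤
    (by simpa using (isQuasiSeparated_univ_iff (α := X)).2 inferInstance) ?_ ?_ ⊤
    (by simpa using (isCompact_univ : IsCompact (Set.univ : Set X))) le_rfl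
  · exact key X (𝟙 X) (TopologicalSpace.Opens.ext (by simp))
  · intro W hW _ Y i _ hi
    haveI : IsAffine Y := by
      haveI : IsAffine (W : Scheme.{u}) := hW
      exact IsAffine.of_isIso (IsOpenImmersion.isoOfRangeEq W.ι i (by
        rw [Scheme.Opens.range_ι, ← hi]; rfl)).inv
    exact van_affine Y
  · intro U V _ _ _ _ hU hV hUV Y i _ hi
    have hr : ∀ Z : X.Opens, Z ≤ i.opensRange → ((i ⁻¹ᵁ Z).ι ≫ i).opensRange = Z := fun Z hZ => by
      rw [Scheme.Hom.opensRange_comp, Scheme.Opens.opensRange_ι, Scheme.Hom.image_preimage_eq_opensRange_inf]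
      exact inf_eq_right.2 hZ
    have hle : U ≤ i.opensRange ∧ V ≤ i.opensRange := by rw [hi]; exact ⟨le_sup_left, le_sup_right⟩
    have hcov : i ⁻¹ᵁ U ⊔ i ⁻¹ᵁ V = ⊤ := by
      refine TopologicalSpace.Opens.ext (Set.eq_univ_of_forall fun y => ?_)
      have h : i y ∈ U ⊔ V := hi ▸ ⟨y, rfl⟩
      exact h
    exact van_union _ _ hcov (hU _ _ (hr U hle.1)) (hV _ _ (hr V hle.2))
      (hUV _ ((i ⁻¹ᵁ U ⊓ i ⁻¹ᵁ V).ι ≫ i) (hr (U ⊓ V) (inf_le_left.trans hle.1)))

end Groth.Misc4.PerfVanishQcqs
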