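import Groth.Agent.Misc4.AffineExtend

/-!
# Perfect objects on a quasi-compact open are retracts of restrictions from a qcqs scheme
-/

universe u

open CategoryTheory CategoryTheory.Limits Pretriangulated AlgebraicGeometry
open Groth.KTheory.Perf
open Groth.Misc4.ApproxExtend
open Groth.Misc4.KoszulUnit Groth.Misc4.Thomason Groth.Misc4.ApproxGlue Groth.Misc4.ExtendStep

attribute [local instance] HasDerivedCategory.standard

set_option backward.isDefEq.respectTransparency false
set_option backward.defeqAttrib.useBackward true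
set_option synthInstance.maxHeartbeats 400000
set_option maxHeartbeats 1000000

namespace Groth.Misc4.QcqsExtend

variable {X Y Z : Scheme.{u}}

/-- Restriction of derived categories along a composite, naturally. -/
noncomputable def rdCompIso (k : Z ⟶ Y) (j : Y ⟶ X) (l : Z ⟶ X) (e : l = k ≫ j)
    [IsOpenImmersion k] [IsOpenImmersion j] [IsOpenImmersion l]
    [PreservesFiniteLimits (Scheme.Modules.restrictFunctor k)] [PreservesFiniteLimits (Scheme.Modules.restrictFunctor j)]
    [PreservesFiniteLimits (Scheme.Modules.restrictFunctor l)] :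
    DCoh.restrictD l ≅ DCoh.restrictD j ⋙ DCoh.restrictD k :=
  Localization.liftNatIso DerivedCategory.Q (HomologicalComplex.quasiIso X.Modules (ComplexShape.up ℤ))
    (DerivedCategory.Q ⋙ DCoh.restrictD l) (DerivedCategory.Q ⋙ DCoh.restrictD j ⋙ DCoh.restrictD k) _ _
    ((Scheme.Modules.restrictFunctor l).mapDerivedCategoryFactors ≪≫
      Functor.isoWhiskerRight (rcCompIso e) DerivedCategory.Q ≪≫ Functor.associator _ _ _ ≪≫
      Functor.isoWhiskerLeft (Rc j) (Scheme.Modules.restrictFunctor k).mapDerivedCategoryFactors.symm ≪≫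
      (Functor.associator _ _ _).symm ≪≫
      Functor.isoWhiskerRight (Scheme.Modules.restrictFunctor j).mapDerivedCategoryFactors.symm (DCoh.restrictD k) ≪≫
      Functor.associator _ _ _)

set_option maxHeartbeats 2000000 in
/-- Induction over affine opens. -/
theorem exists_retract_list [QuasiSeparatedSpace X] {T : Set X} (hT : IsClosed T) (hTc : IsRetrocompact Tᶜ)
    {E : DCoh.D X} (hE : DCoh.IsQCohD E) :
    ∀ (l : List X.affineOpens) (W : X.Opens), IsCompact (W : Set X) →
      (∀ x, x ∈ W ∨ ∃ V ∈ l, x ∈ (V : X.Opens)) →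
      ∀ [PreservesFiniteLimits (Scheme.Modules.restrictFunctor W.ι)] (P : DCoh.D (W : Scheme.{u})), DCoh.IsPerfect P →
        (∀ i, CohB1.support (DCoh.HD P i) ⊆ W.ι.base ⁻¹' T) → ∀ α : P ⟶ (DCoh.restrictD W.ι).obj E,
        ∃ (R : DCoh.D X) (β : R ⟶ E) (i : P ⟶ (DCoh.restrictD W.ι).obj R) (p : (DCoh.restrictD W.ι).obj R ⟶ P),
          DCoh.IsPerfect R ∧ (∀ q, CohB1.support (DCoh.HD R q) ⊆ T) ∧ i ≫ p = 𝟙 P ∧
            i ≫ (DCoh.restrictD W.ι).map β = α := by
  intro l
  induction l with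
  | nil =>
    intro W _ hcov _ P hP hPT α
    have hW : ∀ x, x ∈ W := fun x => (hcov x).resolve_right (by simp)
    let adj := Groth.DerivedCoh.ExtZero.extZeroDAdj W.ι
    haveI := isIso_extZeroDAdj_unit W.ι P
    refine ⟨(CxOX.extZeroD W.ι).obj P, (adj.homEquiv P E).symm α, adj.unit.app P, inv (adj.unit.app P), ?_,
      fun q x hx => ?_, IsIso.hom_inv_id _, rd_symm W.ι α⟩
    · rw [isPerfect_iff]
      exact fun x => exists_perfOn_of_rd W.ι (isPerfect_of_iso (asIso (adj.unit.app P)) hP) ⟨x, hW x⟩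
    · obtain ⟨y, rfl, hy⟩ := mem_support_ext W.ι P q hx
      exact hPT q hy
  | cons V l ih =>
    intro W hW hcov _ P hP hPT α
    let j : Spec (CommRingCat.of Γ(X, (V : X.Opens))) ⟶ X := V.2.fromSpec
    have hj : Set.range j = ((V : X.Opens) : Set X) := V.2.range_fromSpec
    haveI := Groth.PropsBasic2.preservesFiniteLimits_tilde (CommRingCat.of Γ(X, (V : X.Opens)))
    haveI := preservesFiniteLimits_restrictFunctor j
    obtain ⟨ts, hts'⟩ := ApproxInduction.exists_list j Tᶜ hT.isOpen_compl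
      (by rw [hj]; exact hTc V.2.isCompact (V : X.Opens).2)
    have hts : ∀ y, j y ∈ T ↔ y ∉ U ts := fun y => not_iff_not.1 ((hts' y).trans not_not.symm)
    obtain ⟨gs, hgs⟩ := ApproxInduction.exists_list j (W : Set X) W.2
      (by rw [hj]; exact QuasiSeparatedSpace.inter_isCompact _ _ W.2 hW (V : X.Opens).2 V.2.isCompact)
    haveI := preservesFiniteLimits_restrictFunctor (U gs).ι
    let A₁ : DCoh.D (W : Scheme.{u}) := P⟦((2 * 0 + 1 : ℕ) : ℤ)⟧ ⊞ P
    have hA₁ : DCoh.IsPerfect A₁ :=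
      isPerfect_obj₂ _ (binaryBiproductTriangle_distinguished _ _) (isPerfect_shift hP _) hP
    have hA₁s : ∀ i, CohB1.support (DCoh.HD A₁ i) ⊆ W.ι.base ⁻¹' T := fun i =>
      support_hd_middle _ (binaryBiproductTriangle_distinguished _ _) i
        ((support_hd_shift P _ i).le.trans (hPT _)) (hPT i)
    obtain ⟨F, h, eW, hFV, hFVs, he⟩ := extendLocal W j ts gs hts hgs A₁ hA₁ hA₁s
      (lift_doubled W j ts gs hts hgs P hP hPT 0) (E := E) (Groth.Misc4.QCohDPerf.isQCohD_restrict j hE)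
      (biprod.snd ≫ α)
    let W₂ : X.Opens := W ⊔ (V : X.Opens)
    haveI := preservesFiniteLimits_restrictFunctor W₂.ι
    let k := X.homOfLE (le_sup_left : W ≤ W₂)
    haveI := preservesFiniteLimits_restrictFunctor k
    let c := rdCompIso k W₂.ι W.ι (X.homOfLE_ι _).symm
    have hP₂ : DCoh.IsPerfect ((DCoh.restrictD W₂.ι).obj F) := by
      rw [isPerfect_iff]
      intro z
      rcases (show W₂.ι z ∈ W ⊔ (V : X.Opens) from z.2) with hz | hz
      · have e : k ⟨W₂.ι z, hz⟩ = z := W₂.ι.isOpenEmbedding.injective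
          (by rw [← Scheme.Hom.comp_apply, X.homOfLE_ι]; rfl)
        exact e ▸ exists_perfOn_of_rd k (isPerfect_of_iso (eW ≪≫ c.app F) hA₁) ⟨W₂.ι z, hz⟩
      · obtain ⟨y, hy⟩ : W₂.ι z ∈ Set.range j := by rw [hj]; exact hz
        let k' := IsOpenImmersion.lift W₂.ι j (by
          rw [Scheme.Opens.range_ι, hj]
          exact fun x hx => Or.inr hx)
        have hk' : k' ≫ W₂.ι = j := IsOpenImmersion.lift_fac _ _ _
        haveI : IsOpenImmersion k' := by
          haveI : IsOpenImmersion (k' ≫ W₂.ι) := hk' ▸ inferInstance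
          exact IsOpenImmersion.of_comp k' W₂.ι
        obtain ⟨c'⟩ := nonempty_rdComp (k := k') (j := W₂.ι) (l := j) hk'.symm F
        have hz' : k' y = z := W₂.ι.isOpenEmbedding.injective (by
          rw [← Scheme.Hom.comp_apply, hk', hy])
        exact hz' ▸ exists_perfOn_of_rd k' (isPerfect_of_iso c' hFV) y
    have hP₂s : ∀ q, CohB1.support (DCoh.HD ((DCoh.restrictD W₂.ι).obj F) q) ⊆ W₂.ι.base ⁻¹' T := fun q z hz => by
      have hz' := (mem_support_hd_rd W₂.ι F q z).1 hz
      rcases (show W₂.ι z ∈ W ⊔ (V : X.Opens) from z.2) with hzW | hzV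
      · exact hA₁s q ((Set.ext_iff.1 (support_of_iso ((DerivedCategory.homologyFunctor _ q).mapIso eW))
          ⟨W₂.ι z, hzW⟩).2 ((mem_support_hd_rd W.ι F q ⟨W₂.ι z, hzW⟩).2 hz'))
      · obtain ⟨y, hy⟩ : W₂.ι z ∈ Set.range j := by rw [hj]; exact hzV
        have h' := hFVs q ((mem_support_hd_rd j F q y).2 (hy ▸ hz'))
        show W₂.ι z ∈ T
        rw [← hy]
        exact h'
    obtain ⟨R, β, i, p, hR, hRs, hip, hiβ⟩ := ih W₂ (by
        show IsCompact ((W : Set X) ∪ ((V : X.Opens) : Set X))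
        exact hW.union V.2.isCompact)
      (fun x => by
        rcases hcov x with hx | ⟨V', hV', hx⟩
        · exact Or.inl (Or.inl hx)
        · rcases List.mem_cons.1 hV' with rfl | hV'
          · exact Or.inl (Or.inr hx)
          · exact Or.inr ⟨V', hV', hx⟩)
      _ hP₂ hP₂s ((DCoh.restrictD W₂.ι).map h)
    refine ⟨R, β, biprod.inr ≫ eW.hom ≫ c.hom.app F ≫ (DCoh.restrictD k).map i ≫ c.inv.app R,
      c.hom.app R ≫ (DCoh.restrictD k).map p ≫ c.inv.app F ≫ eW.inv ≫ biprod.snd, hR, hRs, ?_, ?_⟩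
    · simp only [Category.assoc, Iso.inv_hom_id_app_assoc]
      rw [← Functor.map_comp_assoc, hip, CategoryTheory.Functor.map_id]
      erw [Category.id_comp, Iso.hom_inv_id_app_assoc, Iso.hom_inv_id_assoc]
      exact biprod.inr_snd
    · simp only [Category.assoc]
      rw [← c.inv.naturality β, Functor.comp_map, ← Functor.map_comp_assoc, hiβ]
      erw [← c.hom.naturality_assoc h, Iso.hom_inv_id_app]
      erw [Category.comp_id, he, biprod.inr_snd_assoc]

/-- Perfect objects on a quasi-compact open are retracts of restrictions, compatibly with maps. -/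
theorem exists_retract [CompactSpace X] [QuasiSeparatedSpace X] (W : X.Opens) (hW : IsCompact (W : Set X))
    [PreservesFiniteLimits (Scheme.Modules.restrictFunctor W.ι)] {T : Set X} (hT : IsClosed T) (hTc : IsCompact Tᶜ)
    {E : DCoh.D X} (hE : DCoh.IsQCohD E) (P : DCoh.D (W : Scheme.{u})) (hP : DCoh.IsPerfect P)
    (hPT : ∀ i, CohB1.support (DCoh.HD P i) ⊆ W.ι.base ⁻¹' T) (α : P ⟶ (DCoh.restrictD W.ι).obj E) :
    ∃ (R : DCoh.D X) (β : R ⟶ E) (i : P ⟶ (DCoh.restrictD W.ι).obj R) (p : (DCoh.restrictD W.ι).obj R ⟶ P),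
      DCoh.IsPerfect R ∧ (∀ q, CohB1.support (DCoh.HD R q) ⊆ T) ∧ i ≫ p = 𝟙 P ∧
        i ≫ (DCoh.restrictD W.ι).map β = α := by
  classical
  obtain ⟨t, ht⟩ := isCompact_univ.elim_finite_subcover (fun V : X.affineOpens => ((V : X.Opens) : Set X))
    (fun V => (V : X.Opens).2) fun x _ => by
      obtain ⟨_, ⟨V, hV, rfl⟩, hxV, -⟩ := X.isBasis_affineOpens.exists_subset_of_mem_open (Set.mem_univ x) isOpen_univ
      exact Set.mem_iUnion.2 ⟨⟨V, hV⟩, hxV⟩
  exact exists_retract_list hT (fun K hK hKo => QuasiSeparatedSpace.inter_isCompact _ _ hT.isOpen_compl hTc hKo hK)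
    hE t.toList W hW (fun x => by
      obtain ⟨V, hV, hx⟩ := Set.mem_iUnion₂.1 (ht (Set.mem_univ x))
      exact Or.inr ⟨V, Finset.mem_toList.2 hV, hx⟩) P hP hPT α

end Groth.Misc4.QcqsExtend
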