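import Groth.Agent.Misc4.KoszulSummand
import Groth.Agent.Misc4.AffineExtend
import Groth.Agent.Misc4.QcqsExtend
import Groth.Agent.Misc4.ApproxGlue
import Groth.Agent.LocFree.Basic
import Groth.Agent.Misc4.PerfVanishQcqs
import Groth.Agent.DAlg.TotDevissage
import Groth.Agent.DerivedCoh.TildeD.Iff
import Groth.Agent.DerivedCoh.PCoh.TopCohomology
import Groth.Agent.DerivedCoh.PCohDescent.Main
import Groth.Agent.PropsBasic.LocFree

/-!
# A perfect object plus a shifted locally free module extends from a quasi-compact open of an affine scheme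
-/

universe u

open CategoryTheory CategoryTheory.Limits Pretriangulated DerivedCategory AlgebraicGeometry
open scoped ZeroObject
open Groth.DAlg Groth.KTheory.Perf
open Groth.DerivedCoh.PCoh (Near Below hShiftIso)
open Groth.Misc4.ApproxExtend (isZero_stalk_iff support_of_iso mem_support_hd_rd)
open Groth.Misc4.KoszulOrth Groth.Misc4.KoszulUnit

attribute [local instance] HasDerivedCategory.standard

set_option backward.isDefEq.respectTransparency false
set_option backward.defeqAttrib.useBackward true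
set_option synthInstance.maxHeartbeats 400000
set_option maxHeartbeats 1000000
set_option linter.style.haveILetI false

namespace Groth.Misc4.PlusLocFree

open Groth.Misc4.Thomason

section Scheme

variable {X : Scheme.{u}}

lemma flatAmp_mono {a b a' b' : ℤ} {K : DCoh.D X} (h : DCoh.HasFlatAmplitudeIn a b K) (ha : a' ≤ a)
    (hb : b ≤ b') : DCoh.HasFlatAmplitudeIn a' b' K := by
  obtain ⟨E, h0, hf, e⟩ := h
  exact ⟨E, fun i hi => h0 i (by omega), hf, e⟩

lemma flatAmp_rd {Y : Scheme.{u}} (j : Y ⟶ X) [IsOpenImmersion j] {a b : ℤ} {K : DCoh.D X}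
    (h : DCoh.HasFlatAmplitudeIn a b K) : DCoh.HasFlatAmplitudeIn a b ((DCoh.restrictD j).obj K) := by
  obtain ⟨F, h0, hf, ⟨e⟩⟩ := h
  exact ⟨(Rc j).obj F, fun i hi => rc_isZero j (h0 i hi),
    fun i => Groth.DerivedCoh.PCoh.isFlat_restrict j (hf i), ⟨(rdQIso j F).symm ≪≫ (Rd j).mapIso e⟩⟩

lemma flatAmp_shift {a b : ℤ} {K : DCoh.D X} (h : DCoh.HasFlatAmplitudeIn a b K) (n a' b' : ℤ)
    (ha : a' + n = a) (hb : b' + n = b) : DCoh.HasFlatAmplitudeIn a' b' (K⟦n⟧) := by
  obtain ⟨F, h0, hf, ⟨e⟩⟩ := h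
  exact ⟨(CategoryTheory.shiftFunctor (CochainComplex X.Modules ℤ) n).obj F, fun i hi => h0 (i + n) (by omega),
    fun i => hf (i + n), ⟨(DerivedCategory.Q.commShiftIso n).app F ≪≫ (shiftFunctor _ n).mapIso e⟩⟩

/-- A perfect object concentrated in one degree, of flat amplitude starting there, is a shifted locally free module. -/
theorem exists_locFree {K : DCoh.D X} (hK : DCoh.IsPerfect K) {c B : ℤ} (hcB : c ≤ B)
    (hamp : DCoh.HasFlatAmplitudeIn c B K) (hz : ∀ i, i ≠ c → IsZero (DCoh.HD K i)) :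
    ∃ F : X.Modules, FlatMod.IsFinLocFree F ∧ Nonempty (K ≅ (DCoh.inD X F)⟦-c⟧) := by
  have hfp : CohB1.IsFP (DCoh.HD K c) := by
    have h := Groth.DerivedCoh.PCoh.isFP_top
      (Groth.DerivedCoh.PCoh.isPseudoCoherentD_of_isPerfect hK (c - 1)) fun i hi => hz i (by omega)
    rwa [sub_add_cancel] at h
  haveI : (DCoh.HD K c).IsQuasicoherent := Groth.Misc4.Thomason.isQCohD_of_isPerfect hK c
  haveI : K.IsGE c := (DerivedCategory.isGE_iff K c).2 fun q hq => hz q (by omega)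
  haveI : K.IsLE c := (DerivedCategory.isLE_iff K c).2 fun q hq => hz q (by omega)
  obtain ⟨N, ⟨e⟩⟩ := DerivedCategory.exists_iso_singleFunctor_obj_of_isGE_of_isLE K c
  let eN : DCoh.HD K c ≅ N := (DerivedCategory.homologyFunctor _ c).mapIso e ≪≫
    Groth.DerivedCoh.KFlat.hdIso ((HomologicalComplex.single X.Modules (ComplexShape.up ℤ) c).obj N) c ≪≫
    HomologicalComplex.singleObjHomologySelfIso (ComplexShape.up ℤ) c N
  let σ : K ≅ (DCoh.inD X N)⟦-c⟧ :=
    e ≪≫ (((DerivedCategory.singleFunctors X.Modules).shiftIso (-c) c 0 (neg_add_cancel c)).app N).symm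
  let τ : K⟦c⟧ ≅ DCoh.inD X N :=
    (shiftFunctor _ c).mapIso σ ≪≫ (shiftFunctorCompIsoId (DCoh.D X) (-c) c (by omega)).app _
  have hflatN : FlatMod.IsFlat N := by
    refine Groth.DerivedCoh.KFlat.isFlat_of_tor_one N fun G _ => ?_
    have ht := Groth.DerivedCoh.KFlat.torAmp_of_flatAmp (flatAmp_shift hamp c 0 (B - c) (by omega) (by omega))
    exact Groth.DerivedCoh.KFlat.isZero_hd_of_iso ((DCoh.LTensorMod G).mapIso τ.symm) (ht G (-1) (Or.inl (by omega)))
  refine ⟨DCoh.HD K c, Groth.LocFree.isFinLocFree_of_flat (fun x => ?_) (Groth.CohTwo.isFlat_of_iso eN hflatN),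
    ⟨σ ≪≫ (shiftFunctor _ (-c)).mapIso ((DerivedCategory.singleFunctor X.Modules 0).mapIso eN.symm)⟩⟩
  obtain ⟨V, hV, hx⟩ := Groth.QCohMod.exists_affine_mem x
  exact ⟨V, hV, hx, Groth.PropsBasic.FPSections.finitePresentation_sections _ hfp hV⟩

end Scheme

variable {A : Type u} [CommRing A] [PreservesFiniteLimits (tilde.functor (CommRingCat.of A))] (gs : List A)
  [PreservesFiniteLimits (Scheme.Modules.restrictFunctor (U gs).ι)]

/-- Perfect objects on the open are near restrictions of perfect objects. -/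
theorem exists_near (F : DCoh.D ((U gs : (Spec (CommRingCat.of A)).Opens) : Scheme.{u})) (hF : DCoh.IsPerfect F)
    (m : ℤ) : ∃ (P : DerivedCategory (ModuleCat.{u} A)) (φ : (Φ gs).obj P ⟶ F),
      DRing.IsPerfect A P ∧ Near m φ := by
  haveI : PreservesFiniteColimits (Scheme.Modules.restrictFunctor (U gs).ι) :=
    haveI := (Scheme.Modules.restrictAdjunction (U gs).ι).leftAdjoint_preservesColimits
    inferInstance
  haveI : DCoh.HasRpush (U gs).ι := Groth.Misc4.PushRestrict.hasRightDerived _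
  haveI := quasiCompact_ι gs
  haveI : CompactSpace ((U gs : (Spec (CommRingCat.of A)).Opens) : Scheme.{u}) :=
    QuasiCompact.compactSpace_of_compactSpace (U gs).ι
  let adj : DCoh.restrictD (U gs).ι ⊣ DCoh.Rpush (U gs).ι :=
    Groth.DerivedAdj.derivedAdj (Scheme.Modules.restrictAdjunction (U gs).ι)
      (Groth.DerivedCoh.KFlat.enoughKInj ((U gs : (Spec (CommRingCat.of A)).Opens) : Scheme.{u}))
  haveI := isIso_counit gs adj
  obtain ⟨M, ⟨eM⟩⟩ := (Groth.Misc4.QCohTildeD.isQCohD_iff (R := CommRingCat.of A) _).1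
    (Groth.Misc4.QCohRpushD.isQCohD (U gs).ι F (isQCohD_of_isPerfect hF))
  let e : (Φ gs).obj M ≅ F := (DCoh.restrictD (U gs).ι).mapIso eM ≪≫ (asIso adj.counit).app F
  have hpc : PCW gs M := fun m => Groth.DerivedCoh.PCoh.isPseudoCoherentD_of_iso e.symm
    (Groth.DerivedCoh.PCoh.isPseudoCoherentD_of_isPerfect hF m)
  obtain ⟨b, hb⟩ := Groth.DerivedCoh.TildeD.exists_bound (hpc 0)
  let n : ℕ := (b + 1 - m).toNat
  have hA : ApprW [] gs (-(n : ℤ)) (M⟦b + 1⟧) := apprW_aux n _ (fun t ht => absurd ht (List.not_mem_nil))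
    (hpc.shift _) (((below_Φ_iff M (b + 1)).1 fun i hi => hb i (by omega)).shift (b + 1) (by omega))
  obtain ⟨P, C, α, v, w, hTr, hP, hC⟩ := (hA.shift (m' := m) (-(b + 1)) (by omega)).of_iso
    ((shiftFunctorCompIsoId _ (b + 1) (-(b + 1)) (by omega)).app M)
  exact ⟨P, (Φ gs).map α ≫ e.hom, hP.1, (Groth.DerivedCoh.PCoh.near_of_below _
    ((Φ gs).map_distinguished _ hTr) ((below_Φ_iff C m).2 hC)).comp (Groth.DerivedCoh.PCoh.near_of_isIso _)⟩

/-- Some shifted locally free module plus a perfect object on the open extends. -/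
theorem exists_sum (F : DCoh.D ((U gs : (Spec (CommRingCat.of A)).Opens) : Scheme.{u})) (hF : DCoh.IsPerfect F)
    [∀ (A' B' : DCoh.D ((U gs : (Spec (CommRingCat.of A)).Opens) : Scheme.{u})), HasBinaryBiproduct A' B'] :
    ∃ (r : ℤ) (N : ((U gs : (Spec (CommRingCat.of A)).Opens) : Scheme.{u}).Modules) (G : DerivedCategory (ModuleCat.{u} A)),
      FlatMod.IsFinLocFree N ∧ DRing.IsPerfect A G ∧
      Nonempty ((Φ gs).obj G ≅ (DCoh.inD _ N)⟦-r⟧ ⊞ F) := by
  haveI := quasiCompact_ι gs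
  haveI : CompactSpace ((U gs : (Spec (CommRingCat.of A)).Opens) : Scheme.{u}) :=
    QuasiCompact.compactSpace_of_compactSpace (U gs).ι
  haveI : QuasiSeparatedSpace ((U gs : (Spec (CommRingCat.of A)).Opens) : Scheme.{u}) :=
    QuasiSeparatedSpace.of_isOpenEmbedding (U gs).ι.isOpenEmbedding
  obtain ⟨a, b, hamp⟩ := Groth.DerivedCoh.PCohDescent.exists_flatAmp_of_isPerfect hF
  obtain ⟨c₀, hc₀⟩ := Groth.Misc4.PerfVanishQcqs.van _ F hF
  let c := min a c₀ - 2
  obtain ⟨P, φ, hP, hφ⟩ := exists_near gs F hF c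
  obtain ⟨L, lo, hi, hL, hLp, ⟨eL⟩⟩ := hP
  obtain ⟨S, hS1, hS2, hsp, hS3⟩ := exists_ge_tail L c
  let f : Groth.DerivedCoh.KFlat.ge L c ⟶ L := eqToHom hS1.symm ≫ S.f ≫ eqToHom hS2
  have hSE : S.ShortExact :=
    HomologicalComplex.shortExact_of_degreewise_shortExact _ fun p => (hsp p).some.shortExact
  have hκ : Near c (DerivedCategory.Q.map f) := by
    simp only [f, Functor.map_comp]
    exact (Groth.DerivedCoh.PCoh.near_of_isIso _).comp ((Groth.DerivedCoh.PCoh.near_of_below _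
      (DerivedCategory.triangleOfSES_distinguished hSE) fun q hq =>
      ((HomologicalComplex.ExactAt.of_isZero (hS3 q hq)).isZero_homology).of_iso
        ((DerivedCategory.homologyFunctorFactors _ q).app _)).comp (Groth.DerivedCoh.PCoh.near_of_isIso _))
  let L' := Groth.DerivedCoh.KFlat.ge L c
  have hL' : DRing.VanishesOutside L' c (max c hi) ∧ DRing.TermwiseFiniteProjective L' := by
    refine ⟨fun i hi' => ?_, fun i => ?_⟩
    · by_cases h : i < c
      · exact Groth.DerivedCoh.KFlat.isZero_geX L h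
      · haveI := Groth.DerivedCoh.KFlat.isIso_geι L (show c ≤ i by omega)
        exact (hL i (Or.inr (by omega))).of_iso (asIso (Groth.DerivedCoh.KFlat.geι L c i) : L'.X i ≅ L.X i)
    · by_cases h : i < c
      · exact (isAdditiveSub_finProj A).zero _ (Groth.DerivedCoh.KFlat.isZero_geX L h)
      · haveI := Groth.DerivedCoh.KFlat.isIso_geι L (show c ≤ i by omega)
        exact (isAdditiveSub_finProj A).of_iso (asIso (Groth.DerivedCoh.KFlat.geι L c i) : L'.X i ≅ L.X i).symm (hLp i)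
  let Q' : DerivedCategory (ModuleCat.{u} A) := DRing.toD L'
  have hQ' : DRing.IsPerfect A Q' := ⟨L', c, max c hi, hL'.1, hL'.2, ⟨Iso.refl _⟩⟩
  let γ : (Φ gs).obj Q' ⟶ F := (Φ gs).map (DerivedCategory.Q.map f ≫ eL.hom) ≫ φ
  have hΦ : ∀ {K K' : DerivedCategory (ModuleCat.{u} A)} (β : K ⟶ K'), Near c β → Near c ((Φ gs).map β) := by
    intro K K' β hβ
    obtain ⟨C, v, w, hT⟩ := distinguished_cocone_triangle β
    refine Groth.DerivedCoh.PCoh.near_of_below _ ((Φ gs).map_distinguished _ hT) ((below_Φ_iff C c).2 ?_)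
    intro g _ q hq x
    exact ⟨0, (ModuleCat.subsingleton_of_isZero (Groth.DerivedCoh.PCoh.below_of_near _ hT hβ q hq)).elim _ _⟩
  have hγ : Near c γ := (hΦ _ (hκ.comp (Groth.DerivedCoh.PCoh.near_of_isIso _))).comp hφ
  have hQamp : DCoh.HasFlatAmplitudeIn c (max c hi) ((Φ gs).obj Q') :=
    flatAmp_rd (U gs).ι ((Groth.DerivedCoh.TildeD.hasFlatAmplitudeIn_tildeD_iff Q' c (max c hi)).2
      ⟨L', hL'.1, fun i => haveI := (hL'.2 i).2; inferInstance, ⟨Iso.refl _⟩⟩)
  have hQp : DCoh.IsPerfect ((Φ gs).obj Q') :=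
    Groth.DerivedCoh.PCohDescent.isPerfect_rd _ ((Groth.DerivedCoh.TildeD.isPerfect_tildeD_iff Q').2 hQ')
  obtain ⟨K, u', d, hT⟩ := distinguished_cocone_triangle₁ γ
  let B := max (max c hi) b + 1
  have hKamp : DCoh.HasFlatAmplitudeIn c B K := by
    refine Groth.DerivedCoh.KFlat.flatAmp_of_torAmp K c B (by omega) ?_
    have h := Groth.DerivedCoh.KFlat.torAmp₁ _ hT (a := c - 1) (b := B - 1)
      (by rw [sub_add_cancel, sub_add_cancel]
          exact Groth.DerivedCoh.KFlat.torAmp_of_flatAmp (flatAmp_mono hQamp le_rfl (by omega)))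
      (Groth.DerivedCoh.KFlat.torAmp_of_flatAmp (flatAmp_mono hamp (by omega) (by omega)))
    rwa [sub_add_cancel, sub_add_cancel] at h
  have hKp : DCoh.IsPerfect K := isPerfect_obj₂ _ (inv_rot_of_distTriang _ hT) (isPerfect_shift hF (-1)) hQp
  have hQlow : ∀ i, i < c → IsZero (DCoh.HD ((Φ gs).obj Q') i) := fun i hi' => by
    obtain ⟨E, h0, -, ⟨e⟩⟩ := hQamp
    exact Groth.DerivedCoh.KFlat.isZero_hd_of_iso e.symm ((Groth.DerivedCoh.KFlat.isZero_hd_toD_iff E i).2
      (HomologicalComplex.ExactAt.of_isZero (h0 i (Or.inl hi'))))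
  have hFlow : ∀ i, i < a → IsZero (DCoh.HD F i) := fun i hi' => by
    obtain ⟨E, h0, -, ⟨e⟩⟩ := hamp
    exact Groth.DerivedCoh.KFlat.isZero_hd_of_iso e.symm ((Groth.DerivedCoh.KFlat.isZero_hd_toD_iff E i).2
      (HomologicalComplex.ExactAt.of_isZero (h0 i (Or.inl hi'))))
  have hKz : ∀ i, i ≠ c → IsZero (DCoh.HD K i) := fun i hic => by
    rcases lt_or_gt_of_ne hic with h | h
    · exact (HomologySequence.exact₁ _ hT (i - 1) i (by omega)).isZero_of_both_zeros
        ((hFlow (i - 1) (by omega)).eq_of_src _ _) ((hQlow i h).eq_of_tgt _ _)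
    · haveI := hγ.1 i h
      have hepi := (hγ.mono (show c ≤ i - 1 by omega)).2
      have hmono : Mono ((DerivedCategory.homologyFunctor _ i).map γ) := inferInstance
      refine (HomologySequence.exact₁ _ hT (i - 1) i (by omega)).isZero_of_both_zeros ?_ ?_
      · exact (HomologySequence.epi_homologyMap_mor₂_iff _ hT (i - 1) i (by omega)).1 hepi
      · exact (HomologySequence.mono_homologyMap_mor₂_iff _ hT i).1 hmono
  have hd : d = 0 := hc₀ _ (Groth.Misc4.QCohDPerf.isQCohD_shift (isQCohD_of_isPerfect hKp) 1)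
    (Groth.Misc4.PerfVanishQcqs.isLE_mono (Groth.Misc4.PerfVanishQcqs.isLE_shift
      ((DerivedCategory.isLE_iff K c).2 fun q hq => hKz q (by omega)) 1 (c - 1) (by omega)) (by omega)) d
  obtain ⟨N, hN, ⟨eK⟩⟩ := exists_locFree hKp (show c ≤ B by omega) hKamp hKz
  obtain ⟨e, -, -⟩ := exists_iso_binaryBiproduct_of_distTriang _ hT hd
  exact ⟨c, N, Q', hN, hQ', ⟨e ≪≫ biprod.mapIso eK (Iso.refl F)⟩⟩

lemma nonempty_rd_inD {X Y : Scheme.{u}} (j : Y ⟶ X) [IsOpenImmersion j]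
    [PreservesFiniteLimits (Scheme.Modules.restrictFunctor j)] (N : X.Modules) (r : ℤ) :
    Nonempty ((DCoh.restrictD j).obj ((DCoh.inD X N)⟦r⟧) ≅ (DCoh.inD Y (N.restrict j))⟦r⟧) :=
  ⟨((DCoh.restrictD j).commShiftIso r).app _ ≪≫
    (CategoryTheory.shiftFunctor _ r).mapIso (((Scheme.Modules.restrictFunctor j).mapDerivedCategorySingleFunctor 0).app N)⟩

/-- The statement on an affine scheme. -/
theorem exists_sum_affine (X : Scheme.{u}) [IsAffine X] (W : X.Opens) (hW : IsCompact (W : Set X))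
    (F : DCoh.D (W : Scheme.{u})) (hF : DCoh.IsPerfect F)
    [∀ (A B : DCoh.D (W : Scheme.{u})), HasBinaryBiproduct A B] :
    ∃ (r : ℤ) (N : (W : Scheme.{u}).Modules) (G : CochainComplex X.Modules ℤ), FlatMod.IsFinLocFree N ∧
      DCoh.IsPerfect (DCoh.toD X G) ∧
      Nonempty (DerivedCategory.Q.obj ((DCoh.restrictCx W).obj G) ≅ (DCoh.inD (W : Scheme.{u}) N)⟦-r⟧ ⊞ F) := by
  let j := Groth.Misc4.AffineExtend.chart X
  haveI := Groth.PropsBasic2.preservesFiniteLimits_tilde (CommRingCat.of Γ(X, ⊤))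
  haveI := Groth.Misc4.ApproxExtend.preservesFiniteLimits_restrictFunctor W.ι
  haveI := Groth.Misc4.ApproxExtend.preservesFiniteLimits_restrictFunctor j
  obtain ⟨gs, hgs⟩ := Groth.Misc4.AffineExtend.exists_open X W hW
  let U₀ : (Spec (CommRingCat.of Γ(X, ⊤))).Opens := U gs
  haveI := Groth.Misc4.ApproxExtend.preservesFiniteLimits_restrictFunctor U₀.ι
  haveI := fun Z Z' : DCoh.D (U₀ : Scheme.{u}) => (inferInstance : HasBinaryBiproduct Z Z')
  have hrange : Set.range W.ι = Set.range (U₀.ι ≫ j) := by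
    ext x
    rw [Scheme.Opens.range_ι]
    constructor
    · intro hx
      obtain ⟨y, rfl⟩ := Groth.Misc4.AffineExtend.mem_opensRange_chart X x
      exact ⟨⟨y, (hgs y).1 hx⟩, rfl⟩
    · rintro ⟨y, rfl⟩
      exact (hgs y.1).2 y.2
  let i := IsOpenImmersion.isoOfRangeEq W.ι (U₀.ι ≫ j) hrange
  haveI := Groth.Misc4.ApproxExtend.preservesFiniteLimits_restrictFunctor i.inv
  haveI := Groth.Misc4.ApproxExtend.preservesFiniteLimits_restrictFunctor i.hom
  haveI := Groth.Misc4.ApproxExtend.preservesFiniteLimits_restrictFunctor (U₀.ι ≫ j)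
  haveI := Groth.Misc4.ApproxExtend.preservesFiniteLimits_restrictFunctor (𝟙 (W : Scheme.{u}))
  obtain ⟨r, N, G, hN, hG, ⟨e⟩⟩ :=
    exists_sum gs ((DCoh.restrictD i.inv).obj F) (Groth.DerivedCoh.PCohDescent.isPerfect_rd _ hF)
  let G' : DCoh.D X := (CxOX.extZeroD j).obj ((DCoh.tildeD (CommRingCat.of Γ(X, ⊤))).obj G)
  haveI := Groth.Misc4.ApproxExtend.isIso_extZeroDAdj_unit j ((DCoh.tildeD (CommRingCat.of Γ(X, ⊤))).obj G)
  let η := asIso ((Groth.DerivedCoh.ExtZero.extZeroDAdj j).unit.app ((DCoh.tildeD (CommRingCat.of Γ(X, ⊤))).obj G))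
  have hG' : DCoh.IsPerfect G' := by
    rw [isPerfect_iff]
    intro x
    obtain ⟨y, rfl⟩ := Groth.Misc4.AffineExtend.mem_opensRange_chart X x
    exact Groth.Misc4.ApproxGlue.exists_perfOn_of_rd j
      (isPerfect_of_iso η ((Groth.DerivedCoh.TildeD.isPerfect_tildeD_iff G).2 hG)) y
  obtain ⟨G₀, eG, ⟨eW⟩⟩ := Groth.Misc4.AffineExtend.nonempty_rep (W := W) (G := G')
  obtain ⟨eN⟩ := nonempty_rd_inD i.hom N (-r)
  haveI : (DCoh.restrictD i.hom).Additive := inferInstance
  haveI := preservesBinaryBiproducts_of_preservesBiproducts (DCoh.restrictD i.hom)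
  obtain ⟨F₀, ⟨eF⟩⟩ := exists_rep F
  let εF : (DCoh.restrictD (𝟙 (W : Scheme.{u}))).obj F ≅ F :=
    (DCoh.restrictD _).mapIso eF.symm ≪≫ rdQIso _ F₀ ≪≫ DerivedCategory.Q.mapIso
      ((NatIso.mapHomologicalComplex Scheme.Modules.restrictFunctorId _).app F₀ ≪≫
        (Functor.mapHomologicalComplexIdIso _ _).app F₀) ≪≫ eF
  refine ⟨r, N.restrict i.hom, G₀, Groth.LocFree.isFinLocFree_restrict i.hom hN, isPerfect_of_iso eG.symm hG',
    ⟨eW ≪≫ (Groth.Misc4.QcqsExtend.rdCompIso i.hom (U₀.ι ≫ j) W.ι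
        (IsOpenImmersion.isoOfRangeEq_hom_fac W.ι (U₀.ι ≫ j) hrange).symm).app G' ≪≫
      (DCoh.restrictD i.hom).mapIso
        ((Groth.Misc4.QcqsExtend.rdCompIso U₀.ι j (U₀.ι ≫ j) rfl).app G' ≪≫
          (DCoh.restrictD U₀.ι).mapIso η.symm ≪≫ e) ≪≫
      (DCoh.restrictD i.hom).mapBiprod _ _ ≪≫
      biprod.mapIso eN (((Groth.Misc4.QcqsExtend.rdCompIso i.hom i.inv (𝟙 _) i.hom_inv_id.symm).app F).symm ≪≫ εF)⟩⟩

end Groth.Misc4.PlusLocFree
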