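import Groth.Agent.Misc4.TildeOpenFT
import Groth.Agent.Misc4.PerfVanish
import Groth.Agent.DerivedCoh.PCoh.TopCohomology

/-!
# Perfect objects on a quasi-compact open of an affine scheme are retracts of restrictions
-/

universe u

open CategoryTheory CategoryTheory.Limits Pretriangulated DerivedCategory AlgebraicGeometry
open scoped ZeroObject
open Groth.DAlg Groth.KTheory.Perf
open Groth.DerivedCoh.PCoh (Near Below hShiftIso)
open Groth.Misc4.ApproxExtend (isZero_stalk_iff support_of_iso mem_support_hd_rd)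

attribute [local instance] HasDerivedCategory.standard

set_option backward.isDefEq.respectTransparency false
set_option backward.defeqAttrib.useBackward true
set_option synthInstance.maxHeartbeats 400000
set_option maxHeartbeats 1000000

namespace Groth.Misc4.Thomason

open Groth.Misc4.KoszulOrth Groth.Misc4.KoszulUnit

/-- The support of a direct image lies in any closed set containing the support. -/
theorem support_Rpush {X : Scheme.{u}} (U : X.Opens) [DCoh.HasRpush U.ι] {T : Set X} (hT : IsClosed T)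
    (F : DCoh.D (U : Scheme.{u})) (hF : ∀ i, CohB1.support (DCoh.HD F i) ⊆ U.ι.base ⁻¹' T) (i : ℤ) :
    CohB1.support (DCoh.HD ((DCoh.Rpush U.ι).obj F) i) ⊆ T := by
  let V : X.Opens := ⟨Tᶜ, hT.isOpen_compl⟩
  intro x hx
  by_contra hxT
  haveI : DCoh.HasRpush (U.ι ∣_ V) := Groth.Misc4.PushRestrict.hasRightDerived _
  obtain ⟨σ⟩ := Groth.Misc4.PushRestrict.restrictD_Rpush_iso U.ι V
  have hz : IsZero ((DCoh.restrictD V.ι).obj ((DCoh.Rpush U.ι).obj F)) :=
    IsZero.of_iso (Groth.DerivedCoh.PerfPush.isZero_Rpush (U.ι ∣_ V)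
      (Groth.DerivedCoh.PerfPush.isZero_restrictD F hF (U.ι ⁻¹ᵁ V) fun y hy => hy)) (σ.app F)
  have h1 := (mem_support_hd_rd V.ι _ i ⟨x, hxT⟩).2 hx
  exact Set.eq_empty_iff_forall_notMem.1 (Groth.Misc4.ApproxExtend.isZero_iff_support.1
    ((DerivedCategory.homologyFunctor _ i).map_isZero hz)) _ h1

/-- Perfect objects have quasi-coherent cohomology. -/
theorem isQCohD_of_isPerfect {X : Scheme.{u}} {K : DCoh.D X} (hK : DCoh.IsPerfect K) : DCoh.IsQCohD K := by
  refine Groth.Misc4.QCohDPerf.isQCohD_of_local fun x => ?_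
  obtain ⟨V, hx, E, hE, ⟨e⟩⟩ := (isPerfect_iff _).1 hK x
  refine ⟨V, hx, Groth.Misc4.QCohDPerf.isQCohD_of_iso e.symm ?_⟩
  have hEf := Groth.DerivedCoh.PCoh.isKFlat_of_isStrictlyPerfect hE
  haveI := Groth.DerivedCoh.KFlat.hasLTensorCx E
  refine Groth.Misc4.QCohDPerf.isQCohD_of_iso (Groth.Misc4.PerfectCompact.ltcxUnitIso E hEf)
    (Groth.Misc4.QCohDPerf.isQCohD_ltensor_perfect E hE fun i => ?_)
  let O := Coh.structureModule (V : Scheme.{u})
  rcases lt_trichotomy i 0 with hi | rfl | hi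
  · exact Groth.Misc4.QCohDPerf.isQCoh_isZero
      (DerivedCategory.isZero_of_isGE ((singleFunctor (V : Scheme.{u}).Modules 0).obj O) 0 i hi)
  · exact (Groth.QCohMod.isQCoh_iff_of_iso
      ((singleFunctorCompHomologyFunctorIso (V : Scheme.{u}).Modules 0).app O)).2
      (inferInstanceAs (SheafOfModules.unit (V : Scheme.{u}).ringCatSheaf).IsQuasicoherent)
  · exact Groth.Misc4.QCohDPerf.isQCoh_isZero
      (DerivedCategory.isZero_of_isLE ((singleFunctor (V : Scheme.{u}).Modules 0).obj O) 0 i hi)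

variable {A : Type u} [CommRing A] [PreservesFiniteLimits (tilde.functor (CommRingCat.of A))] (ts gs : List A)
  [PreservesFiniteLimits (Scheme.Modules.restrictFunctor (U gs).ι)]

/-- There is a map from a perfect torsion object which is a near isomorphism on the open. -/
def ApprW (m : ℤ) (M : DerivedCategory (ModuleCat.{u} A)) : Prop :=
  ∃ (P C : DerivedCategory (ModuleCat.{u} A)) (α : P ⟶ M) (v : M ⟶ C) (w : C ⟶ P⟦(1 : ℤ)⟧),
    Triangle.mk α v w ∈ distTriang _ ∧ PerfTors ts P ∧ TorsionIn gs m C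

/-- Pseudo-coherent on the open. -/
def PCW (M : DerivedCategory (ModuleCat.{u} A)) : Prop := ∀ m : ℤ, DCoh.IsPseudoCoherentD m ((Φ gs).obj M)

variable {ts gs}

lemma PCW.shift {M : DerivedCategory (ModuleCat.{u} A)} (h : PCW gs M) (n : ℤ) : PCW gs (M⟦n⟧) := fun m =>
  Groth.DerivedCoh.PCoh.isPseudoCoherentD_of_iso (((Φ gs).commShiftIso n).app M).symm
    (Groth.DerivedCoh.PCoh.isPseudoCoherentD_shift (h (m + n)) n m (by omega))

lemma PCW.of_perfect {M : DerivedCategory (ModuleCat.{u} A)} (h : DRing.IsPerfect A M) : PCW gs M :=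
  Groth.DerivedCoh.PCoh.isPseudoCoherentD_of_isPerfect
    (Groth.DerivedCoh.PCohDescent.isPerfect_rd _ ((Groth.DerivedCoh.TildeD.isPerfect_tildeD_iff M).2 h))

lemma isZero_hd_Φ_iff (M : DerivedCategory (ModuleCat.{u} A)) (q : ℤ) :
    IsZero (DCoh.HD ((Φ gs).obj M) q) ↔
      ∀ g ∈ gs, ∀ x : (homologyFunctor (ModuleCat.{u} A) q).obj M, ∃ N : ℕ, g ^ N • x = 0 := by
  rw [← isZero_restrict_tilde_iff]
  exact ((nonempty_hdRd (U gs).ι _ q).some ≪≫
    (Scheme.Modules.restrictFunctor (U gs).ι).mapIso (nonempty_hd_tildeD M q).some).isZero_iff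

lemma below_Φ_iff (M : DerivedCategory (ModuleCat.{u} A)) (m : ℤ) :
    Below m ((Φ gs).obj M) ↔ TorsionIn gs m M :=
  ⟨fun h g hg q hq => (isZero_hd_Φ_iff M q).1 (h q hq) g hg,
    fun h q hq => (isZero_hd_Φ_iff M q).2 fun g hg => h g hg q hq⟩

lemma ApprW.of_iso {m : ℤ} {M M' : DerivedCategory (ModuleCat.{u} A)} (h : ApprW ts gs m M) (e : M ≅ M') :
    ApprW ts gs m M' := by
  obtain ⟨P, C, α, v, w, hT, hP, hC⟩ := h
  refine ⟨P, C, α ≫ e.hom, e.inv ≫ v, w, isomorphic_distinguished _ hT _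
    (Triangle.isoMk _ _ (Iso.refl _) e.symm (Iso.refl _) ?_ ?_ ?_), hP, hC⟩ <;> simp

lemma ApprW.shift {m m' : ℤ} {M : DerivedCategory (ModuleCat.{u} A)} (h : ApprW ts gs m M) (n : ℤ)
    (hm : m ≤ m' + n) : ApprW ts gs m' (M⟦n⟧) := by
  obtain ⟨P, C, α, v, w, hT, hP, hC⟩ := h
  exact ⟨_, _, _, _, _, Triangle.shift_distinguished _ hT n, hP.shift n, hC.shift n hm⟩

theorem ApprW.of_cone {m : ℤ} {Q M M' : DerivedCategory (ModuleCat.{u} A)} {β : Q ⟶ M} {v : M ⟶ M'}
    {w : M' ⟶ Q⟦(1 : ℤ)⟧} (hT : Triangle.mk β v w ∈ distTriang _) (hQ : PerfTors ts Q)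
    (h : ApprW ts gs m M') : ApprW ts gs m M := by
  obtain ⟨P', C, α', p, d, hC, hP', hCt⟩ := h
  obtain ⟨Z, a, b, hZ⟩ := distinguished_cocone_triangle (v ≫ p)
  let o := Triangulated.someOctahedron (rfl : v ≫ p = v ≫ p) (rot_of_distTriang _ hT)
    (rot_of_distTriang _ hC) hZ
  exact ⟨_, _, _, _, _, inv_rot_of_distTriang _ hZ,
    (PerfTors.ext o.mem (hQ.shift 1) (hP'.shift 1)).shift (-1), hCt⟩

/-- Killing generators on the open. -/
theorem apprW_step {m : ℤ} (H : ∀ M : DerivedCategory (ModuleCat.{u} A), (∀ t ∈ ts, IsTorsion t M) →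
      PCW gs M → TorsionIn gs 0 M → ApprW ts gs m M) :
    ∀ (k : ℕ) (M : DerivedCategory (ModuleCat.{u} A)), (∀ t ∈ ts, IsTorsion t M) → PCW gs M →
      TorsionIn gs 1 M → ∀ x : Fin k → (homologyFunctor (ModuleCat.{u} A) 0).obj M,
        (∀ g ∈ gs, ∀ y : (homologyFunctor (ModuleCat.{u} A) 0).obj M, ∃ N : ℕ, g ^ N • y ∈ Submodule.span A (Set.range x)) → ApprW ts gs m M := by
  intro k
  induction k with
  | zero =>
    intro M ht hpc hz x hx
    refine H M ht hpc fun g hg q hq => ?_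
    rcases hq.eq_or_lt with rfl | hq
    · intro y
      obtain ⟨N, hN⟩ := hx g hg y
      rw [Set.range_eq_empty, Submodule.span_empty] at hN
      exact ⟨N, hN⟩
    · exact hz g hg q hq
  | succ k ih =>
    intro M ht hpc hz x hx
    obtain ⟨Q, β, hQ, hQz, y, hy⟩ := exists_hit (fun f hf q _ => ht f hf q) (x 0)
    obtain ⟨M', v, w, hT⟩ := distinguished_cocone_triangle β
    have hsurj : Function.Surjective ((homologyFunctor (ModuleCat.{u} A) 0).map v).hom :=
      (ModuleCat.epi_iff_surjective _).1 ((HomologySequence.epi_homologyMap_mor₁_iff _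
        (rot_of_distTriang _ hT) 0).2 ((((hQz 1 one_pos).of_iso
          ((hShiftIso 1 0 1 rfl).app Q))).eq_of_tgt _ _))
    refine ApprW.of_cone hT hQ (ih M' (fun t ht' q => ?_) (fun n => ?_) (fun g hg q hq => ?_)
      (fun j => ((homologyFunctor (ModuleCat.{u} A) 0).map v).hom (x j.succ)) fun g hg z => ?_)
    · exact torsion_mid (HomologySequence.exact₃ _ hT q (q + 1) rfl) (ht t ht' q) (hQ.2 t ht' (q + 1))
    · exact Groth.DerivedCoh.PCoh.isPseudoCoherentD_obj₃ _ ((Φ gs).map_distinguished _ hT)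
        (PCW.of_perfect hQ.1 (n + 1)) (hpc n)
    · refine torsion_mid (HomologySequence.exact₃ _ hT q (q + 1) rfl) (hz g hg q hq) fun z => ⟨0, ?_⟩
      exact (ModuleCat.subsingleton_of_isZero (hQz (q + 1) (by omega))).elim _ _
    · obtain ⟨z₀, rfl⟩ := hsurj z
      obtain ⟨N, hN⟩ := hx g hg z₀
      refine ⟨N, ?_⟩
      have hv0 : ((homologyFunctor (ModuleCat.{u} A) 0).map v).hom (x 0) = 0 := by
        rw [← hy]
        have h0 : (homologyFunctor (ModuleCat.{u} A) 0).map β ≫ (homologyFunctor (ModuleCat.{u} A) 0).map v = 0 :=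
          (Functor.map_comp _ _ _).symm.trans ((congrArg (homologyFunctor (ModuleCat.{u} A) 0).map
            (comp_distTriang_mor_zero₁₂ _ hT)).trans (Functor.map_zero _ _ _))
        exact ((ConcreteCategory.comp_apply _ _ y).symm.trans (congr_arg (fun t => t.hom y) h0) :)
      rw [← map_smul]
      have h := Submodule.mem_map_of_mem (f := ((homologyFunctor (ModuleCat.{u} A) 0).map v).hom) hN
      rw [Submodule.map_span] at h
      refine Submodule.span_le.2 ?_ h
      rintro _ ⟨_, ⟨j, rfl⟩, rfl⟩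
      rcases Fin.eq_zero_or_eq_succ j with rfl | ⟨j, rfl⟩
      · rw [hv0]; exact zero_mem _
      · exact Submodule.subset_span ⟨j, rfl⟩

theorem apprW_aux : ∀ (n : ℕ) (M : DerivedCategory (ModuleCat.{u} A)), (∀ t ∈ ts, IsTorsion t M) →
    PCW gs M → TorsionIn gs 0 M → ApprW ts gs (-(n : ℤ)) M := by
  intro n
  induction n with
  | zero =>
    intro M _ _ hz
    obtain ⟨C, v, w, hT⟩ := distinguished_cocone_triangle (0 : (0 : DerivedCategory (ModuleCat.{u} A)) ⟶ M)
    refine ⟨_, C, _, v, w, hT, PerfTors.of_isZero (isZero_zero _), fun g hg q hq => ?_⟩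
    refine torsion_mid (HomologySequence.exact₃ _ hT q (q + 1) rfl) (hz g hg q (by simpa using hq)) fun z => ⟨0, ?_⟩
    exact (ModuleCat.subsingleton_of_isZero
      ((homologyFunctor (ModuleCat.{u} A) (q + 1)).map_isZero (isZero_zero _))).elim _ _
  | succ n ih =>
    intro M ht hpc hz
    have hN : ApprW ts gs (-(n : ℤ)) (M⟦(-1 : ℤ)⟧) := by
      have hz' : TorsionIn gs 1 (M⟦(-1 : ℤ)⟧) := hz.shift (-1) (by omega)
      have hpc' : PCW gs (M⟦(-1 : ℤ)⟧) := hpc.shift (-1)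
      have hft : CohB1.IsFT (DCoh.HD ((Φ gs).obj (M⟦(-1 : ℤ)⟧)) 0) :=
        Groth.DerivedCoh.PCoh.isFT_top (hpc' 0) fun i hi => (below_Φ_iff _ 1).2 hz' i (by omega)
      obtain ⟨s, hs⟩ := Groth.Misc4.TildeOpenFT.exists_finset gs _ (Groth.QCohMod.isFT_of_iso
        ((nonempty_hdRd (U gs).ι _ 0).some ≪≫ (Scheme.Modules.restrictFunctor (U gs).ι).mapIso
          (nonempty_hd_tildeD (M⟦(-1 : ℤ)⟧) 0).some) hft)
      refine apprW_step ih s.card _ (fun t h => isTorsion_shift (ht t h) (-1)) hpc' hz'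
        (fun i => (s.equivFin.symm i).1) fun g hg y => ?_
      obtain ⟨N, hN⟩ := hs g hg y
      refine ⟨N, Submodule.span_mono (fun z hz => ?_) hN⟩
      exact ⟨s.equivFin ⟨z, hz⟩, by simp⟩
    exact (hN.shift 1 (by push_cast; omega)).of_iso ((shiftFunctorCompIsoId _ (-1 : ℤ) 1 (by omega)).app M)

/-- Perfect objects on the open, supported off `U ts`, are retracts of restrictions. -/
theorem exists_retract (F : DCoh.D ((U gs : (Spec (CommRingCat.of A)).Opens) : Scheme.{u})) (hF : DCoh.IsPerfect F)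
    (hT : ∀ i, ∀ y ∈ CohB1.support (DCoh.HD F i), (U gs).ι y ∉ U ts) :
    ∃ Q, Lift ts gs Q ∧ ∃ (s : F ⟶ Q) (p : Q ⟶ F), s ≫ p = 𝟙 F := by
  haveI : PreservesFiniteColimits (Scheme.Modules.restrictFunctor (U gs).ι) :=
    haveI := (Scheme.Modules.restrictAdjunction (U gs).ι).leftAdjoint_preservesColimits
    inferInstance
  haveI : DCoh.HasRpush (U gs).ι := Groth.Misc4.PushRestrict.hasRightDerived _
  haveI := quasiCompact_ι gs
  haveI : CompactSpace ((U gs : (Spec (CommRingCat.of A)).Opens) : Scheme.{u}) :=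
    QuasiCompact.compactSpace_of_compactSpace (U gs).ι
  let adj : DCoh.restrictD (U gs).ι ⊣ DCoh.Rpush (U gs).ι :=
    Groth.DerivedAdj.derivedAdj (Scheme.Modules.restrictAdjunction (U gs).ι)
      (Groth.DerivedCoh.KFlat.enoughKInj ((U gs : (Spec (CommRingCat.of A)).Opens) : Scheme.{u}))
  haveI := isIso_counit gs adj
  have hFq : DCoh.IsQCohD F := isQCohD_of_isPerfect hF
  obtain ⟨M, ⟨eM⟩⟩ := (Groth.Misc4.QCohTildeD.isQCohD_iff (R := CommRingCat.of A) _).1
    (Groth.Misc4.QCohRpushD.isQCohD (U gs).ι F hFq)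
  let e : (Φ gs).obj M ≅ F := (DCoh.restrictD (U gs).ι).mapIso eM ≪≫ (asIso adj.counit).app F
  have htM : ∀ t ∈ ts, IsTorsion t M := fun t ht q => by
    refine (support_tilde_subset_iff ts _).1 (fun y hy => ?_) t ht
    rw [← support_of_iso ((nonempty_hd_tildeD M q).some.symm ≪≫
      (DerivedCategory.homologyFunctor _ q).mapIso eM).symm] at hy
    exact support_Rpush (U gs) (U ts).2.isClosed_compl F (fun i z hz => hT i z hz) q hy
  have hpc : PCW gs M := fun m => Groth.DerivedCoh.PCoh.isPseudoCoherentD_of_iso e.symm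
    (Groth.DerivedCoh.PCoh.isPseudoCoherentD_of_isPerfect hF m)
  obtain ⟨b, hb⟩ := Groth.DerivedCoh.TildeD.exists_bound (hpc 0)
  obtain ⟨c, hc⟩ := Groth.Misc4.PerfVanish.exists_vanish gs F hF
  let n : ℕ := (b + 1 - c).toNat
  have hA : ApprW ts gs (-(n : ℤ)) (M⟦b + 1⟧) := apprW_aux n _ (fun t ht => isTorsion_shift (htM t ht) _)
    (hpc.shift _) (((below_Φ_iff M (b + 1)).1 fun i hi => hb i (by omega)).shift (b + 1) (by omega))
  obtain ⟨P, C, α, v, w, hTr, hP, hC⟩ := (hA.shift (m' := c) (-(b + 1)) (by omega)).of_iso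
    ((shiftFunctorCompIsoId _ (b + 1) (-(b + 1)) (by omega)).app M)
  have hCq : DCoh.IsQCohD ((Φ gs).obj C) := Groth.Misc4.QCohDPerf.isQCohD_restrict (U gs).ι
    ((Groth.Misc4.QCohTildeD.isQCohD_iff (R := CommRingCat.of A) _).2 ⟨C, ⟨Iso.refl _⟩⟩)
  obtain ⟨s, hs⟩ := Triangle.coyoneda_exact₂ _ ((Φ gs).map_distinguished _ hTr) e.inv
    (hc _ hCq ((below_Φ_iff C c).2 hC) _)
  refine ⟨_, ⟨P, hP, ⟨Iso.refl _⟩⟩, s, (Φ gs).map α ≫ e.hom, ?_⟩
  rw [← Category.assoc]
  exact ((congrArg (· ≫ e.hom) hs).symm).trans e.inv_hom_id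

/-- A perfect object on the open plus an odd shift of it lifts. -/
theorem lift_of_perfect (F : DCoh.D ((U gs : (Spec (CommRingCat.of A)).Opens) : Scheme.{u})) (hF : DCoh.IsPerfect F)
    (hT : ∀ i, ∀ y ∈ CohB1.support (DCoh.HD F i), (U gs).ι y ∉ U ts) (k : ℕ) :
    Lift ts gs (F⟦((2 * k + 1 : ℕ) : ℤ)⟧ ⊞ F) := by
  obtain ⟨Q, hQ, s, p, hsp⟩ := exists_retract F hF hT
  exact lift_sum_shift hQ s p hsp k

end Groth.Misc4.Thomason
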