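import Groth.Agent.DerivedCoh.KFlat.LTensorGen
import Groth.Agent.Misc4.QCoprod
import Groth.Agent.Misc4.HasRSheafHom

/-!
Left derived functors computed by K-flat complexes preserve direct sums.
-/

universe w' w v' v u' u

open CategoryTheory CategoryTheory.Limits AlgebraicGeometry HomologicalComplex

namespace Groth.Misc4.DerivedCoprod

open Groth.DerivedCoh.KFlat

attribute [local instance] HasDerivedCategory.standard

set_option maxHeartbeats 1000000

local notation "up" => ComplexShape.up ℤ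

section Gen

variable {A : Type u} [Category.{v} A] [Abelian A] [IsGrothendieckAbelian.{v} A] [HasDerivedCategory.{w} A]
  {B : Type u'} [Category.{v} B] [Abelian B] [IsGrothendieckAbelian.{v} B] [HasDerivedCategory.{w'} B]

/-- a functor computed on a resolving class closed under sums by a functor preserving sums preserves sums -/
theorem isIso_desc (G : DerivedCategory A ⥤ DerivedCategory B) (F : CochainComplex A ℤ ⥤ CochainComplex B ℤ)
    (α : DerivedCategory.Q ⋙ G ⟶ F ⋙ DerivedCategory.Q) (P : CochainComplex A ℤ → Prop)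
    (hiso : ∀ C, P C → IsIso (α.app C))
    (hres : ∀ M : DerivedCategory A, ∃ C, P C ∧ Nonempty (DerivedCategory.Q.obj C ≅ M))
    {ι : Type v} [PreservesColimitsOfShape (Discrete ι) F]
    (hP : ∀ C : ι → CochainComplex A ℤ, (∀ i, P (C i)) → P (∐ C))
    (M : ι → DerivedCategory A) [HasCoproduct M] [HasCoproduct fun i => G.obj (M i)] :
    IsIso (Sigma.desc fun i => G.map (Sigma.ι M i)) := by
  choose C hC hCM using fun i => hres (M i)
  let K := DerivedCategory.Q (C := A)
  let L := DerivedCategory.Q (C := B)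
  obtain ⟨hA⟩ := Groth.Misc4.QCoprod.nonempty_isColimit C
  obtain ⟨hB⟩ := Groth.Misc4.QCoprod.nonempty_isColimit fun i => F.obj (C i)
  haveI := hiso (∐ C) (hP C hC)
  haveI := fun i => hiso (C i) (hC i)
  let e : ∀ i, K.obj (C i) ≅ M i := fun i => (hCM i).some
  let hM : IsColimit (Cofan.mk (∐ M) (Sigma.ι M)) := coproductIsCoproduct M
  let a : ∐ M ⟶ K.obj (∐ C) := Sigma.desc fun i => (e i).inv ≫ K.map (Sigma.ι C i)
  let b : K.obj (∐ C) ⟶ ∐ M := Cofan.IsColimit.desc hA fun i => (e i).hom ≫ Sigma.ι M i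
  have hb : ∀ i, K.map (Sigma.ι C i) ≫ b = (e i).hom ≫ Sigma.ι M i := fun i =>
    Cofan.IsColimit.fac hA _ i
  let s : L.obj (F.obj (∐ C)) ⟶ L.obj (∐ fun i => F.obj (C i)) :=
    L.map (PreservesCoproduct.iso F C).hom
  let t : L.obj (∐ fun i => F.obj (C i)) ⟶ ∐ fun i => G.obj (M i) :=
    Cofan.IsColimit.desc hB fun i => inv (α.app (C i)) ≫ G.map (e i).hom ≫ Sigma.ι (fun i => G.obj (M i)) i
  have ht : ∀ i, L.map (Sigma.ι (fun i => F.obj (C i)) i) ≫ t =
      inv (α.app (C i)) ≫ G.map (e i).hom ≫ Sigma.ι (fun i => G.obj (M i)) i := fun i =>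
    Cofan.IsColimit.fac hB _ i
  let inverse := G.map a ≫ α.app (∐ C) ≫ s ≫ t
  have hι : ∀ i, G.map (Sigma.ι M i) ≫ inverse = Sigma.ι (fun i => G.obj (M i)) i := fun i => by
    have n := α.naturality (Sigma.ι C i)
    simp only [Functor.comp_map] at n
    have hs : L.map (F.map (Sigma.ι C i)) ≫ s = L.map (Sigma.ι (fun i => F.obj (C i)) i) := by
      rw [← L.map_comp]
      congr 1
      rw [← Iso.eq_comp_inv, PreservesCoproduct.inv_hom]
      exact (ι_comp_sigmaComparison F C i).symm
    simp only [inverse]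
    rw [← G.map_comp_assoc, show Sigma.ι M i ≫ a = _ from Sigma.ι_desc _ _, G.map_comp, Category.assoc,
      reassoc_of% n, reassoc_of% hs, ht, IsIso.hom_inv_id_assoc, ← G.map_comp_assoc, Iso.inv_hom_id,
      CategoryTheory.Functor.map_id, Category.id_comp]
  refine ⟨inverse, Sigma.hom_ext _ _ fun i => ?_, ?_⟩
  · rw [← Category.assoc, Sigma.ι_desc, hι, Category.comp_id]
  · have hab : a ≫ b = 𝟙 _ := Sigma.hom_ext _ _ fun i => by
      simp [a, hb]
    have hba : b ≫ a = 𝟙 _ := Cofan.IsColimit.hom_ext hA _ _ fun i => by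
      change K.map (Sigma.ι C i) ≫ b ≫ a = K.map (Sigma.ι C i) ≫ 𝟙 _
      rw [reassoc_of% (hb i)]
      simp [a]
    haveI : IsIso a := ⟨b, hab, hba⟩
    have hsd : s ≫ t ≫ (Sigma.desc fun i => G.map (Sigma.ι M i)) = inv (α.app (∐ C)) ≫ G.map b := by
      rw [← cancel_epi (L.map (PreservesCoproduct.iso F C).inv)]
      refine Cofan.IsColimit.hom_ext hB _ _ fun i => ?_
      change L.map (Sigma.ι (fun i => F.obj (C i)) i) ≫ _ = L.map (Sigma.ι (fun i => F.obj (C i)) i) ≫ _
      simp only [s, ← L.map_comp_assoc, Iso.inv_hom_id, Category.comp_id]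
      rw [PreservesCoproduct.inv_hom, ι_comp_sigmaComparison, ← Category.assoc, ht, Category.assoc,
        Category.assoc, Sigma.ι_desc, ← G.map_comp, ← hb, G.map_comp]
      rw [← cancel_epi (α.app (C i)), IsIso.hom_inv_id_assoc, ← reassoc_of% (α.naturality (Sigma.ι C i))]
      simp [K]
    simp only [inverse, Category.assoc]
    rw [hsd, IsIso.hom_inv_id_assoc, ← G.map_comp, hab, CategoryTheory.Functor.map_id]

end Gen

variable {X Y : Scheme.{u}}

lemma preservesColimitsOfShape_obj {J : Type u} [SmallCategory J] (M : X.Modules) :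
    PreservesColimitsOfShape J ((T X).obj M) where
  preservesColimit {G} := ⟨fun {c} hc => ⟨by
    refine stk_jointly.jointlyReflectsColimit fun x => ?_
    exact IsColimit.mapCoconeEquiv (tensorStkIso M x).symm
      (isColimitOfPreserves (MonoidalCategory.tensorLeft ((stk x).obj M))
        (isColimitOfPreserves (stk x) hc))⟩⟩

lemma isKFlat_sigma {ι : Type u} (C : ι → CochainComplex X.Modules ℤ) (h : ∀ i, IsKFlat (T X) (C i)) :
    IsKFlat (T X) (∐ C) :=
  haveI := fun M : X.Modules => preservesColimitsOfShape_obj (J := Discrete ι) M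
  isKFlat_of_isColimit (T X) (Discrete.functor C) (colimit.cocone _)
    (fun q => isColimitOfPreserves (eval X.Modules up q) (colimit.isColimit _)) fun i => h i.as

lemma isKFlat_flip_sigma {ι : Type u} (C : ι → CochainComplex X.Modules ℤ)
    (h : ∀ i, IsKFlat (T X).flip (C i)) : IsKFlat (T X).flip (∐ C) :=
  haveI := fun M : X.Modules => Groth.Misc4.HasRSheafHom.preservesColimitsOfShape_flip (J := Discrete ι) M
  isKFlat_of_isColimit (T X).flip (Discrete.functor C) (colimit.cocone _)
    (fun q => isColimitOfPreserves (eval X.Modules up q) (colimit.isColimit _)) fun i => h i.as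

lemma exists_flat_rep (M : DCoh.D X) :
    ∃ F : CochainComplex X.Modules ℤ,
      Nonempty (DerivedCategory.Q.obj ((flatResolution X).obj F) ≅ M) := by
  let F := DerivedCategory.Q.objPreimage M
  haveI := flatResolution_quasiIso F
  exact ⟨F, ⟨asIso (DerivedCategory.Q.map ((flatResolutionAug X).app F)) ≪≫
    DerivedCategory.Q.objObjPreimageIso M⟩⟩

theorem isIso_desc_LTensorCx (D : CochainComplex X.Modules ℤ) [DCoh.HasLTensorCx D] {ι : Type u}
    (C : ι → DCoh.D X) [HasCoproduct C] [HasCoproduct fun i => (DCoh.LTensorCx D).obj (C i)] :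
    IsIso (Sigma.desc fun i => (DCoh.LTensorCx D).map (Sigma.ι C i)) :=
  haveI : PreservesColimitsOfShape (Discrete ι) (totL (T X) D) :=
    Groth.Misc4.HasRSheafHom.preservesColimitsOfShape_totL D (Discrete ι)
  isIso_desc (DCoh.LTensorCx D) (totL (T X) D) (ltcxCounit D) (IsKFlat (T X).flip)
    (fun C hC => isIso_ltcxCounit_app D C hC)
    (fun M => let ⟨_, h⟩ := exists_flat_rep M; ⟨_, flatResolution_isKFlat_flip _, h⟩)
    (fun C hC => isKFlat_flip_sigma C hC) C

theorem isIso_desc_Lpull (f : X ⟶ Y) [DCoh.HasLpull f] {ι : Type u} (C : ι → DCoh.D Y)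
    [HasCoproduct C] [HasCoproduct fun i => (DCoh.Lpull f).obj (C i)] :
    IsIso (Sigma.desc fun i => (DCoh.Lpull f).map (Sigma.ι C i)) := by
  haveI : PreservesColimitsOfShape (Discrete ι) (pullCx f) :=
    ⟨fun {G} => ⟨fun {c} hc => ⟨isColimitOfEval _ _ fun n =>
      isColimitOfPreserves (Scheme.Modules.pullback f) (isColimitOfPreserves (eval Y.Modules up n) hc)⟩⟩⟩
  let qY := DerivedCategory.quotientCompQhIso Y.Modules
  let qX := DerivedCategory.quotientCompQhIso X.Modules
  let α : DerivedCategory.Q ⋙ DCoh.Lpull f ⟶ pullCx f ⋙ DerivedCategory.Q :=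
    Functor.whiskerRight qY.inv (DCoh.Lpull f) ≫
      Functor.whiskerLeft (HomotopyCategory.quotient Y.Modules up) (pullCounit f) ≫
        Functor.whiskerLeft (pullCx f) qX.hom
  refine isIso_desc (DCoh.Lpull f) (pullCx f) α (IsKFlat (T Y)) (fun C hC => ?_)
    (fun M => let ⟨_, h⟩ := exists_flat_rep M; ⟨_, flatResolution_isKFlat _, h⟩)
    (fun C hC => isKFlat_sigma C hC) C
  exact @IsIso.comp_isIso _ _ _ _ _ ((DCoh.Lpull f).map (qY.inv.app C)) _ inferInstance
    (@IsIso.comp_isIso _ _ _ _ _ _ (qX.hom.app ((pullCx f).obj C)) (isIso_pullCounit_app f C hC) inferInstance)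

end Groth.Misc4.DerivedCoprod
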