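import Groth.Agent.Misc4.ProjCx
import Groth.Agent.DerivedCoh.Duality.LocalModel
import Groth.Agent.DerivedCoh.Duality.Rep
import Groth.Agent.DerivedCoh.PCoh.Pullback

/-!
The projection formula for a perfect complex.
-/

universe u

open CategoryTheory CategoryTheory.Limits AlgebraicGeometry HomologicalComplex Pretriangulated

namespace Groth.Misc4.ProjPerfect

open Groth.DerivedCoh.KFlat (T IsKFlat tot totL totR pushCx pullCx kres kresAug)
open Groth.DerivedCoh.ExtZero (resCx ezCx)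
open Groth.DerivedCoh.Duality (rtTot rtTot_natural₂)
open Groth.DerivedCoh.PCoh (pullRestrictIso)
open Groth.Misc4.ProjCx

attribute [local instance] HasDerivedCategory.standard

set_option maxHeartbeats 1000000

local notation "up" => ComplexShape.up ℤ

variable {X Y : Scheme.{u}} (f : X ⟶ Y) (I : CochainComplex X.Modules ℤ)

/-- the comparison `f_* I ⊗ P ⟶ f_* (resolution of I ⊗ f^*P)` -/
noncomputable def theta (P : CochainComplex Y.Modules ℤ) :
    tot (T Y) ((pushCx f).obj I) P ⟶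
      (pushCx f).obj ((kres X).obj (tot (T X) I ((pullCx f).obj P))) :=
  psi f I P ≫ (pushCx f).map ((kresAug X).app (tot (T X) I ((pullCx f).obj P)))

lemma theta_natural {P P' : CochainComplex Y.Modules ℤ} (α : P ⟶ P') :
    (totR (T Y) ((pushCx f).obj I)).map α ≫ theta f I P' =
      theta f I P ≫ (pushCx f).map ((kres X).map ((totR (T X) I).map ((pullCx f).map α))) := by
  refine (Category.assoc _ _ _).symm.trans ((congrArg (· ≫ _) (psi_natural f I α)).trans ?_)
  refine (Category.assoc _ _ _).trans (Eq.trans ?_ (Category.assoc _ _ _).symm)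
  refine congrArg (psi f I P ≫ ·) ?_
  refine ((pushCx f).map_comp _ _).symm.trans ((congrArg (pushCx f).map ?_).trans ((pushCx f).map_comp _ _))
  exact (kresAug X).naturality ((totR (T X) I).map ((pullCx f).map α))

variable (V : Y.Opens)

lemma qc {U : Scheme.{u}} {A B C : CochainComplex U.Modules ℤ} {a : A ⟶ B} {b : B ⟶ C} (ha : QuasiIso a)
    (hb : QuasiIso b) : QuasiIso (a ≫ b) :=
  @quasiIso_comp _ _ _ _ _ _ _ _ a b _ _ _ ha hb

lemma cl {U : Scheme.{u}} {A B C : CochainComplex U.Modules ℤ} {a : A ⟶ B} {b : B ⟶ C} (ha : QuasiIso a)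
    (h : QuasiIso (a ≫ b)) : QuasiIso b :=
  haveI := ha
  haveI := h
  quasiIso_of_comp_left a b

lemma cr {U : Scheme.{u}} {A B C : CochainComplex U.Modules ℤ} {a : A ⟶ B} {b : B ⟶ C} (hb : QuasiIso b)
    (h : QuasiIso (a ≫ b)) : QuasiIso a :=
  haveI := hb
  haveI := h
  quasiIso_of_comp_right a b

lemma qiso {U : Scheme.{u}} {A B : CochainComplex U.Modules ℤ} (e : A ≅ B) : QuasiIso e.hom := inferInstance

lemma qres {Z U : Scheme.{u}} (j : U ⟶ Z) [IsOpenImmersion j] {A B : CochainComplex Z.Modules ℤ}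
    (w : A ⟶ B) [QuasiIso w] : QuasiIso ((resCx j).map w) := inferInstance

/-- restriction of a map between K-injective complexes and direct image -/
theorem quasiIso_res_push {J J' : CochainComplex X.Modules ℤ} (β : J ⟶ J')
    (hJ : ((resCx (f ⁻¹ᵁ V).ι).obj J).IsKInjective) (hJ' : ((resCx (f ⁻¹ᵁ V).ι).obj J').IsKInjective)
    (hβ : QuasiIso ((resCx (f ⁻¹ᵁ V).ι).map β)) :
    QuasiIso ((resCx V.ι).map ((pushCx f).map β)) := by
  let c : pushCx f ⋙ resCx V.ι ≅ resCx (f ⁻¹ᵁ V).ι ⋙ pushCx (f ∣_ V) :=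
    NatIso.mapHomologicalComplex (Groth.Misc4.PushRestrict.baseLocalIso f V) up
  haveI := hJ
  haveI := hJ'
  haveI := hβ
  haveI : QuasiIso ((resCx (f ⁻¹ᵁ V).ι ⋙ pushCx (f ∣_ V)).map β) :=
    Groth.DerivedCoh.KFlat.quasiIso_pushCx (f ∣_ V) ((resCx (f ⁻¹ᵁ V).ι).map β)
      (Groth.DerivedCoh.KFlat.weakKInj_of_isKInjective _) (Groth.DerivedCoh.KFlat.weakKInj_of_isKInjective _)
  haveI : QuasiIso (c.hom.app J ≫ (resCx (f ⁻¹ᵁ V).ι ⋙ pushCx (f ∣_ V)).map β) := inferInstance
  haveI : QuasiIso ((pushCx f ⋙ resCx V.ι).map β ≫ c.hom.app J') := by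
    rw [c.hom.naturality β]; infer_instance
  exact quasiIso_of_comp_right ((pushCx f ⋙ resCx V.ι).map β) (c.hom.app J')

/-- K-flatness of the restricted inverse image -/
lemma isKFlat_res_pull {P : CochainComplex Y.Modules ℤ} (h : IsKFlat (T _) ((resCx V.ι).obj P)) :
    IsKFlat (T _) ((resCx (f ⁻¹ᵁ V).ι).obj ((pullCx f).obj P)) :=
  (Groth.DerivedCoh.KFlat.isKFlat_pullCx (f ∣_ V) _ h).of_iso
    ((NatIso.mapHomologicalComplex (pullRestrictIso f V) up).app P).symm

/-- a local quasi-isomorphism of locally K-flat complexes preserves and reflects the property of the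
comparison map being a local quasi-isomorphism -/
theorem quasiIso_theta_iff {P P' : CochainComplex Y.Modules ℤ} (α : P ⟶ P')
    (hα : QuasiIso ((resCx V.ι).map α)) (hP : IsKFlat (T _) ((resCx V.ι).obj P))
    (hP' : IsKFlat (T _) ((resCx V.ι).obj P')) :
    QuasiIso ((resCx V.ι).map (theta f I P)) ↔ QuasiIso ((resCx V.ι).map (theta f I P')) := by
  haveI := hα
  let U := f ⁻¹ᵁ V
  let J := (pushCx f).obj I
  have hl : QuasiIso ((resCx V.ι).map ((totR (T Y) J).map α)) := by
    haveI : QuasiIso ((Groth.DerivedCoh.KFlat.flatResolutionAug _).app ((resCx V.ι).obj J)) :=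
      Groth.DerivedCoh.KFlat.flatResolution_quasiIso _
    haveI : QuasiIso ((totR (T _) ((resCx V.ι).obj J)).map ((resCx V.ι).map α)) :=
      hP.quasiIso_totR hP' ((resCx V.ι).map α)
        ((Groth.DerivedCoh.KFlat.flatResolutionAug _).app ((resCx V.ι).obj J))
        (Groth.DerivedCoh.KFlat.flatResolution_isKFlat_flip _)
    exact cl (a := (rtTot V.ι J P).hom) (qiso _) (rtTot_natural₂ V.ι J α ▸
      qc (a := (totR (T _) ((resCx V.ι).obj J)).map ((resCx V.ι).map α))
        (b := (rtTot V.ι J P').hom) inferInstance (qiso _))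
  have hpull : QuasiIso ((resCx U.ι).map ((pullCx f).map α)) := by
    let c : pullCx f ⋙ resCx U.ι ≅ resCx V.ι ⋙ pullCx (f ∣_ V) :=
      NatIso.mapHomologicalComplex (pullRestrictIso f V) up
    haveI : QuasiIso ((resCx V.ι ⋙ pullCx (f ∣_ V)).map α) :=
      Groth.DerivedCoh.KFlat.quasiIso_pullCx (f ∣_ V) hP hP' ((resCx V.ι).map α)
    haveI : QuasiIso (c.hom.app P ≫ (resCx V.ι ⋙ pullCx (f ∣_ V)).map α) := inferInstance
    haveI : QuasiIso ((pullCx f ⋙ resCx U.ι).map α ≫ c.hom.app P') := by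
      rw [c.hom.naturality α]; infer_instance
    exact quasiIso_of_comp_right ((pullCx f ⋙ resCx U.ι).map α) (c.hom.app P')
  let t := (totR (T X) I).map ((pullCx f).map α)
  have ht : QuasiIso ((resCx U.ι).map t) := by
    haveI := hpull
    haveI : QuasiIso ((Groth.DerivedCoh.KFlat.flatResolutionAug _).app ((resCx U.ι).obj I)) :=
      Groth.DerivedCoh.KFlat.flatResolution_quasiIso _
    haveI : QuasiIso ((totR (T _) ((resCx U.ι).obj I)).map ((resCx U.ι).map ((pullCx f).map α))) :=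
      (isKFlat_res_pull f V hP).quasiIso_totR (isKFlat_res_pull f V hP')
        ((resCx U.ι).map ((pullCx f).map α))
        ((Groth.DerivedCoh.KFlat.flatResolutionAug _).app ((resCx U.ι).obj I))
        (Groth.DerivedCoh.KFlat.flatResolution_isKFlat_flip _)
    exact cl (a := (rtTot U.ι I ((pullCx f).obj P)).hom) (qiso _) (rtTot_natural₂ U.ι I ((pullCx f).map α) ▸
      qc (a := (totR (T _) ((resCx U.ι).obj I)).map ((resCx U.ι).map ((pullCx f).map α)))
        (b := (rtTot U.ι I ((pullCx f).obj P')).hom) inferInstance (qiso _))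
  let β := (kres X).map t
  have hβ : QuasiIso ((resCx U.ι).map β) := by
    haveI := ht
    have e : (resCx U.ι).map t ≫ (resCx U.ι).map ((kresAug X).app (tot (T X) I ((pullCx f).obj P'))) =
        (resCx U.ι).map ((kresAug X).app (tot (T X) I ((pullCx f).obj P))) ≫ (resCx U.ι).map β :=
      ((resCx U.ι).map_comp _ _).symm.trans ((congrArg _ ((kresAug X).naturality t)).trans
        ((resCx U.ι).map_comp _ _))
    exact cl (a := (resCx U.ι).map ((kresAug X).app (tot (T X) I ((pullCx f).obj P))))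
      (qres U.ι ((kresAug X).app _)) (e ▸ qc (a := (resCx U.ι).map t) ht (qres U.ι ((kresAug X).app _)))
  have hr : QuasiIso ((resCx V.ι).map ((pushCx f).map β)) :=
    quasiIso_res_push f V β (Groth.Misc4.PushRestrict.isKInjective_resCx U.ι _)
      (Groth.Misc4.PushRestrict.isKInjective_resCx U.ι _) hβ
  have e : (resCx V.ι).map ((totR (T Y) J).map α) ≫ (resCx V.ι).map (theta f I P') =
      (resCx V.ι).map (theta f I P) ≫ (resCx V.ι).map ((pushCx f).map β) :=
    ((resCx V.ι).map_comp _ _).symm.trans ((congrArg _ (theta_natural f I α)).trans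
      ((resCx V.ι).map_comp _ _))
  haveI := hl
  haveI := hr
  constructor <;> intro h
  · exact cl (a := (resCx V.ι).map ((totR (T Y) J).map α)) hl (e.symm ▸ qc h hr)
  · exact cr (b := (resCx V.ι).map ((pushCx f).map β)) hr (e ▸ qc hl h)

/-- a bounded complex which is finite locally free over `V` -/
theorem quasiIso_theta_of_bounded (hI : I.IsKInjective) (B : CochainComplex Y.Modules ℤ) (a b : ℤ)
    (hB : ∀ q, q < a ∨ b < q → IsZero (B.X q))
    (hfl : ∀ q, FlatMod.IsFinLocFree ((B.X q).restrict V.ι)) :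
    QuasiIso ((resCx V.ι).map (theta f I B)) := by
  let U := f ⁻¹ᵁ V
  let C := tot (T X) I ((pullCx f).obj B)
  haveI : IsIso ((resCx V.ι).map (psi f I B)) := isIso_restrict_psi f I B V a b hB hfl
  haveI hI' : ((resCx U.ι).obj I).IsKInjective :=
    haveI := hI
    Groth.Misc4.PushRestrict.isKInjective_resCx U.ι I
  have hC : ((resCx U.ι).obj C).IsKInjective := by
    haveI := isKInjective_tot ((resCx U.ι).obj I) hI' (b - a + 1).toNat a
      ((resCx U.ι).obj ((pullCx f).obj B))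
      (fun q => Groth.KTheory.LocFree.isFinLocFree_of_iso ((pullRestrictIso f V).app (B.X q)).symm
        (Groth.LocFree.isFinLocFree_pullback (f ∣_ V) (hfl q)))
      (fun q hq => (Scheme.Modules.restrictFunctor U.ι).map_isZero
        ((Scheme.Modules.pullback f).map_isZero (hB q (by omega))))
    exact CochainComplex.isKInjective_of_iso (rtTot U.ι I ((pullCx f).obj B))
  haveI : QuasiIso ((resCx V.ι).map ((pushCx f).map ((kresAug X).app C))) :=
    quasiIso_res_push f V _ hC (Groth.Misc4.PushRestrict.isKInjective_resCx U.ι _) inferInstance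
  rw [theta, Functor.map_comp]
  infer_instance

/-- the comparison map is a quasi-isomorphism for perfect complexes -/
theorem quasiIso_theta (hI : I.IsKInjective) (P : CochainComplex Y.Modules ℤ) (hP : IsKFlat (T Y) P)
    (hperf : DCoh.IsPerfect (DCoh.toD Y P)) : QuasiIso (theta f I P) := by
  rw [← DerivedCategory.isIso_Q_map_iff_quasiIso]
  refine Groth.DerivedCoh.Duality.isIso_of_local _ fun x => ?_
  obtain ⟨V, hx, E, hE, ⟨i⟩⟩ := (Groth.KTheory.Perf.isPerfect_iff _).1 hperf x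
  refine ⟨V, hx, (NatIso.isIso_map_iff (Scheme.Modules.restrictFunctor V.ι).mapDerivedCategoryFactors
    (theta f I P)).2 ((DerivedCategory.isIso_Q_map_iff_quasiIso _ ((resCx V.ι).map (theta f I P))).2 ?_)⟩
  let e : DCoh.toD _ E ≅ DCoh.toD _ ((resCx V.ι).obj P) :=
    i.symm ≪≫ Groth.KTheory.Perf.rdQIso V.ι P
  obtain ⟨A, s, hs, g, hfac⟩ := DerivedCategory.right_fac e.hom
  haveI := hs
  haveI : IsIso (DerivedCategory.Q.map g) := by
    rw [show DerivedCategory.Q.map g = DerivedCategory.Q.map s ≫ e.hom by rw [hfac, IsIso.hom_inv_id_assoc]]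
    infer_instance
  haveI : QuasiIso g := (DerivedCategory.isIso_Q_map_iff_quasiIso _ g).1 inferInstance
  haveI : QuasiIso s := (DerivedCategory.isIso_Q_map_iff_quasiIso _ s).1 inferInstance
  let A₀ := (Groth.DerivedCoh.KFlat.flatResolution _).obj A
  let ρ := (Groth.DerivedCoh.KFlat.flatResolutionAug _).app A
  haveI : QuasiIso ρ := Groth.DerivedCoh.KFlat.flatResolution_quasiIso A
  let adj : ezCx V.ι ⊣ resCx V.ι := Groth.DerivedCoh.ExtZero.cxAdj (CxOX.extZeroAdj V.ι)
  haveI : ∀ M, IsIso (adj.unit.app M) := fun M => by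
    haveI : ∀ q, IsIso ((adj.unit.app M).f q) := fun q =>
      Groth.DerivedCoh.ExtZero.isIso_unit V.ι (M.X q)
    exact HomologicalComplex.Hom.isIso_of_components _
  have hA₀ : IsKFlat (T _) ((resCx V.ι).obj ((ezCx V.ι).obj A₀)) :=
    (Groth.DerivedCoh.KFlat.flatResolution_isKFlat A).of_iso (asIso (adj.unit.app A₀))
  have hE' : IsKFlat (T _) ((resCx V.ι).obj ((ezCx V.ι).obj E)) :=
    (Groth.DerivedCoh.PCoh.isKFlat_of_isStrictlyPerfect hE).of_iso (asIso (adj.unit.app E))
  let a₁ : (ezCx V.ι).obj A₀ ⟶ P := (adj.homEquiv _ _).symm (ρ ≫ g)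
  let a₂ : (ezCx V.ι).obj A₀ ⟶ (ezCx V.ι).obj E := (ezCx V.ι).map (ρ ≫ s)
  have h₁ : QuasiIso ((resCx V.ι).map a₁) := by
    haveI : QuasiIso (adj.unit.app A₀ ≫ (resCx V.ι).map a₁) := by
      rw [show adj.unit.app A₀ ≫ (resCx V.ι).map a₁ = ρ ≫ g from
        (adj.homEquiv_unit (X := A₀) (Y := P) (f := a₁)).symm.trans (Equiv.apply_symm_apply _ _)]
      infer_instance
    exact quasiIso_of_comp_left (adj.unit.app A₀) _
  have h₂ : QuasiIso ((resCx V.ι).map a₂) := by
    haveI : QuasiIso ((𝟭 _).map (ρ ≫ s)) := by rw [Functor.id_map]; infer_instance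
    haveI : QuasiIso (adj.unit.app A₀ ≫ (resCx V.ι).map a₂) := by
      rw [show adj.unit.app A₀ ≫ (resCx V.ι).map a₂ = (𝟭 _).map (ρ ≫ s) ≫ adj.unit.app E from
        (adj.unit.naturality (ρ ≫ s)).symm]
      infer_instance
    exact quasiIso_of_comp_left (adj.unit.app A₀) _
  refine (quasiIso_theta_iff f I V a₁ h₁ hA₀ (Groth.DerivedCoh.PCoh.isKFlat_rc V.ι hP)).1
    ((quasiIso_theta_iff f I V a₂ h₂ hA₀ hE').2 ?_)
  obtain ⟨⟨a, b, hab⟩, hfl⟩ := hE
  exact quasiIso_theta_of_bounded f I V hI ((ezCx V.ι).obj E) a b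
    (fun q hq => (CxOX.extZero V.ι).map_isZero (hab q hq))
    fun q => Groth.KTheory.LocFree.isFinLocFree_of_iso
      (@asIso _ _ _ _ ((CxOX.extZeroAdj V.ι).unit.app (E.X q))
        (Groth.DerivedCoh.ExtZero.isIso_unit V.ι (E.X q))) (hfl q)

/-- the projection formula for perfect complexes -/
theorem nonempty_projection (P : CochainComplex Y.Modules ℤ) (hP : IsKFlat (T Y) P)
    (hperf : DCoh.IsPerfect (DCoh.toD Y P)) [DCoh.HasRpush f] [DCoh.HasLTensorCx P]
    [DCoh.HasLTensorCx ((pullCx f).obj P)] (E : DCoh.D X) :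
    Nonempty ((DCoh.LTensorCx P).obj ((DCoh.Rpush f).obj E) ≅
      (DCoh.Rpush f).obj ((DCoh.LTensorCx ((pullCx f).obj P)).obj E)) := by
  obtain ⟨F, ⟨eF⟩⟩ := Groth.KTheory.Perf.exists_rep E
  let I := (kres X).obj F
  haveI := fun M : CochainComplex X.Modules ℤ =>
    (DerivedCategory.isIso_Q_map_iff_quasiIso _ ((kresAug X).app M)).2 inferInstance
  let eI : E ≅ DCoh.toD X I := eF.symm ≪≫ asIso (DerivedCategory.Q.map ((kresAug X).app F))
  have push : ∀ (J : CochainComplex X.Modules ℤ) [J.IsKInjective],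
      Nonempty ((DCoh.Rpush f).obj (DCoh.toD X J) ≅ DCoh.toD Y ((pushCx f).obj J)) := fun J _ =>
    ⟨(DCoh.Rpush f).mapIso ((Groth.DerivedCoh.KFlat.L₀Q X).symm.app J) ≪≫
      (@asIso _ _ _ _ _ (Groth.DerivedCoh.KFlat.isIso_pushUnit_app f J)).symm ≪≫
      (Groth.DerivedCoh.KFlat.L₀Q Y).app ((pushCx f).obj J)⟩
  obtain ⟨p₁⟩ := push I
  obtain ⟨p₂⟩ := push ((kres X).obj (tot (T X) I ((pullCx f).obj P)))
  haveI := (DerivedCategory.isIso_Q_map_iff_quasiIso _ (theta f I P)).2
    (quasiIso_theta f I inferInstance P hP hperf)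
  exact ⟨(DCoh.LTensorCx P).mapIso ((DCoh.Rpush f).mapIso eI ≪≫ p₁) ≪≫
    Groth.DerivedCoh.KFlat.ltcxIso P hP _ ≪≫ asIso (DerivedCategory.Q.map (theta f I P)) ≪≫
    p₂.symm ≪≫ (DCoh.Rpush f).mapIso
      ((asIso (DerivedCategory.Q.map ((kresAug X).app (tot (T X) I ((pullCx f).obj P))))).symm ≪≫
        (Groth.DerivedCoh.KFlat.ltcxIso _ (Groth.DerivedCoh.KFlat.isKFlat_pullCx f P hP) I).symm ≪≫
        (DCoh.LTensorCx ((pullCx f).obj P)).mapIso eI.symm)⟩

end Groth.Misc4.ProjPerfect
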