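import Groth.Agent.DerivedCoh.Duality.Theta
import Groth.Agent.DerivedCoh.Duality.LocalModel
import Groth.Agent.DerivedCoh.KFlat.Amplitude
import Groth.Agent.Misc4.HasRSheafHom
import Mathlib.CategoryTheory.Monoidal.Braided.Basic

/-!
# `RHom(E, G) ≅ E^∨ ⊗^L G` for perfect `E` and a module `G`
-/

universe u

open CategoryTheory CategoryTheory.Limits AlgebraicGeometry HomologicalComplex MonoidalCategory
open Groth.DerivedCoh.KFlat (T tot totL totR IsKFlat tmCx flatResolution flatResolutionAug)

attribute [local instance] HasDerivedCategory.standard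

set_option backward.isDefEq.respectTransparency false
set_option synthInstance.maxHeartbeats 400000
set_option maxHeartbeats 1000000
set_option linter.style.haveILetI false

namespace Groth.Misc4.RHomTensor

variable {X : Scheme.{u}}

local notation "up" => ComplexShape.up ℤ

/-- `G ⊗ - ≅ - ⊗ G` -/
noncomputable def tensorModComm (G : X.Modules) : (T X).obj G ≅ DCoh.tensorRightMod G :=
  Functor.isoWhiskerLeft DCoh.toP
    (Functor.isoWhiskerRight (BraidedCategory.tensorLeftIsoTensorRight (CohB1.toPMod G)) DCoh.shP)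

/-- `- ⊗^L E` is computed by a K-flat resolution of `E`, naturally. -/
noncomputable def ltcxResolutionIso (E : CochainComplex X.Modules ℤ) [DCoh.HasLTensorCx E]
    [DCoh.HasLTensorCx ((flatResolution X).obj E)] :
    DCoh.LTensorCx ((flatResolution X).obj E) ≅ DCoh.LTensorCx E :=
  let P := (flatResolution X).obj E
  let π := (flatResolutionAug X).app E
  haveI : QuasiIso π := Groth.DerivedCoh.KFlat.flatResolution_quasiIso E
  haveI : ∀ C, IsIso (((Functor.whiskerLeft (flatResolution X)
      (Functor.whiskerRight ((DCoh.tensorCx (X := X)).flip.map π) DerivedCategory.Q)) :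
      flatResolution X ⋙ DCoh.tensorCxQ P ⟶ flatResolution X ⋙ DCoh.tensorCxQ E).app C) := fun C => by
    haveI : QuasiIso ((totR (T X) ((flatResolution X).obj C)).map π) :=
      Groth.DerivedCoh.KFlat.quasiIso_totR (T X) (Groth.DerivedCoh.KFlat.flatResolution_isKFlat_flip C) _
    exact (DerivedCategory.isIso_Q_map_iff_quasiIso _ _).2 ‹_›
  haveI := NatIso.isIso_of_isIso_app (Functor.whiskerLeft (flatResolution X)
      (Functor.whiskerRight ((DCoh.tensorCx (X := X)).flip.map π) DerivedCategory.Q) :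
      flatResolution X ⋙ DCoh.tensorCxQ P ⟶ flatResolution X ⋙ DCoh.tensorCxQ E)
  Localization.liftNatIso DerivedCategory.Q (HomologicalComplex.quasiIso X.Modules up)
    (DerivedCategory.Q ⋙ DCoh.LTensorCx P) (DerivedCategory.Q ⋙ DCoh.LTensorCx E) _ _
    (Groth.DerivedCoh.KFlat.ltcxResIso P ≪≫ asIso (Functor.whiskerLeft (flatResolution X)
      (Functor.whiskerRight ((DCoh.tensorCx (X := X)).flip.map π) DerivedCategory.Q)) ≪≫
      (Groth.DerivedCoh.KFlat.ltcxResIso E).symm)

/-- For perfect `E`, `RHom(E, G)` is the derived tensor product of a perfect object with `G`. -/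
theorem exists_rhom_iso_ltm (E : CochainComplex X.Modules ℤ) (hE : DCoh.IsPerfect (DCoh.toD X E))
    [DCoh.HasLTensorCx E] [DCoh.HasRSheafHom E] (G : X.Modules) [DCoh.HasLTensorMod G] :
    ∃ E' : DCoh.D X, DCoh.IsPerfect E' ∧
      Nonempty ((DCoh.RSheafHom E).obj (DCoh.inD X G) ≅ (DCoh.LTensorMod G).obj E') := by
  let P := (flatResolution X).obj E
  have hP := Groth.DerivedCoh.KFlat.flatResolution_isKFlat E
  haveI := Groth.DerivedCoh.KFlat.hasLTensorCx P
  haveI := Groth.Misc4.HasRSheafHom.hasRSheafHom P hP (Groth.DerivedCoh.KFlat.flatResolution_isFlat E)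
  haveI : IsIso (DerivedCategory.Q.map ((flatResolutionAug X).app E)) :=
    (DerivedCategory.isIso_Q_map_iff_quasiIso _ _).2 (Groth.DerivedCoh.KFlat.flatResolution_quasiIso E)
  have hPp : DCoh.IsPerfect (DCoh.toD X P) :=
    Groth.KTheory.Perf.isPerfect_of_iso (asIso (DerivedCategory.Q.map ((flatResolutionAug X).app E))).symm hE
  let r : DCoh.RSheafHom E ≅ DCoh.RSheafHom P :=
    ((DCoh.RSheafHomAdj E).ofNatIsoLeft (ltcxResolutionIso E).symm).rightAdjointUniq (DCoh.RSheafHomAdj P)
  let E' := (DCoh.RSheafHom P).obj ((DerivedCategory.singleFunctor X.Modules 0).obj (Coh.structureModule X))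
  refine ⟨E', Groth.DerivedCoh.Duality.isPerfect_dual P hP hPp, ?_⟩
  obtain ⟨D₀, ⟨e₀⟩⟩ := Groth.KTheory.Perf.exists_rep E'
  let D := (flatResolution X).obj D₀
  have hD := Groth.DerivedCoh.KFlat.flatResolution_isKFlat D₀
  haveI := Groth.DerivedCoh.KFlat.hasLTensorCx D
  haveI : IsIso (DerivedCategory.Q.map ((flatResolutionAug X).app D₀)) :=
    (DerivedCategory.isIso_Q_map_iff_quasiIso _ _).2 (Groth.DerivedCoh.KFlat.flatResolution_quasiIso D₀)
  let eD : DCoh.toD X D ≅ E' := asIso (DerivedCategory.Q.map ((flatResolutionAug X).app D₀)) ≪≫ e₀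
  obtain ⟨θ⟩ := Groth.DerivedCoh.Duality.nonempty_ltensor_dual_iso P hP hPp D hD eD (DCoh.inD X G)
  exact ⟨r.app _ ≪≫ θ.symm ≪≫
    (DCoh.LTensorCx D).mapIso ((DerivedCategory.singleFunctorIsoCompQ X.Modules 0).app G) ≪≫
    Groth.DerivedCoh.KFlat.ltcxIso D hD ((single X.Modules up 0).obj G) ≪≫
    DerivedCategory.Q.mapIso (Groth.DerivedCoh.KFlat.totSingleIso (T X) G D ≪≫
      (NatIso.mapHomologicalComplex (tensorModComm G) up).app D) ≪≫
    (Groth.DerivedCoh.KFlat.ltmQIso G D hD).symm ≪≫ (DCoh.LTensorMod G).mapIso eD⟩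

end Groth.Misc4.RHomTensor
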