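import Groth.Agent.Misc4.PerfectEnvelope
import Groth.Agent.Misc4.PerfectGenerator
import Groth.Agent.DerivedCoh.ExtZero.Projection
import Groth.Agent.Misc4.QCohDRHom
import Groth.Agent.Misc4.RHomTensor

/-!
# Killing maps into objects supported off an open subset
-/

universe u

open CategoryTheory CategoryTheory.Limits Pretriangulated AlgebraicGeometry
open Groth.KTheory.Perf
open scoped ZeroObject

attribute [local instance] HasDerivedCategory.standard

set_option backward.isDefEq.respectTransparency false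
set_option synthInstance.maxHeartbeats 400000
set_option maxHeartbeats 1000000

namespace Groth.Misc4.KillSupported

variable {X : Scheme.{u}}

/-- the restriction to `U` vanishes -/
def Off (U : X.Opens) (L : DCoh.D X) : Prop := IsZero ((DCoh.restrictD U.ι).obj L)

variable {U : X.Opens}

lemma off_zero (U : X.Opens) : Off U (0 : DCoh.D X) := Functor.map_isZero _ (isZero_zero _)

lemma off₂ (T : Triangle (DCoh.D X)) (hT : T ∈ distTriang _) (h₁ : Off U T.obj₁) (h₃ : Off U T.obj₃) :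
    Off U T.obj₂ :=
  Triangle.isZero₂_of_isZero₁₃ _ ((DCoh.restrictD U.ι).map_distinguished T hT) h₁ h₃

lemma off₃ (T : Triangle (DCoh.D X)) (hT : T ∈ distTriang _) (h₁ : Off U T.obj₁) (h₂ : Off U T.obj₂) :
    Off U T.obj₃ :=
  Triangle.isZero₃_of_isZero₁₂ _ ((DCoh.restrictD U.ι).map_distinguished T hT) h₁ h₂

lemma off_shift {L : DCoh.D X} (h : Off U L) (n : ℤ) : Off U (L⟦n⟧) :=
  ((shiftFunctor _ n).map_isZero h).of_iso (((DCoh.restrictD U.ι).commShiftIso n).app L)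

lemma off_sigma {J : Type u} (M : J → DCoh.D X) [HasCoproduct M] (h : ∀ j, Off U (M j)) : Off U (∐ M) := by
  haveI : (DCoh.restrictD U.ι).IsLeftAdjoint := Groth.Misc4.PerfectCompact.isLeftAdjoint_restrictD U.ι
  exact (IsZero.iff_id_eq_zero _).2
    ((isColimitOfPreserves (DCoh.restrictD U.ι) (coproductIsCoproduct M)).hom_ext
      fun ⟨j⟩ => (h j).eq_of_src _ _)

lemma off_iff (L : DCoh.D X) :
    Off U L ↔ ∀ i : ℤ, CohB1.support (DCoh.HD L i) ⊆ (U : Set X)ᶜ := by
  refine ⟨fun h i x hx hxU => ?_, fun h => Groth.DerivedCoh.PerfPush.isZero_restrictD L h U fun x hx hn => hn hx⟩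
  have h0 : IsZero ((Scheme.Modules.restrictFunctor U.ι).obj (DCoh.HD L i)) :=
    ((DerivedCategory.homologyFunctor _ i).map_isZero h).of_iso (nonempty_hdRd U.ι L i).some.symm
  exact (Groth.CohTwo.notMem_support_iff (DCoh.HD L i) x).2
    (AddCommGrpCat.subsingleton_of_isZero ((Groth.QCohMod.isZero_restrict_iff_stalk _ U).1 h0 x hxU)) hx

/-- `RHom(K, -)` exists for every complex `K`. -/
theorem hasRSheafHom_any {Y : Scheme.{u}} (K : CochainComplex Y.Modules ℤ) [DCoh.HasLTensorCx K] :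
    DCoh.HasRSheafHom K := by
  haveI := Groth.DerivedCoh.KFlat.hasLTensorCx ((Groth.DerivedCoh.KFlat.flatResolution Y).obj K)
  haveI : (DCoh.LTensorCx ((Groth.DerivedCoh.KFlat.flatResolution Y).obj K)).IsLeftAdjoint :=
    Groth.Misc4.HasRSheafHom.hasRSheafHom _ (Groth.DerivedCoh.KFlat.flatResolution_isKFlat K)
      (Groth.DerivedCoh.KFlat.flatResolution_isFlat K)
  exact Functor.isLeftAdjoint_of_iso (Groth.Misc4.RHomTensor.ltcxResolutionIso K)

/-- `RHom(K, -)` preserves vanishing on `U`. -/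
theorem off_rhom {Y : Scheme.{u}} {V : Y.Opens} (K : CochainComplex Y.Modules ℤ) [DCoh.HasLTensorCx K]
    [DCoh.HasRSheafHom K] {L : DCoh.D Y} (hL : Off V L) : Off V ((DCoh.RSheafHom K).obj L) := by
  haveI := Groth.DerivedCoh.KFlat.hasLTensorCx ((Groth.DerivedCoh.ExtZero.resCx V.ι).obj K)
  haveI := hasRSheafHom_any ((Groth.DerivedCoh.ExtZero.resCx V.ι).obj K)
  refine IsZero.of_iso ?_ ((Groth.DerivedCoh.ExtZero.restrRHomIso V.ι K).app L)
  exact (IsZero.iff_id_eq_zero _).2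
    ((((DCoh.RSheafHomAdj ((Groth.DerivedCoh.ExtZero.resCx V.ι).obj K)).homEquiv _ _).symm).injective
      (hL.eq_of_tgt _ _))


variable [CompactSpace X] [QuasiSeparatedSpace X] (P : DCoh.D X) (hP : DCoh.IsPerfect P) (hPS : Off U P)

include hP hPS in
/-- A map from a perfect object into a sum of shifts of `P` is killed up to an error off `U`. -/
lemma exists_kill [HasCoproducts.{u} (DCoh.D X)] {C : DCoh.D X} (hC : DCoh.IsPerfect C) {J : Type u}
    (m : J → ℤ) (g : C ⟶ ∐ fun j => P⟦m j⟧) :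
    ∃ (C' W : DCoh.D X) (u : C' ⟶ C) (v : C ⟶ W) (w : W ⟶ C'⟦(1 : ℤ)⟧),
      Triangle.mk u v w ∈ distTriang (DCoh.D X) ∧ DCoh.IsPerfect C' ∧ Off U W ∧ u ≫ g = 0 := by
  classical
  obtain ⟨x, rfl⟩ := (Groth.Misc4.PerfectCompactQCoh.bijective C hC (fun j => P⟦m j⟧)
    fun j => Groth.Misc4.Thomason.isQCohD_of_isPerfect (isPerfect_shift hP (m j))).2 g
  rw [← DirectSum.sum_support_of x, map_sum]
  suffices ∀ S : Finset J, ∃ (C' W : DCoh.D X) (u : C' ⟶ C) (v : C ⟶ W) (w : W ⟶ C'⟦(1 : ℤ)⟧),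
      Triangle.mk u v w ∈ distTriang (DCoh.D X) ∧ DCoh.IsPerfect C' ∧ Off U W ∧ ∀ i ∈ S, u ≫ x i = 0 by
    obtain ⟨C', W, u, v, w, hu, hC', hW, h⟩ := this (DFinsupp.support x)
    refine ⟨C', W, u, v, w, hu, hC', hW, ?_⟩
    rw [Preadditive.comp_sum]
    refine Finset.sum_eq_zero fun i hi => ?_
    rw [Groth.Misc4.PerfectCompactQCoh.homSum_of, reassoc_of% h i hi, zero_comp]
  intro S
  induction S using Finset.induction_on with
  | empty => exact ⟨C, 0, 𝟙 C, 0, 0, contractible_distinguished C, hC, off_zero U, by simp⟩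
  | @insert j S hj ih =>
    obtain ⟨C', W, u, v, w, hu, hC', hW, h⟩ := ih
    obtain ⟨C'', u', d, hu'⟩ := distinguished_cocone_triangle₁ (u ≫ x j)
    obtain ⟨V, b, e, hV⟩ := distinguished_cocone_triangle (u' ≫ u)
    refine ⟨C'', V, u' ≫ u, b, e, hV,
      Groth.Misc4.PerfectEnvelope.isPerfect_obj₁ hu' hC' (isPerfect_shift hP _),
      off₂ _ (Triangulated.someOctahedron rfl hu' hu hV).mem (off_shift hPS _) hW, fun i hi => ?_⟩
    rcases Finset.mem_insert.1 hi with rfl | hi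
    · exact (Category.assoc _ _ _).trans (comp_distTriang_mor_zero₁₂ _ hu')
    · rw [Category.assoc, h i hi, comp_zero]

/-- A map from a perfect object into an object off `U` is killed by a perfect object equal to it on `U`. -/
theorem exists_killed (hU : IsCompact (U : Set X)) (K : DCoh.D X) (hK : DCoh.IsPerfect K) (H₀ : DCoh.D X)
    (hHq₀ : DCoh.IsQCohD H₀) (hH₀ : Off U H₀) (α : K ⟶ H₀) :
    ∃ (I : DCoh.D X) (i : I ⟶ K), DCoh.IsPerfect I ∧ IsIso ((DCoh.restrictD U.ι).map i) ∧ i ≫ α = 0 := by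
  classical
  haveI : HasCoproducts.{u} (DCoh.D X) := Groth.DerivedCoh.KInjRes.hasCoproducts
  obtain ⟨P, hP, hPT, hgen'⟩ := Groth.Misc4.PerfectGenerator.gen X (U : Set X)ᶜ U.2.isClosed_compl
    (fun V hV hVo => by
      rw [compl_compl]
      exact QuasiSeparatedSpace.inter_isCompact _ _ U.2 hU hVo hV)
  have hPS : Off U P := (off_iff P).2 hPT
  have hgen : ∀ E : DCoh.D X, DCoh.IsQCohD E → Off U E → (∀ (n : ℤ) (φ : P⟦n⟧ ⟶ E), φ = 0) → IsZero E :=
    fun E hE hS => hgen' E hE ((off_iff E).1 hS)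
  have hPq : ∀ n : ℤ, DCoh.IsQCohD (P⟦n⟧) := fun n =>
    Groth.Misc4.Thomason.isQCohD_of_isPerfect (isPerfect_shift hP n)
  choose J m g hg using fun L : DCoh.D X => Groth.Misc4.PerfectEnvelope.exists_cover P L
  choose cn fn zn hcn using fun L : DCoh.D X => distinguished_cocone_triangle (Limits.Sigma.desc (g L))
  let L : ℕ → DCoh.D X := Nat.rec (motive := fun _ => DCoh.D X) H₀ (fun _ C => cn C)
  let f : ∀ n, L n ⟶ L (n + 1) := fun n => fn (L n)
  have hf : ∀ n, Triangle.mk (Limits.Sigma.desc (g (L n))) (f n) (zn (L n)) ∈ distTriang (DCoh.D X) :=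
    fun n => hcn (L n)
  have hLq : ∀ n, DCoh.IsQCohD (L n) := fun n => by
    induction n with
    | zero => exact hHq₀
    | succ n ih =>
      exact Groth.Misc4.QCohDPerf.isQCohD_obj₂ _ (rot_of_distTriang _ (hf n)) ih
        (Groth.Misc4.QCohDPerf.isQCohD_shift (Groth.Misc4.QCohDSum.isQCohD_sigma X _ fun j => hPq _) 1)
  have hLS : ∀ n, Off U (L n) := fun n => by
    induction n with
    | zero => exact hH₀
    | succ n ih => exact off₃ _ (hf n) (off_sigma _ fun j => off_shift hPS _) ih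
  have hkill : ∀ (k : ℕ) (n : ℤ) (φ : P⟦n⟧ ⟶ L k), φ ≫ f k = 0 := fun k n φ =>
    hg (L k) _ (f k) (fun j => by
      rw [← Limits.Sigma.ι_desc (g (L k)) j, Category.assoc,
        show Limits.Sigma.desc (g (L k)) ≫ f k = 0 from comp_distTriang_mor_zero₁₂ _ (hf k), comp_zero]) n φ
  -- the homotopy colimit
  let L' : ULift.{u} ℕ → DCoh.D X := fun n => L n.down
  let s : ∐ L' ⟶ ∐ L' := Limits.Sigma.desc fun n => f n.down ≫ Limits.Sigma.ι L' ⟨n.down + 1⟩
  obtain ⟨H, π, c, hH⟩ := distinguished_cocone_triangle (𝟙 (∐ L') - s)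
  have hHq : DCoh.IsQCohD H :=
    Groth.Misc4.QCohDPerf.isQCohD_obj₂ _ (rot_of_distTriang _ hH)
      (Groth.Misc4.QCohDSum.isQCohD_sigma X L' fun n => hLq n.down)
      (Groth.Misc4.QCohDPerf.isQCohD_shift (Groth.Misc4.QCohDSum.isQCohD_sigma X L' fun n => hLq n.down) 1)
  let pr : ∀ N : ℕ, ∐ L' ⟶ L N := fun N =>
    Limits.Sigma.desc (f := L') fun (n : ULift.{u} ℕ) => if h : n.down = N then eqToHom (congrArg L h) else (0 : L n.down ⟶ L N)
  have hpr : ∀ (n N : ℕ), n ≠ N → Limits.Sigma.ι L' ⟨n⟩ ≫ pr N = 0 := fun n N h => by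
    simp [pr, h]
  have hpr' : ∀ N : ℕ, Limits.Sigma.ι L' ⟨N⟩ ≫ pr N = 𝟙 _ := fun N => by simp [pr, L']
  have hspr : ∀ N : ℕ, s ≫ pr (N + 1) = pr N ≫ f N := fun N => by
    refine Limits.Sigma.hom_ext _ _ fun ⟨n⟩ => ?_
    simp only [s, Limits.Sigma.ι_desc_assoc, Category.assoc]
    by_cases h : n = N
    · subst h
      rw [hpr', Category.comp_id, reassoc_of% hpr' n]
    · rw [reassoc_of% hpr n N h, zero_comp]
      exact (congrArg (f n ≫ ·) (hpr _ _ (by omega))).trans comp_zero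
  have hspr0 : s ≫ pr 0 = 0 := by
    refine Limits.Sigma.hom_ext _ _ fun ⟨n⟩ => ?_
    simp only [s, Limits.Sigma.ι_desc_assoc, Category.assoc, comp_zero]
    exact (congrArg (f n ≫ ·) (hpr _ _ (Nat.succ_ne_zero n))).trans comp_zero
  have hinj : ∀ C : DCoh.D X, DCoh.IsPerfect C → ∀ a : C ⟶ ∐ L', a ≫ (𝟙 (∐ L') - s) = 0 → a = 0 := by
    intro C hC a ha
    rw [Preadditive.comp_sub, Category.comp_id, sub_eq_zero] at ha
    have h0 : ∀ N, a ≫ pr N = 0 := fun N => by
      induction N with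
      | zero => rw [ha, Category.assoc, hspr0, comp_zero]
      | succ N ih => rw [ha, Category.assoc, hspr, reassoc_of% ih, zero_comp]
    obtain ⟨x, rfl⟩ := (Groth.Misc4.PerfectCompactQCoh.bijective C hC L' fun n => hLq n.down).2 a
    have hx : ∀ y (n : ULift.{u} ℕ), PerfAux.homSumToHomCoprod C L' y ≫ pr n.down = y n := fun y n => by
      induction y using DirectSum.induction_on with
      | zero => simp
      | of j b =>
        rw [Groth.Misc4.PerfectCompactQCoh.homSum_of, Category.assoc]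
        obtain ⟨j⟩ := j
        obtain ⟨n⟩ := n
        by_cases h : j = n
        · subst h
          rw [hpr', Category.comp_id, DirectSum.of_eq_same]
        · rw [hpr _ _ h, comp_zero, DirectSum.of_eq_of_ne _ _ _ (fun e => h (congrArg ULift.down e).symm)]
      | add y y' hy hy' => rw [map_add, Preadditive.add_comp, hy, hy']; rfl
    have hx0 : x = 0 := DFinsupp.ext fun n => by rw [← hx x n, h0 n.down]; rfl
    rw [hx0, map_zero]
  have hzero : ∀ (n : ℤ) (φ : P⟦n⟧ ⟶ H), φ = 0 := by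
    intro n φ
    have hc : φ ≫ c = 0 := by
      let e : (P⟦n - 1⟧)⟦(1 : ℤ)⟧ ≅ P⟦n⟧ := ((shiftFunctorAdd' (DCoh.D X) (n - 1) 1 n (by omega)).app P).symm
      obtain ⟨a, ha⟩ := (shiftFunctor (DCoh.D X) (1 : ℤ)).map_surjective (e.hom ≫ φ ≫ c)
      have h3 : c ≫ (𝟙 (∐ L') - s)⟦(1 : ℤ)⟧' = 0 := comp_distTriang_mor_zero₃₁ _ hH
      have ha0 : a = 0 := hinj _ (isPerfect_shift hP _) a ((shiftFunctor (DCoh.D X) (1 : ℤ)).map_injective (by
        rw [Functor.map_comp, Functor.map_zero, ha, Category.assoc, Category.assoc, h3, comp_zero, comp_zero]))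
      rw [← cancel_epi e.hom, comp_zero, ← ha, ha0, Functor.map_zero]
    obtain ⟨a, ha⟩ := Triangle.coyoneda_exact₃ _ hH φ hc
    rw [ha]
    obtain ⟨x, rfl⟩ := (Groth.Misc4.PerfectCompactQCoh.bijective _ (isPerfect_shift hP n) L' fun k => hLq k.down).2 a
    have hπ : ∀ k : ℕ, Limits.Sigma.ι L' ⟨k⟩ ≫ π = f k ≫ Limits.Sigma.ι L' ⟨k + 1⟩ ≫ π := fun k => by
      have h := congrArg (Limits.Sigma.ι L' ⟨k⟩ ≫ ·) (comp_distTriang_mor_zero₁₂ _ hH)
      simp only [Triangle.mk_mor₁, Triangle.mk_mor₂, Preadditive.sub_comp, Category.id_comp, Preadditive.comp_sub,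
        comp_zero, s, Limits.Sigma.ι_desc_assoc, Category.assoc, sub_eq_zero] at h
      exact (congrArg (Limits.Sigma.ι L' ⟨k⟩ ≫ ·) (Category.id_comp π).symm).trans h
    show PerfAux.homSumToHomCoprod _ L' x ≫ π = 0
    rw [← DirectSum.sum_support_of x, map_sum, Preadditive.sum_comp]
    refine Finset.sum_eq_zero fun k _ => ?_
    rw [Groth.Misc4.PerfectCompactQCoh.homSum_of, Category.assoc]
    obtain ⟨k⟩ := k
    rw [hπ k, reassoc_of% hkill k n (x ⟨k⟩), zero_comp]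
  haveI : IsIso (𝟙 (∐ L') - s) := (Triangle.isZero₃_iff_isIso₁ _ hH).1 (hgen H hHq (off₃ _ hH (off_sigma L' fun n => hLS n.down) (off_sigma L' fun n => hLS n.down)) hzero)
  -- `K ⟶ L N` vanishes for some `N`
  let tr : ∀ N : ℕ, K ⟶ L N := fun N => Nat.rec α (fun N t => t ≫ f N) N
  let q : ∀ N : ℕ, ∐ L' ⟶ L N := fun N => Nat.rec (pr 0) (fun N t => t ≫ f N + pr (N + 1)) N
  have hq : ∀ N, (𝟙 (∐ L') - s) ≫ q N = pr N := fun N => by
    induction N with
    | zero =>
      show (𝟙 (∐ L') - s) ≫ pr 0 = _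
      rw [Preadditive.sub_comp, hspr0, sub_zero, Category.id_comp]
    | succ N ih =>
      show (𝟙 (∐ L') - s) ≫ (q N ≫ f N + pr (N + 1)) = _
      rw [Preadditive.comp_add, reassoc_of% ih, Preadditive.sub_comp, hspr, Category.id_comp]
      abel
  have hq0 : ∀ N, α ≫ Limits.Sigma.ι L' ⟨0⟩ ≫ q N = tr N := fun N => by
    induction N with
    | zero => exact (congrArg (α ≫ ·) (hpr' 0)).trans (Category.comp_id α)
    | succ N ih =>
      show α ≫ Limits.Sigma.ι L' ⟨0⟩ ≫ (q N ≫ f N + pr (N + 1)) = tr N ≫ f N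
      rw [Preadditive.comp_add, Preadditive.comp_add, reassoc_of% ih, hpr _ _ (by omega), comp_zero, add_zero]
  obtain ⟨x, hx⟩ := (Groth.Misc4.PerfectCompactQCoh.bijective K hK L' fun n => hLq n.down).2
    ((α ≫ Limits.Sigma.ι L' ⟨0⟩) ≫ inv (𝟙 (∐ L') - s))
  obtain ⟨N, hN⟩ : ∃ N : ℕ, ∀ k ∈ DFinsupp.support x, k.down ≠ N :=
    ⟨(DFinsupp.support x).sup (fun k => k.down + 1), fun k hk => by
      have := Finset.le_sup (f := fun k : ULift.{u} ℕ => k.down + 1) hk
      omega⟩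
  have htr : tr N = 0 := by
    rw [← hq0, ← Category.assoc, ← (IsIso.eq_comp_inv (𝟙 (∐ L') - s)).1 hx, Category.assoc, hq,
      ← DirectSum.sum_support_of x, map_sum, Preadditive.sum_comp]
    refine Finset.sum_eq_zero fun k hk => ?_
    rw [Groth.Misc4.PerfectCompactQCoh.homSum_of, Category.assoc]
    obtain ⟨k⟩ := k
    rw [hpr _ _ (hN _ hk), comp_zero]
  -- descend along the tower
  have key : ∀ k, k ≤ N → ∃ (C' W : DCoh.D X) (u : C' ⟶ K) (v : K ⟶ W) (w : W ⟶ C'⟦(1 : ℤ)⟧),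
      Triangle.mk u v w ∈ distTriang (DCoh.D X) ∧ DCoh.IsPerfect C' ∧ Off U W ∧ u ≫ tr k = 0 := by
    intro k hk
    induction hk using Nat.decreasingInduction with
    | self =>
      exact ⟨K, 0, 𝟙 K, 0, 0, contractible_distinguished K, hK, off_zero U, by rw [htr, comp_zero]⟩
    | of_succ k _ ih =>
      obtain ⟨C', W, u, v, w, hu, hC', hW, h⟩ := ih
      obtain ⟨y, hy⟩ := Triangle.coyoneda_exact₂ _ (hf k) (u ≫ tr k) ((Category.assoc _ _ _).trans h)
      obtain ⟨C'', W', u', v', w', hu', hC'', hW', h'⟩ := exists_kill P hP hPS hC' (m (L k)) y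
      obtain ⟨V, b, e, hV⟩ := distinguished_cocone_triangle (u' ≫ u)
      refine ⟨C'', V, u' ≫ u, b, e, hV, hC'',
        off₂ _ (Triangulated.someOctahedron rfl hu' hu hV).mem hW' hW, ?_⟩
      rw [Category.assoc, hy, reassoc_of% h']
      exact zero_comp
  obtain ⟨I, W, i, v, w, hu, hI, hW, h⟩ := key 0 (Nat.zero_le N)
  exact ⟨I, i, hI, (Triangle.isZero₃_iff_isIso₁ _ ((DCoh.restrictD U.ι).map_distinguished _ hu)).1 hW, h⟩

end Groth.Misc4.KillSupported
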