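import Groth.Agent.Misc4.StructCompact
import Groth.Agent.CohFin.Rpush
import Groth.Agent.QCohMod.ClosedImm
import Groth.Agent.Misc7.GSS.Acyclic

/-!
# Direct images along quasi-compact quasi-separated morphisms and direct sums of modules
-/

universe u

open CategoryTheory CategoryTheory.Limits AlgebraicGeometry Opposite TopologicalSpace
open CoproductsFromFiniteFiltered

set_option backward.isDefEq.respectTransparency false
set_option backward.defeqAttrib.useBackward true
set_option synthInstance.maxHeartbeats 400000
set_option maxHeartbeats 1000000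

namespace Groth.Misc4.PushSum

open Groth.CohFin Groth.CohBase

variable {X S : Scheme.{u}}

/-- Direct sums of injective modules have no higher cohomology on quasi-compact quasi-separated opens. -/
theorem hVanish_sigma_injective (U : X.Opens) (hU : IsCompact (U : Set X)) (hU' : IsQuasiSeparated (U : Set X))
    {T : Type u} (I : T → X.Modules) (hI : ∀ t, Injective (I t)) (j : ℕ) :
    HVanish (X := X.toTopCat) (abSheaf (∐ I)) (j + 1) U := by
  classical
  haveI : PrespectralSpace ↑X.toTopCat := inferInstanceAs (PrespectralSpace X)
  have hc := isColimitFiniteSubproductsCocone I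
  have hc' := ((Groth.CohTwo.preservesColimitsOfShape_toSheaf (X := X)
    (Finset (Discrete T))).preservesColimit.preserves hc).some
  let H := (Sheaf.cohomologyPresheafFunctor (Opens.grothendieckTopology X.toTopCat) (j + 1)).flip.obj (op U)
  have hp : PreservesColimit (liftToFinsetObj (Discrete.functor I) ⋙ SheafOfModules.toSheaf.{u} X.ringCatSheaf) H :=
    Groth.FlatMor2.ColimCoh.preservesColimit_HU_space (X := X.toTopCat) U hU hU' (j + 1) _
  have hz : IsZero (H.obj ((SheafOfModules.toSheaf.{u} X.ringCatSheaf).obj (∐ I))) :=
    Groth.Misc4.CompactAcyclic.isZero_of_isColimit_zero _ (hp.preserves hc').some fun s => by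
      haveI : ∀ x : s, Injective ((Discrete.functor I).obj x) := fun x => hI _
      haveI := Abelian.hasFiniteBiproducts (C := X.Modules)
      haveI : Injective ((liftToFinsetObj (Discrete.functor I)).obj s) :=
        Injective.of_iso (biproduct.isoCoproduct fun x : s => (Discrete.functor I).obj x) inferInstance
      haveI : Subsingleton ↑(H.obj ((SheafOfModules.toSheaf.{u} X.ringCatSheaf).obj
          ((liftToFinsetObj (Discrete.functor I)).obj s))) :=
        hVanish_of_injective_module ((liftToFinsetObj (Discrete.functor I)).obj s) U j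
      exact (AddCommGrpCat.isZero_of_subsingleton
        (H.obj ((SheafOfModules.toSheaf.{u} X.ringCatSheaf).obj ((liftToFinsetObj (Discrete.functor I)).obj s))) :)
  exact AddCommGrpCat.subsingleton_of_isZero hz

variable (f : X ⟶ S) [QuasiCompact f] [QuasiSeparated f]

/-- Direct sums of injective modules are acyclic for `f_*`. -/
theorem rightAcyclic_sigma {T : Type u} (I : T → X.Modules) (hI : ∀ t, Injective (I t)) :
    RightAcyclic (Scheme.Modules.pushforward f) (∐ I) := by
  refine rightAcyclic_of_pushAcyclic f _ fun V y hy => ?_
  obtain ⟨_, ⟨W, hW, rfl⟩, hyW, hWV⟩ := S.isBasis_affineOpens.exists_subset_of_mem_open hy V.2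
  exact ⟨W, hWV, hyW, fun q => hVanish_sigma_injective _ (f.isCompact_preimage hW.isCompact)
    (Scheme.Hom.isQuasiSeparated_preimage f hW.isQuasiSeparated) I hI q⟩

open Groth.SitesTopoi.QcSum in
omit [QuasiSeparated f] in
/-- Direct images along quasi-compact morphisms commute with direct sums of modules. -/
theorem isIso_sigmaComparison {T : Type u} (M : T → X.Modules) :
    IsIso (sigmaComparison (Scheme.Modules.pushforward f) M) := by
  classical
  let G := Scheme.Modules.pushforward f
  let c := sigmaComparison G M
  have key : ∀ (V : S.Opens) (t : ∀ i, Γ(G.obj (M i), V)) (A : Finset T),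
      c.app V (∑ i ∈ A, (Sigma.ι (fun i => G.obj (M i)) i).app V (t i)) =
        ∑ i ∈ A, (Sigma.ι M i).app (f ⁻¹ᵁ V) (t i) := fun V t A => by
    refine (map_sum (c.app V).hom _ A).trans (Finset.sum_congr rfl fun i _ => ?_)
    exact congr(($(ι_comp_sigmaComparison G M i)).app V (t i))
  refine Groth.QCohMod.isIso_of_affine_bijective _ fun V hV => ⟨?_, fun z => ?_⟩
  · refine (injective_iff_map_eq_zero (c.app V).hom).2 fun x hx => ?_
    obtain ⟨A, t, ht⟩ := exists_finset_sum (O := S.sheaf) (fun i => (G.obj (M i) : ModSite.Mod S.sheaf))
      (W := V) (isQcObject_of_isCompact (X := S.toTopCat) hV.isCompact) x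
    have h0 := eq_zero_of_sum_eq_zero (O := X.sheaf) (fun i => (M i : ModSite.Mod X.sheaf)) (f ⁻¹ᵁ V) A t
      ((key V t A).symm.trans ((congrArg (c.app V) ht.symm).trans hx))
    refine ht.trans (Finset.sum_eq_zero fun i hi => ?_)
    rw [h0 i hi]
    exact map_zero _
  · obtain ⟨A, t, ht⟩ := exists_finset_sum (O := X.sheaf) (fun i => (M i : ModSite.Mod X.sheaf))
      (W := f ⁻¹ᵁ V) (isQcObject_of_isCompact (X := X.toTopCat) (f.isCompact_preimage hV.isCompact)) z
    exact ⟨_, (key V t A).trans ht.symm⟩

omit [QuasiSeparated f] in
/-- Direct images along quasi-compact morphisms commute with direct sums of modules. -/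
theorem preservesColimitsOfShape_push (T : Type u) :
    PreservesColimitsOfShape (Discrete T) (Scheme.Modules.pushforward f) :=
  haveI : ∀ M : T → X.Modules, PreservesColimit (Discrete.functor M) (Scheme.Modules.pushforward f) := fun M => by
    haveI := isIso_sigmaComparison f M
    exact PreservesCoproduct.of_iso_comparison _ _
  preservesColimitsOfShape_of_discrete _

end Groth.Misc4.PushSum
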