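import Groth.Agent.Misc4.FreeTelescope
import Groth.Agent.Misc4.ProjPerfect
import Groth.Agent.Misc4.RpushCoprod
import Groth.Agent.Misc4.QCohDTensor
import Groth.Agent.Misc4.DerivedCoprod

/-!
Complexes whose direct image computes the derived direct image, and tensor products of a K-injective complex
with complexes of free modules.
-/

universe u

open CategoryTheory CategoryTheory.Limits AlgebraicGeometry HomologicalComplex Pretriangulated

namespace Groth.Misc4.ProjQCohGood

open Groth.DerivedCoh.KFlat (T IsKFlat tot totL totR pushCx pullCx kres kresAug weakKInj_of_isKInjective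
  quasiIso_pushCx)
open Groth.DerivedCoh.Duality (inc)
open Groth.Misc4.FreeTelescope (DSplit TFree Closed)

attribute [local instance] HasDerivedCategory.standard

set_option backward.defeqAttrib.useBackward true
set_option backward.isDefEq.respectTransparency false
set_option maxHeartbeats 1000000
set_option synthInstance.maxHeartbeats 400000

local notation "up" => ComplexShape.up ℤ

section Gen

variable {A B : Type*} [Category* A] [Category* B] [Abelian A] [Abelian B] (G : A ⥤ B) [G.Additive]

/-- functors of complexes induced by additive functors respect maps of cones -/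
lemma map_coneMap {K₁ L₁ K₂ L₂ : CochainComplex A ℤ} (φ₁ : K₁ ⟶ L₁) (φ₂ : K₂ ⟶ L₂) (a : K₁ ⟶ K₂) (b : L₁ ⟶ L₂)
    (comm : φ₁ ≫ b = a ≫ φ₂) :
    (G.mapHomologicalComplex up).map (CochainComplex.mappingCone.map φ₁ φ₂ a b comm) ≫
        (CochainComplex.mappingCone.mapHomologicalComplexIso φ₂ G).hom =
      (CochainComplex.mappingCone.mapHomologicalComplexIso φ₁ G).hom ≫
        CochainComplex.mappingCone.map _ _ ((G.mapHomologicalComplex up).map a) ((G.mapHomologicalComplex up).map b)
          (by rw [← Functor.map_comp, ← Functor.map_comp, comm]) := by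
  rw [← Iso.inv_comp_eq, ← Category.assoc]
  ext n
  apply CochainComplex.mappingCone.ext_from _ (n + 1) n rfl
  · dsimp [CochainComplex.mappingCone.map, CochainComplex.mappingCone.mapHomologicalComplexIso]
    simp only [CochainComplex.mappingCone.desc_f _ _ _ _ n (n + 1) rfl,
      CochainComplex.mappingCone.mapHomologicalComplexXIso_eq _ _ n (n + 1) rfl,
      CochainComplex.mappingCone.mapHomologicalComplexXIso'_hom, CochainComplex.mappingCone.mapHomologicalComplexXIso'_inv, Functor.mapHomologicalComplex_map_f, Functor.mapHomologicalComplex_obj_X, HomologicalComplex.comp_f,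
      CochainComplex.HomComplex.Cochain.zero_cochain_comp_v, CochainComplex.HomComplex.Cochain.ofHom_v,
      CochainComplex.HomComplex.Cochain.zero_v, CochainComplex.mappingCone.inl_v_fst_v_assoc,
      CochainComplex.mappingCone.inl_v_snd_v_assoc, CochainComplex.mappingCone.inr_f_fst_v_assoc,
      CochainComplex.mappingCone.inr_f_snd_v_assoc, CochainComplex.mappingCone.inl_v_fst_v,
      CochainComplex.mappingCone.inl_v_snd_v, CochainComplex.mappingCone.inr_f_fst_v,
      CochainComplex.mappingCone.inr_f_snd_v, Preadditive.add_comp, Preadditive.comp_add, Category.assoc,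
      Category.comp_id, Category.id_comp, zero_comp, comp_zero, add_zero, zero_add, G.map_add, G.map_zero,
      G.map_id, ← G.map_comp, ← G.map_comp_assoc]
  · dsimp [CochainComplex.mappingCone.map, CochainComplex.mappingCone.mapHomologicalComplexIso]
    simp only [CochainComplex.mappingCone.desc_f _ _ _ _ n (n + 1) rfl,
      CochainComplex.mappingCone.mapHomologicalComplexXIso_eq _ _ n (n + 1) rfl,
      CochainComplex.mappingCone.mapHomologicalComplexXIso'_hom, CochainComplex.mappingCone.mapHomologicalComplexXIso'_inv, Functor.mapHomologicalComplex_map_f, Functor.mapHomologicalComplex_obj_X, HomologicalComplex.comp_f,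
      CochainComplex.HomComplex.Cochain.zero_cochain_comp_v, CochainComplex.HomComplex.Cochain.ofHom_v,
      CochainComplex.HomComplex.Cochain.zero_v, CochainComplex.mappingCone.inl_v_fst_v_assoc,
      CochainComplex.mappingCone.inl_v_snd_v_assoc, CochainComplex.mappingCone.inr_f_fst_v_assoc,
      CochainComplex.mappingCone.inr_f_snd_v_assoc, CochainComplex.mappingCone.inl_v_fst_v,
      CochainComplex.mappingCone.inl_v_snd_v, CochainComplex.mappingCone.inr_f_fst_v,
      CochainComplex.mappingCone.inr_f_snd_v, Preadditive.add_comp, Preadditive.comp_add, Category.assoc,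
      Category.comp_id, Category.id_comp, zero_comp, comp_zero, add_zero, zero_add, G.map_add, G.map_zero,
      G.map_id, ← G.map_comp, ← G.map_comp_assoc]

/-- functors of complexes induced by additive functors respect the map from a cone to a cokernel -/
lemma map_descShortComplex (S : ShortComplex (CochainComplex A ℤ)) :
    (G.mapHomologicalComplex up).map (CochainComplex.mappingCone.descShortComplex S) =
      (CochainComplex.mappingCone.mapHomologicalComplexIso S.f G).hom ≫
        CochainComplex.mappingCone.descShortComplex (S.map (G.mapHomologicalComplex up)) := by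
  rw [← Iso.inv_comp_eq]
  ext n
  apply CochainComplex.mappingCone.ext_from _ (n + 1) n rfl
  · dsimp [CochainComplex.mappingCone.descShortComplex, CochainComplex.mappingCone.mapHomologicalComplexIso]
    simp only [CochainComplex.mappingCone.desc_f _ _ _ _ n (n + 1) rfl,
      CochainComplex.mappingCone.mapHomologicalComplexXIso_eq _ _ n (n + 1) rfl,
      CochainComplex.mappingCone.mapHomologicalComplexXIso'_hom, CochainComplex.mappingCone.mapHomologicalComplexXIso'_inv, Functor.mapHomologicalComplex_map_f, Functor.mapHomologicalComplex_obj_X, HomologicalComplex.comp_f,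
      CochainComplex.HomComplex.Cochain.zero_cochain_comp_v, CochainComplex.HomComplex.Cochain.ofHom_v,
      CochainComplex.HomComplex.Cochain.zero_v, CochainComplex.mappingCone.inl_v_fst_v_assoc,
      CochainComplex.mappingCone.inl_v_snd_v_assoc, CochainComplex.mappingCone.inr_f_fst_v_assoc,
      CochainComplex.mappingCone.inr_f_snd_v_assoc, CochainComplex.mappingCone.inl_v_fst_v,
      CochainComplex.mappingCone.inl_v_snd_v, CochainComplex.mappingCone.inr_f_fst_v,
      CochainComplex.mappingCone.inr_f_snd_v, Preadditive.add_comp, Preadditive.comp_add, Category.assoc,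
      Category.comp_id, Category.id_comp, zero_comp, comp_zero, add_zero, zero_add, G.map_add, G.map_zero,
      G.map_id, ← G.map_comp, ← G.map_comp_assoc]
  · dsimp [CochainComplex.mappingCone.descShortComplex, CochainComplex.mappingCone.mapHomologicalComplexIso]
    simp only [CochainComplex.mappingCone.desc_f _ _ _ _ n (n + 1) rfl,
      CochainComplex.mappingCone.mapHomologicalComplexXIso_eq _ _ n (n + 1) rfl,
      CochainComplex.mappingCone.mapHomologicalComplexXIso'_hom, CochainComplex.mappingCone.mapHomologicalComplexXIso'_inv, Functor.mapHomologicalComplex_map_f, Functor.mapHomologicalComplex_obj_X, HomologicalComplex.comp_f,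
      CochainComplex.HomComplex.Cochain.zero_cochain_comp_v, CochainComplex.HomComplex.Cochain.ofHom_v,
      CochainComplex.HomComplex.Cochain.zero_v, CochainComplex.mappingCone.inl_v_fst_v_assoc,
      CochainComplex.mappingCone.inl_v_snd_v_assoc, CochainComplex.mappingCone.inr_f_fst_v_assoc,
      CochainComplex.mappingCone.inr_f_snd_v_assoc, CochainComplex.mappingCone.inl_v_fst_v,
      CochainComplex.mappingCone.inl_v_snd_v, CochainComplex.mappingCone.inr_f_fst_v,
      CochainComplex.mappingCone.inr_f_snd_v, Preadditive.add_comp, Preadditive.comp_add, Category.assoc,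
      Category.comp_id, Category.id_comp, zero_comp, comp_zero, add_zero, zero_add, G.map_add, G.map_zero,
      G.map_id, ← G.map_comp, ← G.map_comp_assoc]

omit [G.Additive] in
lemma quasiIso_of_coneMap {K₁ L₁ K₂ L₂ : CochainComplex A ℤ} (φ₁ : K₁ ⟶ L₁) (φ₂ : K₂ ⟶ L₂) (a : K₁ ⟶ K₂)
    (b : L₁ ⟶ L₂) (comm : φ₁ ≫ b = a ≫ φ₂) [HasDerivedCategory A] (ha : QuasiIso a)
    (h : QuasiIso (CochainComplex.mappingCone.map φ₁ φ₂ a b comm)) : QuasiIso b := by
  let α := DerivedCategory.Q.mapTriangle.map (CochainComplex.mappingCone.triangleMap φ₁ φ₂ a b comm)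
  have h' : IsIso α.hom₂ := isIso₂_of_isIso₁₃ α (DerivedCategory.mappingCone_triangle_distinguished φ₁)
    (DerivedCategory.mappingCone_triangle_distinguished φ₂)
    ((DerivedCategory.isIso_Q_map_iff_quasiIso A _).2 ha)
    ((DerivedCategory.isIso_Q_map_iff_quasiIso A _).2 h)
  exact (DerivedCategory.isIso_Q_map_iff_quasiIso A _).1 h'

end Gen

variable {U W : Scheme.{u}} (g : U ⟶ W)

/-- the direct image computes the derived direct image -/
def Good (C : CochainComplex U.Modules ℤ) : Prop := QuasiIso ((pushCx g).map ((kresAug U).app C))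

variable {g}

lemma good_iff {C J : CochainComplex U.Modules ℤ} (i : C ⟶ J) [QuasiIso i] [J.IsKInjective] :
    Good g C ↔ QuasiIso ((pushCx g).map i) := by
  haveI : QuasiIso ((kres U).map i) := by
    haveI : QuasiIso ((kresAug U).app C ≫ (kres U).map i) := by
      rw [← (kresAug U).naturality i, Functor.id_map]; infer_instance
    exact quasiIso_of_comp_left ((kresAug U).app C) _
  haveI := quasiIso_pushCx g ((kres U).map i) (weakKInj_of_isKInjective _) (weakKInj_of_isKInjective _)
  haveI := quasiIso_pushCx g ((kresAug U).app J) (weakKInj_of_isKInjective J) (weakKInj_of_isKInjective _)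
  have e : (pushCx g).map i ≫ (pushCx g).map ((kresAug U).app J) =
      (pushCx g).map ((kresAug U).app C) ≫ (pushCx g).map ((kres U).map i) := by
    rw [← Functor.map_comp, ← Functor.map_comp, ← (kresAug U).naturality i, Functor.id_map]
  constructor <;> intro h
  · haveI : QuasiIso ((pushCx g).map ((kresAug U).app C)) := h
    haveI : QuasiIso ((pushCx g).map i ≫ (pushCx g).map ((kresAug U).app J)) := e ▸ inferInstance
    exact quasiIso_of_comp_right _ ((pushCx g).map ((kresAug U).app J))
  · haveI : QuasiIso ((pushCx g).map ((kresAug U).app C) ≫ (pushCx g).map ((kres U).map i)) :=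
      e ▸ inferInstance
    exact quasiIso_of_comp_right _ ((pushCx g).map ((kres U).map i))

lemma good_of_isKInjective (C : CochainComplex U.Modules ℤ) [C.IsKInjective] : Good g C :=
  quasiIso_pushCx g _ (weakKInj_of_isKInjective C) (weakKInj_of_isKInjective _)

lemma Good.of_iso {C C' : CochainComplex U.Modules ℤ} (e : C ≅ C') (h : Good g C) : Good g C' := by
  haveI : QuasiIso ((pushCx g).map ((kresAug U).app C)) := h
  exact (good_iff (e.inv ≫ (kresAug U).app C)).2 (by rw [Functor.map_comp]; infer_instance)

lemma good_of_isZero {C : CochainComplex U.Modules ℤ} (h : IsZero C) : Good g C :=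
  haveI : C.IsKInjective := ⟨fun f _ => ⟨Homotopy.ofEq (h.eq_of_tgt _ _)⟩⟩
  good_of_isKInjective C

lemma good_cone {A B : CochainComplex U.Modules ℤ} (f : A ⟶ B) (hA : Good g A) :
    Good g (CochainComplex.mappingCone f) ↔ Good g B := by
  have comm : f ≫ (kresAug U).app B = (kresAug U).app A ≫ (kres U).map f := (kresAug U).naturality f
  haveI := Groth.DerivedCoh.KFlat.quasiIso_mappingCone_map f ((kres U).map f) _ _ comm
  haveI := Groth.DAlg.RFTriangle.isKInjective_cone ((kres U).map f)
  rw [good_iff (CochainComplex.mappingCone.map f ((kres U).map f) _ _ comm)]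
  let F := Scheme.Modules.pushforward g
  let m := CochainComplex.mappingCone.map _ _ ((pushCx g).map ((kresAug U).app A))
    ((pushCx g).map ((kresAug U).app B))
    (show (pushCx g).map f ≫ _ = _ ≫ (pushCx g).map ((kres U).map f) by
      rw [← Functor.map_comp, ← Functor.map_comp, comm])
  have e : (pushCx g).map (CochainComplex.mappingCone.map f ((kres U).map f) _ _ comm) ≫
      (CochainComplex.mappingCone.mapHomologicalComplexIso ((kres U).map f) F).hom =
      (CochainComplex.mappingCone.mapHomologicalComplexIso f F).hom ≫ m := map_coneMap F _ _ _ _ comm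
  have hA' : QuasiIso ((pushCx g).map ((kresAug U).app A)) := hA
  constructor <;> intro h
  · haveI := h
    haveI : QuasiIso ((CochainComplex.mappingCone.mapHomologicalComplexIso f F).hom ≫ m) := by
      rw [← e]; infer_instance
    exact quasiIso_of_coneMap _ _ _ _ _ hA'
      (quasiIso_of_comp_left (CochainComplex.mappingCone.mapHomologicalComplexIso f F).hom m)
  · haveI : QuasiIso ((pushCx g).map ((kresAug U).app B)) := h
    haveI := hA'
    haveI : QuasiIso m := Groth.DerivedCoh.KFlat.quasiIso_mappingCone_map _ _ _ _ _
    haveI : QuasiIso ((pushCx g).map (CochainComplex.mappingCone.map f ((kres U).map f) _ _ comm) ≫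
        (CochainComplex.mappingCone.mapHomologicalComplexIso ((kres U).map f) F).hom) := by
      rw [e]; infer_instance
    exact quasiIso_of_comp_right _ (CochainComplex.mappingCone.mapHomologicalComplexIso ((kres U).map f) F).hom

lemma shortExact_of_dSplit {A : Type*} [Category* A] [Abelian A] {S : ShortComplex (CochainComplex A ℤ)}
    (hS : DSplit S) : S.ShortExact :=
  HomologicalComplex.shortExact_of_degreewise_shortExact S fun n => (hS n).some.shortExact

lemma good_split {S : ShortComplex (CochainComplex U.Modules ℤ)} (hS : DSplit S) (h₁ : Good g S.X₁) :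
    Good g S.X₃ ↔ Good g S.X₂ := by
  rw [← good_cone S.f h₁]
  let d := CochainComplex.mappingCone.descShortComplex S
  haveI : QuasiIso d := CochainComplex.mappingCone.quasiIso_descShortComplex (shortExact_of_dSplit hS)
  haveI : QuasiIso ((pushCx g).map d) := by
    have hS' : (S.map (pushCx g)).ShortExact :=
      HomologicalComplex.shortExact_of_degreewise_shortExact _ fun n =>
        ((hS n).some.map (Scheme.Modules.pushforward g)).shortExact
    haveI := CochainComplex.mappingCone.quasiIso_descShortComplex hS'
    rw [show (pushCx g).map d = _ from map_descShortComplex (Scheme.Modules.pushforward g) S]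
    infer_instance
  rw [good_iff (d ≫ (kresAug U).app S.X₃), Functor.map_comp]
  unfold Good
  constructor <;> intro h
  · haveI := h; infer_instance
  · haveI := h
    exact quasiIso_of_comp_left ((pushCx g).map d) _

lemma isIso_γ_iff [DCoh.HasRpush g] (C : CochainComplex U.Modules ℤ) :
    IsIso ((Groth.Misc4.RpushCoprod.γ g).app C) ↔ Good g C := by
  haveI := Groth.Misc4.RpushCoprod.isIso_γ_of_isKInjective g ((kres U).obj C)
  have e := (Groth.Misc4.RpushCoprod.γ g).naturality ((kresAug U).app C)
  simp only [Functor.comp_map, Functor.id_obj] at e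
  haveI := (DerivedCategory.isIso_Q_map_iff_quasiIso _ ((kresAug U).app C)).2 inferInstance
  rw [Good, ← DerivedCategory.isIso_Q_map_iff_quasiIso]
  constructor <;> intro h
  · haveI := h
    haveI : IsIso (DerivedCategory.Q.map ((pushCx g).map ((kresAug U).app C)) ≫
        (Groth.Misc4.RpushCoprod.γ g).app ((kres U).obj C)) := by rw [e]; infer_instance
    exact IsIso.of_isIso_comp_right _ ((Groth.Misc4.RpushCoprod.γ g).app ((kres U).obj C))
  · haveI := h
    haveI : IsIso ((Groth.Misc4.RpushCoprod.γ g).app C ≫
        (DCoh.Rpush g).map (DerivedCategory.Q.map ((kresAug U).app C))) := by rw [← e]; infer_instance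
    exact IsIso.of_isIso_comp_right _ ((DCoh.Rpush g).map (DerivedCategory.Q.map ((kresAug U).app C)))

variable [QuasiCompact g] [QuasiSeparated g] [CompactSpace W]

lemma good_sigma [DCoh.HasRpush g] {ι : Type u} (C : ι → CochainComplex U.Modules ℤ)
    (hq : ∀ i, DCoh.IsQCohD (DCoh.toD U (C i))) (h : ∀ i, Good g (C i)) : Good g (∐ C) := by
  rw [← isIso_γ_iff]
  obtain ⟨hQ⟩ := Groth.Misc4.QCoprod.nonempty_isColimit C
  haveI := Groth.Misc4.PushSum.preservesColimitsOfShape_push g ι
  haveI : PreservesColimit (Discrete.functor C) (pushCx g) :=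
    ⟨fun {c} hc => ⟨HomologicalComplex.isColimitOfEval _ _ fun n =>
      isColimitOfPreserves (Scheme.Modules.pushforward g)
        (isColimitOfPreserves (HomologicalComplex.eval U.Modules up n) hc)⟩⟩
  haveI := Groth.Misc4.QCoprod.preservesColimitsOfShape (A := W.Modules) ι
  haveI := Groth.Misc4.RpushCoprod.preservesColimit_of_compact g (fun i => DerivedCategory.Q.obj (C i)) hq
  haveI : PreservesColimit (Discrete.functor C) (DerivedCategory.Q ⋙ DCoh.Rpush g) :=
    preservesColimit_of_preserves_colimit_cocone (coproductIsCoproduct C)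
      ((Cofan.isColimitMapCoconeEquiv _ _ _).symm
        (Cofan.isColimitMapCoconeEquiv (DCoh.Rpush g) _ _ (isColimitOfPreserves (DCoh.Rpush g) hQ)))
  exact Groth.Misc4.UnitCountable.isIso_app_of_isColimit (Groth.Misc4.RpushCoprod.γ g) _
    (isColimitOfPreserves (pushCx g ⋙ DerivedCategory.Q) (coproductIsCoproduct C))
    (isColimitOfPreserves (DerivedCategory.Q ⋙ DCoh.Rpush g) (coproductIsCoproduct C))
    fun j => (isIso_γ_iff _).2 (h j.as)

/-- tensoring with a fixed complex respects degreewise split short complexes -/
lemma dSplit_totR {Z : Scheme.{u}} (I : CochainComplex Z.Modules ℤ) {S : ShortComplex (CochainComplex Z.Modules ℤ)}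
    (hsp : DSplit S) : DSplit (S.map (totR (T Z) I)) := fun n => by
  have hT := (Groth.DerivedCoh.KFlat.shortExact_totR (T Z) I S
    fun p q => ((hsp q).some.map ((T Z).obj (I.X p))).shortExact).map_of_exact (eval Z.Modules up n)
  let s : (tot (T Z) I S.X₃).X n ⟶ (tot (T Z) I S.X₂).X n := mapBifunctorDesc fun p q h =>
    ((T Z).obj (I.X p)).map (hsp q).some.s ≫ inc I S.X₂ p q n h
  refine ⟨ShortComplex.Splitting.ofExactOfSection _ hT.exact s ?_ hT.mono_f⟩
  refine Groth.DerivedCoh.Duality.tot_ext _ _ fun p q h => ?_
  change inc I S.X₃ p q n h ≫ s ≫ ((totR (T Z) I).map S.g).f n = inc I S.X₃ p q n h ≫ 𝟙 _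
  refine Eq.trans ?_ (Category.comp_id _).symm
  refine (Category.assoc _ _ _).symm.trans ((congrArg (· ≫ _) (ι_mapBifunctorDesc _ p q h)).trans ?_)
  refine (Category.assoc _ _ _).trans ((congrArg (_ ≫ ·)
    (Groth.DerivedCoh.Duality.inc_totR_map I S.g p q n h)).trans ?_)
  refine (Category.assoc _ _ _).symm.trans ?_
  refine Eq.trans (congrArg (· ≫ inc I S.X₃ p q n h) ?_) (Category.id_comp _)
  exact (((T Z).obj (I.X p)).map_comp _ _).symm.trans
    ((congrArg _ (hsp q).some.s_g).trans (((T Z).obj (I.X p)).map_id _))

/-- tensoring with a fixed complex commutes with small colimits -/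
lemma preservesColimit_totR {Z : Scheme.{u}} (I : CochainComplex Z.Modules ℤ) {J : Type u} [SmallCategory J] :
    PreservesColimitsOfShape J (totR (T Z) I) :=
  haveI := fun M : Z.Modules => Groth.Misc4.DerivedCoprod.preservesColimitsOfShape_obj (J := J) M
  ⟨fun {K} => preservesColimit_of_preserves_colimit_cocone (colimit.isColimit K) (by
    have hb : IsColimit ((HomologicalComplex₂.totalFunctor Z.Modules up up up).mapCocone
        (((Groth.DerivedCoh.KFlat.Bi (T Z)).obj I).mapCocone (colimit.cocone K))) :=
      Groth.DerivedCoh.KFlat.isColimitTotal _ fun p q => isColimitOfPreserves ((T Z).obj (I.X p))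
        (isColimitOfPreserves (eval Z.Modules up q) (colimit.isColimit K))
    exact IsColimit.mapCoconeEquiv (Groth.DerivedCoh.KFlat.totRIso (T Z) I).symm hb)⟩

lemma isQCohD_of_terms {Z : Scheme.{u}} (C : CochainComplex Z.Modules ℤ) (h : ∀ n, (C.X n).IsQuasicoherent) :
    DCoh.IsQCohD (DCoh.toD Z C) := fun i => by
  haveI : (C.X ((ComplexShape.up ℤ).prev i)).IsQuasicoherent := h _
  haveI : (C.X i).IsQuasicoherent := h _
  haveI : (C.X ((ComplexShape.up ℤ).next i)).IsQuasicoherent := h _
  haveI : (C.sc i).X₁.IsQuasicoherent := h _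
  haveI : (C.sc i).X₂.IsQuasicoherent := h _
  haveI : (C.sc i).X₃.IsQuasicoherent := h _
  haveI := Groth.QCohMod.isQCoh_kernel (C.sc i).g
  let d := ShortComplex.LeftHomologyData.ofHasKernelOfHasCokernel (C.sc i)
  exact (Groth.QCohMod.isQCoh_iff_of_iso
    ((DerivedCategory.homologyFunctorFactors Z.Modules i).app C ≪≫ d.homologyIso)).2
      (Groth.QCohMod.isQCoh_cokernel _)

variable {R : CommRingCat.{u}} (F : ModuleCat.{u} R ⥤ U.Modules) [F.Additive]
  [PreservesColimitsOfSize.{u, u} F] (I : CochainComplex U.Modules ℤ)

/-- tensor products with the image of a complex of modules -/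
noncomputable abbrev Φ : CochainComplex (ModuleCat.{u} R) ℤ ⥤ CochainComplex U.Modules ℤ :=
  F.mapHomologicalComplex up ⋙ totR (T U) I

/-- `I ⊗ F P` computes its direct image for the complexes built from `R` -/
theorem closed_good [DCoh.HasRpush g] (hI : I.IsKInjective) (hIq : DCoh.IsQCohD (DCoh.toD U I))
    (hF : FlatMod.IsFinLocFree (F.obj (ModuleCat.of R R)))
    (hflat : ∀ M : ModuleCat.{u} R, Module.Free R M → FlatMod.IsFlat (F.obj M))
    (hqc : ∀ M : ModuleCat.{u} R, Module.Free R M → (F.obj M).IsQuasicoherent) :
    Closed (R := R) fun P => Good g ((Φ F I).obj P) where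
  iso e h := h.of_iso ((Φ F I).mapIso e)
  zero P hP := good_of_isZero ((Φ F I).map_isZero hP)
  ext₂ S hS h₁ h₃ := by
    have hd : DSplit ((S.map (F.mapHomologicalComplex up)).map (totR (T U) I)) :=
      dSplit_totR I fun n => ⟨(hS n).some.map F⟩
    exact (good_split hd h₁).1 h₃
  ext₃ S hS h₁ h₂ := by
    have hd : DSplit ((S.map (F.mapHomologicalComplex up)).map (totR (T U) I)) :=
      dSplit_totR I fun n => ⟨(hS n).some.map F⟩
    exact (good_split hd h₁).2 h₂
  sum {ι} P _ hf h := by
    haveI : PreservesColimit (Discrete.functor P) (F.mapHomologicalComplex up) :=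
      ⟨fun {c} hc => ⟨HomologicalComplex.isColimitOfEval _ _ fun n =>
        isColimitOfPreserves F (isColimitOfPreserves (HomologicalComplex.eval _ up n) hc)⟩⟩
    haveI := preservesColimit_totR I (J := Discrete ι)
    haveI : PreservesColimit (Discrete.functor P) (Φ F I) := inferInstance
    refine (good_sigma (fun i => (Φ F I).obj (P i)) (fun i => ?_) h).of_iso
      (PreservesCoproduct.iso (Φ F I) P).symm
    obtain ⟨hfree, b, hb⟩ := hf i
    let C := (F.mapHomologicalComplex up).obj (P i)
    have hk : IsKFlat (T U) C := Groth.DerivedCoh.KFlat.isKFlat_of_flat (T U) C b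
      (fun q hq => F.map_isZero ((P i).isZero_of_isStrictlyLE b q hq))
      fun q => Groth.DerivedCoh.KFlat.flat_of_isFlat (hflat _ (hfree q))
    haveI := Groth.DerivedCoh.KFlat.hasLTensorCx_of_isKFlat C hk
    exact Groth.Misc4.QCohDPerf.isQCohD_of_iso (Groth.DerivedCoh.KFlat.ltcxIso C hk I)
      (Groth.Misc4.QCohDTensor.isQCohD_LTensorCx C (isQCohD_of_terms C fun q => hqc _ (hfree q)) hIq)
  gen n := by
    let e := (HomologicalComplex.singleMapHomologicalComplex F up n).app (ModuleCat.of R R)
    haveI : (tot (T U) I ((single U.Modules up n).obj (F.obj (ModuleCat.of R R)))).IsKInjective :=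
      Groth.Misc4.ProjCx.isKInjective_tot I hI 1 n _ (fun q => by
        by_cases hq : q = n
        · subst hq
          exact Groth.KTheory.LocFree.isFinLocFree_of_iso (singleObjXSelf up q _).symm hF
        · exact Groth.KTheory.LocFree.isFinLocFree_zero (isZero_single_obj_X _ _ _ _ hq))
        fun i hi => by
          by_cases hq : i = n
          · omega
          · exact isZero_single_obj_X _ _ _ _ hq
    exact (good_of_isKInjective (tot (T U) I ((single U.Modules up n).obj (F.obj (ModuleCat.of R R))))).of_iso
      ((totR (T U) I).mapIso e.symm)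

end Groth.Misc4.ProjQCohGood
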