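import Groth.Agent.Misc4.AbRlimEv
import Groth.Agent.SiteCohomology.Free

/-!
The comparison of cohomology presheaves of an object of the derived category of abelian sheaves with
its cohomology sheaves.
-/

universe w u

set_option backward.defeqAttrib.useBackward true
set_option backward.isDefEq.respectTransparency false
set_option linter.unusedSectionVars false
set_option synthInstance.maxHeartbeats 400000
set_option maxHeartbeats 1000000

open CategoryTheory CategoryTheory.Limits Opposite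

namespace Groth.Misc4.AbEta

open Groth.Misc4.AbRlimEv (S1 ev1 ev1_comp ev1_map ev1_add ev1_sub exists_epi_lift1 exists_epi_kill1)
open Groth.Misc4 (RlimVanish.hShift)
open Groth.SiteCohomology

variable {C : Type u} [SmallCategory C] {J : GrothendieckTopology C}
  [HasDerivedCategory.{u} (Sheaf J AddCommGrpCat.{u})]

/-- The degree comparison. -/
noncomputable abbrev hs (K : DerivedCategory (Sheaf J AddCommGrpCat.{u})) (q : ℤ) :
    (DerivedCategory.homologyFunctor _ 0).obj (K⟦q⟧) ≅ CohCx.HD K q :=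
  RlimVanish.hShift K q 0 q (add_zero q)

/-- The class of a cohomology class as a morphism from the free sheaf. -/
noncomputable def cls (K : DerivedCategory (Sheaf J AddCommGrpCat.{u})) (q : ℤ) (U : C) (x : CohCx.HDU K q U) :
    CohCx.freeSheaf J U ⟶ CohCx.HD K q :=
  ev1 (M := CohCx.freeSheaf J U) x ≫ (hs K q).hom

lemma cls_add (K : DerivedCategory (Sheaf J AddCommGrpCat.{u})) (q : ℤ) (U : C) (x y : CohCx.HDU K q U) :
    cls K q U (x + y) = cls K q U x + cls K q U y := by
  simp only [cls]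
  rw [ev1_add, Preadditive.add_comp]

lemma cls_map (K : DerivedCategory (Sheaf J AddCommGrpCat.{u})) (q : ℤ) {U V : C} (g : V ⟶ U)
    (x : CohCx.HDU K q U) :
    cls K q V (S1.map (CohCx.freeSheafMap J g) ≫ x) = CohCx.freeSheafMap J g ≫ cls K q U x := by
  simp only [cls]
  rw [ev1_map, Category.assoc]

/-- The map from classes over an object to sections of the cohomology sheaf. -/
noncomputable def ηU (K : DerivedCategory (Sheaf J AddCommGrpCat.{u})) (q : ℤ) (U : C) :
    CohCx.HDU K q U →+ (CohCx.HD K q).obj.obj (op U) :=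
  (CohFree.evalGen J U (CohCx.HD K q)).comp
    { toFun := fun x => cls K q U x
      map_zero' := by
        have h := cls_add K q U 0 0
        rwa [add_zero, eq_comm, add_eq_left] at h
      map_add' := cls_add K q U }

lemma ηU_eq (K : DerivedCategory (Sheaf J AddCommGrpCat.{u})) (q : ℤ) (U : C) (x : CohCx.HDU K q U) :
    ηU K q U x = CohFree.evalGen J U (CohCx.HD K q) (cls K q U x) := rfl

lemma cls_comp {K K' : DerivedCategory (Sheaf J AddCommGrpCat.{u})} (φ : K ⟶ K') (q : ℤ) (U : C)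
    (x : CohCx.HDU K q U) :
    cls K' q U (x ≫ φ⟦q⟧') = cls K q U x ≫ (DerivedCategory.homologyFunctor _ q).map φ := by
  rw [cls, cls, ev1_comp, Category.assoc, Category.assoc, RlimVanish.hShift_nat φ q 0 q (add_zero q)]

lemma ηU_nat {K K' : DerivedCategory (Sheaf J AddCommGrpCat.{u})} (φ : K ⟶ K') (q : ℤ) (U : C)
    (x : CohCx.HDU K q U) :
    ηU K' q U (x ≫ φ⟦q⟧') = ((DerivedCategory.homologyFunctor _ q).map φ).hom.app (op U) (ηU K q U x) := by
  rw [ηU_eq, cls_comp, evalGen_comp, ← ηU_eq]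

lemma ηU_map (K : DerivedCategory (Sheaf J AddCommGrpCat.{u})) (q : ℤ) {U V : C} (g : V ⟶ U)
    (x : CohCx.HDU K q U) :
    ηU K q V (S1.map (CohCx.freeSheafMap J g) ≫ x) = (CohCx.HD K q).obj.map g.op (ηU K q U x) := by
  rw [ηU_eq, cls_map, CohFree.evalGen_freeSheafMap_comp, ← ηU_eq]

/-- The map from cohomology presheaves to cohomology sheaves. -/
noncomputable def η (K : DerivedCategory (Sheaf J AddCommGrpCat.{u})) (q : ℤ) :
    CohCx.HDUPresheaf K q ⟶ (CohCx.HD K q).obj where
  app U := AddCommGrpCat.ofHom (ηU K q U.unop)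
  naturality {U V} g := AddCommGrpCat.hom_ext (AddMonoidHom.ext fun x => ηU_map K q g.unop x)

lemma η_app (K : DerivedCategory (Sheaf J AddCommGrpCat.{u})) (q : ℤ) (U : C) (x : CohCx.HDU K q U) :
    (η K q).app (op U) x = ηU K q U x := rfl

/-- Pushing a class forward. -/
noncomputable def hmap {K K' : DerivedCategory (Sheaf J AddCommGrpCat.{u})} (φ : K ⟶ K') (q : ℤ) :
    CohCx.HDUPresheaf K q ⟶ CohCx.HDUPresheaf K' q :=
  Functor.whiskerLeft _ (preadditiveYoneda.map (φ⟦q⟧'))

lemma hmap_app {K K' : DerivedCategory (Sheaf J AddCommGrpCat.{u})} (φ : K ⟶ K') (q : ℤ) (U : C)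
    (x : CohCx.HDU K q U) : (hmap φ q).app (op U) x = x ≫ φ⟦q⟧' := rfl

lemma hmap_comp {K K' K'' : DerivedCategory (Sheaf J AddCommGrpCat.{u})} (φ : K ⟶ K') (ψ : K' ⟶ K'') (q : ℤ) :
    hmap (φ ≫ ψ) q = hmap φ q ≫ hmap ψ q := by
  simp only [hmap, Functor.map_comp, Functor.whiskerLeft_comp]

lemma η_nat {K K' : DerivedCategory (Sheaf J AddCommGrpCat.{u})} (φ : K ⟶ K') (q : ℤ) :
    hmap φ q ≫ η K' q = η K q ≫ ((DerivedCategory.homologyFunctor _ q).map φ).hom :=
  NatTrans.ext (funext fun U => AddCommGrpCat.hom_ext (AddMonoidHom.ext fun x => ηU_nat φ q U.unop x))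

/-- A locally lifting morphism onto a free sheaf. -/
lemma exists_local_lift {U : C} {M : Sheaf J AddCommGrpCat.{u}} (p : M ⟶ CohCx.freeSheaf J U) [Epi p] :
    ∃ S ∈ J U, ∀ ⦃V : C⦄ (g : V ⟶ U), S g → ∃ l : CohCx.freeSheaf J V ⟶ M, l ≫ p = CohCx.freeSheafMap J g := by
  have : Sheaf.IsLocallySurjective p := (Sheaf.isLocallySurjective_iff_epi' AddCommGrpCat.{u} p).2 inferInstance
  refine ⟨_, Presheaf.imageSieve_mem J p.hom (U := op U) (CohFree.gen J U), fun V g ⟨t, ht⟩ =>
    ⟨CohFree.ofSect J V M t, ?_⟩⟩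
  rw [ofSect_comp]
  exact (congrArg (CohFree.ofSect J V (CohCx.freeSheaf J U)) (ht.trans (CohFree.freeSheafMap_gen J g).symm)).trans
    (CohFree.ofSect_evalGen J V _ (CohCx.freeSheafMap J g))

/-- Every section of a cohomology sheaf is locally a class. -/
lemma exists_cover_lift (K : DerivedCategory (Sheaf J AddCommGrpCat.{u})) (q : ℤ) (U : C)
    (s : (CohCx.HD K q).obj.obj (op U)) :
    ∃ S ∈ J U, ∀ ⦃V : C⦄ (g : V ⟶ U), S g → ∃ x : CohCx.HDU K q V, ηU K q V x = (CohCx.HD K q).obj.map g.op s := by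
  obtain ⟨M, p, hp, f, hf⟩ := exists_epi_lift1 (X := K⟦q⟧) (CohFree.ofSect J U (CohCx.HD K q) s ≫ (hs K q).inv)
  obtain ⟨S, hS, hl⟩ := exists_local_lift p
  refine ⟨S, hS, fun V g hg => ?_⟩
  obtain ⟨l, hl⟩ := hl g hg
  refine ⟨S1.map l ≫ f, ?_⟩
  rw [ηU_eq, cls, ev1_map, hf, Category.assoc, Category.assoc, Category.assoc, Iso.inv_hom_id, Category.comp_id,
    reassoc_of% hl, freeSheafMap_comp_ofSect, CohFree.evalGen_ofSect]

/-- A class with zero image in the cohomology sheaf vanishes locally. -/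
lemma exists_cover_kill (K : DerivedCategory (Sheaf J AddCommGrpCat.{u})) (q : ℤ) (U : C)
    (x : CohCx.HDU K q U) (hx : ηU K q U x = 0) :
    ∃ S ∈ J U, ∀ ⦃V : C⦄ (g : V ⟶ U), S g → S1.map (CohCx.freeSheafMap J g) ≫ x = 0 := by
  have h0 : ev1 (M := CohCx.freeSheaf J U) x = 0 := by
    have h1 : cls K q U x = 0 := (CohFree.homEquivSect J U _).injective (hx.trans (map_zero _).symm)
    rwa [cls, Preadditive.IsIso.comp_right_eq_zero] at h1
  obtain ⟨M, p, hp, hk⟩ := exists_epi_kill1 _ h0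
  obtain ⟨S, hS, hl⟩ := exists_local_lift p
  refine ⟨S, hS, fun V g hg => ?_⟩
  obtain ⟨l, hl⟩ := hl g hg
  rw [← hl, Functor.map_comp, Category.assoc, hk, comp_zero]

instance isLocallySurjective_η (K : DerivedCategory (Sheaf J AddCommGrpCat.{u})) (q : ℤ) :
    Presheaf.IsLocallySurjective J (η K q) where
  imageSieve_mem {U} s := by
    obtain ⟨S, hS, h⟩ := exists_cover_lift K q U s
    refine J.superset_covering (fun V g hg => ?_) hS
    obtain ⟨x, hx⟩ := h g hg
    exact ⟨x, hx⟩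

instance isLocallyInjective_η (K : DerivedCategory (Sheaf J AddCommGrpCat.{u})) (q : ℤ) :
    Presheaf.IsLocallyInjective J (η K q) where
  equalizerSieve_mem {U} x y hxy := by
    let x' : CohCx.HDU K q U.unop := x
    let y' : CohCx.HDU K q U.unop := y
    obtain ⟨S, hS, h⟩ := exists_cover_kill K q U.unop (x' - y') ((map_sub _ _ _).trans (sub_eq_zero.2 hxy))
    refine J.superset_covering (fun V g hg => ?_) hS
    change S1.map (CohCx.freeSheafMap J g) ≫ x' = S1.map (CohCx.freeSheafMap J g) ≫ y'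
    rw [← sub_eq_zero, ← Preadditive.comp_sub, h g hg]

lemma W_η (K : DerivedCategory (Sheaf J AddCommGrpCat.{u})) (q : ℤ) : J.W (η K q) :=
  J.W_of_isLocallyBijective _

/-- A morphism of sheaves inverted by sheafification is invertible. -/
lemma isIso_of_W_hom {F G : Sheaf J AddCommGrpCat.{u}} (Φ : F ⟶ G) (h : J.W Φ.hom) : IsIso Φ := by
  have h1 := (J.W_iff_isLocallyBijective Φ.hom).1 h
  exact (Sheaf.isLocallyBijective_iff_isIso Φ).1 h1

lemma W_hom_of_isIso {F G : Sheaf J AddCommGrpCat.{u}} (Φ : F ⟶ G) [IsIso Φ] : J.W Φ.hom :=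
  (J.W_iff_isLocallyBijective _).2 ((Sheaf.isLocallyBijective_iff_isIso Φ).2 inferInstance)

lemma W_hmap_of_isIso {K K' : DerivedCategory (Sheaf J AddCommGrpCat.{u})} (φ : K ⟶ K') (q : ℤ)
    [IsIso ((DerivedCategory.homologyFunctor (Sheaf J AddCommGrpCat.{u}) q).map φ)] : J.W (hmap φ q) := by
  refine J.W.of_postcomp _ _ (W_η K' q) ?_
  rw [η_nat]
  exact J.W.comp_mem _ _ (W_η K q) (W_hom_of_isIso _)

lemma isIso_of_W_hmap {K K' : DerivedCategory (Sheaf J AddCommGrpCat.{u})} (φ : K ⟶ K') (q : ℤ)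
    (h : J.W (hmap φ q)) : IsIso ((DerivedCategory.homologyFunctor (Sheaf J AddCommGrpCat.{u}) q).map φ) := by
  refine isIso_of_W_hom _ (J.W.of_precomp _ _ (W_η K q) ?_)
  rw [← η_nat]
  exact J.W.comp_mem _ _ h (W_η K' q)

/-- For bounded below objects without higher cohomology of the cohomology sheaves, classes are sections. -/
theorem bijective_η_of_isGE (K : DerivedCategory (Sheaf J AddCommGrpCat.{u})) (a : ℤ) [K.IsGE a] (q : ℤ) (U : C)
    (h : ∀ (i : ℤ) (k : ℕ), 0 < k → Subsingleton (CohSite.HU (CohCx.HD K i) k U)) :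
    Function.Bijective ((η K q).app (op U)) := by
  have : (K⟦q⟧).IsGE (a - q) := DerivedCategory.TStructure.t.isGE_shift K a q (a - q) (by lia)
  have hb := AbRlimEv.bijective_ev1 (CohCx.freeSheaf J U) (K⟦q⟧) (a - q) fun i k hk => by
    have : Subsingleton (((Abelian.extFunctor k).obj (op (CohCx.freeSheaf J U))).obj (CohCx.HD K (q + i))) :=
      h (q + i) k hk
    exact (((Abelian.extFunctor k).obj (op (CohCx.freeSheaf J U))).mapIso
      (RlimVanish.hShift K q i (q + i) rfl)).addCommGroupIsoToAddEquiv.subsingleton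
  exact ((CohFree.homEquivSect J U (CohCx.HD K q)).bijective.comp ((hs K q).homToEquiv.bijective)).comp hb

end Groth.Misc4.AbEta
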