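import Groth.Agent.Misc7.HDU.Rlim

/-! Derived limits of systems which are eventually constant after mapping out of an object. -/

set_option autoImplicit false
universe w v u

open CategoryTheory Limits Pretriangulated

set_option linter.unusedSectionVars false

namespace Groth.Misc4.RlimEventual

/-- solving an inverse recursion -/
lemma exists_seq : ∀ (N : ℕ) (G : ℕ → Type w) (ψ : ∀ n, G (n + 1) → G n) (φ : ∀ n, G n → G n)
    (_ : ∀ n, Function.Bijective (φ n)) (_ : ∀ n, N ≤ n → Function.Surjective (ψ n)) (x : G N),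
    ∃ b : ∀ n, G n, b N = x ∧ ∀ n, ψ n (b (n + 1)) = φ n (b n)
  | 0, G, ψ, φ, _, hψ, x => by
    choose s hs using fun n (y : G n) => hψ n (Nat.zero_le n) y
    exact ⟨fun n => Nat.rec (motive := G) x (fun n b => s n (φ n b)) n, rfl, fun n => hs n _⟩
  | N + 1, G, ψ, φ, hφ, hψ, x => by
    obtain ⟨b', hx, hb'⟩ := exists_seq N (fun n => G (n + 1)) (fun n => ψ (n + 1))
      (fun n => φ (n + 1)) (fun n => hφ (n + 1)) (fun n hn => hψ (n + 1) (by omega)) x
    obtain ⟨b0, hb0⟩ := (hφ 0).2 (ψ 0 (b' 0))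
    refine ⟨fun n => match n with | 0 => b0 | k + 1 => b' k, hx, fun n => ?_⟩
    match n with
    | 0 => exact hb0.symm
    | k + 1 => exact hb' k

variable {T : Type u} [Category.{v} T] [Preadditive T] [HasZeroObject T] [HasShift T ℤ]
  [∀ n : ℤ, (shiftFunctor T n).Additive] [Pretriangulated T]
variable {K : ℕ → T} [HasProduct K] {t : ∀ n, K (n + 1) ⟶ K n} {L : T} {a : ∀ n, L ⟶ K n}
  (hL : CohCx.IsRlimVia K t L a)

include hL in
lemma compat (n : ℕ) : a (n + 1) ≫ t n = a n := by
  obtain ⟨c, hc⟩ := hL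
  have h : Pi.lift a ≫ Pi.lift (fun n => Pi.π K n - Pi.π K (n + 1) ≫ t n) = 0 :=
    comp_distTriang_mor_zero₁₂ _ hc
  have := h =≫ Pi.π K n
  simp only [Category.assoc, Pi.lift_π, Preadditive.comp_sub, limit.lift_π_assoc, Fan.mk_pt,
    Fan.mk_π_app, zero_comp, sub_eq_zero] at this
  exact this.symm

include hL in
/-- If the maps out of `A` are eventually bijective then those to a derived limit are eventually bijective. -/
theorem bijective_of_eventually (A : T) (m : ℤ) (N : ℕ)
    (hm : ∀ n, N ≤ n → Function.Bijective fun f : A ⟶ (K (n + 1))⟦m⟧ => f ≫ (t n)⟦m⟧')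
    (hm' : ∀ n, N ≤ n → Function.Surjective fun f : A ⟶ (K (n + 1))⟦(m - 1)⟧ => f ≫ (t n)⟦(m - 1)⟧')
    (n : ℕ) (hn : N ≤ n) : Function.Bijective fun y : A ⟶ L⟦m⟧ => y ≫ (a n)⟦m⟧' := by
  constructor
  · intro y₁ y₂ h
    rw [← sub_eq_zero]
    refine Groth.Misc7.HDU.eq_zero_of_images t a hL A m (fun c => ?_) _ fun k => ?_
    · obtain ⟨b, -, hb⟩ := exists_seq N (fun n => A ⟶ (K n)⟦(m - 1)⟧) (fun n f => f ≫ (t n)⟦(m - 1)⟧')
        (fun n f => f - c n) (fun n => (Equiv.subRight (c n)).bijective) hm' 0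
      exact ⟨b, funext fun n => by simp [hb n]⟩
    · have key : ∀ k, n ≤ k → (y₁ - y₂) ≫ (a k)⟦m⟧' = 0 := by
        intro k hk
        induction k, hk using Nat.le_induction with
        | base => rw [Preadditive.sub_comp, sub_eq_zero]; exact h
        | succ k hk ih =>
          apply (hm k (by omega)).1
          dsimp only
          rw [Category.assoc, ← Functor.map_comp, compat hL, ih, zero_comp]
      have : ∀ j k, (y₁ - y₂) ≫ (a (k + j))⟦m⟧' = 0 → (y₁ - y₂) ≫ (a k)⟦m⟧' = 0 := by
        intro j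
        induction j with
        | zero => exact fun k h => h
        | succ j ih =>
          intro k h
          refine ih k ?_
          rw [← compat hL (k + j), Functor.map_comp, ← Category.assoc]
          exact (congrArg (· ≫ _) h).trans zero_comp
      exact this n k (key (k + n) (by omega))
  · intro x
    obtain ⟨b, hbn, hb⟩ := exists_seq n (fun n => A ⟶ (K n)⟦m⟧) (fun n f => f ≫ (t n)⟦m⟧')
      (fun n f => f) (fun n => Function.bijective_id) (fun k hk => (hm k (by omega)).2) x
    obtain ⟨y, hy⟩ := Groth.Misc7.HDU.exists_of_compatible t a hL A m b hb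
    exact ⟨y, (hy n).trans hbn⟩

end Groth.Misc4.RlimEventual
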