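import Groth.Agent.Misc4.AbEta
import Groth.Agent.Misc4.RlimEventual
import Groth.Agent.Misc4.RlimTrunc
import Groth.Agent.Misc7.HDU.AcyclicBdd

/-!
Cohomology sheaves of derived limits of abelian sheaves.
-/

universe w u

set_option backward.defeqAttrib.useBackward true
set_option backward.isDefEq.respectTransparency false
set_option linter.unusedSectionVars false
set_option synthInstance.maxHeartbeats 400000
set_option maxHeartbeats 1000000

open CategoryTheory CategoryTheory.Limits Opposite Pretriangulated DerivedCategory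

namespace Groth.Misc4.AbRlim

open Groth.Misc4.AbRlimEv (S1 bijective_map1)
open Groth.Misc4.AbEta

variable {C : Type u} [SmallCategory C] {J : GrothendieckTopology C}

/-- There are locally arbitrarily small objects satisfying `P N` for some bound `N`. -/
def Loc (J : GrothendieckTopology C) (P : ℕ → C → Prop) : Prop :=
  ∀ (U : C) (T : ℕ → Sieve U), (∀ N, T N ∈ J U) →
    ∃ S ∈ J U, ∀ ⦃V : C⦄ (g : V ⟶ U), S g →
      ∃ (N : ℕ) (Y : C) (a : V ⟶ Y) (b : Y ⟶ U), a ≫ b = g ∧ T N b ∧ P N Y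

/-- Local existence from coverings of coverings. -/
lemma loc_of_basis (P : ℕ → C → Prop) (B : Set C)
    (hB : ∀ U : C, ∃ (ι : Type u) (Y : ι → C) (f : ∀ i, Y i ⟶ U), Sieve.ofArrows Y f ∈ J U ∧ ∀ i, Y i ∈ B)
    (h : ∀ V ∈ B, ∃ N : ℕ, ∀ T ∈ J V, ∃ (ι : Type u) (Y : ι → C) (f : ∀ i, Y i ⟶ V),
      (∀ i, T.arrows (f i)) ∧ Sieve.ofArrows Y f ∈ J V ∧ ∀ i, P N (Y i)) : Loc J P := by
  intro U T hT
  obtain ⟨ι, V, f, hf, hV⟩ := hB U
  choose N hN using fun i => h _ (hV i)
  refine ⟨{ arrows := fun W g => ∃ (n : ℕ) (Y : C) (a : W ⟶ Y) (b : Y ⟶ U), a ≫ b = g ∧ T n b ∧ P n Y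
            downward_closed := ?_ }, ?_, fun W g hg => hg⟩
  · rintro W W' g ⟨n, Y, a, b, hab, hb⟩ k
    exact ⟨n, Y, k ≫ a, b, by rw [Category.assoc, hab], hb⟩
  · refine J.transitive hf _ ?_
    rintro W _ ⟨_, l, _, ⟨i⟩, rfl⟩
    rw [Sieve.pullback_comp]
    refine J.pullback_stable l ?_
    obtain ⟨κ, Y, g, hgT, hg, hP⟩ := hN i ((T (N i)).pullback (f i)) (J.pullback_stable (f i) (hT _))
    refine J.superset_covering ?_ hg
    rintro W' _ ⟨_, c, _, ⟨j⟩, rfl⟩
    exact ⟨N i, _, c, g j ≫ f i, (Category.assoc _ _ _).symm, hgT j, hP j⟩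

variable [HasDerivedCategory.{u} (Sheaf J AddCommGrpCat.{u})]
  {K : ℕ → DerivedCategory (Sheaf J AddCommGrpCat.{u})} {t : ∀ n, K (n + 1) ⟶ K n}
  {L : DerivedCategory (Sheaf J AddCommGrpCat.{u})} {a : ∀ n, L ⟶ K n}

/-- restriction of classes -/
noncomputable abbrev rs {K : DerivedCategory (Sheaf J AddCommGrpCat.{u})} {q : ℤ} {U V : C} (g : V ⟶ U)
    (x : CohCx.HDU K q U) : CohCx.HDU K q V :=
  S1.map (CohCx.freeSheafMap J g) ≫ x

lemma rs_comp {K : DerivedCategory (Sheaf J AddCommGrpCat.{u})} {q : ℤ} {U V W : C} (g : V ⟶ U) (k : W ⟶ V)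
    (x : CohCx.HDU K q U) : rs (k ≫ g) x = rs k (rs g x) := by
  simp only [rs, CohFree.freeSheafMap_comp, Functor.map_comp, Category.assoc]

/-- A map to a term which is locally bijective on classes, far out, is invertible on the cohomology sheaf. -/
theorem isIso_homology_of_loc (hc : ∀ n, a (n + 1) ≫ t n = a n) (q : ℤ) (n₁ : ℕ)
    (hn₁ : ∀ n, n₁ ≤ n → IsIso ((homologyFunctor (Sheaf J AddCommGrpCat.{u}) q).map (t n)))
    (hloc : Loc J fun N Y => ∀ m, N ≤ m → Function.Bijective ((hmap (a m) q).app (op Y)))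
    (n : ℕ) (hn : n₁ ≤ n) : IsIso ((homologyFunctor (Sheaf J AddCommGrpCat.{u}) q).map (a n)) := by
  have trans' : ∀ N, n ≤ N → ∃ τ : K N ⟶ K n, a N ≫ τ = a n ∧ J.W (hmap τ q) := by
    intro N hN
    suffices ∃ τ : K N ⟶ K n, a N ≫ τ = a n ∧
        IsIso ((homologyFunctor (Sheaf J AddCommGrpCat.{u}) q).map τ) by
      obtain ⟨τ, hτ, hi⟩ := this
      exact ⟨τ, hτ, W_hmap_of_isIso τ q⟩
    induction N, hN using Nat.le_induction with
    | base => exact ⟨𝟙 _, Category.comp_id _, inferInstance⟩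
    | succ N hN ih =>
      obtain ⟨τ, hτ, hi⟩ := ih
      have := hn₁ N (by omega)
      refine ⟨t N ≫ τ, by rw [← Category.assoc, hc, hτ], ?_⟩
      rw [Functor.map_comp]
      infer_instance
  choose τ hτ hW using fun N => trans' (max N n) (le_max_right _ _)
  refine isIso_of_W_hmap _ _ ?_
  have : Presheaf.IsLocallyInjective J (hmap (a n) q) := ⟨fun {U} x y hxy => by
    let T : ℕ → Sieve U.unop := fun N => Presheaf.equalizerSieve (F := CohCx.HDUPresheaf (K (max N n)) q)
      ((hmap (a (max N n)) q).app U x) ((hmap (a (max N n)) q).app U y)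
    have hT : ∀ N, T N ∈ J U.unop := fun N => by
      have := ((J.W_iff_isLocallyBijective _).1 (hW N)).1
      refine Presheaf.equalizerSieve_mem J (hmap (τ N) q) _ _ ?_
      rw [← ConcreteCategory.comp_apply, ← ConcreteCategory.comp_apply, ← NatTrans.comp_app, ← hmap_comp, hτ]
      exact hxy
    obtain ⟨S, hS, h⟩ := hloc U.unop T hT
    refine J.superset_covering (fun V g hg => ?_) hS
    obtain ⟨N, Y, k, b, rfl, hb, hN⟩ := h g hg
    let x' : CohCx.HDU L q U.unop := x
    let y' : CohCx.HDU L q U.unop := y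
    have e : rs b x' = rs b y' := by
      refine (hN (max N n) (le_max_left _ _)).1 ?_
      exact (NatTrans.naturality_apply (hmap (a (max N n)) q) b.op x).trans
        (hb.trans (NatTrans.naturality_apply (hmap (a (max N n)) q) b.op y).symm)
    change rs (k ≫ b) x' = rs (k ≫ b) y'
    rw [rs_comp, rs_comp, e]⟩
  have : Presheaf.IsLocallySurjective J (hmap (a n) q) := ⟨fun {U} z => by
    let T : ℕ → Sieve U := fun N => Presheaf.imageSieve (hmap (τ N) q) z
    have hT : ∀ N, T N ∈ J U := fun N =>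
      have := ((J.W_iff_isLocallyBijective _).1 (hW N)).2
      Presheaf.imageSieve_mem J _ _
    obtain ⟨S, hS, h⟩ := hloc U T hT
    refine J.superset_covering (fun V g hg => ?_) hS
    obtain ⟨N, Y, k, b, rfl, ⟨w, hw⟩, hN⟩ := h g hg
    obtain ⟨v, hv⟩ := (hN (max N n) (le_max_left _ _)).2 w
    refine ⟨(CohCx.HDUPresheaf L q).map k.op v, ?_⟩
    rw [NatTrans.naturality_apply, op_comp, Functor.map_comp, ConcreteCategory.comp_apply, ← hw, ← hv]
    refine congrArg _ ?_
    rw [← ConcreteCategory.comp_apply, ← NatTrans.comp_app, ← hmap_comp, hτ]⟩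
  exact J.W_of_isLocallyBijective _

section

variable [HasProduct K] (hL : CohCx.IsRlimVia K t L a)

include hL in
/-- Injectivity on classes of the map to a term of the system. -/
theorem eq_zero_of_injective (U : C) (m : ℤ) (nV : ℕ)
    (h1 : CohCx.LimOneIsZero (fun n => CohCx.HDU (K n) (m - 1) U)
      (fun n => Preadditive.rightComp _ ((shiftFunctor _ (m - 1)).map (t n))))
    (h2 : ∀ k : ℕ, Function.Injective
      (Preadditive.rightComp _ ((shiftFunctor _ m).map (CohCx.transition K t nV k)) :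
        CohCx.HDU (K (nV + k)) m U → CohCx.HDU (K nV) m U))
    (x : CohCx.HDU L m U) (hx : x ≫ (a nV)⟦m⟧' = 0) : x = 0 := by
  have hc := RlimEventual.compat hL
  have htr : ∀ k, a (nV + k) ≫ CohCx.transition K t nV k = a nV := fun k => by
    induction k with
    | zero => exact Category.comp_id _
    | succ k ih =>
      change a (nV + k + 1) ≫ t (nV + k) ≫ _ = _
      rw [← Category.assoc, hc, ih]
  have hge : ∀ k, x ≫ (a (nV + k))⟦m⟧' = 0 := fun k => h2 k (by
    change (x ≫ (a (nV + k))⟦m⟧') ≫ (CohCx.transition K t nV k)⟦m⟧' = (0 : _ ⟶ _) ≫ _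
    rw [Category.assoc, ← Functor.map_comp, htr, hx, zero_comp])
  have hall : ∀ n, x ≫ (a n)⟦m⟧' = 0 := fun n => by
    rcases le_total nV n with hn | hn
    · obtain ⟨k, rfl⟩ := Nat.exists_eq_add_of_le hn
      exact hge k
    · induction hn using Nat.decreasingInduction with
      | self => exact hge 0
      | of_succ k _ ih => rw [← hc k, Functor.map_comp, ← Category.assoc, ih, zero_comp]
  exact Groth.Misc7.HDU.eq_zero_of_images t a hL _ m h1 x hall

include hL in
/-- Sections of the cohomology sheaf of a derived limit with zero image vanish near classes with injective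
transition maps. -/
theorem locally_eq_zero (V : C) (m : ℤ) (nV : ℕ) (s : (CohCx.HD L m).obj.obj (op V))
    (hs : ((homologyFunctor _ m).map (a nV)).hom.app (op V) s = 0) :
    ∃ T ∈ J V, ∀ ⦃W : C⦄ (g : W ⟶ V), T g → ∀ ⦃U : C⦄ (k : U ⟶ W),
      CohCx.LimOneIsZero (fun n => CohCx.HDU (K n) (m - 1) U)
        (fun n => Preadditive.rightComp _ ((shiftFunctor _ (m - 1)).map (t n))) →
      (∀ j : ℕ, Function.Injective
        (Preadditive.rightComp _ ((shiftFunctor _ m).map (CohCx.transition K t nV j)) :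
          CohCx.HDU (K (nV + j)) m U → CohCx.HDU (K nV) m U)) →
      (CohCx.HD L m).obj.map (k ≫ g).op s = 0 := by
  refine ⟨{ arrows := fun W g => ∃ x : CohCx.HDU L m W,
              ηU L m W x = (CohCx.HD L m).obj.map g.op s ∧ x ≫ (a nV)⟦m⟧' = 0
            downward_closed := ?_ }, ?_, fun W g ⟨x, hx, hx0⟩ U k h1 h2 => ?_⟩
  · rintro W W' g ⟨x, hx, hx0⟩ k
    refine ⟨rs k x, ?_, by rw [Category.assoc, hx0, comp_zero]⟩
    rw [rs, ηU_map, hx, op_comp, Functor.map_comp]
    rfl
  · obtain ⟨S, hS, hS'⟩ := exists_cover_lift L m V s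
    refine J.transitive hS _ fun W g hg => ?_
    obtain ⟨x, hx⟩ := hS' g hg
    have h0 : ηU (K nV) m W (x ≫ (a nV)⟦m⟧') = 0 := by
      rw [ηU_nat, hx, NatTrans.naturality_apply, hs, map_zero]
    obtain ⟨S', hS'', hk⟩ := exists_cover_kill (K nV) m W _ h0
    refine J.superset_covering (fun W' k hk' => ?_) hS''
    refine ⟨rs k x, ?_, ?_⟩
    · rw [rs, ηU_map, hx, op_comp, Functor.map_comp]
      rfl
    · exact (Category.assoc _ _ _).trans (hk k hk')
  · have hz : rs k x = 0 := eq_zero_of_injective hL U m nV h1 h2 (rs k x) (by rw [Category.assoc, hx0, comp_zero])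
    rw [op_comp, Functor.map_comp, ConcreteCategory.comp_apply, ← hx, ← ηU_map]
    exact (congrArg (ηU L m U) hz).trans (map_zero _)

end

/-- An object is the derived limit of its truncations if, locally, the Ext groups far out vanish. -/
theorem isRlimVia_truncTower (E : DerivedCategory (Sheaf J AddCommGrpCat.{u})) [HasProduct (CohCx.truncTower E)]
    (h : ∀ j : ℤ, Loc J fun N Y => ∀ (n k : ℕ), N ≤ n → j + n ≤ k → (k : ℤ) ≤ j + n + 2 →
      Subsingleton (CohSite.HU (CohCx.HD E (-(n : ℤ) - 1)) k Y)) :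
    CohCx.IsRlimVia (CohCx.truncTower E) (CohCx.truncTowerMap E) E (CohCx.toTruncTower E) := by
  let K := CohCx.truncTower E
  let d : (∏ᶜ K) ⟶ ∏ᶜ K := Pi.lift fun n => Pi.π K n - Pi.π K (n + 1) ≫ CohCx.truncTowerMap E n
  obtain ⟨L, i, δ', hT⟩ := distinguished_cocone_triangle₁ d
  have hi : Pi.lift (fun n => i ≫ Pi.π K n) = i := Limits.Pi.hom_ext _ _ fun n => Pi.lift_π _ _
  have hL : CohCx.IsRlimVia K (CohCx.truncTowerMap E) L (fun n => i ≫ Pi.π K n) := ⟨δ', by rw [hi]; exact hT⟩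
  have hE : Pi.lift (CohCx.toTruncTower E) ≫ d = 0 := Limits.Pi.hom_ext _ _ fun n => by
    rw [Category.assoc, Pi.lift_π, Preadditive.comp_sub, Pi.lift_π, ← Category.assoc, Pi.lift_π,
      RlimTrunc.toTrunc_comp, sub_self, zero_comp]
  obtain ⟨e, he⟩ := Triangle.coyoneda_exact₂ _ hT (Pi.lift (CohCx.toTruncTower E)) hE
  replace he : Pi.lift (CohCx.toTruncTower E) = e ≫ i := he
  have hj : ∀ j : ℤ, IsIso ((homologyFunctor (Sheaf J AddCommGrpCat.{u}) j).map e) := by
    intro j
    let n := (-j).toNat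
    have hn := RlimTrunc.isIso_homology_toTrunc E n j (by lia)
    have hLn : IsIso ((homologyFunctor (Sheaf J AddCommGrpCat.{u}) j).map (i ≫ Pi.π K n)) := by
      refine isIso_homology_of_loc (a := fun n => i ≫ Pi.π K n) (RlimEventual.compat hL) j n
        (fun m hm => RlimTrunc.isIso_homology_map E m j (by lia)) (fun U T hT => ?_) n le_rfl
      obtain ⟨S, hS, h'⟩ := h j U T hT
      refine ⟨S, hS, fun V g hg => ?_⟩
      obtain ⟨N, Y, k, b, hkb, hb, hN⟩ := h' g hg
      refine ⟨N, Y, k, b, hkb, hb, RlimEventual.bijective_of_eventually hL _ j N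
        (fun m hm => bijective_map1 E _ m j fun r hr => hN m r hm (by lia) (by lia))
        (fun m hm => (bijective_map1 E _ m (j - 1) fun r hr => hN m r hm (by lia) (by lia)).2)⟩
    have hen : (homologyFunctor (Sheaf J AddCommGrpCat.{u}) j).map e ≫
        (homologyFunctor (Sheaf J AddCommGrpCat.{u}) j).map (i ≫ Pi.π K n) =
        (homologyFunctor (Sheaf J AddCommGrpCat.{u}) j).map (CohCx.toTruncTower E n) := by
      rw [← Functor.map_comp, ← Category.assoc, ← he, Pi.lift_π]
    exact IsIso.of_isIso_fac_right hen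
  have : IsIso e := (DerivedCategory.isIso_iff (f := e)).2 hj
  refine ⟨δ' ≫ (inv e)⟦1⟧', isomorphic_distinguished _ hT _
    (Triangle.isoMk _ _ (asIso e) (Iso.refl _) (Iso.refl _) ?_ ?_ ?_)⟩
  · simp [he]
  · simp [d]; rfl
  · simp

/-- On acyclic objects of a covering class classes are sections. -/
theorem bijective_η (E : DerivedCategory (Sheaf J AddCommGrpCat.{u})) [HasProduct (CohCx.truncTower E)] (B : Set C)
    (hB : ∀ U : C, ∃ (ι : Type u) (Y : ι → C) (f : ∀ i, Y i ⟶ U), Sieve.ofArrows Y f ∈ J U ∧ ∀ i, Y i ∈ B)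
    (h : ∀ U ∈ B, ∀ (p : ℕ) (q : ℤ), Subsingleton (CohSite.HU (CohCx.HD E q) (p + 1) U))
    (q : ℤ) {U : C} (hU : U ∈ B) : Function.Bijective ((η E q).app (op U)) := by
  have hpos : ∀ V ∈ B, ∀ (r : ℤ) (k : ℕ), 0 < k → Subsingleton (CohSite.HU (CohCx.HD E r) k V) := fun V hV r k hk => by
    obtain ⟨p, rfl⟩ := Nat.exists_eq_succ_of_ne_zero hk.ne'
    exact h V hV p r
  have hL := isRlimVia_truncTower E fun j => loc_of_basis _ B hB fun V hV => by
    refine ⟨(1 - j).toNat, fun T hT => ?_⟩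
    refine ⟨{x : Σ W : C, W ⟶ V // T x.2 ∧ x.1 ∈ B}, fun x => x.1.1, fun x => x.1.2, fun x => x.2.1, ?_,
      fun x n k hn h1 _ => hpos _ x.2.2 _ k (by lia)⟩
    refine J.transitive hT _ fun W g hg => ?_
    obtain ⟨ι, Y, k, hk, hY⟩ := hB W
    refine J.superset_covering ?_ hk
    rintro W' _ ⟨_, l, _, ⟨i⟩, rfl⟩
    exact ⟨_, l, k i ≫ g, ⟨(⟨⟨_, k i ≫ g⟩, T.downward_closed hg _, hY i⟩ :
      {x : Σ W : C, W ⟶ V // T x.2 ∧ x.1 ∈ B})⟩, (Category.assoc _ _ _).symm⟩
  let N := (2 - q).toNat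
  have hb1 : Function.Bijective ((hmap (CohCx.toTruncTower E N) q).app (op U)) :=
    RlimEventual.bijective_of_eventually hL _ q N
      (fun m hm => bijective_map1 E _ m q fun r hr => hpos U hU _ r (by lia))
      (fun m hm => (bijective_map1 E _ m (q - 1) fun r hr => hpos U hU _ r (by lia)).2) N le_rfl
  have hgeN : (CohCx.truncTower E N).IsGE (-(N : ℤ)) := inferInstanceAs (TStructure.t.IsGE _ _)
  have hb2 : Function.Bijective ((η (CohCx.truncTower E N) q).app (op U)) := by
    refine bijective_η_of_isGE _ (-(N : ℤ)) q U fun i k hk => ?_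
    by_cases hi : -(N : ℤ) ≤ i
    · have := RlimTrunc.isIso_homology_toTrunc E N i hi
      have : Subsingleton (((Abelian.extFunctor k).obj (op (CohCx.freeSheaf J U))).obj (CohCx.HD E i)) :=
        hpos U hU i k hk
      exact (((Abelian.extFunctor k).obj (op (CohCx.freeSheaf J U))).mapIso
        (asIso ((homologyFunctor _ i).map (CohCx.toTruncTower E N)))).addCommGroupIsoToAddEquiv.symm.subsingleton
    · have h0 := ((CohCx.truncTower E N).isZero_of_isGE (-(N : ℤ)) i (by lia)).eq_of_src (𝟙 _) 0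
      exact ⟨fun e e' => by
        rw [← Abelian.Ext.comp_mk₀_id e, ← Abelian.Ext.comp_mk₀_id e', h0, Abelian.Ext.mk₀_zero,
          Abelian.Ext.comp_zero, Abelian.Ext.comp_zero]⟩
  have := RlimTrunc.isIso_homology_toTrunc E N q (by lia)
  have hb3 : Function.Bijective (((homologyFunctor _ q).map (CohCx.toTruncTower E N)).hom.app (op U)) := by
    have : IsIso ((homologyFunctor (Sheaf J AddCommGrpCat.{u}) q).map (CohCx.toTruncTower E N)).hom :=
      Functor.map_isIso (sheafToPresheaf J AddCommGrpCat.{u}) _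
    exact ConcreteCategory.bijective_of_isIso _
  refine (Function.Bijective.of_comp_iff' hb3 _).1 ?_
  have h' : (⇑(((homologyFunctor _ q).map (CohCx.toTruncTower E N)).hom.app (op U)) ∘ ⇑(ηU E q U)) =
      ⇑(ηU (CohCx.truncTower E N) q U) ∘ fun x : CohCx.HDU E q U => x ≫ (CohCx.toTruncTower E N)⟦q⟧' :=
    funext fun x => (ηU_nat (CohCx.toTruncTower E N) q U x).symm
  have h4 : Function.Bijective (⇑(ηU (CohCx.truncTower E N) q U) ∘
      fun x : CohCx.HDU E q U => x ≫ (CohCx.toTruncTower E N)⟦q⟧') := hb2.comp hb1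
  rw [← h'] at h4
  exact h4

section

variable [HasProduct K] (hL : CohCx.IsRlimVia K t L a)

include hL in
/-- Cohomology sheaves of a derived limit of systems acyclic on a covering class are the limits. -/
theorem nonempty_iso_limit [∀ n, HasProduct (CohCx.truncTower (K n))] (B : Set C)
    (hB : ∀ U : C, ∃ (ι : Type u) (Y : ι → C) (f : ∀ i, Y i ⟶ U), Sieve.ofArrows Y f ∈ J U ∧ ∀ i, Y i ∈ B)
    (h1 : ∀ U ∈ B, ∀ (p : ℕ) (q : ℤ) (n : ℕ), Subsingleton (CohSite.HU (CohCx.HD (K n) q) (p + 1) U))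
    (h2 : ∀ U ∈ B, ∀ (q : ℤ), CohCx.LimOneIsZero (fun n => (CohCx.HD (K n) q).obj.obj (op U))
      (fun n => (((homologyFunctor _ q).map (t n)).hom.app (op U)).hom))
    (q : ℤ) :
    Nonempty (CohCx.HD L q ≅ limit (CohCx.opSequence (fun n => CohCx.HD (K n) q)
      (fun n => (homologyFunctor _ q).map (t n)))) := by
  have hc := RlimEventual.compat hL
  let D := CohCx.opSequence (fun n => CohCx.HD (K n) q) (fun n => (homologyFunctor _ q).map (t n))
  let π : (Functor.const ℕᵒᵖ).obj (CohCx.HD L q) ⟶ D :=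
    NatTrans.ofOpSequence (fun n => (homologyFunctor _ q).map (a n)) fun n => by
      simp [D, CohCx.opSequence, ← Functor.map_comp, hc]
  let Φ : CohCx.HD L q ⟶ limit D := limit.lift D ⟨_, π⟩
  suffices IsIso Φ from ⟨asIso Φ⟩
  refine isIso_of_W_hom _ (J.W.of_precomp _ _ (W_η L q)
    (Groth.Misc7.HDU.W_of_bijective_on (Groth.Misc7.HDU.covers_of_families B hB) _ fun U hU => ?_))
  let ev' := sheafToPresheaf J AddCommGrpCat.{u} ⋙ (evaluation Cᵒᵖ AddCommGrpCat.{u}).obj (op U)
  have hlim : IsLimit (ev'.mapCone (limit.cone D)) :=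
    isLimitOfPreserves _ (limit.isLimit D)
  have hbij : ∀ (r : ℤ) (n : ℕ), Function.Bijective ((η (K n) r).app (op U)) := fun r n =>
    bijective_η (K n) B hB (fun V hV p r' => h1 V hV p r' n) r hU
  have hproj : ∀ (x : CohCx.HDU L q U) (n : ℕ),
      (limit.π D (op n)).hom.app (op U) (Φ.hom.app (op U) (ηU L q U x)) = ηU (K n) q U (x ≫ (a n)⟦q⟧') := by
    intro x n
    rw [ηU_nat]
    have e : Φ ≫ limit.π D (op n) = (homologyFunctor _ q).map (a n) := limit.lift_π _ _
    exact congrArg (fun κ : CohCx.HD L q ⟶ CohCx.HD (K n) q => κ.hom.app (op U) (ηU L q U x)) e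
  have hs : Function.Surjective fun (b : ∀ n, CohCx.HDU (K n) (q - 1) U) (n : ℕ) =>
      b n - b (n + 1) ≫ (t n)⟦(q - 1)⟧' := by
    intro c
    obtain ⟨b, hb⟩ := h2 U hU (q - 1) fun n => ηU (K n) (q - 1) U (c n)
    choose b' hb' using fun n => show ∃ x : CohCx.HDU (K n) (q - 1) U, ηU (K n) (q - 1) U x = b n from (hbij (q - 1) n).2 (b n)
    replace hb' : ∀ n, ηU (K n) (q - 1) U (b' n) = b n := hb'
    refine ⟨b', funext fun n => (hbij (q - 1) n).1 ?_⟩
    change ηU (K n) (q - 1) U (b' n - b' (n + 1) ≫ (t n)⟦(q - 1)⟧') = ηU (K n) (q - 1) U (c n)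
    rw [map_sub, ηU_nat, hb', hb']
    exact congrFun hb n
  constructor
  · rw [injective_iff_map_eq_zero]
    intro (x : CohCx.HDU L q U) hx
    refine Groth.Misc7.HDU.eq_zero_of_images t a hL _ q hs x fun n => (hbij q n).1 ?_
    refine ((hproj x n).symm.trans ((congrArg ((limit.π D (op n)).hom.app (op U)) hx).trans (map_zero _))).trans ?_
    exact (map_zero _).symm
  · intro z
    choose x hx using fun n => show ∃ x : CohCx.HDU (K n) q U, ηU (K n) q U x = (limit.π D (op n)).hom.app (op U) z from (hbij q n).2 _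
    replace hx : ∀ n, ηU (K n) q U (x n) = (limit.π D (op n)).hom.app (op U) z := hx
    have hcomp : ∀ n, (x (n + 1) : CohCx.HDU (K (n + 1)) q U) ≫ (t n)⟦q⟧' = x n := fun n => (hbij q n).1 (by
      refine ((ηU_nat (t n) q U (x (n + 1))).trans ?_).trans (hx n).symm
      rw [hx]
      have e : limit.π D (op (n + 1)) ≫ (homologyFunctor _ q).map (t n) = limit.π D (op n) := by
        have := limit.w D (homOfLE (Nat.le_add_right n 1)).op
        simpa [D, CohCx.opSequence] using this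
      exact congrArg (fun κ : limit D ⟶ CohCx.HD (K n) q => κ.hom.app (op U) z) e)
    obtain ⟨y, hy⟩ := Groth.Misc7.HDU.exists_of_compatible t a hL _ q x hcomp
    refine ⟨y, Concrete.isLimit_ext _ hlim _ _ fun ⟨n⟩ => ?_⟩
    exact (hproj y n).trans ((congrArg (ηU (K n) q U) (hy n)).trans (hx n))

end

end Groth.Misc4.AbRlim
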