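import Groth.Agent.Misc4.AbRlim
import Groth.Agent.DerivedCoh.KInj.Products
import Groth.Prelude.Def_DCoh2

/-!
Derived limits of abelian sheaves on spaces and sites: the standard applications.
-/

universe u

set_option backward.defeqAttrib.useBackward true
set_option backward.isDefEq.respectTransparency false
set_option linter.unusedSectionVars false

open CategoryTheory CategoryTheory.Limits Opposite TopologicalSpace DerivedCategory

namespace Groth.Misc4.AbRlim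

lemma hasProduct_truncTower {C : Type u} [SmallCategory C] {J : GrothendieckTopology C}
    [HasDerivedCategory.{u} (Sheaf J AddCommGrpCat.{u})] (E : DerivedCategory (Sheaf J AddCommGrpCat.{u})) :
    HasProduct (CohCx.truncTower E) :=
  haveI : HasLimitsOfShape (Discrete (ULift.{u} ℕ)) (DerivedCategory (Sheaf J AddCommGrpCat.{u})) :=
    Groth.DerivedCoh.KInjRes.hasProducts (A := Sheaf J AddCommGrpCat.{u}) (ULift.{u} ℕ)
  haveI : HasLimitsOfShape (Discrete ℕ) (DerivedCategory (Sheaf J AddCommGrpCat.{u})) :=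
    hasLimitsOfShape_of_equivalence (Discrete.equivalence Equiv.ulift.{u, 0})
  inferInstance

lemma exists_isRlimVia {T : Type*} [Category T] [Preadditive T] [HasZeroObject T] [HasShift T ℤ]
    [∀ n : ℤ, (shiftFunctor T n).Additive] [Pretriangulated T] {K : ℕ → T} [HasProduct K]
    {t : ∀ n, K (n + 1) ⟶ K n} {L : T} (hL : DCoh.IsRlim K t L) : ∃ a, CohCx.IsRlimVia K t L a := by
  obtain ⟨f, c, h⟩ := hL
  refine ⟨fun n => f ≫ Pi.π K n, c, ?_⟩
  rw [show Pi.lift (fun n => f ≫ Pi.π K n) = f from Pi.hom_ext _ _ fun n => Pi.lift_π _ _]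
  exact h

/-- Locally small good objects from neighbourhoods of points. -/
lemma loc_opens {X : TopCat.{u}} (P : ℕ → Opens X → Prop)
    (h : ∀ x : X, ∃ N, ∀ V : Opens X, x ∈ V → ∃ U : Opens X, x ∈ U ∧ U ≤ V ∧ P N U) :
    Loc (Opens.grothendieckTopology X) P := by
  intro U T hT
  refine ⟨{ arrows := fun W g => ∃ (n : ℕ) (Y : Opens X) (a : W ⟶ Y) (b : Y ⟶ U), a ≫ b = g ∧ T n b ∧ P n Y
            downward_closed := ?_ }, ?_, fun W g hg => hg⟩
  · rintro W W' g ⟨n, Y, a, b, hab, hb⟩ k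
    exact ⟨n, Y, k ≫ a, b, by rw [Category.assoc, hab], hb⟩
  · intro x hx
    obtain ⟨N, hN⟩ := h x
    obtain ⟨V, i, hi, hxV⟩ := hT N x hx
    obtain ⟨W, hxW, hWV, hP⟩ := hN V hxV
    exact ⟨W, homOfLE hWV ≫ i, ⟨N, W, 𝟙 _, _, Category.id_comp _, (T N).downward_closed hi _, hP⟩, hxW⟩

/-- Bases of opens give covering families. -/
lemma families_of_isBasis {X : TopCat.{u}} {B : Set (Opens X)} (hB : Opens.IsBasis B) (U : Opens X) :
    ∃ (ι : Type u) (Y : ι → Opens X) (f : ∀ i, Y i ⟶ U),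
      Sieve.ofArrows Y f ∈ Opens.grothendieckTopology X U ∧ ∀ i, Y i ∈ B := by
  refine ⟨{V : Opens X // V ∈ B ∧ V ≤ U}, fun V => V.1, fun V => homOfLE V.2.2, ?_, fun V => V.2.1⟩
  intro x hx
  obtain ⟨V, hV, hxV, hVU⟩ := Opens.isBasis_iff_nbhd.1 hB hx
  exact ⟨V, homOfLE hVU, ⟨V, 𝟙 _, _, ⟨(⟨V, hV, hVU⟩ : {V : Opens X // V ∈ B ∧ V ≤ U})⟩, Subsingleton.elim _ _⟩, hxV⟩

/-- The degree range needed for the truncation tower. -/
lemma sub_range (p : ℤ → ℤ) (j : ℤ) {P : ℤ → ℕ → Prop} (h : ∀ (m : ℤ) (k : ℕ), p m < k → P (m - k) k) :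
    ∃ N : ℕ, ∀ (n k : ℕ), N ≤ n → j + n ≤ k → (k : ℤ) ≤ j + n + 2 → P (-(n : ℤ) - 1) k := by
  refine ⟨((max (max (p (j - 1)) (p j)) (p (j + 1))) - j + 1).toNat, fun n k hn h1 h2 => ?_⟩
  have hk : p ((k : ℤ) - n - 1) < k := by
    have h3 : (k : ℤ) - n - 1 = j - 1 ∨ (k : ℤ) - n - 1 = j ∨ (k : ℤ) - n - 1 = j + 1 := by lia
    rcases h3 with e | e | e <;> rw [e] <;> lia
  have := h ((k : ℤ) - n - 1) k hk
  rwa [show (k : ℤ) - n - 1 - k = -(n : ℤ) - 1 by ring] at this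

/-- An object is the derived limit of its truncations under pointwise bounded vanishing. -/
theorem isRlimVia_truncTower_of_points {X : TopCat.{u}} [HasDerivedCategory.{u} (CohTop.Ab X)]
    (E : DerivedCategory (CohTop.Ab X)) [HasProduct (CohCx.truncTower E)]
    (h : ∀ x : X, ∃ p : ℤ → ℤ, ∀ V : Opens X, x ∈ V → ∃ U : Opens X, x ∈ U ∧ U ≤ V ∧
      ∀ (m : ℤ) (k : ℕ), p m < k → Subsingleton (CohTop.HU (CohCx.HD E (m - k)) k U)) :
    CohCx.IsRlimVia (CohCx.truncTower E) (CohCx.truncTowerMap E) E (CohCx.toTruncTower E) := by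
  refine isRlimVia_truncTower E fun j => loc_opens _ fun x => ?_
  obtain ⟨p, hp⟩ := h x
  refine ⟨((max (max (p (j - 1)) (p j)) (p (j + 1))) - j + 1).toNat, fun V hV => ?_⟩
  obtain ⟨U, hxU, hUV, hU⟩ := hp V hV
  refine ⟨U, hxU, hUV, fun n k hn h1 h2 => ?_⟩
  have hk : p ((k : ℤ) - n - 1) < k := by
    have h3 : (k : ℤ) - n - 1 = j - 1 ∨ (k : ℤ) - n - 1 = j ∨ (k : ℤ) - n - 1 = j + 1 := by lia
    rcases h3 with e | e | e <;> rw [e] <;> lia
  have := hU ((k : ℤ) - n - 1) k hk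
  rwa [show (k : ℤ) - n - 1 - k = -(n : ℤ) - 1 by ring] at this

lemma eq_zero_of_locally {C : Type u} [SmallCategory C] {J : GrothendieckTopology C}
    (F : Sheaf J AddCommGrpCat.{u}) {U : C} (s : F.obj.obj (op U)) {S : Sieve U} (hS : S ∈ J U)
    (h : ∀ ⦃V : C⦄ (g : V ⟶ U), S g → F.obj.map g.op s = 0) : s = 0 :=
  Sheaf.isSeparated F U S hS s 0 fun _ g hg => (h g hg).trans (map_zero _).symm

/-- Germs in the cohomology sheaf of a derived limit with zero image vanish. -/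
theorem stalk_eq_zero {X : TopCat.{u}} [HasDerivedCategory.{u} (CohTop.Ab X)]
    {K : ℕ → DerivedCategory (CohTop.Ab X)} {t : ∀ n, K (n + 1) ⟶ K n} [HasProduct K]
    {L : DerivedCategory (CohTop.Ab X)} {a : ∀ n, L ⟶ K n} (hL : CohCx.IsRlimVia K t L a)
    (x : X) (m : ℤ) (nx : ℕ)
    (h : ∀ V : Opens X, x ∈ V → ∃ U : Opens X, x ∈ U ∧ U ≤ V ∧
      CohCx.LimOneIsZero (fun n => CohCx.HDU (K n) (m - 1) U)
        (fun n => Preadditive.rightComp _ ((shiftFunctor _ (m - 1)).map (t n))) ∧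
      ∀ k : ℕ, Function.Injective
        (Preadditive.rightComp _ ((shiftFunctor _ m).map (CohCx.transition K t nx k)) :
          CohCx.HDU (K (nx + k)) m U → CohCx.HDU (K nx) m U))
    (s : CohTop.stalk (CohCx.HD L m) x)
    (hs : (TopCat.Presheaf.stalkFunctor AddCommGrpCat.{u} x).map
      ((homologyFunctor (CohTop.Ab X) m).map (a nx)).hom s = 0) : s = 0 := by
  obtain ⟨U, hxU, s, rfl⟩ := TopCat.Presheaf.exists_germ_eq (X := X) (CohCx.HD L m).obj s
  rw [TopCat.Presheaf.stalkFunctor_map_germ_apply] at hs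
  rw [← map_zero (TopCat.Presheaf.germ (X := X) (CohCx.HD (K nx) m).obj U x hxU).hom] at hs
  obtain ⟨W, hxW, i₁, i₂, hW⟩ := TopCat.Presheaf.germ_eq _ x hxU hxU _ _ hs
  rw [map_zero] at hW
  let s' : (CohCx.HD L m).obj.obj (op W) := (CohCx.HD L m).obj.map i₁.op s
  have hs' : ((homologyFunctor _ m).map (a nx)).hom.app (op W) s' = 0 := by
    rw [NatTrans.naturality_apply]
    exact hW
  obtain ⟨T, hT, hz⟩ := locally_eq_zero hL W m nx s' hs'
  obtain ⟨V, i, hi, hxV⟩ := hT x hxW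
  obtain ⟨U', hxU', hUV, h1, h2⟩ := h V hxV
  have h0 := hz i hi (homOfLE hUV) h1 h2
  rw [← TopCat.Presheaf.germ_res_apply (X := X) (CohCx.HD L m).obj i₁ x hxW,
    ← TopCat.Presheaf.germ_res_apply (X := X) (CohCx.HD L m).obj (homOfLE hUV ≫ i) x hxU']
  change (TopCat.Presheaf.germ (X := X) (CohCx.HD L m).obj U' x hxU') ((CohCx.HD L m).obj.map (homOfLE hUV ≫ i).op s') = 0
  rw [h0, map_zero]

end Groth.Misc4.AbRlim
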