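import Groth.Agent.Misc4.RlimVanish
import Groth.Agent.Misc4.RlimTrunc
import Groth.Agent.Misc4.RlimEventual

/-!
Morphisms from an object to a bounded below object without higher Ext into its cohomology.
-/

universe w w' v u

set_option backward.defeqAttrib.useBackward true
set_option backward.isDefEq.respectTransparency false
set_option linter.unusedSectionVars false

namespace Groth.Misc4.AbRlimEv

open CategoryTheory CategoryTheory.Limits Pretriangulated DerivedCategory
open Groth.Misc4.DerivedLift (S0 ev η ev_map ev_comp)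

variable {A : Type u} [Category.{v} A] [Abelian A] [HasDerivedCategory.{w} A]

/-- Composition with the first map of a triangle is bijective when the third term receives nothing. -/
lemma bijective_comp_mor₁ {W : DerivedCategory A} {T : Triangle (DerivedCategory A)} (hT : T ∈ distTriang _)
    (h1 : ∀ f : W ⟶ T.obj₃, f = 0) (h2 : ∀ f : W ⟶ T.obj₃⟦(-1 : ℤ)⟧, f = 0) :
    Function.Bijective fun f : W ⟶ T.obj₁ => f ≫ T.mor₁ := by
  constructor
  · intro a b hab
    obtain ⟨g, hg⟩ := Triangle.coyoneda_exact₂ _ (inv_rot_of_distTriang _ hT) (a - b)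
      (by change (a - b) ≫ T.mor₁ = 0; rw [Preadditive.sub_comp]; exact sub_eq_zero.2 hab)
    have : g = 0 := h2 g
    exact sub_eq_zero.1 (hg.trans (by rw [this]; exact zero_comp))
  · intro f
    obtain ⟨g, hg⟩ := Triangle.coyoneda_exact₂ T hT f (h1 _)
    exact ⟨g, hg.symm⟩

/-- Composition with the second map of a triangle is bijective when the first term receives nothing. -/
lemma bijective_comp_mor₂ {W : DerivedCategory A} {T : Triangle (DerivedCategory A)} (hT : T ∈ distTriang _)
    (h1 : ∀ f : W ⟶ T.obj₁, f = 0) (h2 : ∀ f : W ⟶ T.obj₁⟦(1 : ℤ)⟧, f = 0) :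
    Function.Bijective fun f : W ⟶ T.obj₂ => f ≫ T.mor₂ := by
  constructor
  · intro a b hab
    obtain ⟨g, hg⟩ := Triangle.coyoneda_exact₂ T hT (a - b)
      (by rw [Preadditive.sub_comp]; exact sub_eq_zero.2 hab)
    rw [h1 g, zero_comp] at hg
    exact sub_eq_zero.1 hg
  · intro f
    obtain ⟨g, hg⟩ := Triangle.coyoneda_exact₃ T hT f (h2 _)
    exact ⟨g, hg.symm⟩

/-- The class is bijective on objects in degree zero. -/
lemma bijective_ev_single (M F : A) : Function.Bijective (ev : (S0.obj M ⟶ S0.obj F) → _) := by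
  have hS : Function.Bijective (S0.map : (M ⟶ F) → (S0.obj M ⟶ S0.obj F)) :=
    (Functor.FullyFaithful.ofFullyFaithful (DerivedCategory.singleFunctor A 0)).map_bijective M F
  have e : ∀ p : M ⟶ F, ev (S0.map p) = p ≫ η F := fun p => by
    conv_lhs => rw [← Category.comp_id (S0.map p), ev_map]
    simp [ev]
  have hη : IsIso (η F) := inferInstance
  constructor
  · intro a b hab
    obtain ⟨p, rfl⟩ := hS.2 a
    obtain ⟨q, rfl⟩ := hS.2 b
    rw [e, e, cancel_mono] at hab
    rw [hab]
  · intro s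
    exact ⟨S0.map (s ≫ inv (η F)), by rw [e]; simp⟩

variable [HasExt.{w'} A]

/-- The class is bijective on bounded below objects without higher Ext into the cohomology. -/
theorem bijective_ev (M : A) (X : DerivedCategory A) (a : ℤ) [X.IsGE a]
    (h : ∀ (i : ℤ) (k : ℕ), 0 < k → Subsingleton (Abelian.Ext M ((homologyFunctor A i).obj X) k)) :
    Function.Bijective (ev : (S0.obj M ⟶ X) → _) := by
  have hS : (S0.obj M).IsLE 0 := inferInstanceAs (((singleFunctor A 0).obj M).IsLE 0)
  -- negative part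
  obtain ⟨U, V, hU, hV, i, p, δ', hT⟩ := TStructure.t.exists_triangle X (-1) 0 (by lia)
  have : U.IsLE (-1) := ⟨hU⟩
  have : V.IsGE 0 := ⟨hV⟩
  let T := Triangle.mk i p δ'
  have hUiso : ∀ j, j ≤ -1 → IsIso ((homologyFunctor A j).map i) := fun j hj => by
    have : Epi ((homologyFunctor A j).map i) :=
      (HomologySequence.epi_homologyMap_mor₁_iff T hT j).2 ((V.isZero_of_isGE 0 j (by lia)).eq_of_tgt _ _)
    have : Mono ((homologyFunctor A j).map i) :=
      (HomologySequence.mono_homologyMap_mor₁_iff T hT (j - 1) j (by lia)).2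
        ((V.isZero_of_isGE 0 (j - 1) (by lia)).eq_of_src _ _)
    exact isIso_of_mono_of_epi _
  have hViso : IsIso ((homologyFunctor A 0).map p) := by
    have : Epi ((homologyFunctor A 0).map p) :=
      (HomologySequence.epi_homologyMap_mor₂_iff T hT 0 1 rfl).2
        ((U.isZero_of_isLE (-1) 1 (by lia)).eq_of_tgt _ _)
    have : Mono ((homologyFunctor A 0).map p) :=
      (HomologySequence.mono_homologyMap_mor₂_iff T hT 0).2
        ((U.isZero_of_isLE (-1) 0 (by lia)).eq_of_src _ _)
    exact isIso_of_mono_of_epi _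
  have hUge : U.IsGE a := (isGE_iff U a).2 fun j hj => by
    by_cases hj1 : j ≤ -1
    · have := hUiso j hj1
      exact (X.isZero_of_isGE a j hj).of_iso (asIso ((homologyFunctor A j).map i))
    · exact U.isZero_of_isLE (-1) j (by lia)
  have kill : ∀ (s : ℤ) (W : DerivedCategory A) (_ : W.IsGE (a - s))
      (e : ∀ q, (homologyFunctor A q).obj W ≅ (homologyFunctor A (s + q)).obj U) (_ : 0 ≤ s)
      (f : S0.obj M ⟶ W), f = 0 := by
    intro s W hW e hs f
    refine RlimVanish.eq_zero_of_ext (a := a - s) hW (fun q k hk => ?_) f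
    by_cases hq : s + q ≤ -1
    · have := hUiso _ hq
      have := h (s + q) k (by lia)
      have : Subsingleton (((Abelian.extFunctor k).obj (Opposite.op M)).obj
          ((homologyFunctor A (s + q)).obj X)) := h (s + q) k (by lia)
      exact (((Abelian.extFunctor k).obj (Opposite.op M)).mapIso
        (e q ≪≫ asIso ((homologyFunctor A (s + q)).map i))).addCommGroupIsoToAddEquiv.subsingleton
    · have h0 := ((U.isZero_of_isLE (-1) (s + q) (by lia)).of_iso (e q)).eq_of_src (𝟙 _) 0
      exact ⟨fun e e' => by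
        rw [← Abelian.Ext.comp_mk₀_id e, ← Abelian.Ext.comp_mk₀_id e', h0, Abelian.Ext.mk₀_zero,
          Abelian.Ext.comp_zero, Abelian.Ext.comp_zero]⟩
  have hb1 : Function.Bijective fun f : S0.obj M ⟶ X => f ≫ p :=
    bijective_comp_mor₂ (T := T) hT
      (fun f => RlimVanish.eq_zero_of_ext (a := a) hUge (fun q k hk => by
        by_cases hq : q ≤ -1
        · have := hUiso _ hq
          have : Subsingleton (((Abelian.extFunctor k).obj (Opposite.op M)).obj
              ((homologyFunctor A q).obj X)) := h q k (by lia)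
          exact (((Abelian.extFunctor k).obj (Opposite.op M)).mapIso
            (asIso ((homologyFunctor A q).map i))).addCommGroupIsoToAddEquiv.subsingleton
        · have h0 := (U.isZero_of_isLE (-1) q (by lia)).eq_of_src (𝟙 _) 0
          exact ⟨fun e e' => by
            rw [← Abelian.Ext.comp_mk₀_id e, ← Abelian.Ext.comp_mk₀_id e', h0, Abelian.Ext.mk₀_zero,
              Abelian.Ext.comp_zero, Abelian.Ext.comp_zero]⟩) f)
      (fun f => kill 1 (U⟦(1 : ℤ)⟧) (TStructure.t.isGE_shift U a 1 _ (by lia))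
        (fun q => RlimVanish.hShift U 1 q _ rfl) zero_le_one f)
  -- degree zero part
  obtain ⟨W, Z, hW, hZ, i', p', δ'', hT'⟩ := TStructure.t.exists_triangle V 0 1 rfl
  have : W.IsLE 0 := ⟨hW⟩
  have : Z.IsGE 1 := ⟨hZ⟩
  let T' := Triangle.mk i' p' δ''
  have hW0 : IsIso ((homologyFunctor A 0).map i') := by
    have : Epi ((homologyFunctor A 0).map i') :=
      (HomologySequence.epi_homologyMap_mor₁_iff T' hT' 0).2 ((Z.isZero_of_isGE 1 0 (by lia)).eq_of_tgt _ _)
    have : Mono ((homologyFunctor A 0).map i') :=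
      (HomologySequence.mono_homologyMap_mor₁_iff T' hT' (-1) 0 (by lia)).2
        ((Z.isZero_of_isGE 1 (-1) (by lia)).eq_of_src _ _)
    exact isIso_of_mono_of_epi _
  have : W.IsGE 0 := (isGE_iff W 0).2 fun j hj =>
    (HomologySequence.exact₁ T' hT' (j - 1) j (by lia)).isZero_of_both_zeros
      ((Z.isZero_of_isGE 1 (j - 1) (by lia)).eq_of_src _ _) ((V.isZero_of_isGE 0 j hj).eq_of_tgt _ _)
  have : (Z⟦(-1 : ℤ)⟧).IsGE 1 :=
    have : (Z⟦(-1 : ℤ)⟧).IsGE 2 := TStructure.t.isGE_shift Z 1 (-1) 2 (by lia)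
    TStructure.t.isGE_of_ge _ 1 2 (by lia)
  have hb2 : Function.Bijective fun f : S0.obj M ⟶ W => f ≫ i' :=
    bijective_comp_mor₁ (T := T') hT'
      (fun f => TStructure.t.zero_of_isLE_of_isGE f 0 1 zero_lt_one hS ‹Z.IsGE 1›)
      (fun f => TStructure.t.zero_of_isLE_of_isGE f 0 1 zero_lt_one hS ‹(Z⟦(-1 : ℤ)⟧).IsGE 1›)
  obtain ⟨F, ⟨e⟩⟩ := exists_iso_singleFunctor_obj_of_isGE_of_isLE W 0
  let e' : W ≅ S0.obj F := e
  have hevW : Function.Bijective (ev : (S0.obj M ⟶ W) → _) := by
    have : IsIso ((homologyFunctor A 0).map e'.inv) := inferInstance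
    have h' : (ev : (S0.obj M ⟶ W) → _) =
        (fun s => s ≫ (homologyFunctor A 0).map e'.inv) ∘ ev ∘ (fun f => f ≫ e'.hom) := by
      funext f
      simp [← ev_comp]
    rw [h']
    exact ((asIso ((homologyFunctor A 0).map e'.inv)).homToEquiv.bijective).comp
      ((bijective_ev_single M F).comp e'.homToEquiv.bijective)
  have hevV : Function.Bijective (ev : (S0.obj M ⟶ V) → _) := by
    have h' : (ev : (S0.obj M ⟶ V) → _) ∘ (fun f => f ≫ i') =
        (fun s => s ≫ (homologyFunctor A 0).map i') ∘ ev := by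
      funext f
      exact ev_comp f i'
    refine (Function.Bijective.of_comp_iff _ hb2).1 ?_
    rw [h']
    exact ((asIso ((homologyFunctor A 0).map i')).homToEquiv.bijective).comp hevW
  refine (Function.Bijective.of_comp_iff' ((asIso ((homologyFunctor A 0).map p)).homToEquiv.bijective) _).1 ?_
  have h' : (fun s => s ≫ (homologyFunctor A 0).map p) ∘ (ev : (S0.obj M ⟶ X) → _) =
      ev ∘ fun f => f ≫ p := by
    funext f
    exact (ev_comp f p).symm
  exact h' ▸ hevV.comp hb1

section single

/-! The same statements with the source written with the functor to the heart in degree zero. -/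

variable {A : Type u} [Category.{v} A] [Abelian A] [HasDerivedCategory.{w} A]

/-- The functor to degree zero. -/
noncomputable abbrev S1 : A ⥤ DerivedCategory A := DerivedCategory.singleFunctor A 0

/-- The class of a morphism. -/
noncomputable def ev1 {M : A} {X : DerivedCategory A} (f : S1.obj M ⟶ X) :
    M ⟶ (homologyFunctor A 0).obj X :=
  ev (show S0.obj M ⟶ X from f)

lemma ev1_comp {M : A} {X Y : DerivedCategory A} (f : S1.obj M ⟶ X) (g : X ⟶ Y) :
    ev1 (f ≫ g) = ev1 f ≫ (homologyFunctor A 0).map g :=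
  ev_comp _ g

lemma ev1_map {M M' : A} (p : M' ⟶ M) {X : DerivedCategory A} (f : S1.obj M ⟶ X) :
    ev1 (S1.map p ≫ f) = p ≫ ev1 f :=
  ev_map p _

lemma ev1_add {M : A} {X : DerivedCategory A} (f g : S1.obj M ⟶ X) : ev1 (f + g) = ev1 f + ev1 g := by
  change ev (M := M) (f + g) = _
  simp only [ev1, ev, Functor.map_add, Preadditive.comp_add]

lemma ev1_sub {M : A} {X : DerivedCategory A} (f g : S1.obj M ⟶ X) : ev1 (f - g) = ev1 f - ev1 g := by
  have h := ev1_add (f - g) g
  rw [sub_add_cancel] at h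
  exact eq_sub_of_add_eq h.symm

theorem exists_epi_lift1 {M : A} {X : DerivedCategory A} (s : M ⟶ (homologyFunctor A 0).obj X) :
    ∃ (M' : A) (p : M' ⟶ M) (_ : Epi p) (f : S1.obj M' ⟶ X), ev1 f = p ≫ s :=
  DerivedLift.exists_epi_lift s

theorem exists_epi_kill1 {M : A} {X : DerivedCategory A} (f : S1.obj M ⟶ X) (hf : ev1 f = 0) :
    ∃ (M' : A) (p : M' ⟶ M) (_ : Epi p), S1.map p ≫ f = 0 :=
  DerivedLift.exists_epi_kill _ hf

theorem bijective_ev1 [HasExt.{w'} A] (M : A) (X : DerivedCategory A) (a : ℤ) [X.IsGE a]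
    (h : ∀ (i : ℤ) (k : ℕ), 0 < k → Subsingleton (Abelian.Ext M ((homologyFunctor A i).obj X) k)) :
    Function.Bijective (ev1 : (S1.obj M ⟶ X) → _) :=
  bijective_ev M X a h

theorem eq_zero_of_ext1 [HasExt.{w'} A] {M : A} {X : DerivedCategory A} {a : ℤ} (ha : TStructure.t.IsGE X a)
    (hX : ∀ (q : ℤ) (k : ℕ), (k : ℤ) = -q → Subsingleton (Abelian.Ext M ((homologyFunctor A q).obj X) k))
    (f : S1.obj M ⟶ X) : f = 0 :=
  RlimVanish.eq_zero_of_ext ha hX f

end single

section trunc

variable {A : Type (v + 1)} [Category.{v} A] [Abelian A] [HasDerivedCategory.{w} A]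

/-- The maps of the truncation tower are bijective on classes when two Ext groups vanish. -/
theorem bijective_map1 [HasExt.{w'} A] (E : DerivedCategory A) (M : A) (n : ℕ) (m : ℤ)
    (h : ∀ k : ℕ, (k : ℤ) = m + n + 1 ∨ (k : ℤ) = m + n + 2 →
      Subsingleton (Abelian.Ext M ((homologyFunctor A (-(n : ℤ) - 1)).obj E) k)) :
    Function.Bijective fun f : S1.obj M ⟶ (CohCx.truncTower E (n + 1))⟦m⟧ =>
      f ≫ (CohCx.truncTowerMap E n)⟦m⟧' :=
  RlimTrunc.bijective_map E M n m h

end trunc

end Groth.Misc4.AbRlimEv
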