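import Groth.Agent.Misc4.AbRlimApply

/-!
Derived limits of inverse systems of abelian sheaves acyclic on a covering class.
-/

universe u

set_option backward.defeqAttrib.useBackward true
set_option backward.isDefEq.respectTransparency false
set_option linter.unusedSectionVars false
set_option synthInstance.maxHeartbeats 400000
set_option maxHeartbeats 1000000

open CategoryTheory CategoryTheory.Limits Opposite Pretriangulated DerivedCategory

namespace Groth.Misc4.AbRlimSingle

open Groth.Misc4.AbRlimEv (S1)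

variable {C : Type u} [SmallCategory C] {J : GrothendieckTopology C}
  [HasDerivedCategory.{u} (Sheaf J AddCommGrpCat.{u})]

/-- The cohomology in degree zero of an object in degree zero. -/
noncomputable def h0 : S1 ⋙ homologyFunctor (Sheaf J AddCommGrpCat.{u}) 0 ≅ 𝟭 _ :=
  singleFunctorCompHomologyFunctorIso (Sheaf J AddCommGrpCat.{u}) 0

lemma isZero_HD (F : Sheaf J AddCommGrpCat.{u}) (q : ℤ) (hq : q ≠ 0) : IsZero (CohCx.HD (S1.obj F) q) := by
  rcases lt_or_gt_of_ne hq with h | h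
  · exact (S1.obj F).isZero_of_isGE 0 q h
  · exact (S1.obj F).isZero_of_isLE 0 q h

/-- Vanishing of cohomology only depends on the sheaf up to isomorphism. -/
lemma subsingleton_HU_of_iso {F G : Sheaf J AddCommGrpCat.{u}} (e : F ≅ G) (k : ℕ) (U : C)
    (h : Subsingleton (CohSite.HU F k U)) : Subsingleton (CohSite.HU G k U) := by
  have : Subsingleton (((Abelian.extFunctor k).obj (op (CohCx.freeSheaf J U))).obj F) := h
  exact (((Abelian.extFunctor k).obj (op (CohCx.freeSheaf J U))).mapIso e).addCommGroupIsoToAddEquiv.symm.subsingleton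

lemma subsingleton_HU_of_isZero {F : Sheaf J AddCommGrpCat.{u}} (hF : IsZero F) (k : ℕ) (U : C) :
    Subsingleton (CohSite.HU F k U) :=
  have h0 := hF.eq_of_src (𝟙 _) 0
  ⟨fun e e' => by
    rw [← Abelian.Ext.comp_mk₀_id e, ← Abelian.Ext.comp_mk₀_id e', h0, Abelian.Ext.mk₀_zero,
      Abelian.Ext.comp_zero, Abelian.Ext.comp_zero]⟩

lemma subsingleton_sections {F : Sheaf J AddCommGrpCat.{u}} (hF : IsZero F) (U : C) :
    Subsingleton (F.obj.obj (op U)) :=
  AddCommGrpCat.subsingleton_of_isZero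
    (((evaluation Cᵒᵖ AddCommGrpCat.{u}).obj (op U)).map_isZero ((sheafToPresheaf J AddCommGrpCat.{u}).map_isZero hF))

variable (F : ℕ → Sheaf J AddCommGrpCat.{u}) (t : ∀ n, F (n + 1) ⟶ F n) (B : Set C)
  (hB : ∀ U : C, ∃ (ι : Type u) (Y : ι → C) (f : ∀ i, Y i ⟶ U), Sieve.ofArrows Y f ∈ J U ∧ ∀ i, Y i ∈ B)
  (h1 : ∀ U ∈ B, ∀ (p n : ℕ), Subsingleton (CohSite.HU (F n) (p + 1) U))
  (h2 : ∀ U ∈ B, CohCx.LimOneIsZero (fun n => (F n).obj.obj (op U)) (fun n => ((t n).hom.app (op U)).hom))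

include h1 in
lemma subsingleton_HU_HD (U : C) (hU : U ∈ B) (p : ℕ) (q : ℤ) (n : ℕ) :
    Subsingleton (CohSite.HU (CohCx.HD (S1.obj (F n)) q) (p + 1) U) := by
  by_cases hq : q = 0
  · subst hq
    exact subsingleton_HU_of_iso (h0.app (F n)).symm _ U (h1 U hU p n)
  · exact subsingleton_HU_of_isZero (isZero_HD (F n) q hq) _ U

include h2 in
lemma limOne_HD (U : C) (hU : U ∈ B) (q : ℤ) :
    CohCx.LimOneIsZero (fun n => (CohCx.HD (S1.obj (F n)) q).obj.obj (op U))
      (fun n => (((homologyFunctor _ q).map (S1.map (t n))).hom.app (op U)).hom) := by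
  by_cases hq : q = 0
  · subst hq
    intro c
    let e := fun n => (((sheafToPresheaf J AddCommGrpCat.{u}).mapIso (h0.app (F n))).app (op U)).addCommGroupIsoToAddEquiv
    obtain ⟨b, hb⟩ := h2 U hU fun n => e n (c n)
    refine ⟨fun n => (e n).symm (b n), funext fun n => (e n).injective ?_⟩
    have hn : ∀ x, e n (((homologyFunctor _ 0).map (S1.map (t n))).hom.app (op U) x) =
        (t n).hom.app (op U) (e (n + 1) x) := fun x => by
      have h' := congrArg (fun κ : _ ⟶ F n => κ.hom.app (op U) x) ((h0 (J := J)).hom.naturality (t n))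
      exact h'
    refine Eq.trans ?_ (congrFun hb n)
    dsimp only
    rw [map_sub, AddEquiv.apply_symm_apply]
    exact congrArg (b n - ·) ((hn _).trans (congrArg _ ((e (n + 1)).apply_symm_apply _)))
  · intro c
    exact ⟨0, funext fun n => @Subsingleton.elim _ (subsingleton_sections (isZero_HD (F n) q hq) U) _ _⟩

variable [HasProduct fun n => S1.obj (F n)]

include hB h1 h2 in
/-- The limit is the derived limit and is acyclic on the covering class. -/
theorem isRlim_limit :
    DCoh.IsRlim (fun n => S1.obj (F n)) (fun n => S1.map (t n)) (S1.obj (limit (CohCx.opSequence F t))) ∧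
      ∀ U ∈ B, ∀ p : ℕ, Subsingleton (CohSite.HU (limit (CohCx.opSequence F t)) (p + 1) U) := by
  let K := fun n => S1.obj (F n)
  let d : (∏ᶜ K) ⟶ ∏ᶜ K := Pi.lift fun n => Pi.π K n - Pi.π K (n + 1) ≫ S1.map (t n)
  obtain ⟨L, i, c, hT⟩ := distinguished_cocone_triangle₁ d
  obtain ⟨a, ha⟩ := AbRlim.exists_isRlimVia (K := K) (t := fun n => S1.map (t n)) (L := L) ⟨i, c, hT⟩
  haveI : ∀ n, HasProduct (CohCx.truncTower (K n)) := fun n => AbRlim.hasProduct_truncTower _
  have hH := fun q => AbRlim.nonempty_iso_limit ha B hB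
    (fun U hU p q n => subsingleton_HU_HD F B h1 U hU p q n) (limOne_HD F t B h2) q
  have hz : ∀ q : ℤ, q ≠ 0 → IsZero (CohCx.HD L q) := fun q hq => by
    obtain ⟨e⟩ := hH q
    refine IsZero.of_iso ?_ e
    rw [IsZero.iff_id_eq_zero]
    exact limit.hom_ext fun ⟨n⟩ => (isZero_HD (F n) q hq).eq_of_tgt _ _
  have : L.IsGE 0 := (isGE_iff L 0).2 fun q hq => hz q (by lia)
  have : L.IsLE 0 := (isLE_iff L 0).2 fun q hq => hz q (by lia)
  obtain ⟨G, ⟨eL⟩⟩ := exists_iso_singleFunctor_obj_of_isGE_of_isLE L 0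
  obtain ⟨e0⟩ := hH 0
  let η' : CohCx.opSequence (fun n => CohCx.HD (K n) 0) (fun n => (homologyFunctor _ 0).map (S1.map (t n))) ⟶
      CohCx.opSequence F t :=
    NatTrans.ofOpSequence (fun n => (h0.app (F n)).hom) fun n => by
      simp only [CohCx.opSequence, Functor.ofOpSequence_map_homOfLE_succ]
      exact (h0 (J := J)).hom.naturality (t n)
  let eF : CohCx.opSequence (fun n => CohCx.HD (K n) 0) (fun n => (homologyFunctor _ 0).map (S1.map (t n))) ≅
      CohCx.opSequence F t :=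
    NatIso.ofComponents (fun n => h0.app (F n.unop)) fun {m n} f => η'.naturality f
  let eG : G ≅ limit (CohCx.opSequence F t) :=
    (h0.app G).symm ≪≫ (homologyFunctor _ 0).mapIso eL.symm ≪≫ e0 ≪≫ HasLimit.isoOfNatIso eF
  let e : S1.obj (limit (CohCx.opSequence F t)) ≅ L := S1.mapIso eG.symm ≪≫ eL.symm
  refine ⟨⟨e.hom ≫ i, c ≫ e.inv⟦(1 : ℤ)⟧', isomorphic_distinguished _ hT _
    (Triangle.isoMk _ _ e (Iso.refl _) (Iso.refl _) ?_ ?_ ?_)⟩, fun U hU p => ?_⟩
  · simp
  · simp [d, K]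
  · simp [← Functor.map_comp]
  · have hzero : ∀ y : CohCx.HDU L ((p + 1 : ℕ) : ℤ) U, y = 0 := fun y => by
      have hk : ∀ (n : ℕ) (k : ℕ), 0 < k → ∀ x : CohCx.HDU (K n) (k : ℤ) U, x = 0 := fun n k hk x => by
        obtain ⟨k', rfl⟩ := Nat.exists_eq_succ_of_ne_zero hk.ne'
        haveI : Subsingleton (Abelian.Ext (CohCx.freeSheaf J U) (F n) (k' + 1)) := h1 U hU k' n
        exact (Abelian.Ext.homEquiv (n := k' + 1)).symm.injective (Subsingleton.elim _ _)
      refine Groth.Misc7.HDU.eq_zero_of_images _ a ha _ _ (fun c => ?_) y fun n => hk n (p + 1) p.succ_pos _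
      rcases Nat.eq_zero_or_pos p with rfl | hp
      · obtain ⟨b, hb⟩ := limOne_HD F t B h2 U hU (((0 + 1 : ℕ) : ℤ) - 1)
          fun n => AbEta.ηU (K n) _ U (c n)
        have hbij : ∀ n, Function.Bijective (AbEta.ηU (K n) (((0 + 1 : ℕ) : ℤ) - 1) U) := fun n =>
          AbRlim.bijective_η (K n) B hB (fun V hV p r => subsingleton_HU_HD F B h1 V hV p r n) _ hU
        choose b' hb' using fun n => (hbij n).2 (b n)
        refine ⟨b', funext fun n => (hbij n).1 ?_⟩
        change AbEta.ηU (K n) _ U (b' n - b' (n + 1) ≫ _) = _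
        rw [map_sub, AbEta.ηU_nat, hb', hb']
        exact congrFun hb n
      · refine ⟨fun _ => 0, funext fun n => ?_⟩
        have : ∀ x : CohCx.HDU (K n) (((p + 1 : ℕ) : ℤ) - 1) U, x = 0 := by
          rw [show (((p + 1 : ℕ) : ℤ) - 1) = ((p : ℕ) : ℤ) by push_cast; ring]
          exact hk n p hp
        exact (this _).trans (this _).symm
    refine subsingleton_of_forall_eq 0 fun x => ?_
    apply (Abelian.Ext.homEquiv (n := p + 1)).injective
    exact (cancel_mono ((e.hom)⟦((p + 1 : ℕ) : ℤ)⟧')).1 ((hzero _).trans (hzero _).symm)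

end Groth.Misc4.AbRlimSingle
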