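import Mathlib.Algebra.Homology.DerivedCategory.Fractions
import Mathlib.CategoryTheory.Functor.Derived.LeftDerived
import Mathlib.CategoryTheory.Functor.Derived.RightDerived

/-!
Recognition of unbounded derived functors: a transformation invertible on a class of complexes containing
resolutions of every complex exhibits a derived functor.
-/

universe w v u v' u'

open CategoryTheory CategoryTheory.Limits DerivedCategory

namespace Groth.Misc4.AdaptedKan

variable {A : Type u} [Category.{v} A] [Abelian A] [HasDerivedCategory.{w} A]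
  {H : Type u'} [Category.{v'} H] {G : CochainComplex A ℤ ⥤ H} {Φ : DerivedCategory A ⥤ H}
  (P : CochainComplex A ℤ → Prop)

local notation "Wq" => HomologicalComplex.quasiIso A (ComplexShape.up ℤ)

section Left

variable (α : Q ⋙ Φ ⟶ G) (hα : ∀ K, P K → IsIso (α.app K))
  (hres : ∀ X : CochainComplex A ℤ, ∃ (K : CochainComplex A ℤ) (p : K ⟶ X), P K ∧ IsIso (Q.map p))

include hres hα in
/-- A comparison invertible on enough complexes is a left derived functor. -/
theorem isLeftDerivedFunctor : Φ.IsLeftDerivedFunctor α Wq := by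
  rw [Functor.isLeftDerivedFunctor_iff_isRightKanExtension]
  have hK : ∀ Y : DerivedCategory A, ∃ K, P K ∧ Nonempty (Q.obj K ≅ Y) := fun Y => by
    obtain ⟨K, p, hK, hp⟩ := hres (Q.objPreimage Y)
    exact ⟨K, hK, ⟨asIso (Q.map p) ≪≫ Q.objObjPreimageIso Y⟩⟩
  choose K hPK e using hK
  have := fun Y => hα _ (hPK Y)
  refine ⟨⟨IsTerminal.ofUniqueHom (fun E => ?_) (fun E m => ?_)⟩⟩
  · let θ : ∀ (M : CochainComplex A ℤ), P M → (E.left.obj (Q.obj M) ⟶ Φ.obj (Q.obj M)) :=
      fun M hM => haveI := hα M hM; E.hom.app M ≫ inv (α.app M)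
    have hθmap : ∀ {M N : CochainComplex A ℤ} (hM : P M) (hN : P N) (u : M ⟶ N),
        E.left.map (Q.map u) ≫ θ N hN = θ M hM ≫ Φ.map (Q.map u) := by
      intro M N hM hN u
      have := hα M hM; have := hα N hN
      simp only [θ, Category.assoc]
      rw [← cancel_mono (α.app N)]
      have h1 := E.hom.naturality u
      have h2 := α.naturality u
      dsimp at h1 h2
      simp only [Category.assoc, IsIso.inv_hom_id, Category.comp_id, h2, IsIso.inv_hom_id_assoc]
      exact h1
    have hθ : ∀ {M N : CochainComplex A ℤ} (hM : P M) (hN : P N) (φ : Q.obj M ⟶ Q.obj N),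
        E.left.map φ ≫ θ N hN = θ M hM ≫ Φ.map φ := by
      intro M N hM hN φ
      obtain ⟨M', s, hs, g, rfl⟩ := right_fac φ
      obtain ⟨M'', p, hM'', hp⟩ := hres M'
      have : IsIso (Q.map (p ≫ s)) := by rw [Functor.map_comp]; infer_instance
      have e : inv (Q.map s) ≫ Q.map g = inv (Q.map (p ≫ s)) ≫ Q.map (p ≫ g) := by simp
      rw [e, E.left.map_comp, Φ.map_comp, Category.assoc, hθmap hM'' hN, Functor.map_inv, Functor.map_inv,
        IsIso.inv_comp_eq, ← Category.assoc, hθmap hM'' hM]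
      simp
    refine CostructuredArrow.homMk
      { app := fun Y => E.left.map (e Y).some.inv ≫ θ (K Y) (hPK Y) ≫ Φ.map (e Y).some.hom
        naturality := fun Y Y' φ => ?_ } ?_
    · have := hθ (hPK Y) (hPK Y') ((e Y).some.hom ≫ φ ≫ (e Y').some.inv)
      change E.left.map φ ≫ E.left.map (e Y').some.inv ≫ θ (K Y') (hPK Y') ≫ Φ.map (e Y').some.hom =
        (E.left.map (e Y).some.inv ≫ θ (K Y) (hPK Y) ≫ Φ.map (e Y).some.hom) ≫ Φ.map φ
      simp only [← Functor.map_comp_assoc, Category.assoc] at this ⊢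
      rw [show φ ≫ (e Y').some.inv = (e Y).some.inv ≫ ((e Y).some.hom ≫ φ ≫ (e Y').some.inv) by simp,
        Functor.map_comp_assoc, reassoc_of% this, ← Functor.map_comp, ← Functor.map_comp]
      simp
    · ext M
      obtain ⟨M', p, hM', hp⟩ := hres M
      have := hα M' hM'
      have h3 := hθ (hPK (Q.obj M)) hM' ((e (Q.obj M)).some.hom ≫ inv (Q.map p))
      change (E.left.map (e (Q.obj M)).some.inv ≫ θ _ (hPK _) ≫ Φ.map (e (Q.obj M)).some.hom) ≫ α.app M = E.hom.app M
      rw [← cancel_epi (E.left.map (Q.map p))]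
      have h4 : Φ.map (e (Q.obj M)).some.hom =
          Φ.map ((e (Q.obj M)).some.hom ≫ inv (Q.map p)) ≫ Φ.map (Q.map p) := by simp [← Functor.map_comp]
      rw [h4, reassoc_of% h3.symm]
      simp only [θ, Category.assoc]
      have h1 := E.hom.naturality p
      have h2 := α.naturality p
      dsimp at h1 h2
      rw [h2, IsIso.inv_hom_id_assoc, ← h1]
      simp only [← Functor.map_comp_assoc]
      simp
  · apply CostructuredArrow.hom_ext
    refine NatTrans.ext (funext fun Y => ?_)
    have := hα _ (hPK Y)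
    have h1 := congrArg (fun t => t.app (K Y)) (CostructuredArrow.w m)
    have h2 : E.left.map (e Y).some.hom ≫ m.left.app Y = m.left.app (Q.obj (K Y)) ≫ Φ.map (e Y).some.hom :=
      m.left.naturality (e Y).some.hom
    change m.left.app (Q.obj (K Y)) ≫ α.app (K Y) = E.hom.app (K Y) at h1
    change _ = E.left.map (e Y).some.inv ≫ (E.hom.app (K Y) ≫ inv (α.app (K Y))) ≫ Φ.map (e Y).some.hom
    have h1' : E.hom.app (K Y) ≫ inv (α.app (K Y)) = m.left.app (Q.obj (K Y)) := (IsIso.comp_inv_eq _).2 h1.symm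
    rw [h1']
    refine (cancel_epi (E.left.map (e Y).some.hom)).1 (h2.trans ?_)
    exact ((E.left.mapIso (e Y).some).hom_inv_id_assoc _).symm

end Left

section Right

variable (β : G ⟶ Q ⋙ Φ) (hβ : ∀ K, P K → IsIso (β.app K))
  (hres : ∀ X : CochainComplex A ℤ, ∃ (K : CochainComplex A ℤ) (i : X ⟶ K), P K ∧ IsIso (Q.map i))

include hres hβ in
/-- A comparison invertible on enough complexes is a right derived functor. -/
theorem isRightDerivedFunctor : Φ.IsRightDerivedFunctor β Wq := by
  rw [Functor.isRightDerivedFunctor_iff_isLeftKanExtension]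
  have hK : ∀ Y : DerivedCategory A, ∃ K, P K ∧ Nonempty (Q.obj K ≅ Y) := fun Y => by
    obtain ⟨K, p, hK, hp⟩ := hres (Q.objPreimage Y)
    exact ⟨K, hK, ⟨(asIso (Q.map p)).symm ≪≫ Q.objObjPreimageIso Y⟩⟩
  choose K hPK e using hK
  have := fun Y => hβ _ (hPK Y)
  refine ⟨⟨IsInitial.ofUniqueHom (fun E => ?_) (fun E m => ?_)⟩⟩
  · let θ : ∀ (M : CochainComplex A ℤ), P M → (Φ.obj (Q.obj M) ⟶ E.right.obj (Q.obj M)) :=
      fun M hM => haveI := hβ M hM; inv (β.app M) ≫ E.hom.app M
    have hθmap : ∀ {M N : CochainComplex A ℤ} (hM : P M) (hN : P N) (u : M ⟶ N),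
        Φ.map (Q.map u) ≫ θ N hN = θ M hM ≫ E.right.map (Q.map u) := by
      intro M N hM hN u
      have := hβ M hM; have := hβ N hN
      simp only [θ, Category.assoc]
      rw [← cancel_epi (β.app M)]
      have h1 := E.hom.naturality u
      have h2 := β.naturality u
      dsimp at h1 h2
      simp only [← reassoc_of% h2, IsIso.hom_inv_id_assoc, h1]
    have hθ : ∀ {M N : CochainComplex A ℤ} (hM : P M) (hN : P N) (φ : Q.obj M ⟶ Q.obj N),
        Φ.map φ ≫ θ N hN = θ M hM ≫ E.right.map φ := by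
      intro M N hM hN φ
      obtain ⟨N', g, s, hs, rfl⟩ := left_fac φ
      obtain ⟨N'', p, hN'', hp⟩ := hres N'
      have : IsIso (Q.map (s ≫ p)) := by rw [Functor.map_comp]; infer_instance
      have e : Q.map g ≫ inv (Q.map s) = Q.map (g ≫ p) ≫ inv (Q.map (s ≫ p)) := by simp
      rw [e, Φ.map_comp, E.right.map_comp, ← reassoc_of% (hθmap hM hN'' (g ≫ p))]
      rw [Category.assoc]
      congr 1
      rw [Functor.map_inv, Functor.map_inv, IsIso.inv_comp_eq, ← Category.assoc, hθmap hN hN'']
      simp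
    refine StructuredArrow.homMk
      { app := fun Y => Φ.map (e Y).some.inv ≫ θ (K Y) (hPK Y) ≫ E.right.map (e Y).some.hom
        naturality := fun Y Y' φ => ?_ } ?_
    · have := hθ (hPK Y) (hPK Y') ((e Y).some.hom ≫ φ ≫ (e Y').some.inv)
      change Φ.map φ ≫ Φ.map (e Y').some.inv ≫ θ (K Y') (hPK Y') ≫ E.right.map (e Y').some.hom =
        (Φ.map (e Y).some.inv ≫ θ (K Y) (hPK Y) ≫ E.right.map (e Y).some.hom) ≫ E.right.map φ
      simp only [← Functor.map_comp_assoc, Category.assoc] at this ⊢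
      rw [show φ ≫ (e Y').some.inv = (e Y).some.inv ≫ ((e Y).some.hom ≫ φ ≫ (e Y').some.inv) by simp,
        Functor.map_comp_assoc, reassoc_of% this, ← Functor.map_comp, ← Functor.map_comp]
      simp
    · ext M
      obtain ⟨M', p, hM', hp⟩ := hres M
      have := hβ M' hM'
      have h3 := hθ hM' (hPK (Q.obj M)) (inv (Q.map p) ≫ (e (Q.obj M)).some.inv)
      change β.app M ≫ (Φ.map (e (Q.obj M)).some.inv ≫ θ _ (hPK _) ≫ E.right.map (e (Q.obj M)).some.hom) = E.hom.app M
      rw [← cancel_mono (E.right.map (Q.map p))]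
      have h4 : Φ.map (e (Q.obj M)).some.inv =
          Φ.map (Q.map p) ≫ Φ.map (inv (Q.map p) ≫ (e (Q.obj M)).some.inv) := by simp [← Functor.map_comp]
      rw [h4]
      simp only [Category.assoc]
      rw [reassoc_of% h3]
      have h1 := E.hom.naturality p
      have h2 := β.naturality p
      dsimp at h1 h2
      simp only [θ, Category.assoc, ← reassoc_of% h2, IsIso.hom_inv_id_assoc]
      rw [← E.right.map_comp, ← E.right.map_comp,
        show (inv (Q.map p) ≫ (e (Q.obj M)).some.inv) ≫ (e (Q.obj M)).some.hom ≫ Q.map p = 𝟙 _ by simp,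
        E.right.map_id, Category.comp_id]
      exact h1
  · apply StructuredArrow.hom_ext
    refine NatTrans.ext (funext fun Y => ?_)
    have := hβ _ (hPK Y)
    have h1 := congrArg (fun t => t.app (K Y)) (StructuredArrow.w m)
    have h2 : Φ.map (e Y).some.hom ≫ m.right.app Y = m.right.app (Q.obj (K Y)) ≫ E.right.map (e Y).some.hom :=
      m.right.naturality (e Y).some.hom
    change β.app (K Y) ≫ m.right.app (Q.obj (K Y)) = E.hom.app (K Y) at h1
    change _ = Φ.map (e Y).some.inv ≫ (inv (β.app (K Y)) ≫ E.hom.app (K Y)) ≫ E.right.map (e Y).some.hom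
    have h1' : inv (β.app (K Y)) ≫ E.hom.app (K Y) = m.right.app (Q.obj (K Y)) := (IsIso.inv_comp_eq _).2 h1.symm
    rw [h1']
    refine (cancel_epi (Φ.map (e Y).some.hom)).1 (h2.trans ?_)
    exact ((Φ.mapIso (e Y).some).hom_inv_id_assoc _).symm

end Right

end Groth.Misc4.AdaptedKan
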