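import Groth.Agent.Misc4.ApproxExtend
import Groth.Agent.Misc4.QCohDPerf
import Groth.Agent.DerivedCoh.PCohDescent.Main

/-!
# Supports of cohomology sheaves and approximations along open immersions
-/

universe u

open CategoryTheory CategoryTheory.Limits AlgebraicGeometry Groth.KTheory.Perf
open Groth.DerivedCoh.PCoh (Near Below)

attribute [local instance] HasDerivedCategory.standard

set_option backward.isDefEq.respectTransparency false
set_option backward.defeqAttrib.useBackward true
set_option synthInstance.maxHeartbeats 400000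
set_option maxHeartbeats 1000000

namespace Groth.Misc4.ApproxExtend

variable {X U : Scheme.{u}}

lemma isZero_stalk_iff {M : X.Modules} {x : X} :
    IsZero ((Groth.QCohMod.stalk x).obj M) ↔ x ∉ CohB1.support M :=
  ⟨fun h => (Groth.CohTwo.notMem_support_iff M x).2 (AddCommGrpCat.subsingleton_of_isZero h),
    fun h => @AddCommGrpCat.isZero_of_subsingleton _ ((Groth.CohTwo.notMem_support_iff M x).1 h)⟩

lemma support_of_iso {M N : X.Modules} (e : M ≅ N) : CohB1.support M = CohB1.support N := by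
  ext x
  exact not_iff_not.1 ((isZero_stalk_iff.symm.trans ((Groth.QCohMod.stalk x).mapIso e).isZero_iff).trans
    isZero_stalk_iff)

lemma mem_support_restrict (j : U ⟶ X) [IsOpenImmersion j] (M : X.Modules) (y : U) :
    y ∈ CohB1.support ((Scheme.Modules.restrictFunctor j).obj M) ↔ j y ∈ CohB1.support M :=
  not_iff_not.1 ((isZero_stalk_iff.symm.trans
    ((Scheme.Modules.restrictStalkNatIso j y).app M).isZero_iff).trans isZero_stalk_iff)

/-- The support of the cohomology of a restriction. -/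
lemma mem_support_hd_rd (j : U ⟶ X) [IsOpenImmersion j] (K : DCoh.D X) (i : ℤ) (y : U) :
    y ∈ CohB1.support (DCoh.HD ((DCoh.restrictD j).obj K) i) ↔ j y ∈ CohB1.support (DCoh.HD K i) := by
  rw [support_of_iso (X := U) (nonempty_hdRd j K i).some]
  exact mem_support_restrict j _ y

lemma isZero_iff_support {M : X.Modules} : IsZero M ↔ CohB1.support M = ∅ := by
  rw [Groth.QCohMod.isZero_iff_stalk, Set.eq_empty_iff_forall_notMem]
  exact forall_congr' fun x => isZero_stalk_iff

lemma support_hd_middle (T : Pretriangulated.Triangle (DCoh.D X)) (hT : T ∈ distTriang _) (i : ℤ) {S : Set X}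
    (h₁ : CohB1.support (DCoh.HD T.obj₁ i) ⊆ S) (h₃ : CohB1.support (DCoh.HD T.obj₃ i) ⊆ S) :
    CohB1.support (DCoh.HD T.obj₂ i) ⊆ S := by
  intro x hx
  by_contra hxS
  refine isZero_stalk_iff.1 ?_ hx
  exact ((DerivedCategory.HomologySequence.exact₂ T hT i).map (Groth.QCohMod.stalk x)).isZero_of_both_zeros
    ((isZero_stalk_iff.2 fun h => hxS (h₁ h)).eq_of_src _ _)
    ((isZero_stalk_iff.2 fun h => hxS (h₃ h)).eq_of_tgt _ _)

/-- Extension of an approximation along an open immersion whose range contains the support. -/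
theorem approx_of_openImm (j : U ⟶ X) [IsOpenImmersion j] {T : Set X} (hT : IsClosed T)
    (hTU : T ⊆ (j.opensRange : Set X)) (E : DCoh.D X) (m : ℤ)
    (happ : Approx (j.base ⁻¹' T) ((DCoh.restrictD j).obj E) m)
    (hsupp : ∀ i : ℤ, m ≤ i → CohB1.support (DCoh.HD E i) ⊆ T) : Approx T E m := by
  haveI := preservesFiniteLimits_restrictFunctor j
  obtain ⟨P, α, hP, hPs, hiso, hepi⟩ := happ
  let adj := Groth.DerivedCoh.ExtZero.extZeroDAdj j
  let β : (CxOX.extZeroD j).obj P ⟶ E := (adj.homEquiv P E).symm α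
  haveI := isIso_extZeroDAdj_unit j P
  let u : P ≅ (DCoh.restrictD j).obj ((CxOX.extZeroD j).obj P) := asIso (adj.unit.app P)
  have hPT : ∀ i, CohB1.support (DCoh.HD ((CxOX.extZeroD j).obj P) i) ⊆ T := fun i x hx => by
    by_cases hxU : x ∈ j.opensRange
    · obtain ⟨y, rfl⟩ := hxU
      have h := (mem_support_hd_rd j _ i y).2 hx
      rw [← support_of_iso ((DerivedCategory.homologyFunctor _ i).mapIso u)] at h
      exact hPs i h
    · exact absurd hx (isZero_stalk_iff.1 ((Groth.DerivedCoh.ExtZero.isZero_stalk_obj j (DCoh.HD P i) hxU).of_iso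
        ((Groth.QCohMod.stalk x).mapIso
          (Groth.Calg1.DualSch.nonempty_homology_mapDerivedCategory (CxOX.extZero j) P i).some)))
  have hβ : (DCoh.restrictD j).map β = inv (adj.unit.app P) ≫ α := by
    exact (IsIso.eq_inv_comp _).2 ((adj.homEquiv_unit _ _ β).symm.trans ((adj.homEquiv P E).apply_symm_apply α))
  obtain ⟨C, v, w, hC⟩ := Pretriangulated.distinguished_cocone_triangle β
  have hCm : Below m C := fun i hi => by
    rw [isZero_iff_support, Set.eq_empty_iff_forall_notMem]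
    intro x hx
    by_cases hxU : x ∈ j.opensRange
    · obtain ⟨y, rfl⟩ := hxU
      have hz : Below m ((DCoh.restrictD j).obj C) := by
        refine Groth.DerivedCoh.PCoh.below_of_near _ ((DCoh.restrictD j).map_distinguished _ hC) ?_
        show Near m ((DCoh.restrictD j).map β)
        rw [hβ]
        exact (Groth.DerivedCoh.PCoh.near_of_isIso _).comp ⟨hiso, hepi⟩
      exact Set.eq_empty_iff_forall_notMem.1 (isZero_iff_support.1 (hz i hi)) y
        ((mem_support_hd_rd j C i y).2 hx)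
    · refine isZero_stalk_iff.1 ?_ hx
      exact ((DerivedCategory.HomologySequence.exact₃ _ hC i (i + 1) rfl).map
        (Groth.QCohMod.stalk x)).isZero_of_both_zeros
        ((isZero_stalk_iff.2 fun h => hxU (hTU (hsupp i hi h))).eq_of_src _ _)
        ((isZero_stalk_iff.2 fun h => hxU (hTU (hPT (i + 1) h))).eq_of_tgt _ _)
  obtain ⟨h1, h2⟩ := Groth.DerivedCoh.PCoh.near_of_below _ hC hCm
  refine ⟨_, β, ?_, hPT, h1, h2⟩
  rw [isPerfect_iff]
  intro x
  by_cases hx : x ∈ j.opensRange
  · obtain ⟨y, rfl⟩ := hx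
    obtain ⟨V, hy, F, hF, ⟨e⟩⟩ := (isPerfect_iff _).1 hP y
    obtain ⟨c⟩ := nonempty_rdComp (k := V.ι) (j := j) (l := V.ι ≫ j) rfl ((CxOX.extZeroD j).obj P)
    exact ⟨(V.ι ≫ j).opensRange, ⟨⟨y, hy⟩, rfl⟩,
      perfOn_of_range _ hF (c ≪≫ (DCoh.restrictD V.ι).mapIso u.symm ≪≫ e)⟩
  · let W : X.Opens := ⟨_, hT.isOpen_compl⟩
    have hz := Groth.DerivedCoh.PerfPush.isZero_restrictD _ hPT W fun y hy => hy
    have hW : DCoh.IsPerfect ((DCoh.restrictD W.ι).obj ((CxOX.extZeroD j).obj P)) := isPerfect_of_isZero hz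
    obtain ⟨V, hy, F, hF, ⟨e⟩⟩ := (isPerfect_iff _).1 hW ⟨x, fun h => hx (hTU h)⟩
    obtain ⟨c⟩ := nonempty_rdComp (k := V.ι) (j := W.ι) (l := V.ι ≫ W.ι) rfl ((CxOX.extZeroD j).obj P)
    exact ⟨(V.ι ≫ W.ι).opensRange, ⟨⟨_, hy⟩, rfl⟩, perfOn_of_range _ hF (c ≪≫ e)⟩

end Groth.Misc4.ApproxExtend
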