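import Groth.Agent.Misc4.KoszulApprox
import Groth.Agent.Misc4.OpenImmApprox
import Groth.Agent.DerivedCoh.TildeD.Iff
import Groth.Agent.PropsBasic2.TildeExact

/-!
# Approximation by perfect complexes on affine schemes
-/

universe u

open CategoryTheory CategoryTheory.Limits AlgebraicGeometry Groth.KTheory.Perf
open Groth.DerivedCoh.PCoh (Near Below)
open Groth.Misc4.ApproxExtend

attribute [local instance] HasDerivedCategory.standard

set_option backward.isDefEq.respectTransparency false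
set_option backward.defeqAttrib.useBackward true
set_option synthInstance.maxHeartbeats 400000
set_option maxHeartbeats 1000000

namespace Groth.Misc4.KoszulUnit

open Groth.Misc4.KoszulOrth

variable {A : Type u} [CommRing A]

/-- A tilde module is supported off `U` iff it is torsion. -/
theorem support_tilde_subset_iff (fs : List A) (H : ModuleCat.{u} A) :
    (∀ y ∈ CohB1.support ((tilde.functor (CommRingCat.of A)).obj H), y ∉ U fs) ↔
      ∀ f ∈ fs, ∀ x : H, ∃ N : ℕ, f ^ N • x = 0 := by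
  rw [← isZero_restrict_tilde_iff fs H, isZero_iff_support, Set.eq_empty_iff_forall_notMem]
  exact ⟨fun h y hy => h _ ((mem_support_restrict (U fs).ι _ y).1 hy) y.2,
    fun h y hy hU => h ⟨y, hU⟩ ((mem_support_restrict (U fs).ι _ ⟨y, hU⟩).2 hy)⟩

/-- Approximation on a spectrum. -/
theorem approx_spec (fs : List A) (m : ℤ) (E : DCoh.D (Spec (CommRingCat.of A)))
    (hq : DCoh.IsQCohD E) (hpc : DCoh.IsPseudoCoherentD m E)
    (hsupp : ∀ i : ℤ, m - (fs.length : ℤ) + 1 ≤ i → ∀ y ∈ CohB1.support (DCoh.HD E i), y ∉ U fs) :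
    Approx {y | y ∉ U fs} E m := by
  haveI := Groth.PropsBasic2.preservesFiniteLimits_tilde (CommRingCat.of A)
  obtain ⟨M, ⟨eM⟩⟩ := (Groth.Misc4.QCohTildeD.isQCohD_iff (R := CommRingCat.of A) E).1 hq
  obtain ⟨P, α, ⟨hP, hPt⟩, hα⟩ := appr (fs := fs) (m := m) (M := M)
    ((Groth.DerivedCoh.TildeD.isPseudoCoherentD_tildeD_iff M m).1
      (Groth.DerivedCoh.PCoh.isPseudoCoherentD_of_iso eM.symm hpc))
    (fun f hf q hq => (support_tilde_subset_iff fs _).1 (fun y hy => hsupp q hq y (by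
      rwa [← support_of_iso ((nonempty_hd_tildeD M q).some.symm ≪≫
        (DerivedCategory.homologyFunctor _ q).mapIso eM)])) f hf)
  obtain ⟨h1, h2⟩ := (Groth.DerivedCoh.TildeD.near_tildeD hα).comp (Groth.DerivedCoh.PCoh.near_of_isIso eM.hom)
  refine ⟨_, _, (Groth.DerivedCoh.TildeD.isPerfect_tildeD_iff P).2 hP, fun i y hy => ?_, h1, h2⟩
  rw [support_of_iso (nonempty_hd_tildeD P i).some] at hy
  exact (support_tilde_subset_iff fs _).2 (fun f hf => hPt f hf i) y hy

end Groth.Misc4.KoszulUnit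

namespace Groth.Misc4.ApproxExtend

/-- Approximation on an affine scheme for the common zero locus of finitely many functions. -/
theorem approx_affine (X : Scheme.{u}) [IsAffine X] (fs : List Γ(X, ⊤)) {T : Set X} (hT : IsClosed T)
    (hmem : ∀ x, x ∈ T ↔ ∀ f ∈ fs, x ∉ X.basicOpen f) (m : ℤ) (E : DCoh.D X) (hq : DCoh.IsQCohD E)
    (hpc : DCoh.IsPseudoCoherentD m E)
    (hsupp : ∀ i : ℤ, min m (m - (fs.length : ℤ) + 1) ≤ i → CohB1.support (DCoh.HD E i) ⊆ T) :
    Approx T E m := by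
  let j : Spec Γ(X, ⊤) ⟶ X := X.isoSpec.inv
  have hpre : j.base ⁻¹' T = {y | y ∉ Groth.Misc4.KoszulUnit.U fs} := by
    ext y
    show j y ∈ T ↔ y ∉ Groth.Misc4.KoszulUnit.U fs
    rw [hmem, Groth.Misc4.KoszulUnit.mem_U, not_exists]
    refine forall_congr' fun f => ?_
    rw [not_and, not_not]
    refine imp_congr_right fun _ => ?_
    rw [← X.toSpecΓ_preimage_basicOpen f]
    show ¬ X.isoSpec.hom (X.isoSpec.inv y) ∈ PrimeSpectrum.basicOpen f ↔ _
    rw [← Scheme.Hom.comp_apply, Iso.inv_hom_id]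
    exact not_not
  refine approx_of_openImm j hT (fun x _ => ⟨X.isoSpec.hom x, Scheme.hom_inv_apply _ _⟩) E m ?_
    (fun i hi => hsupp i (by omega))
  rw [hpre]
  exact Groth.Misc4.KoszulUnit.approx_spec fs m _ (Groth.Misc4.QCohDPerf.isQCohD_restrict j hq)
    (Groth.DerivedCoh.PCohDescent.pcoh_rd j hpc) fun i hi y hy => by
      have h : y ∈ j.base ⁻¹' T := hsupp i (by omega) ((mem_support_hd_rd j E i y).1 hy)
      rwa [hpre] at h

end Groth.Misc4.ApproxExtend
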