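import Groth.Agent.Misc4.FilteredPush

/-!
# `Rf_*` and filtered colimits of complexes with quasi-coherent cohomology
-/

universe u

open CategoryTheory CategoryTheory.Limits AlgebraicGeometry Opposite TopologicalSpace

attribute [local instance] HasDerivedCategory.standard

set_option backward.isDefEq.respectTransparency false
set_option backward.defeqAttrib.useBackward true
set_option synthInstance.maxHeartbeats 400000
set_option maxHeartbeats 1000000

namespace Groth.Misc4.FilteredPushQCoh

open Groth.Misc4.FilteredPush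

local notation "up" => ComplexShape.up ℤ

/-- `H^i ∘ Rf_*` on complexes. -/
noncomputable abbrev T {X S : Scheme.{u}} (f : X ⟶ S) [DCoh.HasRpush f] (i : ℤ) :
    CochainComplex X.Modules ℤ ⥤ S.Modules :=
  DerivedCategory.Q ⋙ DCoh.Rpush f ⋙ DerivedCategory.homologyFunctor S.Modules i

variable {X S : Scheme.{u}} {J : Type u} [SmallCategory J] [IsFiltered J]

/-- Quasi-coherent cohomology passes to filtered colimits. -/
theorem isQCohD_colimit (C : J ⥤ CochainComplex X.Modules ℤ)
    (hC : ∀ j, DCoh.IsQCohD (DCoh.toD X (C.obj j))) {c : Cocone C} (hc : IsColimit c) :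
    DCoh.IsQCohD (DCoh.toD X c.pt) := fun q => by
  obtain ⟨a⟩ := Groth.Misc4.FilteredColim.nonempty_isColimit_homology C hc q
  haveI : ∀ j, ((C ⋙ HomologicalComplex.homologyFunctor X.Modules up q).obj j).IsQuasicoherent := fun j =>
    (Groth.QCohMod.isQCoh_iff_of_iso ((DerivedCategory.homologyFunctorFactors X.Modules q).app (C.obj j))).1
      (hC j q)
  exact (Groth.QCohMod.isQCoh_iff_of_iso ((DerivedCategory.homologyFunctorFactors X.Modules q).app c.pt)).2
    (Groth.QCohMod.isQCoh_of_isColimit _ _ a)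

variable (f : X ⟶ S) [QuasiCompact f] [QuasiSeparated f]

/-- Over a quasi-compact base. -/
theorem nonempty_isColimit_of_compact [CompactSpace S] [DCoh.HasRpush f]
    (C : J ⥤ CochainComplex X.Modules ℤ) (hC : ∀ j, DCoh.IsQCohD (DCoh.toD X (C.obj j)))
    {c : Cocone C} (hc : IsColimit c) (i : ℤ) : Nonempty (IsColimit ((T f i).mapCocone c)) := by
  obtain ⟨N, hN0, hN⟩ := Groth.Misc4.RpushCoprod.exists_isIso_homology_map f
  let m : ℤ := i - N - 1
  let e := ComplexShape.embeddingUpIntGE m
  let C' : J ⥤ CochainComplex X.Modules ℤ := C ⋙ e.truncGEFunctor X.Modules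
  let α : C ⟶ C' := Functor.whiskerLeft C (e.πTruncGENatTrans X.Modules)
  have hα : ∀ j q, m ≤ q → IsIso (HomologicalComplex.homologyMap (α.app j) q) := fun j q hq => by
    obtain ⟨k, rfl⟩ : ∃ k : ℕ, m + k = q := ⟨(q - m).toNat, by omega⟩
    exact (quasiIsoAt_iff_isIso_homologyMap _ _).1
      (HomologicalComplex.quasiIsoAt_πTruncGE (C.obj j) e (j := k) rfl)
  have hC'm : ∀ j, (C'.obj j).IsGE m := fun j =>
    inferInstanceAs (((C.obj j).truncGE m).IsGE m)
  have hHD : ∀ {K L : CochainComplex X.Modules ℤ} (φ : K ⟶ L) (q : ℤ),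
      IsIso (HomologicalComplex.homologyMap φ q) →
        IsIso ((DerivedCategory.homologyFunctor X.Modules q).map (DerivedCategory.Q.map φ)) := fun φ q h =>
    (NatIso.isIso_map_iff (DerivedCategory.homologyFunctorFactors X.Modules q) φ).2 h
  have hC' : ∀ j, DCoh.IsQCohD (DCoh.toD X (C'.obj j)) := fun j q => by
    by_cases hq : m ≤ q
    · haveI := hHD (α.app j) q (hα j q hq)
      exact (Groth.QCohMod.isQCoh_iff_of_iso
        (asIso ((DerivedCategory.homologyFunctor X.Modules q).map (DerivedCategory.Q.map (α.app j))))).1 (hC j q)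
    · haveI := hC'm j
      exact Groth.Misc4.QCohDPerf.isQCoh_isZero
        ((DerivedCategory.Q.obj (C'.obj j)).isZero_of_isGE m q (by omega))
  let φ := hc.desc ((Cocone.precompose α).obj (colimit.cocone C'))
  have hφ : ∀ j, c.ι.app j ≫ φ = α.app j ≫ colimit.ι C' j := fun j => hc.fac _ j
  have hφq : ∀ q, m ≤ q → IsIso (HomologicalComplex.homologyMap φ q) := fun q hq => by
    obtain ⟨a⟩ := Groth.Misc4.FilteredColim.nonempty_isColimit_homology C hc q
    obtain ⟨b⟩ := Groth.Misc4.FilteredColim.nonempty_isColimit_homology C' (colimit.isColimit C') q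
    let w : C ⋙ HomologicalComplex.homologyFunctor X.Modules up q ≅
        C' ⋙ HomologicalComplex.homologyFunctor X.Modules up q :=
      NatIso.ofComponents (fun j => haveI := hα j q hq; (asIso (HomologicalComplex.homologyMap (α.app j) q) :))
        (fun {j k} g => (Functor.whiskerRight α (HomologicalComplex.homologyFunctor X.Modules up q)).naturality g)
    have : HomologicalComplex.homologyMap φ q = (a.coconePointsIsoOfNatIso b w).hom := by
      refine a.hom_ext fun j => ?_
      refine Eq.trans ?_ (IsColimit.comp_coconePointsIsoOfNatIso_hom a b w j).symm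
      show HomologicalComplex.homologyMap (c.ι.app j) q ≫ _ = HomologicalComplex.homologyMap (α.app j) q ≫
        HomologicalComplex.homologyMap (colimit.ι C' j) q
      rw [← HomologicalComplex.homologyMap_comp, ← HomologicalComplex.homologyMap_comp, hφ]
    rw [this]
    infer_instance
  let F := T f i
  have hαF : ∀ j, IsIso (F.map (α.app j)) := fun j =>
    hN (DerivedCategory.Q.map (α.app j)) (hC j) (hC' j) m i (fun q hq => hHD _ q (hα j q hq)) (by omega)
  haveI : IsIso (F.map φ) :=
    hN (DerivedCategory.Q.map φ) (isQCohD_colimit C hC hc) (isQCohD_colimit C' hC' (colimit.isColimit C')) m i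
      (fun q hq => hHD _ q (hφq q hq)) (by omega)
  obtain ⟨hF⟩ := nonempty_isColimit f C' m hC'm (colimit.isColimit C') i
  exact ⟨IsColimit.equivOfNatIsoOfIso (NatIso.ofComponents (fun j => haveI := hαF j; (asIso (F.map (α.app j))).symm)
    fun {j k} g => by
      haveI := hαF j
      haveI := hαF k
      show (C' ⋙ F).map g ≫ inv (F.map (α.app k)) = inv (F.map (α.app j)) ≫ (C ⋙ F).map g
      rw [IsIso.comp_inv_eq, Category.assoc, IsIso.eq_inv_comp]
      exact (F.map_comp _ _).symm.trans ((congrArg F.map (α.naturality g)).symm.trans (F.map_comp _ _)))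
    (F.mapCocone (colimit.cocone C')) (F.mapCocone c)
    (Cocone.ext (asIso (F.map φ)).symm fun j => by
      show (F.map (α.app j) ≫ F.map (colimit.ι C' j)) ≫ inv (F.map φ) = F.map (c.ι.app j)
      rw [IsIso.comp_inv_eq, ← F.map_comp, ← F.map_comp, hφ])
    hF⟩

/-- Cohomology sheaves commute with restriction to an open, naturally. -/
theorem nonempty_homologyRestrictIso {U : Scheme.{u}} (j : U ⟶ S) [IsOpenImmersion j] (n : ℤ) :
    Nonempty (DerivedCategory.homologyFunctor S.Modules n ⋙ Scheme.Modules.restrictFunctor j ≅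
      DCoh.restrictD j ⋙ DerivedCategory.homologyFunctor U.Modules n) := by
  let R := Scheme.Modules.restrictFunctor j
  let N : HomologicalComplex.homologyFunctor S.Modules up n ⋙ R ≅
      R.mapHomologicalComplex up ⋙ HomologicalComplex.homologyFunctor U.Modules up n :=
    NatIso.ofComponents (fun K => ((K.sc n).mapHomologyIso R).symm) fun {K L} g => by
      rw [Iso.symm_hom, Iso.symm_hom, Iso.comp_inv_eq, Category.assoc, Iso.eq_inv_comp]
      exact (ShortComplex.mapHomologyIso_hom_naturality
        ((HomologicalComplex.shortComplexFunctor S.Modules up n).map g) R).symm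
  exact ⟨Localization.liftNatIso DerivedCategory.Q (HomologicalComplex.quasiIso S.Modules up)
    (DerivedCategory.Q ⋙ DerivedCategory.homologyFunctor S.Modules n ⋙ R)
    (DerivedCategory.Q ⋙ DCoh.restrictD j ⋙ DerivedCategory.homologyFunctor U.Modules n) _ _
    ((Functor.associator _ _ _).symm ≪≫
      Functor.isoWhiskerRight (DerivedCategory.homologyFunctorFactors S.Modules n) R ≪≫ N ≪≫
      Functor.isoWhiskerLeft _ (DerivedCategory.homologyFunctorFactors U.Modules n).symm ≪≫
      (Functor.associator _ _ _).symm ≪≫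
      Functor.isoWhiskerRight R.mapDerivedCategoryFactors.symm _ ≪≫ Functor.associator _ _ _)⟩

/-- `H^i ∘ Rf_*` commutes with filtered colimits of complexes with quasi-coherent cohomology. -/
theorem nonempty_isColimit_isQCohD [DCoh.HasRpush f]
    (C : J ⥤ CochainComplex X.Modules ℤ) (hC : ∀ j, DCoh.IsQCohD (DCoh.toD X (C.obj j)))
    {c : Cocone C} (hc : IsColimit c) (i : ℤ) : Nonempty (IsColimit ((T f i).mapCocone c)) := by
  let F := T f i
  let δ := colimit.desc (C ⋙ F) (F.mapCocone c)
  suffices IsIso δ from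
    ⟨(colimit.isColimit (C ⋙ F)).ofIsoColimit (Cocone.ext (asIso δ) fun j => colimit.ι_desc _ j)⟩
  refine Groth.QCohMod.isIso_of_stalk δ fun s => ?_
  obtain ⟨_, ⟨V, hV, rfl⟩, hsV, -⟩ := S.isBasis_affineOpens.exists_subset_of_mem_open (Set.mem_univ s) isOpen_univ
  suffices IsIso ((Scheme.Modules.restrictFunctor (Scheme.Opens.ι V)).map δ) from
    ((NatIso.isIso_map_iff (Scheme.Modules.restrictStalkNatIso (Scheme.Opens.ι V) ⟨s, hsV⟩) δ).1
      (inferInstanceAs (IsIso ((Scheme.Modules.toPresheaf _ ⋙ TopCat.Presheaf.stalkFunctor Ab.{u} _).map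
        ((Scheme.Modules.restrictFunctor (Scheme.Opens.ι V)).map δ)))) :)
  haveI : IsAffine (V : Scheme.{u}) := hV
  haveI : DCoh.HasRpush (f ∣_ V) := Groth.Misc4.PushRestrict.hasRightDerived _
  obtain ⟨e⟩ := Groth.Misc4.PushRestrict.restrictD_Rpush_iso f V
  obtain ⟨h⟩ := nonempty_homologyRestrictIso (S := S) (Scheme.Opens.ι V) i
  let R := Scheme.Modules.restrictFunctor (Scheme.Opens.ι V)
  let RU := Scheme.Modules.restrictFunctor (f ⁻¹ᵁ V).ι
  let w : F ⋙ R ≅ RU.mapHomologicalComplex up ⋙ T (f ∣_ V) i :=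
    Functor.associator _ _ _ ≪≫ Functor.isoWhiskerLeft DerivedCategory.Q (Functor.associator _ _ _ ≪≫
      Functor.isoWhiskerLeft (DCoh.Rpush f) h ≪≫ (Functor.associator _ _ _).symm ≪≫
      Functor.isoWhiskerRight e _ ≪≫ Functor.associator _ _ _) ≪≫ (Functor.associator _ _ _).symm ≪≫
      Functor.isoWhiskerRight RU.mapDerivedCategoryFactors _ ≪≫ Functor.associator _ _ _
  haveI : PreservesColimitsOfSize.{u, u} RU :=
    (Scheme.Modules.restrictAdjunction (f ⁻¹ᵁ V).ι).leftAdjoint_preservesColimits
  haveI : PreservesColimitsOfSize.{u, u} R :=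
    (Scheme.Modules.restrictAdjunction (Scheme.Opens.ι V)).leftAdjoint_preservesColimits
  have hcU : IsColimit ((RU.mapHomologicalComplex up).mapCocone c) :=
    HomologicalComplex.isColimitOfEval _ _ fun n =>
      isColimitOfPreserves RU (isColimitOfPreserves (HomologicalComplex.eval X.Modules up n) hc)
  obtain ⟨a⟩ := nonempty_isColimit_of_compact (f ∣_ V) (C ⋙ RU.mapHomologicalComplex up)
    (fun j => Groth.Misc4.QCohDPerf.isQCohD_of_iso (RU.mapDerivedCategoryFactors.app (C.obj j))
      (Groth.Misc4.QCohDPerf.isQCohD_restrict (f ⁻¹ᵁ V).ι (hC j))) hcU i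
  let a' : IsColimit (R.mapCocone (F.mapCocone c)) :=
    IsColimit.mapCoconeEquiv w.symm a
  let b := isColimitOfPreserves R (colimit.isColimit (C ⋙ F))
  have : R.map δ = (b.coconePointUniqueUpToIso a').hom := by
    refine b.hom_ext fun j => ?_
    rw [IsColimit.comp_coconePointUniqueUpToIso_hom]
    exact (R.map_comp _ _).symm.trans (congrArg R.map (colimit.ι_desc (F.mapCocone c) j))
  rw [this]
  infer_instance

end Groth.Misc4.FilteredPushQCoh
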