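import Groth.Agent.DerivedCoh.PerfPush.OpenSupp
import Groth.Agent.Misc4.FilteredPushQCoh

/-!
# Extending approximations from an open containing the support
-/

universe u

open CategoryTheory CategoryTheory.Limits AlgebraicGeometry Groth.KTheory.Perf

attribute [local instance] HasDerivedCategory.standard

set_option backward.isDefEq.respectTransparency false
set_option backward.defeqAttrib.useBackward true
set_option synthInstance.maxHeartbeats 400000
set_option maxHeartbeats 1000000

namespace Groth.Misc4.ApproxExtend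



variable {X U : Scheme.{u}} (j : U ⟶ X) [IsOpenImmersion j]

lemma preservesFiniteLimits_restrictFunctor : PreservesFiniteLimits (Scheme.Modules.restrictFunctor j) := by
  haveI : PreservesLimitsOfSize.{0, 0} (Scheme.Modules.restrictFunctor j) :=
    (CxOX.extZeroAdj j).rightAdjoint_preservesLimits
  exact ⟨fun _ _ _ => inferInstance⟩

theorem isIso_extZeroDAdj_unit [PreservesFiniteLimits (Scheme.Modules.restrictFunctor j)] (Z : DCoh.D U) :
    IsIso ((Groth.DerivedCoh.ExtZero.extZeroDAdj j).unit.app Z) := by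
  suffices ∀ L, IsIso ((Groth.DerivedCoh.ExtZero.extZeroDAdj j).unit.app (DerivedCategory.Q.obj L)) by
    have := this (DerivedCategory.Q.objPreimage Z)
    exact (NatTrans.isIso_app_iff_of_iso (Groth.DerivedCoh.ExtZero.extZeroDAdj j).unit
      (DerivedCategory.Q.objObjPreimageIso Z)).1 this
  intro L
  dsimp only [Groth.DerivedCoh.ExtZero.extZeroDAdj, Groth.DerivedCoh.ExtZero.derAdj]
  rw [Adjunction.localization_unit_app]
  haveI : IsIso (((Groth.DerivedCoh.ExtZero.cxAdj (CxOX.extZeroAdj j)).unit).app L) :=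
    haveI : ∀ i, IsIso ((((Groth.DerivedCoh.ExtZero.cxAdj (CxOX.extZeroAdj j)).unit).app L).f i) :=
      fun i => Groth.DerivedCoh.ExtZero.isIso_unit _ _
    HomologicalComplex.Hom.isIso_of_components _
  infer_instance

/-- A morphism of modules is an isomorphism (epimorphism) if it is one on an open outside of which both vanish. -/
theorem isIso_or_epi (W : X.Opens) {M N : X.Modules} (φ : M ⟶ N) (hM : ∀ x ∉ W, x ∉ CohB1.support M)
    (hN : ∀ x ∉ W, x ∉ CohB1.support N) :
    (IsIso ((Scheme.Modules.restrictFunctor W.ι).map φ) → IsIso φ) ∧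
      (Epi ((Scheme.Modules.restrictFunctor W.ι).map φ) → Epi φ) := by
  have hz : ∀ {K : X.Modules} {x : X}, x ∉ CohB1.support K → IsZero ((Groth.QCohMod.stalk x).obj K) :=
    fun {K x} h => @AddCommGrpCat.isZero_of_subsingleton _ ((Groth.CohTwo.notMem_support_iff K x).1 h)
  constructor
  · intro h
    refine Groth.QCohMod.isIso_of_stalk φ fun x => ?_
    by_cases hx : x ∈ W
    · exact ((NatIso.isIso_map_iff (Scheme.Modules.restrictStalkNatIso W.ι ⟨x, hx⟩) φ).1
        (inferInstanceAs (IsIso ((Groth.QCohMod.stalk (X := (W : Scheme.{u})) ⟨x, hx⟩).map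
          ((Scheme.Modules.restrictFunctor W.ι).map φ)))))
    · exact isIso_of_source_target_iso_zero _ (hz (hM x hx)).isoZero (hz (hN x hx)).isoZero
  · intro h
    refine (Groth.QCohMod.epi_iff_stalk φ).2 fun x => ?_
    refine (AddCommGrpCat.epi_iff_surjective _).1 ?_
    by_cases hx : x ∈ W
    · exact ((MorphismProperty.epimorphisms _).arrow_mk_iso_iff
        (Arrow.isoMk' _ _ ((Scheme.Modules.restrictStalkNatIso W.ι ⟨x, hx⟩).app _)
          ((Scheme.Modules.restrictStalkNatIso W.ι ⟨x, hx⟩).app _)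
          ((Scheme.Modules.restrictStalkNatIso W.ι ⟨x, hx⟩).hom.naturality _).symm)).1
        (inferInstanceAs (Epi ((Groth.QCohMod.stalk (X := (W : Scheme.{u})) ⟨x, hx⟩).map
          ((Scheme.Modules.restrictFunctor W.ι).map φ))))
    · exact ⟨fun a b _ => (hz (hN x hx)).eq_of_src a b⟩

/-- The approximation data. -/
def Approx {Y : Scheme.{u}} (T : Set Y) (E : DCoh.D Y) (m : ℤ) : Prop :=
  ∃ (P : DCoh.D Y) (α : P ⟶ E), DCoh.IsPerfect P ∧ (∀ i : ℤ, CohB1.support (DCoh.HD P i) ⊆ T) ∧
    (∀ i : ℤ, m < i → IsIso ((DerivedCategory.homologyFunctor Y.Modules i).map α)) ∧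
    Epi ((DerivedCategory.homologyFunctor Y.Modules m).map α)

/-- Extension by zero of an approximation. -/
theorem approx_of_open {U : X.Opens} {T : Set X} (hT : IsClosed T) (hTU : T ⊆ (U : Set X)) (E : DCoh.D X)
    (m : ℤ) [PreservesFiniteLimits (Scheme.Modules.restrictFunctor U.ι)]
    (happ : Approx {v : ↥(U : Scheme.{u}) | U.ι.base v ∈ T} ((DCoh.restrictD U.ι).obj E) m)
    (hsupp : ∀ i : ℤ, m ≤ i → CohB1.support (DCoh.HD E i) ⊆ T) : Approx T E m := by
  obtain ⟨P, α, hP, hPs, hiso, hepi⟩ := happ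
  let adj := Groth.DerivedCoh.ExtZero.extZeroDAdj U.ι
  let β : (CxOX.extZeroD U.ι).obj P ⟶ E := (adj.homEquiv P E).symm α
  have hPT : ∀ i, CohB1.support (DCoh.HD ((CxOX.extZeroD U.ι).obj P) i) ⊆ T := fun i =>
    (Groth.DerivedCoh.PerfPush.support_hd_extZeroD U P i).trans (by rintro _ ⟨y, hy, rfl⟩; exact hPs i hy)
  haveI := isIso_extZeroDAdj_unit U.ι P
  have hβ : (DCoh.restrictD U.ι).map β = inv (adj.unit.app P) ≫ α := by
    exact (IsIso.eq_inv_comp _).2 ((adj.homEquiv_unit _ _ β).symm.trans ((adj.homEquiv P E).apply_symm_apply α))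

  refine ⟨_, β, ?_, hPT, fun i hi => ?_, ?_⟩
  · refine Groth.DerivedCoh.PerfPush.isPerfect_of_local _ fun x => ?_
    by_cases hx : x ∈ U
    · exact ⟨U, hx, isPerfect_of_iso (Groth.DerivedCoh.PerfPush.nonempty_restrictD_extZeroD U P).some hP⟩
    · exact ⟨⟨_, hT.isOpen_compl⟩, fun h => hx (hTU h),
        isPerfect_of_isZero (Groth.DerivedCoh.PerfPush.isZero_restrictD _ hPT _ fun y hy => hy)⟩
  · refine (isIso_or_epi U _ (fun x hx h => hx (hTU (hPT i h)))
      (fun x hx h => hx (hTU (hsupp i hi.le h)))).1 ?_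
    obtain ⟨e⟩ := Groth.Misc4.FilteredPushQCoh.nonempty_homologyRestrictIso (S := X) U.ι i
    refine (NatIso.isIso_map_iff e β).2 ?_
    haveI := hiso i hi
    show IsIso ((DerivedCategory.homologyFunctor _ i).map ((DCoh.restrictD U.ι).map β))
    rw [hβ, Functor.map_comp]
    infer_instance
  · refine (isIso_or_epi U _ (fun x hx h => hx (hTU (hPT m h)))
      (fun x hx h => hx (hTU (hsupp m le_rfl h)))).2 ?_
    obtain ⟨e⟩ := Groth.Misc4.FilteredPushQCoh.nonempty_homologyRestrictIso (S := X) U.ι m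
    refine ((MorphismProperty.epimorphisms _).arrow_mk_iso_iff
      (Arrow.isoMk' _ _ (e.app _) (e.app _) (e.hom.naturality β).symm)).2 ?_
    haveI := hepi
    show Epi ((DerivedCategory.homologyFunctor _ m).map ((DCoh.restrictD U.ι).map β))
    rw [hβ, Functor.map_comp]
    infer_instance

end Groth.Misc4.ApproxExtend
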