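import Groth.Agent.RDerLib.LES
import Groth.Agent.KTheory.FiniteDimDerived
import Mathlib.Algebra.Homology.HomologySequenceLemmas
import Mathlib.Algebra.Homology.DerivedCategory.ShortExact

/-!
Dimension shifting for unbounded complexes and a functor of finite cohomological dimension.
-/

universe w w' v v' u u'

set_option backward.defeqAttrib.useBackward true
set_option backward.isDefEq.respectTransparency false
set_option linter.unusedSectionVars false

open CategoryTheory CategoryTheory.Limits HomologicalComplex CochainComplex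
open Groth.CohFin

namespace Groth.Misc4.CdShift

variable {A : Type u} [Category.{v} A] [Abelian A] [EnoughInjectives A]
  {B : Type u'} [Category.{v'} B] [Abelian B]
  (F : A ⥤ B) [F.Additive] [PreservesFiniteLimits F]

instance additive_rightDerived (n : ℕ) : (F.rightDerived n).Additive where
  map_add {_ _ f g} := rightDerived_map_add F n f g

/-- Termwise derived functor. -/
noncomputable abbrev R (j : ℕ) : CochainComplex A ℤ ⥤ CochainComplex B ℤ :=
  (F.rightDerived j).mapHomologicalComplex (ComplexShape.up ℤ)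

/-- A long exact sequence. -/
noncomputable def les : RDer.DerivedLES F := (RDerLib.exists_derivedLES F).some

/-- A short exact sequence with middle term an acyclic complex of acyclic objects. -/
structure Good (S : ShortComplex (CochainComplex A ℤ)) : Prop where
  se : S.ShortExact
  terms : ∀ i, RightAcyclic F (S.X₂.X i)
  acyclic : ∀ i, S.X₂.ExactAt i

lemma Good.eval {S : ShortComplex (CochainComplex A ℤ)} (h : Good F S) (i : ℤ) :
    (S.map (HomologicalComplex.eval A _ i)).ShortExact :=
  h.se.map_of_exact (HomologicalComplex.eval A _ i)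

/-- The connecting morphism of complexes. -/
noncomputable def bdry (S : ShortComplex (CochainComplex A ℤ)) (h : Good F S) (j : ℕ) :
    (R F j).obj S.X₃ ⟶ (R F (j + 1)).obj S.X₁ where
  f i := (les F).δ _ (h.eval F i) j (j + 1) rfl
  comm' i k _ := ((les F).δ_natural (h.eval F i) (h.eval F k)
    { τ₁ := S.X₁.d i k, τ₂ := S.X₂.d i k, τ₃ := S.X₃.d i k
      comm₁₂ := (S.f.comm i k).symm
      comm₂₃ := (S.g.comm i k).symm } j (j + 1) rfl).symm

lemma bdry_natural {S S' : ShortComplex (CochainComplex A ℤ)} (h : Good F S) (h' : Good F S') (φ : S ⟶ S') (j : ℕ) :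
    (R F j).map φ.τ₃ ≫ bdry F S' h' j = bdry F S h j ≫ (R F (j + 1)).map φ.τ₁ := by
  ext i
  exact (les F).δ_natural (h.eval F i) (h'.eval F i)
    { τ₁ := φ.τ₁.f i, τ₂ := φ.τ₂.f i, τ₃ := φ.τ₃.f i
      comm₁₂ := HomologicalComplex.congr_hom φ.comm₁₂ i
      comm₂₃ := HomologicalComplex.congr_hom φ.comm₂₃ i } j (j + 1) rfl

lemma map_g_bdry {S : ShortComplex (CochainComplex A ℤ)} (h : Good F S) (j : ℕ) :
    (R F j).map S.g ≫ bdry F S h j = 0 := by
  ext i
  exact (les F).comp_δ _ (h.eval F i) j (j + 1) rfl

lemma epi_bdry_f {S : ShortComplex (CochainComplex A ℤ)} (h : Good F S) (j : ℕ) (i : ℤ) : Epi ((bdry F S h j).f i) :=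
  ((les F).exact₁ _ (h.eval F i) j (j + 1) rfl).epi_f ((h.terms i j).eq_of_tgt _ _)

/-- A short exact sequence of complexes with acyclic first term gives a quasi-isomorphism. -/
lemma quasiIso_g {T : ShortComplex (CochainComplex B ℤ)} (hT : T.ShortExact) (h₁ : ∀ i, T.X₁.ExactAt i) :
    QuasiIso T.g := by
  rw [quasiIso_iff]
  intro i
  rw [quasiIsoAt_iff_isIso_homologyMap]
  have := (hT.homology_exact₂ i).mono_g ((((exactAt_iff_isZero_homology _ _).1 (h₁ i))).eq_of_src _ _)
  have := (hT.homology_exact₃ i (i + 1) (by simp)).epi_f ((((exactAt_iff_isZero_homology _ _).1 (h₁ (i + 1)))).eq_of_tgt _ _)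
  exact isIso_of_mono_of_epi _

variable (n : ℕ) (hn : ∀ X : A, IsZero ((F.rightDerived (n + 1)).obj X))

include hn in
lemma exactAt_R_zero_middle {S : ShortComplex (CochainComplex A ℤ)} (h : Good F S) (i : ℤ) :
    ((R F 0).obj S.X₂).ExactAt i :=
  (Groth.Agent.FiniteDim.exactAt_map F (n + 1) hn S.X₂ h.acyclic h.terms i).of_iso
    ((NatIso.mapHomologicalComplex F.rightDerivedZeroIsoSelf (ComplexShape.up ℤ)).app S.X₂).symm

lemma mono_R_zero_f {S : ShortComplex (CochainComplex A ℤ)} (h : Good F S) (i : ℤ) :
    Mono (((R F 0).map S.f).f i) := by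
  change Mono ((F.rightDerived 0).map (S.f.f i))
  have : Mono (S.f.f i) := (h.eval F i).mono_f
  rw [← NatIso.naturality_2 F.rightDerivedZeroIsoSelf (S.f.f i)]
  infer_instance

include hn in
/-- The connecting morphism is a quasi-isomorphism when the relevant first term is acyclic. -/
theorem quasiIso_bdry {S : ShortComplex (CochainComplex A ℤ)} (h : Good F S) (j : ℕ)
    (hj : ∀ i, ((R F j).obj S.X₁).ExactAt i) : QuasiIso (bdry F S h j) := by
  cases j with
  | succ j =>
    have : ∀ i, IsIso ((bdry F S h (j + 1)).f i) := fun i => by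
      have := epi_bdry_f F h (j + 1) i
      have : Mono ((bdry F S h (j + 1)).f i) :=
        ((les F).exact₃ _ (h.eval F i) (j + 1) (j + 1 + 1) rfl).mono_g ((h.terms i j).eq_of_src _ _)
      exact isIso_of_mono_of_epi _
    have : IsIso (bdry F S h (j + 1)) := HomologicalComplex.Hom.isIso_of_components _
    infer_instance
  | zero =>
    let T : ShortComplex (CochainComplex B ℤ) := ShortComplex.mk (kernel.ι (bdry F S h 0)) (bdry F S h 0) (kernel.condition _)
    have : Epi (bdry F S h 0) := HomologicalComplex.epi_of_epi_f _ (epi_bdry_f F h 0)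
    have hT : T.ShortExact := { exact := ShortComplex.exact_of_f_is_kernel _ (kernelIsKernel _) }
    let g : (R F 0).obj S.X₂ ⟶ kernel (bdry F S h 0) := kernel.lift _ _ (map_g_bdry F h 0)
    have hw : (R F 0).map S.f ≫ g = 0 := by
      rw [← cancel_mono (kernel.ι _), Category.assoc, kernel.lift_ι, ← Functor.map_comp, S.zero, Functor.map_zero, zero_comp]
    let U : ShortComplex (CochainComplex B ℤ) := ShortComplex.mk ((R F 0).map S.f) g hw
    have hg : Epi g := by
      refine (ShortComplex.exact_iff_epi_kernel_lift (ShortComplex.mk ((R F 0).map S.g) (bdry F S h 0) (map_g_bdry F h 0))).1 ?_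
      exact HomologicalComplex.exact_of_degreewise_exact _ fun i => (les F).exact₃ _ (h.eval F i) 0 1 rfl
    have hU : U.ShortExact :=
      { exact := by
          let φ : U ⟶ ShortComplex.mk ((R F 0).map S.f) ((R F 0).map S.g)
              (by rw [← Functor.map_comp, S.zero, Functor.map_zero]) :=
            { τ₁ := 𝟙 _, τ₂ := 𝟙 _, τ₃ := kernel.ι _
              comm₁₂ := by simp [U]
              comm₂₃ := by simp [U, g] }
          exact (ShortComplex.exact_iff_of_epi_of_isIso_of_mono φ).2
            (HomologicalComplex.exact_of_degreewise_exact _ fun i => (les F).exact₂ _ (h.eval F i) 0)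
        mono_f := HomologicalComplex.mono_of_mono_f _ (mono_R_zero_f F h)
        epi_g := hg }
    refine quasiIso_g hT fun i => ?_
    have h2 := (exactAt_iff_isZero_homology _ _).1 (exactAt_R_zero_middle F n hn h i)
    have h1 := (exactAt_iff_isZero_homology _ _).1 (hj (i + 1))
    rw [exactAt_iff_isZero_homology]
    exact (hU.homology_exact₃ i (i + 1) (by simp)).isZero_X₂ (h2.eq_of_src _ _) (h1.eq_of_tgt _ _)

include hn in
lemma exactAt_R_X₃ {S : ShortComplex (CochainComplex A ℤ)} (h : Good F S) (j : ℕ)
    (hj : ∀ i, ((R F j).obj S.X₁).ExactAt i) (hj' : ∀ i, ((R F (j + 1)).obj S.X₁).ExactAt i) (i : ℤ) :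
    ((R F j).obj S.X₃).ExactAt i := by
  have := quasiIso_bdry F n hn h j hj
  exact (exactAt_iff_of_quasiIsoAt (bdry F S h j) i).2 (hj' i)

include hn in
lemma exactAt_R_middle {S : ShortComplex (CochainComplex A ℤ)} (h : Good F S) (j : ℕ) (i : ℤ) :
    ((R F j).obj S.X₂).ExactAt i := by
  cases j with
  | zero => exact exactAt_R_zero_middle F n hn h i
  | succ j => exact ShortComplex.exact_of_isZero_X₂ _ (h.terms i j)

/-- The cone replacing the first term of a short exact sequence. -/
noncomputable abbrev coneS (S : ShortComplex (CochainComplex A ℤ)) : CochainComplex A ℤ :=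
  (mappingCone S.g)⟦(-1 : ℤ)⟧

/-- A morphism of short complexes on the cones. -/
noncomputable def coneMap {S S' : ShortComplex (CochainComplex A ℤ)} (φ : S ⟶ S') : mappingCone S.g ⟶ mappingCone S'.g :=
  mappingCone.map S.g S'.g φ.τ₂ φ.τ₃ φ.comm₂₃.symm

/-- The first term, shifted, inside the cone. -/
noncomputable def toCone (S : ShortComplex (CochainComplex A ℤ)) : S.X₁⟦(1 : ℤ)⟧ ⟶ mappingCone S.g where
  f i := (S.X₁.shiftFunctorObjXIso 1 i (i + 1) rfl).hom ≫ S.f.f (i + 1) ≫ (mappingCone.inl S.g).v (i + 1) i (by lia)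
  comm' i k hik := by
    obtain rfl : i + 1 = k := hik
    simp only [shiftFunctor_obj_X, shiftFunctor_obj_d', shiftFunctorObjXIso, Category.assoc]
    rw [mappingCone.inl_v_d S.g (i + 1) i (i + 1 + 1) (by lia) (by lia)]
    simp [← HomologicalComplex.comp_f_assoc, S.zero]

lemma toCone_natural {S S' : ShortComplex (CochainComplex A ℤ)} (φ : S ⟶ S') :
    φ.τ₁⟦(1 : ℤ)⟧' ≫ toCone S' = toCone S ≫ coneMap φ := by
  ext i
  apply mappingCone.ext_to _ i (i + 1) rfl
  · have h := HomologicalComplex.congr_hom φ.comm₁₂ (i + 1)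
    dsimp at h
    simp [toCone, coneMap, mappingCone.map, h]
  · simp [toCone, coneMap, mappingCone.map]

/-- The morphism from the first term to the shifted cone. -/
noncomputable def toConeS (S : ShortComplex (CochainComplex A ℤ)) : S.X₁ ⟶ coneS S :=
  (shiftFunctorCompIsoId (CochainComplex A ℤ) (1 : ℤ) (-1) (by omega)).inv.app S.X₁ ≫ (toCone S)⟦(-1 : ℤ)⟧'

lemma toConeS_natural {S S' : ShortComplex (CochainComplex A ℤ)} (φ : S ⟶ S') :
    φ.τ₁ ≫ toConeS S' = toConeS S ≫ (coneMap φ)⟦(-1 : ℤ)⟧' := by
  rw [toConeS, toConeS, Category.assoc, ← Functor.map_comp, ← toCone_natural, Functor.map_comp]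
  exact (Category.assoc _ _ _).symm.trans ((congrArg (· ≫ _)
    ((shiftFunctorCompIsoId (CochainComplex A ℤ) (1 : ℤ) (-1) (by omega)).inv.naturality φ.τ₁)).trans (Category.assoc _ _ _))

/-- The terms of a mapping cone. -/
noncomputable def coneX {K L : CochainComplex A ℤ} (φ : K ⟶ L) (i : ℤ) :
    K.X (i + 1) ⊞ L.X i ≅ (mappingCone φ).X i where
  hom := biprod.desc ((mappingCone.inl φ).v (i + 1) i (by lia)) ((mappingCone.inr φ).f i)
  inv := biprod.lift ((mappingCone.fst φ).1.v i (i + 1) rfl) ((mappingCone.snd φ).v i i (add_zero i))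
  hom_inv_id := by apply biprod.hom_ext' <;> apply biprod.hom_ext <;> simp
  inv_hom_id := by apply mappingCone.ext_from _ (i + 1) i rfl <;> simp

/-- The morphism from the first term is a quasi-isomorphism. -/
theorem quasiIso_toCone {S : ShortComplex (CochainComplex A ℤ)} (hS : S.ShortExact) : QuasiIso (toCone S) := by
  let q : mappingCone S.g ⟶ mappingCone (𝟙 S.X₃) := mappingCone.map S.g (𝟙 _) S.g (𝟙 _) (by simp)
  have w : toCone S ≫ q = 0 := by
    ext i
    simp [toCone, q, mappingCone.map, ← HomologicalComplex.comp_f_assoc, S.zero]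
  let T : ShortComplex (CochainComplex A ℤ) := ShortComplex.mk (toCone S) q w
  have hT : T.ShortExact := by
    refine HomologicalComplex.shortExact_of_degreewise_shortExact _ fun i => ?_
    have h1 := hS.map_of_exact (HomologicalComplex.eval A _ (i + 1))
    let T' : ShortComplex A := ShortComplex.mk (biprod.lift (S.f.f (i + 1)) (0 : _ ⟶ S.X₃.X i))
      (biprod.map (S.g.f (i + 1)) (𝟙 (S.X₃.X i))) (by
        apply biprod.hom_ext <;> simp [← HomologicalComplex.comp_f, S.zero])
    have : Mono (S.f.f (i + 1)) := h1.mono_f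
    have : Epi (S.g.f (i + 1)) := h1.epi_g
    have hT' : T'.ShortExact :=
      { exact := by
          refine ShortComplex.exact_of_f_is_kernel _ (KernelFork.IsLimit.ofι' _ _ fun {W} k hk => ?_)
          have hk1 : (k ≫ biprod.fst) ≫ S.g.f (i + 1) = 0 := by
            have := congrArg (· ≫ biprod.fst) hk
            simpa [T'] using this
          have hk2 : k ≫ biprod.snd = 0 := by
            have := congrArg (· ≫ biprod.snd) hk
            simpa [T'] using this
          refine ⟨h1.fIsKernel.lift (KernelFork.ofι (k ≫ biprod.fst) hk1), ?_⟩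
          apply biprod.hom_ext
          · simp only [T', Category.assoc, biprod.lift_fst]
            exact h1.fIsKernel.fac _ WalkingParallelPair.zero
          · simp [T', hk2]
        mono_f := mono_of_mono_fac (show biprod.lift (S.f.f (i + 1)) 0 ≫ biprod.fst = S.f.f (i + 1) by simp)
        epi_g := inferInstanceAs (Epi (biprod.map _ _)) }
    refine ShortComplex.shortExact_of_iso (ShortComplex.isoMk (S₁ := T')
      (S₂ := T.map (HomologicalComplex.eval A _ i))
      (S.X₁.shiftFunctorObjXIso 1 i (i + 1) rfl).symm (coneX S.g i) (coneX (𝟙 S.X₃) i) ?_ ?_) hT'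
    · simp [T, T', toCone, coneX]
    · apply biprod.hom_ext' <;> simp [T, T', q, coneX, mappingCone.map]
  exact Groth.Agent.InjResSES.quasiIso_f_of_acyclic T hT (Groth.Agent.FiniteDim.acyclic_cone_id S.X₃)

/-- The morphism of complexes from the derived cone to the next derived functor. -/
noncomputable def coneBdry (S : ShortComplex (CochainComplex A ℤ)) (h : Good F S) (m : ℕ) :
    (R F m).obj (mappingCone S.g) ⟶ (R F (m + 1)).obj S.X₁ where
  f i := (F.rightDerived m).map ((mappingCone.snd S.g).v i i (add_zero i)) ≫ (bdry F S h m).f i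
  comm' i k hik := by
    obtain rfl : i + 1 = k := hik
    have h1 := (bdry F S h m).comm i (i + 1)
    have h2 : (F.rightDerived m).map (S.g.f (i + 1)) ≫ (bdry F S h m).f (i + 1) = 0 :=
      HomologicalComplex.congr_hom (map_g_bdry F h m) (i + 1)
    dsimp at h1 ⊢
    rw [← Functor.map_comp_assoc, mappingCone.d_snd_v S.g i (i + 1) rfl, Functor.map_add, Preadditive.add_comp,
      Functor.map_comp, Functor.map_comp, Category.assoc, Category.assoc, Category.assoc, h2, comp_zero, zero_add, h1]

lemma coneBdry_natural {S S' : ShortComplex (CochainComplex A ℤ)} (h : Good F S) (h' : Good F S') (φ : S ⟶ S') (m : ℕ) :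
    (R F m).map (coneMap φ) ≫ coneBdry F S' h' m = coneBdry F S h m ≫ (R F (m + 1)).map φ.τ₁ := by
  ext i
  have h1 : (coneMap φ).f i ≫ (mappingCone.snd S'.g).v i i (add_zero i) =
      (mappingCone.snd S.g).v i i (add_zero i) ≫ φ.τ₃.f i := by
    apply mappingCone.ext_from _ (i + 1) i rfl <;> simp [coneMap, mappingCone.map]
  have h2 := HomologicalComplex.congr_hom (bdry_natural F h h' φ m) i
  dsimp [coneBdry] at h2 ⊢
  rw [← Functor.map_comp_assoc, h1, Functor.map_comp, Category.assoc, h2, Category.assoc]

include hn in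
lemma exactAt_R_cone {S : ShortComplex (CochainComplex A ℤ)} (h : Good F S) (j : ℕ)
    (hj : ∀ i, ((R F j).obj S.X₃).ExactAt i) (i : ℤ) : ((R F j).obj (mappingCone S.g)).ExactAt i := by
  let ψ := (R F j).map S.g
  have : QuasiIso ψ := by
    rw [quasiIso_iff]
    exact fun k => (quasiIsoAt_iff_exactAt ψ k (exactAt_R_middle F n hn h j k)).2 (hj k)
  have : ∀ k, (mappingCone ψ).ExactAt k := by
    rw [← HomotopyCategory.quotient_obj_mem_subcategoryAcyclic_iff_exactAt]
    refine ((HomotopyCategory.subcategoryAcyclic B).trW_iff_of_distinguished _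
      (HomotopyCategory.mappingCone_triangleh_distinguished ψ)).1 ?_
    rw [← HomotopyCategory.quasiIso_eq_trW_subcategoryAcyclic]
    exact (HomotopyCategory.quotient_map_mem_quasiIso_iff ψ).2 (show QuasiIso ψ from inferInstance)
  exact (this i).of_iso (mappingCone.mapHomologicalComplexIso S.g (F.rightDerived j)).symm

include hn in
/-- The cone morphism is a quasi-isomorphism when the first term has acyclic derived complex. -/
theorem quasiIso_coneBdry {S : ShortComplex (CochainComplex A ℤ)} (h : Good F S) (m : ℕ)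
    (hm : ∀ i, ((R F m).obj S.X₁).ExactAt i) : QuasiIso (coneBdry F S h m) := by
  let e : (R F m).obj S.X₃ ⟶ (R F m).obj (mappingCone S.g) := (R F m).map (mappingCone.inr S.g)
  have he : e ≫ coneBdry F S h m = bdry F S h m := by
    ext i
    dsimp [e, coneBdry]
    rw [← Functor.map_comp_assoc, mappingCone.inr_f_snd_v]
    exact (congrArg (· ≫ (bdry F S h m).f i) ((F.rightDerived m).map_id _)).trans (Category.id_comp _)
  have : QuasiIso e := by
    let ψ := (R F m).map S.g
    have hi : QuasiIso (mappingCone.inr ψ) := by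
      refine (HomotopyCategory.quotient_map_mem_quasiIso_iff _).1 ?_
      rw [HomotopyCategory.quasiIso_eq_trW_subcategoryAcyclic]
      refine ((HomotopyCategory.subcategoryAcyclic B).trW_iff_of_distinguished' _
        (HomotopyCategory.mappingCone_triangleh_distinguished ψ)).2 ?_
      have := (HomotopyCategory.subcategoryAcyclic B)
      exact (HomotopyCategory.quotient_obj_mem_subcategoryAcyclic_iff_exactAt _).2
        (fun k => exactAt_R_middle F n hn h m k)
    have : e ≫ (mappingCone.mapHomologicalComplexIso S.g (F.rightDerived m)).hom = mappingCone.inr ψ :=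
      mappingCone.map_inr S.g (F.rightDerived m)
    rw [← this] at hi
    exact quasiIso_of_comp_right e (mappingCone.mapHomologicalComplexIso S.g (F.rightDerived m)).hom
  have := quasiIso_bdry F n hn h m hm
  rw [← he] at this
  exact quasiIso_of_comp_left e (coneBdry F S h m)

end Groth.Misc4.CdShift
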