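import Groth.Agent.Misc4.CdShift

/-!
The natural comparison between the total right derived functor and the shifted top derived functor.
-/

universe w w' v v' u u'

set_option backward.defeqAttrib.useBackward true
set_option backward.isDefEq.respectTransparency false
set_option linter.unusedSectionVars false

open CategoryTheory CategoryTheory.Limits HomologicalComplex CochainComplex
open Groth.CohFin

namespace Groth.Misc4.CdShift

variable {A : Type u} [Category.{v} A] [Abelian A] [HasDerivedCategory.{w} A] [EnoughInjectives A]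
  {B : Type u'} [Category.{v'} B] [Abelian B] [HasDerivedCategory.{w'} B]
  (F : A ⥤ B) [F.Additive] [PreservesFiniteLimits F]

lemma exactAt_shift {K : CochainComplex B ℤ} (a i : ℤ) (h : K.ExactAt (a + i)) : (K⟦a⟧).ExactAt i := by
  rw [exactAt_iff' _ (i - 1) i (i + 1) (by simp) (by simp)]
  rw [exactAt_iff' _ (a + (i - 1)) (a + i) (a + (i + 1)) (by simp; omega) (by simp; omega)] at h
  exact ShortComplex.exact_of_iso
    ((CochainComplex.shiftShortComplexFunctor' B a (i - 1) i (i + 1) _ _ _ rfl rfl rfl).app K).symm h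

lemma isIso_Q_map_shift {C : Type*} [Category C] [Abelian C] [HasDerivedCategory C] {K L : CochainComplex C ℤ}
    (f : K ⟶ L) (a : ℤ) [QuasiIso f] : IsIso (DerivedCategory.Q.map (f⟦a⟧')) := by
  have : IsIso (DerivedCategory.Q.map f) := (DerivedCategory.isIso_Q_map_iff_quasiIso _ f).2 inferInstance
  exact (NatIso.isIso_map_iff (DerivedCategory.Q.commShiftIso a) f).2 (inferInstanceAs (IsIso ((DerivedCategory.Q.map f)⟦a⟧')))

/-- Terms of dimension at most `m`. -/
def Dim (m : ℕ) (K : CochainComplex A ℤ) : Prop :=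
  ∀ (i : ℤ) (j : ℕ), m < j → IsZero ((F.rightDerived j).obj (K.X i))

/-- The target of the comparison. -/
noncomputable abbrev T (m : ℕ) : CochainComplex A ℤ ⥤ DerivedCategory B :=
  R F m ⋙ CategoryTheory.shiftFunctor (CochainComplex B ℤ) (-(m : ℤ)) ⋙ DerivedCategory.Q

variable {F}

lemma Dim.cone {S : ShortComplex (CochainComplex A ℤ)} (h : Good F S) (m : ℕ) (hd : Dim F (m + 1) S.X₁) :
    Dim F m (coneS S) := by
  intro i j hj
  obtain ⟨j, rfl⟩ := Nat.exists_eq_succ_of_ne_zero (by omega : j ≠ 0)
  have h3 : IsZero ((F.rightDerived (j + 1)).obj (S.X₃.X (i + -1))) :=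
    ((les F).exact₃ _ (h.eval F (i + -1)) (j + 1) (j + 1 + 1) rfl).isZero_of_both_zeros
      ((h.terms _ j).eq_of_src _ _) ((hd _ _ (by omega)).eq_of_tgt _ _)
  refine IsZero.of_iso ?_ ((F.rightDerived (j + 1)).mapIso (coneX S.g (i + -1)).symm)
  haveI := preservesBinaryBiproducts_of_preservesBiproducts (F.rightDerived (j + 1))
  refine IsZero.of_iso ?_ ((F.rightDerived (j + 1)).mapBiprod _ _)
  exact (biprod_isZero_iff _ _).2 ⟨h.terms _ j, h3⟩

/-- The step of the comparison. -/
noncomputable def stepMap (S : ShortComplex (CochainComplex A ℤ)) (h : Good F S) (m : ℕ) :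
    (T F m).obj (coneS S) ⟶ (T F (m + 1)).obj S.X₁ :=
  DerivedCategory.Q.map
    ((((R F m).commShiftIso (-1 : ℤ)).hom.app (mappingCone S.g) ≫ (coneBdry F S h m)⟦(-1 : ℤ)⟧')⟦-(m : ℤ)⟧' ≫
      (CategoryTheory.shiftFunctorAdd' (CochainComplex B ℤ) (-1 : ℤ) (-(m : ℤ)) (-((m + 1 : ℕ) : ℤ)) (by push_cast; ring)).inv.app _)

lemma stepMap_natural {S S' : ShortComplex (CochainComplex A ℤ)} (h : Good F S) (h' : Good F S') (φ : S ⟶ S') (m : ℕ) :
    (T F m).map ((coneMap φ)⟦(-1 : ℤ)⟧') ≫ stepMap S' h' m = stepMap S h m ≫ (T F (m + 1)).map φ.τ₁ := by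
  simp only [stepMap, Functor.comp_map, ← Functor.map_comp]
  congr 1
  have h1 := ((R F m).commShiftIso (-1 : ℤ)).hom.naturality (coneMap φ)
  have h2 := (CategoryTheory.shiftFunctorAdd' (CochainComplex B ℤ) (-1 : ℤ) (-(m : ℤ)) (-((m + 1 : ℕ) : ℤ))
    (by push_cast; ring)).inv.naturality ((R F (m + 1)).map φ.τ₁)
  dsimp only [Functor.comp_map] at h1 h2
  rw [Category.assoc, ← h2, ← Functor.map_comp_assoc, reassoc_of% h1, ← Functor.map_comp,
    coneBdry_natural F h h' φ m, Functor.map_comp, Functor.map_comp, Category.assoc]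
  simp

variable (n : ℕ) (hn : ∀ X : A, IsZero ((F.rightDerived (n + 1)).obj X))
variable (RF : DerivedCategory A ⥤ DerivedCategory B)
  (β : F.mapHomologicalComplex (ComplexShape.up ℤ) ⋙ DerivedCategory.Q ⟶ DerivedCategory.Q ⋙ RF)
  (hβ : ∀ K : CochainComplex A ℤ, (∀ i, RightAcyclic F (K.X i)) → IsIso (β.app K))

/-- A short exact sequence starting at a given complex. -/
lemma exists_good (K : CochainComplex A ℤ) : ∃ (E : CochainComplex A ℤ) (a : K ⟶ E),
    Mono a ∧ (∀ i, Injective (E.X i)) ∧ ∀ i, E.ExactAt i := by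
  refine ⟨mappingCone (𝟙 (cm5b.I K)), cm5b.i (𝟙 K) ≫ biprod.fst, ?_, fun i => inferInstance,
    Groth.Agent.FiniteDim.acyclic_cone_id _⟩
  refine HomologicalComplex.mono_of_mono_f _ fun i => ?_
  exact mono_of_mono_fac (show (cm5b.i (𝟙 K) ≫ biprod.fst).f i ≫ (mappingCone.snd _).v i i (add_zero i) = _ from
    (Category.assoc _ _ _).trans (cm5b.i_f_comp (𝟙 K) i))

lemma good_cokernel {K E : CochainComplex A ℤ} (a : K ⟶ E) [Mono a] (hi : ∀ i, RightAcyclic F (E.X i))
    (he : ∀ i, E.ExactAt i) : Good F (ShortComplex.mk a (cokernel.π a) (cokernel.condition a)) where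
  se := Groth.Agent.FiniteDim.cokerShortExact a
  terms := hi
  acyclic := he

include hn hβ in
/-- The comparison transformation, with its naturality and invertibility. -/
theorem exists_tau : ∀ m : ℕ, ∃ τ : ∀ K : CochainComplex A ℤ, Dim F m K →
      (RF.obj (DerivedCategory.Q.obj K) ⟶ (T F m).obj K),
    (∀ ⦃K L : CochainComplex A ℤ⦄ (f : K ⟶ L) (hK : Dim F m K) (hL : Dim F m L),
      RF.map (DerivedCategory.Q.map f) ≫ τ L hL = τ K hK ≫ (T F m).map f) ∧
    ∀ (K : CochainComplex A ℤ) (hK : Dim F m K),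
      (∀ j < m, ∀ i, ((R F j).obj K).ExactAt i) → IsIso (τ K hK)
  | 0 => by
    have hac : ∀ K, Dim F 0 K → ∀ i, RightAcyclic F (K.X i) := fun K hK i j => hK i (j + 1) (Nat.succ_pos j)
    let e : F.mapHomologicalComplex (ComplexShape.up ℤ) ⋙ DerivedCategory.Q ≅ T F 0 :=
      Functor.isoWhiskerRight ((NatIso.mapHomologicalComplex F.rightDerivedZeroIsoSelf (ComplexShape.up ℤ)).symm ≪≫
        (Functor.rightUnitor _).symm ≪≫ Functor.isoWhiskerLeft (R F 0)
          ((CategoryTheory.shiftFunctorZero (CochainComplex B ℤ) ℤ).symm ≪≫ eqToIso (by norm_num))) DerivedCategory.Q ≪≫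
      Functor.associator _ _ _
    refine ⟨fun K hK => haveI := hβ K (hac K hK); inv (β.app K) ≫ e.hom.app K, fun K L f hK hL => ?_, fun K hK _ => ?_⟩
    · have := hβ K (hac K hK); have := hβ L (hac L hL)
      have h1 := β.naturality f
      dsimp only [Functor.comp_map] at h1
      rw [Category.assoc, ← e.hom.naturality f, ← Category.assoc, ← Category.assoc]
      congr 1
      rw [IsIso.comp_inv_eq, Category.assoc]
      erw [h1]
      rw [IsIso.inv_hom_id_assoc]
    · have := hβ K (hac K hK)
      infer_instance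
  | m + 1 => by
    obtain ⟨τ, hnat, hiso⟩ := exists_tau m
    let Φ : ∀ (S : ShortComplex (CochainComplex A ℤ)) (h : Good F S), Dim F (m + 1) S.X₁ →
        (RF.obj (DerivedCategory.Q.obj S.X₁) ⟶ (T F (m + 1)).obj S.X₁) := fun S h hd =>
      RF.map (DerivedCategory.Q.map (toConeS S)) ≫ τ (coneS S) (hd.cone h m) ≫ stepMap S h m
    have hΦ : ∀ ⦃S S' : ShortComplex (CochainComplex A ℤ)⦄ (φ : S ⟶ S') (h : Good F S) (h' : Good F S')
        (hd : Dim F (m + 1) S.X₁) (hd' : Dim F (m + 1) S'.X₁),
        RF.map (DerivedCategory.Q.map φ.τ₁) ≫ Φ S' h' hd' = Φ S h hd ≫ (T F (m + 1)).map φ.τ₁ := by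
      intro S S' φ h h' hd hd'
      simp only [Φ, Category.assoc]
      rw [← Functor.map_comp_assoc, ← Functor.map_comp, toConeS_natural φ, Functor.map_comp, Functor.map_comp,
        Category.assoc, reassoc_of% (hnat ((coneMap φ)⟦(-1 : ℤ)⟧') (hd.cone h m) (hd'.cone h' m))]
      erw [stepMap_natural h h' φ m]
    choose E a ha hinj hex using fun K : CochainComplex A ℤ => exists_good K
    have hg := fun K => good_cokernel (F := F) (a K) (fun i => haveI := hinj K i; rightAcyclic_of_injective F _) (hex K)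
    refine ⟨fun K hK => Φ _ (hg K) hK, fun K L f hK hL => ?_, fun K hK hj => ?_⟩
    · let b : K ⟶ E K ⊞ E L := biprod.lift (a K) (f ≫ a L)
      have := ha K
      have : Mono b := mono_of_mono_fac (show b ≫ biprod.fst = a K by simp [b])
      have hb := good_cokernel (F := F) b
        (fun i => haveI := hinj K i; haveI := hinj L i
          haveI : Injective ((E K ⊞ E L).X i) := Injective.of_iso
            ((HomologicalComplex.eval A (ComplexShape.up ℤ) i).mapBiprod (E K) (E L)).symm
            (inferInstanceAs (Injective ((E K).X i ⊞ (E L).X i)))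
          rightAcyclic_of_injective F _)
        (fun i => by
          have hz : ∀ M : CochainComplex A ℤ, M.ExactAt i → IsZero ((homologyFunctor A (ComplexShape.up ℤ) i).obj M) :=
            fun M hM => (exactAt_iff_isZero_homology _ _).1 hM
          rw [exactAt_iff_isZero_homology]
          haveI := preservesBinaryBiproducts_of_preservesBiproducts (homologyFunctor A (ComplexShape.up ℤ) i)
          exact IsZero.of_iso ((biprod_isZero_iff _ _).2 ⟨hz _ (hex K i), hz _ (hex L i)⟩)
            ((homologyFunctor A (ComplexShape.up ℤ) i).mapBiprod (E K) (E L)))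
      let p : ShortComplex.mk b (cokernel.π b) (cokernel.condition b) ⟶
          ShortComplex.mk (a K) (cokernel.π (a K)) (cokernel.condition _) :=
        { τ₁ := 𝟙 K, τ₂ := biprod.fst
          τ₃ := cokernel.desc b (biprod.fst ≫ cokernel.π (a K)) (by simp [b])
          comm₁₂ := by simp [b] }
      let q : ShortComplex.mk b (cokernel.π b) (cokernel.condition b) ⟶
          ShortComplex.mk (a L) (cokernel.π (a L)) (cokernel.condition _) :=
        { τ₁ := f, τ₂ := biprod.snd
          τ₃ := cokernel.desc b (biprod.snd ≫ cokernel.π (a L)) (by simp [b])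
          comm₁₂ := by simp [b] }
      have h1 := hΦ p hb (hg K) hK hK
      have h2 := hΦ q hb (hg L) hK hL
      simp only [p, CategoryTheory.Functor.map_id, Category.id_comp, Category.comp_id] at h1
      change RF.map _ ≫ Φ _ (hg L) hL = Φ _ (hg K) hK ≫ _
      rw [h1]
      exact h2
    · have h := hg K
      let S : ShortComplex (CochainComplex A ℤ) := ShortComplex.mk (a K) (cokernel.π (a K)) (cokernel.condition _)
      have : IsIso (DerivedCategory.Q.map (toConeS S)) := by
        have := quasiIso_toCone h.se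
        have := isIso_Q_map_shift (toCone S) (-1 : ℤ)
        rw [toConeS, Functor.map_comp]
        infer_instance
      have : IsIso (τ (coneS S) (Dim.cone h m hK)) := hiso _ _ fun j hjm i => by
        refine HomologicalComplex.ExactAt.of_iso ?_ (((R F j).commShiftIso (-1 : ℤ)).app _).symm
        refine exactAt_shift _ _ (exactAt_R_cone F n hn h j (fun k => ?_) _)
        exact exactAt_R_X₃ F n hn h j (hj j (by omega)) (hj (j + 1) (by omega)) k
      have : IsIso (stepMap S h m) := by
        have := quasiIso_coneBdry F n hn h m (hj m (by omega))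
        have : QuasiIso (((R F m).commShiftIso (-1 : ℤ)).hom.app (mappingCone S.g) ≫ (coneBdry F S h m)⟦(-1 : ℤ)⟧') := by
          have := isIso_Q_map_shift (coneBdry F S h m) (-1 : ℤ)
          rw [← DerivedCategory.isIso_Q_map_iff_quasiIso, Functor.map_comp]
          infer_instance
        have := isIso_Q_map_shift (((R F m).commShiftIso (-1 : ℤ)).hom.app (mappingCone S.g) ≫
          (coneBdry F S h m)⟦(-1 : ℤ)⟧') (-(m : ℤ))
        rw [stepMap, Functor.map_comp]
        infer_instance
      change IsIso (RF.map (DerivedCategory.Q.map (toConeS S)) ≫ τ (coneS S) (Dim.cone h m hK) ≫ stepMap S h m)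
      infer_instance

end Groth.Misc4.CdShift
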