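import Groth.Agent.Misc4.AdaptedKan
import Groth.Agent.Misc4.CdTau

/-!
The total right derived functor of a functor of cohomological dimension at most `n` is the shifted total left
derived functor of its top derived functor, when enough objects have only top derived functor.
-/

universe w w' v v' u u'

set_option backward.defeqAttrib.useBackward true
set_option backward.isDefEq.respectTransparency false
set_option linter.unusedSectionVars false

open CategoryTheory CategoryTheory.Limits HomologicalComplex CochainComplex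
open Groth.CohFin

namespace Groth.Misc4.CdShift

variable {A : Type u} [Category.{v} A] [Abelian A] [HasDerivedCategory.{w} A] [EnoughInjectives A]
  {B : Type u'} [Category.{v'} B] [Abelian B] [HasDerivedCategory.{w'} B]
  (F : A ⥤ B) [F.Additive] [PreservesFiniteLimits F] (n : ℕ)

local notation "WA" => HomologicalComplex.quasiIso A (ComplexShape.up ℤ)
local notation "FQ" => Functor.mapHomologicalComplex F (ComplexShape.up ℤ) ⋙ DerivedCategory.Q

/-- Existence of a right derived functor computed by complexes of acyclic objects. -/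
theorem exists_rightDerived (hn : ∀ X : A, IsZero ((F.rightDerived (n + 1)).obj X)) :
    ∃ (RF : DerivedCategory A ⥤ DerivedCategory B) (β : FQ ⟶ DerivedCategory.Q ⋙ RF),
      (∀ K : CochainComplex A ℤ, (∀ i, RightAcyclic F (K.X i)) → IsIso (β.app K)) ∧
      RF.IsRightDerivedFunctor β WA := by
  have := Groth.Agent.FiniteDim.hasRightDerived F (n + 1) hn
  let G₀ := F.mapHomotopyCategory (ComplexShape.up ℤ) ⋙ DerivedCategory.Qh
  let RF := G₀.totalRightDerived DerivedCategory.Qh (HomotopyCategory.quasiIso A (ComplexShape.up ℤ))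
  let η := G₀.totalRightDerivedUnit DerivedCategory.Qh (HomotopyCategory.quasiIso A (ComplexShape.up ℤ))
  let e₁ : FQ ≅ HomotopyCategory.quotient A (ComplexShape.up ℤ) ⋙ G₀ :=
    Functor.isoWhiskerLeft _ (DerivedCategory.quotientCompQhIso B).symm ≪≫ (Functor.associator _ _ _).symm ≪≫
      Functor.isoWhiskerRight (F.mapHomotopyCategoryFactors (ComplexShape.up ℤ)).symm DerivedCategory.Qh ≪≫
      Functor.associator _ _ _
  let e₂ : HomotopyCategory.quotient A (ComplexShape.up ℤ) ⋙ DerivedCategory.Qh ⋙ RF ≅ DerivedCategory.Q ⋙ RF :=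
    (Functor.associator _ _ _).symm ≪≫ Functor.isoWhiskerRight (DerivedCategory.quotientCompQhIso A) RF
  let β : FQ ⟶ DerivedCategory.Q ⋙ RF :=
    e₁.hom ≫ Functor.whiskerLeft (HomotopyCategory.quotient A (ComplexShape.up ℤ)) η ≫ e₂.hom
  have hβ : ∀ K : CochainComplex A ℤ, (∀ i, RightAcyclic F (K.X i)) → IsIso (β.app K) := fun K hK => by
    have : IsIso (η.app ((HomotopyCategory.quotient A (ComplexShape.up ℤ)).obj K)) :=
      Groth.Agent.FiniteDim.isIso_unit F (n + 1) hn K hK
    simp only [β, NatTrans.comp_app, Functor.whiskerLeft_app]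
    infer_instance
  refine ⟨RF, β, hβ, AdaptedKan.isRightDerivedFunctor _ β hβ fun X => ?_⟩
  obtain ⟨I, i, hi, hI⟩ := Groth.Agent.FiniteDim.exists_resolution F (n + 1) hn X
  exact ⟨I, i, hI, (DerivedCategory.isIso_Q_map_iff_quasiIso _ i).2 hi⟩

/-- Every right derived functor is computed by complexes of acyclic objects. -/
theorem isIso_unit_of_isRightDerived (hn : ∀ X : A, IsZero ((F.rightDerived (n + 1)).obj X))
    (RF : DerivedCategory A ⥤ DerivedCategory B) (β : FQ ⟶ DerivedCategory.Q ⋙ RF)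
    [RF.IsRightDerivedFunctor β WA] (K : CochainComplex A ℤ) (hK : ∀ i, RightAcyclic F (K.X i)) :
    IsIso (β.app K) := by
  obtain ⟨R₀, β₀, h₀, hd⟩ := exists_rightDerived F n hn
  have := h₀ K hK
  haveI := hd
  let e : R₀ ≅ RF := Functor.rightDerivedUnique R₀ RF β₀ β WA
  have : β₀.app K ≫ e.hom.app (DerivedCategory.Q.obj K) = β.app K := by
    refine (Functor.rightDerivedNatTrans_app R₀ RF β₀ β WA (𝟙 _) K).trans ?_
    simp
  rw [← this]
  infer_instance

variable {F n}

/-- A step of the left resolution. -/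
lemma exists_cover (hP : ∀ X : A, ∃ (Y : A) (p : Y ⟶ X), Epi p ∧ ∀ i : ℕ, i ≠ n → IsZero ((F.rightDerived i).obj Y))
    (K : CochainComplex A ℤ) : ∃ (E : CochainComplex A ℤ) (π : E ⟶ K),
      Epi π ∧ (∀ i, E.ExactAt i) ∧ ∀ (i : ℤ) (j : ℕ), j < n → IsZero ((F.rightDerived j).obj (E.X i)) := by
  choose Y p hp hY using hP
  let J : CochainComplex A ℤ := { X := fun i => Y (K.X (i - 1)), d := fun _ _ => 0 }
  let α : HomComplex.Cochain J K (-1) :=
    HomComplex.Cochain.mk fun i j h => p (K.X (i - 1)) ≫ (K.XIsoOfEq (show i - 1 = j by omega)).hom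
  let φ : J ⟶ K :=
    { f := fun i => p (K.X (i - 1)) ≫ K.d (i - 1) i
      comm' := fun i j _ => by simp [J] }
  let π : mappingCone (𝟙 J) ⟶ K := mappingCone.desc _ α φ (by
    ext i
    rw [HomComplex.δ_v (-1) 0 (by omega) α i i (by omega) (i - 1) (i + 1) rfl (by omega)]
    simp [α, φ, J])
  refine ⟨mappingCone (𝟙 J), π, HomologicalComplex.epi_of_epi_f _ fun i => ?_,
    Groth.Agent.FiniteDim.acyclic_cone_id J, fun i j hj => ?_⟩
  · have hv := mappingCone.inl_v_desc_f (𝟙 J) α φ (by
      ext i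
      rw [HomComplex.δ_v (-1) 0 (by omega) α i i (by omega) (i - 1) (i + 1) rfl (by omega)]
      simp [α, φ, J]) (i + 1) i (by omega)
    have : Epi (α.v (i + 1) i (by omega)) := by
      have := hp (K.X (i + 1 - 1))
      change Epi (p (K.X (i + 1 - 1)) ≫ (K.XIsoOfEq (show i + 1 - 1 = i by omega)).hom)
      infer_instance
    exact epi_of_epi_fac hv
  · haveI := preservesBinaryBiproducts_of_preservesBiproducts (F.rightDerived j)
    exact ((biprod_isZero_iff _ _).2 ⟨hY _ _ (by omega), hY _ _ (by omega)⟩).of_iso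
      ((F.rightDerived j).mapIso (coneX (𝟙 J) i).symm ≪≫ (F.rightDerived j).mapBiprod _ _)

/-- Complexes have left resolutions by complexes of objects with only top derived functor. -/
theorem exists_left_resolution (hn : ∀ X : A, IsZero ((F.rightDerived (n + 1)).obj X))
    (hP : ∀ X : A, ∃ (Y : A) (p : Y ⟶ X), Epi p ∧ ∀ i : ℕ, i ≠ n → IsZero ((F.rightDerived i).obj Y)) :
    ∀ (k : ℕ) (K : CochainComplex A ℤ), (∀ (i : ℤ) (j : ℕ), j + k < n → IsZero ((F.rightDerived j).obj (K.X i))) →
      ∃ (P : CochainComplex A ℤ) (p : P ⟶ K), IsIso (DerivedCategory.Q.map p) ∧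
        ∀ (i : ℤ) (j : ℕ), j < n → IsZero ((F.rightDerived j).obj (P.X i))
  | 0, K, h => ⟨K, 𝟙 K, inferInstance, fun i j hj => h i j hj⟩
  | k + 1, K, h => by
    obtain ⟨E, π, hπ, hE, hEn⟩ := exists_cover hP K
    let S : ShortComplex (CochainComplex A ℤ) := ShortComplex.mk (kernel.ι π) π (kernel.condition π)
    have hS : S.ShortExact := { exact := ShortComplex.exact_of_f_is_kernel _ (kernelIsKernel π) }
    have hker : ∀ (i : ℤ) (j : ℕ), j + k < n → IsZero ((F.rightDerived j).obj ((kernel π).X i)) := by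
      intro i j hj
      have hSi := hS.map_of_exact (HomologicalComplex.eval A _ i)
      cases j with
      | zero =>
        have : Mono ((kernel.ι π).f i) := hSi.mono_f
        have h0 : IsZero (F.obj (E.X i)) := (hEn i 0 (by omega)).of_iso (F.rightDerivedZeroIsoSelf.app _).symm
        exact (IsZero.of_mono (F.map ((kernel.ι π).f i)) h0).of_iso (F.rightDerivedZeroIsoSelf.app _)
      | succ j =>
        exact ((les F).exact₁ _ hSi j (j + 1) rfl).isZero_of_both_zeros
          ((h i j (by omega)).eq_of_src _ _) ((hEn i (j + 1) (by omega)).eq_of_tgt _ _)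
    obtain ⟨P, p, hp, hPn⟩ := exists_left_resolution hn hP k (kernel π) hker
    let c : mappingCone (p ≫ kernel.ι π) ⟶ mappingCone S.f :=
      mappingCone.map (p ≫ kernel.ι π) S.f p (𝟙 _) (by simp [S])
    refine ⟨mappingCone (p ≫ kernel.ι π), c ≫ mappingCone.descShortComplex S, ?_, fun i j hj => ?_⟩
    · have := mappingCone.quasiIso_descShortComplex hS
      let ψ := CochainComplex.mappingCone.triangleMap (p ≫ kernel.ι π) S.f p (𝟙 _) (by simp [S])
      have h₁ : IsIso (DerivedCategory.Q.mapTriangle.map ψ).hom₁ := hp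
      have h₂ : IsIso (DerivedCategory.Q.mapTriangle.map ψ).hom₂ :=
        inferInstanceAs (IsIso (DerivedCategory.Q.map (𝟙 E)))
      have hc : IsIso (DerivedCategory.Q.map c) :=
        Pretriangulated.isIso₃_of_isIso₁₂ _
          (DerivedCategory.mappingCone_triangle_distinguished _)
          (DerivedCategory.mappingCone_triangle_distinguished _) h₁ h₂
      rw [Functor.map_comp]
      infer_instance
    · haveI := preservesBinaryBiproducts_of_preservesBiproducts (F.rightDerived j)
      exact ((biprod_isZero_iff _ _).2 ⟨hPn _ _ hj, hEn _ _ hj⟩).of_iso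
        ((F.rightDerived j).mapIso (coneX (p ≫ kernel.ι π) i).symm ≪≫ (F.rightDerived j).mapBiprod _ _)

variable (F n)

/-- The main comparison. -/
theorem exists_isLeftDerived (hdim : ∀ (X : A) (i : ℕ), n < i → IsZero ((F.rightDerived i).obj X))
    (hP : ∀ X : A, ∃ (Y : A) (p : Y ⟶ X), Epi p ∧ ∀ i : ℕ, i ≠ n → IsZero ((F.rightDerived i).obj Y))
    (RF : DerivedCategory A ⥤ DerivedCategory B) (β : FQ ⟶ DerivedCategory.Q ⋙ RF)
    [RF.IsRightDerivedFunctor β WA] :
    ∃ α : DerivedCategory.Q ⋙ (RF ⋙ shiftFunctor (DerivedCategory B) (n : ℤ)) ⟶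
        (F.rightDerived n).mapHomologicalComplex (ComplexShape.up ℤ) ⋙ DerivedCategory.Q,
      (RF ⋙ shiftFunctor (DerivedCategory B) (n : ℤ)).IsLeftDerivedFunctor α WA := by
  have hn : ∀ X : A, IsZero ((F.rightDerived (n + 1)).obj X) := fun X => hdim X (n + 1) (by omega)
  have hD : ∀ K : CochainComplex A ℤ, Dim F n K := fun K i j hj => hdim _ j hj
  obtain ⟨τ, hnat, hiso⟩ := exists_tau n hn RF β (isIso_unit_of_isRightDerived F n hn RF β) n
  let τ' : DerivedCategory.Q ⋙ RF ⟶ T F n :=
    { app := fun K => τ K (hD K), naturality := fun K L f => hnat f (hD K) (hD L) }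
  let e : T F n ⋙ shiftFunctor (DerivedCategory B) (n : ℤ) ≅ R F n ⋙ DerivedCategory.Q :=
    Functor.associator _ _ _ ≪≫ Functor.isoWhiskerLeft (R F n) (Functor.associator _ _ _ ≪≫
      Functor.isoWhiskerLeft _ (DerivedCategory.Q.commShiftIso (n : ℤ)).symm ≪≫ (Functor.associator _ _ _).symm ≪≫
      Functor.isoWhiskerRight (shiftFunctorCompIsoId (CochainComplex B ℤ) (-(n : ℤ)) (n : ℤ) (by omega)) _ ≪≫
      Functor.leftUnitor _)
  let α : DerivedCategory.Q ⋙ (RF ⋙ shiftFunctor (DerivedCategory B) (n : ℤ)) ⟶ R F n ⋙ DerivedCategory.Q :=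
    (Functor.associator _ _ _).inv ≫ Functor.whiskerRight τ' _ ≫ e.hom
  refine ⟨α, AdaptedKan.isLeftDerivedFunctor
    (fun K => ∀ (i : ℤ) (j : ℕ), j < n → IsZero ((F.rightDerived j).obj (K.X i))) α (fun K hK => ?_) fun X => ?_⟩
  · have : IsIso (τ'.app K) := hiso K (hD K) fun j hj i => ShortComplex.exact_of_isZero_X₂ _ (hK i j hj)
    simp only [α, NatTrans.comp_app, Functor.whiskerRight_app]
    infer_instance
  · obtain ⟨P, p, hp, hPn⟩ := exists_left_resolution hn hP n X (fun i j hj => absurd hj (by omega))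
    exact ⟨P, p, hPn, hp⟩

end Groth.Misc4.CdShift
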