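import Groth.Agent.Misc4.FibDescSplit
import Mathlib.AlgebraicTopology.SimplexCategory.Basic

/-! The augmented Čech nerve of a map with a section is split. -/

universe u

open CategoryTheory CategoryTheory.Limits Opposite

namespace Groth.Misc4.CechSplit

set_option backward.defeqAttrib.useBackward true
set_option backward.isDefEq.respectTransparency false
set_option backward.isDefEq.respectTransparency.types false

/-- Adjoining a new least element. -/
def consHom {m n : SimplexCategory} (θ : m ⟶ n) : Fin (m.len + 1 + 1) →o Fin (n.len + 1 + 1) where
  toFun := Fin.cases 0 (fun i => (θ.toOrderHom i).succ)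
  monotone' := by
    intro i j hij
    cases i using Fin.cases with
    | zero => simp
    | succ i =>
      cases j using Fin.cases with
      | zero => exact absurd hij (by simp [Fin.le_def])
      | succ j => simpa using θ.toOrderHom.monotone (Fin.succ_le_succ_iff.1 hij)

/-- The shift of the simplex category. -/
def shift : SimplexCategory ⥤ SimplexCategory where
  obj n := SimplexCategory.mk (n.len + 1)
  map θ := SimplexCategory.Hom.mk (consHom θ)
  map_id n := by
    apply SimplexCategory.Hom.ext
    ext i
    cases i using Fin.cases <;> rfl
  map_comp θ η := by
    apply SimplexCategory.Hom.ext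
    ext i
    cases i using Fin.cases <;> rfl

/-- The extension of the shift to the augmented simplex category. -/
def shiftAug : WithInitial SimplexCategory ⥤ SimplexCategory :=
  WithInitial.lift (Z := SimplexCategory.mk 0) shift
    (fun n => SimplexCategory.const (SimplexCategory.mk 0) (SimplexCategory.mk (n.len + 1)) 0)
    (fun m n θ => by
      apply SimplexCategory.Hom.ext
      ext i
      rfl)

/-- The coface comparing with the shift. -/
def cofaceAug : 𝟭 (WithInitial SimplexCategory) ⟶ shiftAug ⋙ WithInitial.incl where
  app X := match X with
    | .of n => WithInitial.incl.map (SimplexCategory.δ (n := n.len) 0 : n ⟶ SimplexCategory.mk (n.len + 1))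
    | .star => WithInitial.starInitial.to _
  naturality X Z f := by
    match X, Z, f with
    | .star, Z, f => exact WithInitial.starInitial.hom_ext _ _
    | .of m, .of n, f =>
      let g : m ⟶ n := WithInitial.down f
      show WithInitial.incl.map g ≫ WithInitial.incl.map (SimplexCategory.δ (n := n.len) 0 : n ⟶ _) =
        WithInitial.incl.map (SimplexCategory.δ (n := m.len) 0 : m ⟶ _) ≫ WithInitial.incl.map (shift.map g)
      rw [← Functor.map_comp, ← Functor.map_comp]
      congr 1

variable {X S : TopCat.{u}} (f : X ⟶ S) (s : S ⟶ X) (h : s ≫ f = 𝟙 S)

local notation "Y" => FibDesc.cechAug f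

/-- The extra degeneracy in degree `n`. -/
noncomputable def degen (n : SimplexCategory) :
    widePullback S (fun _ : Fin (n.len + 1) => X) (fun _ => f) ⟶
      widePullback S (fun _ : Fin (n.len + 1 + 1) => X) (fun _ => f) :=
  WidePullback.lift (WidePullback.base _) (Fin.cases (WidePullback.base _ ≫ s) (WidePullback.π _))
    (fun j => by cases j using Fin.cases <;> simp [h])

/-- The augmented Čech nerve of a map with a section is split. -/
noncomputable def split : FibDescSplit.Split Y where
  sh := shiftAug.op
  δ := NatTrans.op cofaceAug
  h :=
    { app := fun i => match i with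
        | ⟨.of n⟩ => degen f s h n
        | ⟨.star⟩ => WidePullback.lift (objs := fun _ : Fin (0 + 1) => X) (arrows := fun _ => f) (𝟙 S)
            (fun _ => s) (fun _ => h)
      naturality := fun i j m => by
        obtain ⟨i⟩ := i
        obtain ⟨j⟩ := j
        obtain ⟨m, rfl⟩ : ∃ g : j ⟶ i, m = g.op := ⟨m.unop, rfl⟩
        match j, i, m with
        | .star, .star, m =>
          obtain rfl : m = 𝟙 _ := WithInitial.starInitial.hom_ext _ _
          simp only [op_id, CategoryTheory.Functor.map_id, Category.id_comp, Category.comp_id]
        | .star, .of n, m =>
          change WidePullback.base (fun _ : Fin (n.len + 1) => f) ≫ _ = degen f s h n ≫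
            WidePullback.lift (objs := fun _ : Fin (0 + 1) => X) (arrows := fun _ => f) (WidePullback.base _)
              (fun k => WidePullback.π (fun _ : Fin (n.len + 1 + 1) => f) 0) (fun k => by simp)
          apply WidePullback.hom_ext
          · intro k; simp [degen]
          · simp [degen]
        | .of a, .of b, m =>
          change WidePullback.lift (objs := fun _ : Fin (a.len + 1) => X) (arrows := fun _ => f)
              (WidePullback.base _)
              (fun k => WidePullback.π (fun _ : Fin (b.len + 1) => f) ((m : a ⟶ b).toOrderHom k)) (fun k => by simp)
              ≫ degen f s h a =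
            degen f s h b ≫ WidePullback.lift (objs := fun _ : Fin (a.len + 1 + 1) => X) (arrows := fun _ => f)
              (WidePullback.base _)
              (fun k => WidePullback.π (fun _ : Fin (b.len + 1 + 1) => f) (consHom (m : a ⟶ b) k)) (fun k => by simp)
          apply WidePullback.hom_ext
          · intro k
            cases k using Fin.cases <;> simp [degen, consHom]
          · simp [degen] }
  hδ i := by
    obtain ⟨i⟩ := i
    match i with
    | .star =>
      change WidePullback.lift _ _ _ ≫ WidePullback.base _ = 𝟙 _
      exact WidePullback.lift_base _ _ _ _
    | .of n =>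
      change degen f s h n ≫ WidePullback.lift (objs := fun _ : Fin (n.len + 1) => X) (arrows := fun _ => f)
        (WidePullback.base _)
        (fun k => WidePullback.π (fun _ : Fin (n.len + 1 + 1) => f) (Fin.succAbove 0 k)) (fun k => by simp) = 𝟙 _
      apply WidePullback.hom_ext
      · intro k; simp [degen]
      · simp [degen]

include h in
/-- A map with a section is of cohomological descent. -/
theorem isCohDescentMap_of_section : FibDesc.IsCohDescentMap f :=
  (split f s h).isCohDescentTop

include h in
/-- A map with a section is universally of cohomological descent. -/
theorem isUnivCohDescentMap_of_section : FibDesc.IsUnivCohDescentMap f := fun S' g =>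
  isCohDescentMap_of_section (pullback.snd f g) (pullback.lift (g ≫ s) (𝟙 S') (by simp [h]))
    (pullback.lift_snd _ _ _)

end Groth.Misc4.CechSplit
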