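import Groth.Agent.Misc4.FibDescLocal
import Groth.Agent.Misc4.CechSplit
import Mathlib.Topology.IsLocalHomeomorph

/-! Descent of a map is local on the base; local homeomorphisms. -/

universe u

open CategoryTheory CategoryTheory.Limits Opposite TopologicalSpace Topology

namespace Groth.Misc4.CechLocal

set_option backward.defeqAttrib.useBackward true
set_option backward.isDefEq.respectTransparency false
set_option backward.isDefEq.respectTransparency.types false

section General

variable {C : Type*} [Category* C] [HasPullbacks C] {X S V : C} (u : X ⟶ S) (v : V ⟶ S) (κ : Type)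
  [HasWidePullback S (fun _ : κ => X) fun _ => u]
  [HasWidePullback V (fun _ : κ => pullback u v) fun _ => pullback.snd u v]

/-- Wide pullbacks commute with base change. -/
lemma isPullback_widePullback :
    IsPullback
      (WidePullback.lift (objs := fun _ : κ => X) (arrows := fun _ => u)
        (WidePullback.base (fun _ : κ => pullback.snd u v) ≫ v)
        (fun i => WidePullback.π (fun _ : κ => pullback.snd u v) i ≫ pullback.fst u v)
        (fun i => by rw [Category.assoc, pullback.condition, WidePullback.π_arrow_assoc]))
      (WidePullback.base (fun _ : κ => pullback.snd u v)) (WidePullback.base (fun _ : κ => u)) v := by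
  refine ⟨⟨by simp⟩, ⟨PullbackCone.IsLimit.mk _
    (fun s => WidePullback.lift (objs := fun _ : κ => pullback u v) (arrows := fun _ => pullback.snd u v) s.snd
      (fun i => pullback.lift (s.fst ≫ WidePullback.π (fun _ : κ => u) i) s.snd
        (by rw [Category.assoc, WidePullback.π_arrow, s.condition]))
      (fun i => pullback.lift_snd _ _ _)) ?_ ?_ ?_⟩⟩
  · intro s
    apply WidePullback.hom_ext
    · intro i; simp
    · simp [s.condition]
  · intro s; simp
  · intro s m h1 h2
    apply WidePullback.hom_ext
    · intro i
      rw [WidePullback.lift_π]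
      apply pullback.hom_ext
      · rw [pullback.lift_fst, ← h1]; simp
      · rw [pullback.lift_snd, Category.assoc, WidePullback.π_arrow, h2]
    · simp [h2]

end General

variable {X S : TopCat.{u}} (u : X ⟶ S) {V : TopCat.{u}} (v : V ⟶ S) (hv : IsOpenEmbedding v)

/-- The map of augmented Čech nerves of a base change. -/
noncomputable def cechMap : FibDesc.cechAug (pullback.snd u v) ⟶ FibDesc.cechAug u :=
  AugmentedSimplexCategory.equivAugmentedSimplicialObject.inverse.map
    (Arrow.mapAugmentedCechNerve (Arrow.homMk (f := Arrow.mk (pullback.snd u v)) (g := Arrow.mk u)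
      (pullback.fst u v) v pullback.condition))

lemma emb_and_range (n : ℕ) :
    let g := WidePullback.lift (objs := fun _ : Fin (n + 1) => X) (arrows := fun _ => u)
      (WidePullback.base (fun _ : Fin (n + 1) => pullback.snd u v) ≫ v)
      (fun i => WidePullback.π (fun _ : Fin (n + 1) => pullback.snd u v) i ≫ pullback.fst u v)
      (fun i => by rw [Category.assoc, pullback.condition, WidePullback.π_arrow_assoc])
    (IsOpenEmbedding v → IsOpenEmbedding g) ∧
      ∀ x, WidePullback.base (fun _ : Fin (n + 1) => u) x ∈ Set.range v → x ∈ Set.range g := by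
  intro g
  have h := isPullback_widePullback u v (Fin (n + 1))
  have e : g = h.isoPullback.hom ≫ pullback.fst _ _ := h.isoPullback_hom_fst.symm
  refine ⟨fun hv => ?_, fun x hx => ?_⟩
  · rw [e, TopCat.coe_comp]
    exact (TopCat.fst_isOpenEmbedding_of_right _ hv).comp (TopCat.homeoOfIso h.isoPullback).isOpenEmbedding
  · obtain ⟨y, hy⟩ := hx
    have : x ∈ Set.range (pullback.fst (WidePullback.base (fun _ : Fin (n + 1) => u)) v) := by
      rw [TopCat.pullback_fst_range]; exact ⟨y, hy.symm⟩
    obtain ⟨z, hz⟩ := this
    refine ⟨h.isoPullback.inv z, ?_⟩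
    rw [e, ← TopCat.comp_app, Iso.inv_hom_id_assoc]
    exact hz

/-- The part of the Čech nerve over an open subset of the base. -/
noncomputable def openPart : FibDescLocal.OpenPart (FibDesc.cechAug (pullback.snd u v)) (FibDesc.cechAug u) where
  g := cechMap u v
  emb i := by
    obtain ⟨i⟩ := i
    match i with
    | .star => exact hv
    | .of n => exact (emb_and_range u v n.len).1 hv
  range i x hx := by
    obtain ⟨i⟩ := i
    match i with
    | .star =>
      change (FibDesc.cechAug u).map (FibDescBase.botTerminal.from (FibDesc.bot SimplexCategory)) x ∈ _ at hx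
      rw [FibDescBase.botTerminal.hom_ext (FibDescBase.botTerminal.from _) (𝟙 _), CategoryTheory.Functor.map_id] at hx
      exact hx
    | .of n =>
      refine (emb_and_range u v n.len).2 x ?_
      exact hx

/-- Cohomological descent is local on the base. -/
theorem isCohDescentMap_of_cover {ι : Type u} (V : ι → Opens S) (hV : ∀ x, ∃ i, x ∈ V i)
    (h : ∀ i, FibDesc.IsCohDescentMap
      (pullback.snd u (TopCat.ofHom ⟨Subtype.val, continuous_subtype_val⟩ : TopCat.of (V i) ⟶ S))) :
    FibDesc.IsCohDescentMap u := by
  refine FibDescLocal.isCohDescentTop_of_openParts (FibDesc.cechAug u) _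
    (fun i => openPart u (TopCat.ofHom ⟨Subtype.val, continuous_subtype_val⟩ : TopCat.of (V i) ⟶ S)
      (V i).isOpenEmbedding) (fun x => ?_) h
  obtain ⟨i, hi⟩ := hV x
  exact ⟨i, ⟨x, hi⟩, rfl⟩

/-- A map with local sections is of cohomological descent. -/
theorem isCohDescentMap_of_local_sections
    (h : ∀ x, ∃ (V : Opens S) (σ : TopCat.of V ⟶ X), x ∈ V ∧
      σ ≫ u = TopCat.ofHom ⟨Subtype.val, continuous_subtype_val⟩) : FibDesc.IsCohDescentMap u := by
  choose V σ hx hσ using h
  exact isCohDescentMap_of_cover u V (fun x => ⟨x, hx x⟩) fun x =>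
    CechSplit.isCohDescentMap_of_section _ (pullback.lift (σ x) (𝟙 _) (by simp [hσ])) (pullback.lift_snd _ _ _)

/-- Surjective local homeomorphisms are universally of cohomological descent. -/
theorem isUnivCohDescentMap_of_isLocalHomeomorph (hu : IsLocalHomeomorph u) (hs : Function.Surjective u) :
    FibDesc.IsUnivCohDescentMap u := by
  intro S' g
  refine isCohDescentMap_of_local_sections _ fun s => ?_
  obtain ⟨x, hx⟩ := hs (g s)
  obtain ⟨e, hxe, he⟩ := hu x
  let W : Opens S' := (Opens.map g).obj ⟨e.target, e.open_target⟩
  have hcond : ∀ w : W, u (e.symm (g w)) = g w := fun w => by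
    rw [he]; exact e.right_inv w.2
  let a : TopCat.of W ⟶ X := TopCat.ofHom ⟨fun w => e.symm (g w),
    e.continuousOn_symm.comp_continuous (g.hom.continuous.comp continuous_subtype_val) fun w => w.2⟩
  refine ⟨W, pullback.lift a (TopCat.ofHom ⟨Subtype.val, continuous_subtype_val⟩) (TopCat.ext hcond), ?_,
    pullback.lift_snd _ _ _⟩
  show g s ∈ e.target
  rw [← hx, he]
  exact e.map_source hxe

end Groth.Misc4.CechLocal
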