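import Groth.Agent.Misc4.FibDescBi
import Groth.Agent.Misc4.CechLocal

/-! Cohomological descent of maps: descent after base change along a covering of universal descent. -/

universe u

open CategoryTheory CategoryTheory.Limits Opposite TopologicalSpace Topology

namespace Groth.Misc4.CechBi

open Groth.Misc4.FibDescBase

set_option backward.defeqAttrib.useBackward true
set_option backward.isDefEq.respectTransparency false
set_option backward.isDefEq.respectTransparency.types false
set_option synthInstance.maxHeartbeats 400000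
set_option maxHeartbeats 1000000

variable {D : Type} [SmallCategory D]

/-- Cohomological descent is invariant under isomorphisms. -/
theorem isCohDescentTop_of_iso {Y Y' : (WithInitial D)ᵒᵖ ⥤ TopCat.{u}} (e : Y' ≅ Y)
    (h : FibDesc.IsCohDescentTop Y') : FibDesc.IsCohDescentTop Y := by
  have hsurj : ∀ i x, x ∈ Set.range (e.hom.app i) := fun i x => ⟨e.inv.app i x, by
    rw [← TopCat.comp_app, e.inv_hom_id_app]; rfl⟩
  exact FibDescLocal.isCohDescentTop_of_openParts Y (fun _ : PUnit.{u + 1} => Y')
    (fun _ => ⟨e.hom, fun i => (TopCat.homeoOfIso (e.app i)).isOpenEmbedding, fun i x _ => hsurj i x⟩)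
    (fun x => ⟨PUnit.unit, hsurj _ x⟩) (fun _ => h)

variable {D₁ D₂ : Type} [SmallCategory D₁] [SmallCategory D₂] (P : (WithInitial D₁)ᵒᵖ ⥤ TopCat.{u})
  (Q : (WithInitial D₂)ᵒᵖ ⥤ TopCat.{u}) {S : TopCat.{u}} (p : P.obj (FibDesc.bot D₁) ⟶ S)
  (q : Q.obj (FibDesc.bot D₂) ⟶ S)

/-- The structure maps of an augmented space over a space. -/
noncomputable abbrev str (i : (WithInitial D₁)ᵒᵖ) : P.obj i ⟶ S := P.map (botTerminal.from i) ≫ p

lemma map_str {i i' : (WithInitial D₁)ᵒᵖ} (m : i ⟶ i') : P.map m ≫ str P p i' = str P p i := by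
  rw [← Category.assoc, ← P.map_comp, botTerminal.hom_ext (m ≫ _) (botTerminal.from i)]

/-- The doubly indexed fibre product of two augmented spaces over a space. -/
noncomputable def bi : (WithInitial D₁)ᵒᵖ × (WithInitial D₂)ᵒᵖ ⥤ TopCat.{u} where
  obj x := pullback (str P p x.1) (str Q q x.2)
  map {x y} m := pullback.map _ _ _ _ (P.map m.1) (Q.map m.2) (𝟙 S)
    (by rw [map_str, Category.comp_id]) (by rw [map_str, Category.comp_id])
  map_id x := by apply pullback.hom_ext <;> simp
  map_comp f g := by apply pullback.hom_ext <;> simp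

/-- A family of fibre products in the second variable is a row. -/
noncomputable def rowIso (i : (WithInitial D₁)ᵒᵖ) {Q' : (WithInitial D₂)ᵒᵖ ⥤ TopCat.{u}} (g : Q' ⟶ Q)
    (e : Q'.obj (FibDesc.bot D₂) ⟶ P.obj i)
    (h : ∀ j, IsPullback (g.app j) (Q'.map (botTerminal.from j) ≫ e) (str Q q j) (str P p i)) :
    Q' ≅ Prod.sectR i (WithInitial D₂)ᵒᵖ ⋙ bi P Q p q :=
  NatIso.ofComponents (fun j => (h j).flip.isoPullback) (fun {j j'} m => by
    apply pullback.hom_ext
    · simp [bi]
      rw [← Category.assoc, ← Q'.map_comp, botTerminal.hom_ext (m ≫ _) (botTerminal.from j)]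
    · simp [bi])

/-- A family of fibre products in the first variable is a column. -/
noncomputable def colIso (j : (WithInitial D₂)ᵒᵖ) {P' : (WithInitial D₁)ᵒᵖ ⥤ TopCat.{u}} (g : P' ⟶ P)
    (e : P'.obj (FibDesc.bot D₁) ⟶ Q.obj j)
    (h : ∀ i, IsPullback (g.app i) (P'.map (botTerminal.from i) ≫ e) (str P p i) (str Q q j)) :
    P' ≅ Prod.sectL (WithInitial D₁)ᵒᵖ j ⋙ bi P Q p q :=
  NatIso.ofComponents (fun i => (h i).isoPullback) (fun {i i'} m => by
    apply pullback.hom_ext
    · simp [bi]
    · simp [bi]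
      rw [← Category.assoc, ← P'.map_comp, botTerminal.hom_ext (m ≫ _) (botTerminal.from i)])

section Cech

variable {X B : TopCat.{u}} (u : X ⟶ S) (b : B ⟶ S)

/-- The augmented Čech nerve of a base change consists of base changes. -/
lemma isPullback_cechMap (i : (WithInitial SimplexCategory)ᵒᵖ) :
    IsPullback ((CechLocal.cechMap u b).app i)
      ((FibDesc.cechAug (pullback.snd u b)).map (botTerminal.from i) ≫ 𝟙 B)
      (str (FibDesc.cechAug u) (𝟙 S) i) b := by
  obtain ⟨i⟩ := i
  match i with
  | .star =>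
    simp only [str, Category.comp_id, botTerminal.hom_ext (botTerminal.from _) (𝟙 _), CategoryTheory.Functor.map_id]
    change IsPullback b (𝟙 B) (𝟙 S) b
    exact IsPullback.of_vert_isIso ⟨by simp⟩
  | .of n =>
    have := CechLocal.isPullback_widePullback u b (Fin (n.len + 1))
    simp only [str, Category.comp_id]
    exact this

/-- Cohomological descent after base change along an isomorphism. -/
theorem isCohDescentMap_of_isIso [IsIso b] (h : FibDesc.IsCohDescentMap (pullback.snd u b)) :
    FibDesc.IsCohDescentMap u := by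
  have : ∀ i, IsIso ((CechLocal.cechMap u b).app i) := fun i => (isPullback_cechMap u b i).isIso_fst_of_isIso
  have : IsIso (CechLocal.cechMap u b) := NatIso.isIso_of_isIso_app _
  exact isCohDescentTop_of_iso (asIso (CechLocal.cechMap u b)) h

/-- A map of universal cohomological descent is of cohomological descent. -/
theorem isCohDescentMap_of_univ (h : FibDesc.IsUnivCohDescentMap u) : FibDesc.IsCohDescentMap u :=
  isCohDescentMap_of_isIso u (𝟙 S) (h S (𝟙 S))

/-- Descent of a map after base change along all terms of the Čech nerve of a map of universal descent. -/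
theorem isCohDescentMap_of_base_change {Y : TopCat.{u}} (v : Y ⟶ S) (hv : FibDesc.IsUnivCohDescentMap v)
    (h : ∀ n : ℕ, FibDesc.IsCohDescentMap
      (pullback.snd u (WidePullback.base (fun _ : Fin (n + 1) => v) :
        widePullback S (fun _ : Fin (n + 1) => Y) (fun _ => v) ⟶ S))) :
    FibDesc.IsCohDescentMap u := by
  let P := FibDesc.cechAug u
  let Q := FibDesc.cechAug v
  let G := bi P Q (𝟙 S) (𝟙 S)
  have hrow : ∀ i, FibDesc.IsCohDescentTop (Prod.sectR i (WithInitial SimplexCategory)ᵒᵖ ⋙ G) := fun i =>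
    isCohDescentTop_of_iso (rowIso P Q (𝟙 S) (𝟙 S) i (CechLocal.cechMap v (str P (𝟙 S) i)) (𝟙 _)
      (isPullback_cechMap v (str P (𝟙 S) i))) (hv _ _)
  have hcol : ∀ n : SimplexCategoryᵒᵖ,
      FibDesc.IsCohDescentTop (Prod.sectL (WithInitial SimplexCategory)ᵒᵖ ((FibDesc.toAug SimplexCategory).obj n) ⋙ G) :=
    fun n => by
    refine isCohDescentTop_of_iso (colIso P Q (𝟙 S) (𝟙 S) _
      (CechLocal.cechMap u (str Q (𝟙 S) ((FibDesc.toAug SimplexCategory).obj n))) (𝟙 _)
      (isPullback_cechMap u (str Q (𝟙 S) ((FibDesc.toAug SimplexCategory).obj n)))) ?_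
    exact h n.unop.len
  have hG : FibDesc.IsCohDescentTop (FibDescBi.col G) :=
    FibDescBi.isCohDescentTop_col G (fun m => hrow ((FibDesc.toAug SimplexCategory).obj m)) hcol
      (hrow (FibDesc.bot SimplexCategory))
  have : IsIso (str Q (𝟙 S) (FibDesc.bot SimplexCategory)) := by
    simp only [str, Category.comp_id, botTerminal.hom_ext (botTerminal.from _) (𝟙 _), CategoryTheory.Functor.map_id]
    exact inferInstanceAs (IsIso (𝟙 S))
  refine isCohDescentMap_of_isIso u (str Q (𝟙 S) (FibDesc.bot SimplexCategory)) ?_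
  exact isCohDescentTop_of_iso (colIso P Q (𝟙 S) (𝟙 S) _
    (CechLocal.cechMap u (str Q (𝟙 S) (FibDesc.bot SimplexCategory))) (𝟙 _)
    (isPullback_cechMap u (str Q (𝟙 S) (FibDesc.bot SimplexCategory)))).symm hG

end Cech

end Groth.Misc4.CechBi
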