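import Groth.Agent.Misc4.CechBi
import Mathlib.CategoryTheory.Limits.Shapes.Pullback.IsPullback.Basic

/-! Formal properties of maps of universal cohomological descent. -/

universe u

open CategoryTheory CategoryTheory.Limits

namespace Groth.Misc4.CechUniv

set_option backward.defeqAttrib.useBackward true
set_option backward.isDefEq.respectTransparency false

/-- Descent of a map is invariant under isomorphisms of maps. -/
theorem isCohDescentMap_of_arrow_iso {X S X' S' : TopCat.{u}} {f : X ⟶ S} {f' : X' ⟶ S'}
    (e : Arrow.mk f' ≅ Arrow.mk f) (h : FibDesc.IsCohDescentMap f') : FibDesc.IsCohDescentMap f :=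
  CechBi.isCohDescentTop_of_iso
    (AugmentedSimplexCategory.equivAugmentedSimplicialObject.inverse.mapIso
      (CategoryTheory.SimplicialObject.augmentedCechNerve.mapIso e)) h

variable {X S : TopCat.{u}} {f : X ⟶ S}

/-- A pullback square computes a base change. -/
theorem isCohDescentMap_of_isPullback (hf : FibDesc.IsUnivCohDescentMap f) {W Z : TopCat.{u}} {p : W ⟶ X}
    {r : W ⟶ Z} {a : Z ⟶ S} (h : IsPullback p r f a) : FibDesc.IsCohDescentMap r :=
  isCohDescentMap_of_arrow_iso (Arrow.isoMk h.isoPullback.symm (Iso.refl _) (by simp)) (hf Z a)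

/-- Universal descent is stable under base change. -/
theorem isUnivCohDescentMap_of_isPullback (hf : FibDesc.IsUnivCohDescentMap f) {W Z : TopCat.{u}} {p : W ⟶ X}
    {r : W ⟶ Z} {a : Z ⟶ S} (h : IsPullback p r f a) : FibDesc.IsUnivCohDescentMap r := fun T b =>
  isCohDescentMap_of_isPullback hf ((IsPullback.of_hasPullback r b).paste_horiz h)

/-- Descent after base change twice. -/
theorem isCohDescentMap_snd_comp {S' T : TopCat.{u}} (g : S' ⟶ S) (b : T ⟶ S')
    (h : FibDesc.IsCohDescentMap (pullback.snd f (b ≫ g))) :
    FibDesc.IsCohDescentMap (pullback.snd (pullback.snd f g) b) :=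
  isCohDescentMap_of_arrow_iso
    (Arrow.isoMk ((IsPullback.of_hasPullback _ b).paste_horiz (IsPullback.of_hasPullback f g)).isoPullback.symm
      (Iso.refl _) (by simp)) h

/-- Descent after base change by a composite. -/
theorem isCohDescentMap_of_snd_snd {S' T : TopCat.{u}} (g : S' ⟶ S) (b : T ⟶ S')
    (h : FibDesc.IsCohDescentMap (pullback.snd (pullback.snd f g) b)) :
    FibDesc.IsCohDescentMap (pullback.snd f (b ≫ g)) :=
  isCohDescentMap_of_arrow_iso
    (Arrow.isoMk ((IsPullback.of_hasPullback _ b).paste_horiz (IsPullback.of_hasPullback f g)).isoPullback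
      (Iso.refl _) (by simp)) h

lemma isCohDescentMap_snd_congr {T : TopCat.{u}} {b b' : T ⟶ S} (e : b = b')
    (h : FibDesc.IsCohDescentMap (pullback.snd f b')) : FibDesc.IsCohDescentMap (pullback.snd f b) := by
  subst e; exact h

/-- If a composite is of universal descent, so is the second map. -/
theorem univ_of_comp {Y : TopCat.{u}} (k : X ⟶ Y) {g : Y ⟶ S} (h : FibDesc.IsUnivCohDescentMap (k ≫ g)) :
    FibDesc.IsUnivCohDescentMap g := by
  intro T a
  have hv := isUnivCohDescentMap_of_isPullback h (IsPullback.of_hasPullback (k ≫ g) a)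
  refine CechBi.isCohDescentMap_of_base_change _ _ hv fun n => ?_
  let base := WidePullback.base (fun _ : Fin (n + 1) => pullback.snd (k ≫ g) a)
  let π₀ := WidePullback.π (fun _ : Fin (n + 1) => pullback.snd (k ≫ g) a) 0
  let k' : pullback (k ≫ g) a ⟶ pullback g a :=
    pullback.lift (pullback.fst _ _ ≫ k) (pullback.snd _ _) (by rw [Category.assoc, pullback.condition])
  refine CechSplit.isCohDescentMap_of_section _ (pullback.lift (π₀ ≫ k') (𝟙 _) ?_) (pullback.lift_snd _ _ _)
  simp only [k', Category.assoc, pullback.lift_snd, Category.id_comp]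
  exact WidePullback.π_arrow _ _

/-- Universal descent can be checked after base change along a map of universal descent. -/
theorem univ_of_base_change {S' : TopCat.{u}} {g : S' ⟶ S} (hg : FibDesc.IsUnivCohDescentMap g)
    (h : FibDesc.IsUnivCohDescentMap (pullback.snd f g)) : FibDesc.IsUnivCohDescentMap f := by
  intro T a
  refine CechBi.isCohDescentMap_of_base_change _ _
    (isUnivCohDescentMap_of_isPullback hg (IsPullback.of_hasPullback g a)) fun n => ?_
  let base := WidePullback.base (fun _ : Fin (n + 1) => pullback.snd g a)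
  let c := WidePullback.π (fun _ : Fin (n + 1) => pullback.snd g a) 0 ≫ pullback.fst g a
  refine isCohDescentMap_snd_comp a base ?_
  have e : base ≫ a = c ≫ g := by
    simp only [c, base, Category.assoc, pullback.condition, WidePullback.π_arrow_assoc]
  exact isCohDescentMap_snd_congr e (isCohDescentMap_of_snd_snd g c (h _ c))

/-- A composite of maps of universal descent is of universal descent. -/
theorem univ_comp {Y : TopCat.{u}} {k : Y ⟶ X} (hk : FibDesc.IsUnivCohDescentMap k)
    (hf : FibDesc.IsUnivCohDescentMap f) : FibDesc.IsUnivCohDescentMap (k ≫ f) := by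
  intro T a
  refine CechBi.isCohDescentMap_of_base_change _ _
    (isUnivCohDescentMap_of_isPullback hf (IsPullback.of_hasPullback f a)) fun n => ?_
  let base := WidePullback.base (fun _ : Fin (n + 1) => pullback.snd f a)
  let c := WidePullback.π (fun _ : Fin (n + 1) => pullback.snd f a) 0 ≫ pullback.fst f a
  refine isCohDescentMap_snd_comp a base ?_
  have e : c ≫ f = base ≫ a := by
    simp only [c, base, Category.assoc, pullback.condition, WidePullback.π_arrow_assoc]
  let k' : pullback k c ⟶ pullback (k ≫ f) (base ≫ a) :=
    pullback.lift (pullback.fst k c) (pullback.snd k c) (by rw [← e, pullback.condition_assoc])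
  have hc : FibDesc.IsUnivCohDescentMap (k' ≫ pullback.snd (k ≫ f) (base ≫ a)) := by
    rw [pullback.lift_snd]
    exact isUnivCohDescentMap_of_isPullback hk (IsPullback.of_hasPullback k c)
  exact CechBi.isCohDescentMap_of_univ _ (univ_of_comp k' hc)

end Groth.Misc4.CechUniv
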