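import Groth.Agent.CohFin.Acyclic
import Groth.Agent.RDerLib.LES
import Mathlib.Algebra.Homology.ShortComplex.PreservesHomology
import Mathlib.Algebra.Homology.HomologicalComplexAbelian

/-!
Comparison between the homology of the image of a complex of acyclic objects and the image of its homology.
-/

universe v u v' u'

set_option backward.defeqAttrib.useBackward true
set_option backward.isDefEq.respectTransparency false
set_option linter.unusedSectionVars false

open CategoryTheory CategoryTheory.Limits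

namespace Groth.Misc4.CmpEdge

section Abelian

variable {D : Type u'} [Category.{v'} D] [Abelian D]

/-- Cokernels along a kernel: the two cokernels and the last object form a left exact sequence. -/
lemma exists_cokernel_exact {A B Z W : D} (a : A ⟶ B) (v : B ⟶ Z) (w : Z ⟶ W) (hvw : v ≫ w = 0) [Mono v]
    (hex : (ShortComplex.mk v w hvw).Exact) :
    ∃ (k : cokernel a ⟶ cokernel (a ≫ v)) (c : cokernel (a ≫ v) ⟶ W) (hkc : k ≫ c = 0),
      Mono k ∧ (ShortComplex.mk k c hkc).Exact := by
  let k : cokernel a ⟶ cokernel (a ≫ v) :=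
    cokernel.desc a (v ≫ cokernel.π _) (by rw [← Category.assoc, cokernel.condition])
  let c : cokernel (a ≫ v) ⟶ W := cokernel.desc _ w (by rw [Category.assoc, hvw, comp_zero])
  refine ⟨k, c, ?_, ?_, ?_⟩
  · rw [← cancel_epi (cokernel.π a)]
    simp [k, c, hvw]
  · refine Preadditive.mono_of_cancel_zero _ fun {T} x hx => ?_
    obtain ⟨T₁, π₁, hπ₁, b, hb⟩ := surjective_up_to_refinements_of_epi (cokernel.π a) x
    have h0 : (b ≫ v) ≫ cokernel.π (a ≫ v) = 0 := by
      have : π₁ ≫ x ≫ k = (b ≫ v) ≫ cokernel.π (a ≫ v) := by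
        rw [← Category.assoc, hb]; simp [k]
      rw [← this, hx, comp_zero]
    obtain ⟨T₂, π₂, hπ₂, y, hy⟩ := (ShortComplex.exact_of_g_is_cokernel (ShortComplex.mk (a ≫ v)
      (cokernel.π (a ≫ v)) (cokernel.condition _)) (cokernelIsCokernel _)).exact_up_to_refinements _ h0
    dsimp at hy
    have hyb : π₂ ≫ b = y ≫ a := (cancel_mono v).1 (by rw [Category.assoc, hy, Category.assoc])
    rw [← cancel_epi π₁, ← cancel_epi π₂, hb, ← Category.assoc, hyb, Category.assoc, cokernel.condition]
    simp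
  · rw [ShortComplex.exact_iff_exact_up_to_refinements]
    intro T x hx
    dsimp at x hx ⊢
    obtain ⟨T₁, π₁, hπ₁, z, hz⟩ := surjective_up_to_refinements_of_epi (cokernel.π (a ≫ v)) x
    have h0 : z ≫ w = 0 := by
      have : π₁ ≫ x ≫ c = z ≫ w := by rw [← Category.assoc, hz]; simp [c]
      rw [← this, hx, comp_zero]
    obtain ⟨T₂, π₂, hπ₂, b, hb⟩ := hex.exact_up_to_refinements z h0
    dsimp at hb
    refine ⟨T₂, π₂ ≫ π₁, inferInstance, b ≫ cokernel.π a, ?_⟩
    rw [Category.assoc, hz, ← Category.assoc π₂, hb]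
    simp [k]

end Abelian

variable {C : Type u} [Category.{v} C] [Abelian C] [EnoughInjectives C]
  {D : Type u'} [Category.{v'} D] [Abelian D]
  (G : C ⥤ D) [G.Additive] [PreservesFiniteLimits G]
  (M : CochainComplex C ℕ)

/-- The sequence of cycles and boundaries. -/
noncomputable abbrev cycSeq (q : ℕ) : ShortComplex C :=
  ShortComplex.mk (M.iCycles q) (cokernel.π _) (cokernel.condition _)

lemma cycSeq_shortExact (q : ℕ) : (cycSeq M q).ShortExact :=
  Groth.CohFin.cokerSeq_shortExact' (M.iCycles q)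

lemma iCycles_toCycles (q : ℕ) : M.iCycles q ≫ M.toCycles q (q + 1) = 0 := by
  rw [← cancel_mono (M.iCycles (q + 1)), Category.assoc, M.toCycles_i, M.iCycles_d, zero_comp]

/-- The boundaries inside the cycles. -/
noncomputable abbrev bd (q : ℕ) : (cycSeq M q).X₃ ⟶ M.cycles (q + 1) :=
  cokernel.desc _ (M.toCycles q (q + 1)) (iCycles_toCycles M q)

instance mono_bd (q : ℕ) : Mono (bd M q) :=
  (ShortComplex.exact_of_f_is_kernel (ShortComplex.mk (M.iCycles q) (M.toCycles q (q + 1)) (iCycles_toCycles M q))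
    (KernelFork.IsLimit.ofι' (M.iCycles q) (iCycles_toCycles M q) fun {T} g hg =>
      ⟨M.liftCycles g (q + 1) (by simp) (by rw [← M.toCycles_i q (q + 1), ← Category.assoc, hg, zero_comp]),
        M.liftCycles_i _ _ _ _⟩)).mono_cokernelDesc

lemma bd_homologyπ (q : ℕ) : bd M q ≫ M.homologyπ (q + 1) = 0 := by
  rw [← cancel_epi (cokernel.π (M.iCycles q))]
  simp

lemma bd_exact (q : ℕ) : (ShortComplex.mk (bd M q) (M.homologyπ (q + 1)) (bd_homologyπ M q)).Exact := by
  let φ : ShortComplex.mk (M.toCycles q (q + 1)) (M.homologyπ (q + 1)) (M.toCycles_comp_homologyπ q (q + 1)) ⟶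
      ShortComplex.mk (bd M q) (M.homologyπ (q + 1)) (bd_homologyπ M q) :=
    { τ₁ := cokernel.π _, τ₂ := 𝟙 _, τ₃ := 𝟙 _ }
  exact (ShortComplex.exact_iff_of_epi_of_isIso_of_mono φ).1
    (ShortComplex.exact_of_g_is_cokernel _ (M.homologyIsCokernel q (q + 1) (by simp)))

lemma bdSeq_shortExact (q : ℕ) :
    (ShortComplex.mk (bd M q) (M.homologyπ (q + 1)) (bd_homologyπ M q)).ShortExact :=
  { exact := bd_exact M q }

lemma isIso_bd_of_exactAt (q : ℕ) (h : M.ExactAt (q + 1)) : IsIso (bd M q) := by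
  have : Epi (bd M q) := (bd_exact M q).epi_f
    ((M.exactAt_iff_isZero_homology (q + 1)).1 h |>.eq_of_tgt _ _)
  exact isIso_of_mono_of_epi _

/-- Cycles of the image are the image of the cycles. -/
lemma exists_cycles_iso (q : ℕ) :
    ∃ e : ((G.mapHomologicalComplex (ComplexShape.up ℕ)).obj M).cycles q ≅ G.obj (M.cycles q),
      e.hom ≫ G.map (M.iCycles q) = ((G.mapHomologicalComplex (ComplexShape.up ℕ)).obj M).iCycles q :=
  let hK : IsLimit (KernelFork.ofι (f := ((G.mapHomologicalComplex (ComplexShape.up ℕ)).obj M).d q (q + 1))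
      (G.map (M.iCycles q))
      ((G.map_comp _ _).symm.trans ((congrArg G.map (M.iCycles_d q (q + 1))).trans (G.map_zero _ _)))) :=
    KernelFork.mapIsLimit _ (M.cyclesIsKernel q (q + 1) (by simp)) G
  ⟨IsLimit.conePointUniqueUpToIso
      (((G.mapHomologicalComplex (ComplexShape.up ℕ)).obj M).cyclesIsKernel q (q + 1) (by simp)) hK,
    IsLimit.conePointUniqueUpToIso_hom_comp
      (((G.mapHomologicalComplex (ComplexShape.up ℕ)).obj M).cyclesIsKernel q (q + 1) (by simp)) hK
      WalkingParallelPair.zero⟩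

/-- The homology in degree zero of the image is the image of the cycles. -/
lemma nonempty_homology_zero_iso :
    Nonempty (((G.mapHomologicalComplex (ComplexShape.up ℕ)).obj M).homology 0 ≅ G.obj (M.cycles 0)) := by
  obtain ⟨e, -⟩ := exists_cycles_iso G M 0
  exact ⟨(CochainComplex.isoHomologyπ₀ _).symm ≪≫ e⟩

/-- The homology of the image is an extension of a piece of the image of the homology
by a first derived functor. -/
theorem exists_comparison (q : ℕ) (hac : Groth.CohFin.RightAcyclic G (M.X q)) :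
    ∃ (k : (G.rightDerived 1).obj (M.cycles q) ⟶ ((G.mapHomologicalComplex (ComplexShape.up ℕ)).obj M).homology (q + 1))
      (c : ((G.mapHomologicalComplex (ComplexShape.up ℕ)).obj M).homology (q + 1) ⟶ G.obj (M.homology (q + 1)))
      (hkc : k ≫ c = 0), Mono k ∧ (ShortComplex.mk k c hkc).Exact := by
  let N := (G.mapHomologicalComplex (ComplexShape.up ℕ)).obj M
  obtain ⟨e, he⟩ := exists_cycles_iso G M (q + 1)
  let a : G.obj (M.X q) ⟶ G.obj (cycSeq M q).X₃ := G.map (cokernel.π (M.iCycles q))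
  have hf : N.toCycles q (q + 1) ≫ e.hom = a ≫ G.map (bd M q) := by
    rw [← G.map_comp, cokernel.π_desc]
    have : Mono (G.map (M.iCycles (q + 1))) := inferInstance
    rw [← cancel_mono (G.map (M.iCycles (q + 1))), Category.assoc, he, N.toCycles_i, ← G.map_comp, M.toCycles_i]
    rfl
  obtain ⟨k, c, hkc, hk, hex⟩ := exists_cokernel_exact a (G.map (bd M q)) (G.map (M.homologyπ (q + 1)))
    (by rw [← G.map_comp, bd_homologyπ, G.map_zero])
    ((bd_exact M q).map_of_mono_of_preservesKernel G (mono_bd M q) inferInstance)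
  obtain ⟨i⟩ := Groth.CohFin.nonempty_rightDerived_one_iso (F := G) (cycSeq_shortExact M q) hac
  let j : N.homology (q + 1) ≅ cokernel (a ≫ G.map (bd M q)) :=
    (N.homologyIsCokernel q (q + 1) (by simp)).coconePointUniqueUpToIso (cokernelIsCokernel _) ≪≫
      cokernel.mapIso (N.toCycles q (q + 1)) (a ≫ G.map (bd M q)) (Iso.refl _) e
        (hf.trans (Category.id_comp _).symm)
  refine ⟨i.hom ≫ k ≫ j.inv, j.hom ≫ c, by simp [hkc], inferInstance, ?_⟩
  exact ShortComplex.exact_of_iso (S₁ := ShortComplex.mk k c hkc)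
    (S₂ := ShortComplex.mk (i.hom ≫ k ≫ j.inv) (j.hom ≫ c) (by simp [hkc]))
    (ShortComplex.isoMk i.symm j.symm (Iso.refl _) (by dsimp; simp) (by dsimp; simp)) hex

/-- Dimension shifting along an exact stretch. -/
theorem nonempty_shift : ∀ (q j : ℕ), (∀ m < q, M.ExactAt (m + 1)) →
    (∀ m < q, Groth.CohFin.RightAcyclic G (M.X m)) →
    Nonempty ((G.rightDerived (j + 1)).obj (M.cycles q) ≅ (G.rightDerived (j + q + 1)).obj (M.cycles 0)) := by
  intro q
  induction q with
  | zero => exact fun j _ _ => ⟨Iso.refl _⟩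
  | succ q ih =>
    intro j he ha
    obtain ⟨s⟩ := Groth.CohFin.nonempty_rightDerived_shift G j (cycSeq M q) (cycSeq_shortExact M q) (ha q (by omega))
    obtain ⟨t⟩ := ih (j + 1) (fun m hm => he m (by omega)) (fun m hm => ha m (by omega))
    have := isIso_bd_of_exactAt M q (he q (by omega))
    exact ⟨(G.rightDerived (j + 1)).mapIso (asIso (bd M q)).symm ≪≫ s.symm ≪≫ t ≪≫
      eqToIso (by rw [show j + 1 + q + 1 = j + (q + 1) + 1 from by omega])⟩

/-- The edge sequence of a complex exact in small positive degrees. -/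
theorem exists_edge (q : ℕ) (he : ∀ m < q, M.ExactAt (m + 1)) (ha : ∀ m, Groth.CohFin.RightAcyclic G (M.X m)) :
    ∃ (k : (G.rightDerived (q + 1)).obj (M.cycles 0) ⟶ ((G.mapHomologicalComplex (ComplexShape.up ℕ)).obj M).homology (q + 1))
      (c : ((G.mapHomologicalComplex (ComplexShape.up ℕ)).obj M).homology (q + 1) ⟶ G.obj (M.homology (q + 1)))
      (hkc : k ≫ c = 0), Mono k ∧ (ShortComplex.mk k c hkc).Exact := by
  obtain ⟨k, c, hkc, hk, hex⟩ := exists_comparison G M q (ha q)
  obtain ⟨t⟩ := nonempty_shift G M q 0 he (fun m _ => ha m)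
  let t' : (G.rightDerived 1).obj (M.cycles q) ≅ (G.rightDerived (q + 1)).obj (M.cycles 0) :=
    t ≪≫ eqToIso (by rw [Nat.zero_add])
  exact ⟨t'.inv ≫ k, c, by simp [hkc], inferInstance,
    ShortComplex.exact_of_iso (S₁ := ShortComplex.mk k c hkc)
      (S₂ := ShortComplex.mk (t'.inv ≫ k) c (by simp [hkc]))
      (ShortComplex.isoMk t' (Iso.refl _) (Iso.refl _) (by dsimp; simp) (by dsimp; simp)) hex⟩

/-- The image of a complex exact in degrees `1, …, n` computes derived functors up to degree `n`. -/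
theorem nonempty_homology_iso (n i : ℕ) (hi : i ≤ n) (he : ∀ m < n, M.ExactAt (m + 1))
    (ha : ∀ m, Groth.CohFin.RightAcyclic G (M.X m)) :
    Nonempty (((G.mapHomologicalComplex (ComplexShape.up ℕ)).obj M).homology i ≅
      (G.rightDerived i).obj (M.cycles 0)) := by
  cases i with
  | zero =>
    obtain ⟨e⟩ := nonempty_homology_zero_iso G M
    exact ⟨e ≪≫ (G.rightDerivedZeroIsoSelf.app (M.cycles 0)).symm⟩
  | succ q =>
    obtain ⟨k, c, hkc, hk, hex⟩ := exists_edge G M q (fun m hm => he m (by omega)) ha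
    have : Epi k := hex.epi_f
      ((G.map_isZero ((M.exactAt_iff_isZero_homology _).1 (he q hi))).eq_of_tgt _ _)
    exact ⟨(@asIso _ _ _ _ k (isIso_of_mono_of_epi k)).symm⟩

/-- Higher derived functors of cycles vanish when those of the homology do. -/
theorem isZero_rightDerived_cycles (n : ℕ) (ha : ∀ m, Groth.CohFin.RightAcyclic G (M.X m))
    (hH : ∀ q < n, ∀ j, 1 ≤ j → j ≤ n → IsZero ((G.rightDerived j).obj (M.homology q))) :
    ∀ q j : ℕ, 1 ≤ j → j + q ≤ n → IsZero ((G.rightDerived j).obj (M.cycles q)) := by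
  intro q
  induction q with
  | zero =>
    intro j h1 h2
    exact (hH 0 (by omega) j h1 (by omega)).of_iso ((G.rightDerived j).mapIso (CochainComplex.isoHomologyπ₀ M))
  | succ q ih =>
    intro j h1 h2
    obtain ⟨j, rfl⟩ := Nat.exists_eq_add_of_le' h1
    obtain ⟨s⟩ := Groth.CohFin.nonempty_rightDerived_shift G j (cycSeq M q) (cycSeq_shortExact M q) (ha q)
    have hB : IsZero ((G.rightDerived (j + 1)).obj (cycSeq M q).X₃) :=
      (ih (j + 2) (by omega) (by omega)).of_iso s.symm
    obtain ⟨L⟩ := Groth.RDerLib.exists_derivedLES G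
    exact (L.exact₂ _ (bdSeq_shortExact M q) (j + 1)).isZero_of_both_zeros
      (hB.eq_of_src _ _) ((hH (q + 1) (by omega) (j + 1) h1 (by omega)).eq_of_tgt _ _)

end Groth.Misc4.CmpEdge
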