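import Groth.Agent.Misc4.CmpEdge
import Groth.Prelude.Def_WeakSerre
import Mathlib.CategoryTheory.Adjunction.FullyFaithful

/-!
The inductive step for vanishing of the higher derived functors of a fully faithful right adjoint of an
exact functor, relative to a weak Serre subcategory.
-/

universe v u v' u'

set_option backward.defeqAttrib.useBackward true
set_option backward.isDefEq.respectTransparency false
set_option linter.unusedSectionVars false

open CategoryTheory CategoryTheory.Limits

namespace Groth.Misc4.CmpStep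

variable {𝒜 : Type u} [Category.{v} 𝒜] [Abelian 𝒜] [EnoughInjectives 𝒜]
  {ℬ : Type u'} [Category.{v'} ℬ] [Abelian ℬ]
  {L : ℬ ⥤ 𝒜} {E : 𝒜 ⥤ ℬ} [E.Full] [E.Faithful] [E.Additive] [PreservesFiniteLimits E]
  [L.Additive] [PreservesFiniteLimits L] [PreservesFiniteColimits L]

/-- The image of a complex, pulled back, has the homology of the complex. -/
lemma nonempty_L_homology_iso (adj : L ⊣ E) (M : CochainComplex 𝒜 ℕ) (q : ℕ) :
    Nonempty (L.obj (((E.mapHomologicalComplex (ComplexShape.up ℕ)).obj M).homology q) ≅ M.homology q) :=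
  ⟨((((E.mapHomologicalComplex (ComplexShape.up ℕ)).obj M).sc q).mapHomologyIso L).symm ≪≫
    HomologicalComplex.homologyMapIso
      (show (L.mapHomologicalComplex (ComplexShape.up ℕ)).obj ((E.mapHomologicalComplex (ComplexShape.up ℕ)).obj M) ≅ M from
        HomologicalComplex.Hom.isoOfComponents (fun i => (asIso adj.counit).app (M.X i))
          (fun i j _ => (adj.counit.naturality (M.d i j)).symm)) q⟩

/-- Pulling back kills the higher homology of the image of a resolution. -/
lemma isZero_L_homology (adj : L ⊣ E) (M : CochainComplex 𝒜 ℕ) (q : ℕ) (h : M.ExactAt q) :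
    IsZero (L.obj (((E.mapHomologicalComplex (ComplexShape.up ℕ)).obj M).homology q)) := by
  obtain ⟨e⟩ := nonempty_L_homology_iso adj M q
  exact ((M.exactAt_iff_isZero_homology q).1 h).of_iso e

/-- The unit is a monomorphism at subobjects of images. -/
lemma mono_unit (adj : L ⊣ E) {T : ℬ} {Y : 𝒜} (u : T ⟶ E.obj Y) [Mono u] : Mono (adj.unit.app T) :=
  mono_of_mono_fac ((adj.homEquiv_unit _ _ _).symm.trans ((adj.homEquiv T Y).apply_symm_apply u))

variable (P : ObjectProperty ℬ) [WSerre.IsWeakSerre P]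

/-- An object of the subcategory is the image of its pullback. -/
lemma nonempty_iso_of_mem (adj : L ⊣ E) (hP : ∀ Y, P Y → IsIso (adj.unit.app Y)) {Y : ℬ} (hY : P Y) :
    Nonempty (Y ≅ E.obj (L.obj Y)) :=
  ⟨@asIso _ _ _ _ (adj.unit.app Y) (hP Y hY)⟩

/-- A morphism of the subcategory with epimorphic pullback is an epimorphism. -/
lemma epi_of_epi_map (adj : L ⊣ E) (hP : ∀ Y, P Y → IsIso (adj.unit.app Y)) {T₁ T₂ : ℬ} (f : T₁ ⟶ T₂)
    (h₁ : P T₁) (h₂ : P T₂) [Epi (L.map f)] : Epi f := by
  refine Preadditive.epi_of_cokernel_zero ?_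
  have hC : P (cokernel f) := P.prop_cokernel f h₁ h₂
  obtain ⟨e⟩ := nonempty_iso_of_mem P adj hP hC
  have h0 : IsZero (L.obj (cokernel f)) :=
    (IsZero.of_iso (isZero_cokernel_of_epi (L.map f)) (PreservesCokernel.iso L f))
  exact ((E.map_isZero h0).of_iso e).eq_of_tgt _ _

variable (n : ℕ) (hV : ∀ G : 𝒜, P (E.obj G) → ∀ j, 1 ≤ j → j ≤ n → IsZero ((E.rightDerived j).obj G))

include hV in
/-- The inductive step: the degree `n + 1` homology map of the first morphism is a monomorphism. -/
theorem mono_homologyMap (adj : L ⊣ E) (hP : ∀ Y, P Y → IsIso (adj.unit.app Y))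
    (S : ShortComplex (CochainComplex 𝒜 ℕ)) (hS : (S.map (E.mapHomologicalComplex (ComplexShape.up ℕ))).ShortExact)
    (h1 : ∀ m, S.X₁.ExactAt (m + 1))
    (h10 : P (((E.mapHomologicalComplex (ComplexShape.up ℕ)).obj S.X₁).homology 0))
    (h2 : ∀ q ≤ n, P (((E.mapHomologicalComplex (ComplexShape.up ℕ)).obj S.X₂).homology q))
    (h3 : ∀ m, Groth.CohFin.RightAcyclic E (S.X₃.X m)) :
    Mono (HomologicalComplex.homologyMap ((E.mapHomologicalComplex (ComplexShape.up ℕ)).map S.f) (n + 1)) := by
  let M := (E.mapHomologicalComplex (ComplexShape.up ℕ)).obj S.X₃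
  let φ : ∀ q, ((E.mapHomologicalComplex (ComplexShape.up ℕ)).obj S.X₂).homology q ⟶ M.homology q :=
    fun q => HomologicalComplex.homologyMap ((E.mapHomologicalComplex (ComplexShape.up ℕ)).map S.g) q
  have hLepi : ∀ q, Epi (L.map (φ q)) := fun q =>
    ((hS.homology_exact₃ q (q + 1) (by simp)).map L).epi_f
      ((isZero_L_homology adj S.X₁ (q + 1) (h1 q)).eq_of_tgt _ _)
  have hLmono : ∀ q, Mono (L.map (φ (q + 1))) := fun q =>
    ((hS.homology_exact₂ (q + 1)).map L).mono_g
      ((isZero_L_homology adj S.X₁ (q + 1) (h1 q)).eq_of_src _ _)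
  have hLM : ∀ q, q ≤ n → P (E.obj (L.obj (M.homology q))) := by
    intro q hq
    cases q with
    | zero =>
      let f₀ := HomologicalComplex.homologyMap ((E.mapHomologicalComplex (ComplexShape.up ℕ)).map S.f) 0
      obtain ⟨e⟩ := nonempty_iso_of_mem P adj hP (P.prop_cokernel f₀ h10 (h2 0 (Nat.zero_le _)))
      have hex := (hS.homology_exact₂ 0).map L
      exact P.prop_of_iso (e ≪≫ E.mapIso (PreservesCokernel.iso L f₀ ≪≫
        (cokernelIsCokernel (L.map f₀)).coconePointUniqueUpToIso (@ShortComplex.Exact.gIsCokernel _ _ _ _ _ hex (hLepi 0))))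
        (P.prop_cokernel f₀ h10 (h2 0 (Nat.zero_le _)))
    | succ q =>
      obtain ⟨e⟩ := nonempty_iso_of_mem P adj hP (h2 (q + 1) hq)
      haveI := hLepi (q + 1)
      haveI := hLmono q
      haveI := isIso_of_mono_of_epi (L.map (φ (q + 1)))
      exact P.prop_of_iso (e ≪≫ E.mapIso (asIso (L.map (φ (q + 1))))) (h2 (q + 1) hq)
  suffices Epi (φ n) by
    have hδ : hS.δ n (n + 1) (by simp) = 0 := by
      rw [← cancel_epi (φ n), comp_zero]
      exact hS.comp_δ n (n + 1) (by simp)
    exact (hS.homology_exact₁ n (n + 1) (by simp)).mono_g hδ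
  cases n with
  | zero =>
    have := hLepi 0
    obtain ⟨e⟩ := CmpEdge.nonempty_homology_zero_iso E S.X₃
    refine epi_of_epi_map P adj hP (φ 0) (h2 0 le_rfl) (P.prop_of_iso ?_ (hLM 0 le_rfl))
    exact (E.mapIso (L.mapIso e ≪≫ (asIso adj.counit).app _) ≪≫ e.symm)
  | succ m =>
    have := hLepi (m + 1)
    have := hLmono m
    have := isIso_of_mono_of_epi (L.map (φ (m + 1)))
    have hZ : IsZero ((E.rightDerived 1).obj (S.X₃.cycles m)) :=
      CmpEdge.isZero_rightDerived_cycles E S.X₃ (m + 1) h3 (fun q hq j hj1 hj2 => by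
        obtain ⟨e⟩ := nonempty_L_homology_iso adj S.X₃ q
        exact hV _ (P.prop_of_iso (E.mapIso e) (hLM q (by omega))) j hj1 hj2) m 1 le_rfl (by omega)
    obtain ⟨k, c, hkc, hk, hex⟩ := CmpEdge.exists_comparison E S.X₃ m (h3 m)
    have : Mono c := hex.mono_g (hZ.eq_of_src _ _)
    have := mono_unit adj c
    have := hP _ (h2 (m + 1) le_rfl)
    have hnat : φ (m + 1) ≫ adj.unit.app _ = adj.unit.app _ ≫ E.map (L.map (φ (m + 1))) :=
      adj.unit.naturality (φ (m + 1))
    have : Epi (adj.unit.app (M.homology (m + 1))) := epi_of_epi_fac hnat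
    haveI := isIso_of_mono_of_epi (adj.unit.app (M.homology (m + 1)))
    have he : φ (m + 1) = (adj.unit.app _ ≫ E.map (L.map (φ (m + 1)))) ≫ inv (adj.unit.app (M.homology (m + 1))) :=
      (IsIso.eq_comp_inv _).2 hnat
    rw [he]
    exact epi_comp _ _

end Groth.Misc4.CmpStep
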