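import Groth.Agent.SitesTopoi.ProjCompact
import Groth.Agent.Misc4.QCoprod
import Groth.Agent.KTheory.FiniteDimAcyclic
import Groth.Agent.Misc7.GSS.Acyclic
import Groth.Agent.LocCohZBase.ExtDerived
import Mathlib.Algebra.Homology.DerivedCategory.RightDerivedFunctorPlus
import Mathlib.Algebra.Category.Grp.EpiMono

/-!
An object whose cohomology functors commute with direct sums is compact with respect to families which are
uniformly bounded below, and compact when moreover they vanish in high degrees.
-/

universe w v u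

set_option maxHeartbeats 1000000
set_option backward.defeqAttrib.useBackward true
set_option backward.isDefEq.respectTransparency false

open CategoryTheory CategoryTheory.Limits Opposite HomologicalComplex Pretriangulated
open Groth.CohFin

namespace Groth.Misc4.CompactAcyclic

variable {A : Type u} [Category.{v} A] [Abelian A] [IsGrothendieckAbelian.{v} A] (Z : A)

local notation "up" => ComplexShape.up ℤ
local notation "q" => HomotopyCategory.quotient A (ComplexShape.up ℤ)

/-- `Hom(Z, -)` -/
noncomputable abbrev Hm : A ⥤ AddCommGrpCat.{v} := preadditiveCoyoneda.obj (op Z)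

instance preservesFiniteLimits_Hm : PreservesFiniteLimits (Hm Z) :=
  haveI : PreservesFiniteLimits (Hm Z ⋙ forget AddCommGrpCat.{v}) :=
    inferInstanceAs (PreservesFiniteLimits (coyoneda.obj (op Z)))
  preservesFiniteLimits_of_reflects_of_preserves _ (forget AddCommGrpCat.{v})

/-- maps from `Z` into direct sums are finite sums -/
lemma exists_finset_sum {T : Type v} [PreservesColimitsOfShape (Discrete T) (Hm Z)] (X : T → A)
    (z : Z ⟶ ∐ X) : ∃ (S : Finset T) (t : ∀ i, Z ⟶ X i), z = ∑ i ∈ S, t i ≫ Limits.Sigma.ι X i := by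
  classical
  let ψ : AddCommGrpCat.of (DirectSum T fun i => (Z ⟶ X i)) ⟶ (Hm Z).obj (∐ X) :=
    AddCommGrpCat.ofHom (DirectSum.toAddMonoid fun i => Preadditive.rightComp Z (Limits.Sigma.ι X i))
  have hψ : Epi ψ := ⟨fun {W} g g' h => by
    refine (isColimitOfPreserves (Hm Z) (coproductIsCoproduct X)).hom_ext fun j => ?_
    ext f
    have e := congr($h (DirectSum.of (fun i => Z ⟶ X i) j.as f))
    simp [ψ, Preadditive.rightComp] at e
    exact e⟩
  obtain ⟨x, hx⟩ := (AddCommGrpCat.epi_iff_surjective ψ).1 hψ z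
  refine ⟨DFinsupp.support x, fun i => x i, ?_⟩
  conv_lhs => rw [← hx, ← DirectSum.sum_support_of x]
  refine (map_sum (DirectSum.toAddMonoid fun i => Preadditive.rightComp Z (Limits.Sigma.ι X i)) _ _).trans ?_
  exact Finset.sum_congr rfl fun i _ => DirectSum.toAddMonoid_of _ _ _

/-- the cone of a quasi-isomorphism is acyclic -/
lemma acyclic_cone {A : Type*} [Category* A] [Abelian A]
    {K L : CochainComplex A ℤ} (φ : K ⟶ L) [QuasiIso φ] :
    (CochainComplex.mappingCone φ).Acyclic := by
  have h : HomologicalComplex.quasiIso A up φ := (HomologicalComplex.mem_quasiIso_iff φ).2 inferInstance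
  rw [← HomotopyCategory.quotient_map_mem_quasiIso_iff φ,
    HomotopyCategory.quasiIso_eq_trW_subcategoryAcyclic] at h
  exact (((HomotopyCategory.subcategoryAcyclic A).trW_iff_of_distinguished
    (CochainComplex.mappingCone.triangleh φ)
    (HomotopyCategory.mappingCone_triangleh_distinguished φ)).trans
      (HomotopyCategory.quotient_obj_mem_subcategoryAcyclic_iff_acyclic _)).1 h

lemma isZero_of_isColimit_zero {J : Type*} [Category* J] {D : Type*} [Category* D] [HasZeroMorphisms D]
    {X : J ⥤ D} (c : Cocone X) (hc : IsColimit c) (h : ∀ j, IsZero (X.obj j)) : IsZero c.pt :=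
  (IsZero.iff_id_eq_zero _).2 (hc.hom_ext fun j => (h j).eq_of_src _ _)

/-- direct sums of injectives are acyclic -/
lemma rightAcyclic_sigma {T : Type v}
    (hF : ∀ p : ℕ, PreservesColimitsOfShape (Discrete T) ((Hm Z).rightDerived p))
    (K : T → CochainComplex A ℤ) (hK : ∀ t n, Injective ((K t).X n)) (n : ℤ) :
    RightAcyclic (Hm Z) ((∐ K).X n) := fun j => by
  haveI := hF (j + 1)
  exact isZero_of_isColimit_zero _
    (isColimitOfPreserves (eval A up n ⋙ (Hm Z).rightDerived (j + 1))
      (colimit.isColimit (Discrete.functor K)))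
    fun t => haveI := hK t.as n; (Hm Z).isZero_rightDerived_obj_injective_succ j ((K t.as).X n)

variable [HasDerivedCategory.{v} A]

/-- maps from `Z` lift along a quasi-isomorphism whose cone stays exact after applying `Hom(Z, -)` -/
lemma surjective_Q_map {K J : CochainComplex A ℤ} [J.IsKInjective] (r : K ⟶ J) [QuasiIso r]
    (hC : (((Hm Z).mapHomologicalComplex up).obj (CochainComplex.mappingCone r)).ExactAt 0) :
    Function.Surjective (DerivedCategory.Q.map : ((single A up 0).obj Z ⟶ K) → _) := by
  intro φ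
  let C := CochainComplex.mappingCone r
  obtain ⟨u, hu⟩ := Groth.DerivedCoh.KInjRes.Q_map_surjective _ J (φ ≫ DerivedCategory.Q.map r)
  have hnull : ∀ v : (single A up 0).obj Z ⟶ C, (q).map v = 0 := by
    intro v
    rw [exactAt_iff' _ (-1) 0 1 (by simp) (by simp), ShortComplex.ab_exact_iff] at hC
    let z : Z ⟶ C.X 0 := (singleObjXSelf up 0 Z).inv ≫ v.f 0
    obtain ⟨x, hx⟩ := hC z (by
      change z ≫ C.d 0 1 = 0
      simp [z])
    have hx' : x ≫ C.d (-1) 0 = z := hx
    refine (HomotopyCategory.eq_of_homotopy v 0 ?_).trans (Functor.map_zero _ _ _)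
    exact
      { hom := fun i j => if h : i = 0 ∧ j = -1 then
          (singleObjXIsoOfEq up 0 Z i h.1).hom ≫ x ≫ eqToHom (congrArg C.X h.2.symm) else 0
        zero := fun i j hij => dif_neg fun h => hij (by simp [h.1, h.2])
        comm := fun i => by
          rw [dNext_eq _ (show (up).Rel i (i + 1) from rfl), zero_f, add_zero]
          by_cases hi : i = 0
          · subst hi
            rw [prevD_eq _ (show (up).Rel (-1) 0 by simp),
              dif_neg (by lia : ¬((0 : ℤ) + 1 = 0 ∧ (0 : ℤ) = -1)), comp_zero, zero_add,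
              dif_pos ⟨rfl, rfl⟩]
            change v.f 0 = ((singleObjXSelf up 0 Z).hom ≫ x ≫ 𝟙 _) ≫ C.d (-1) 0
            rw [Category.comp_id, Category.assoc, hx']
            simp [z]
          · exact (isZero_single_obj_X up 0 Z i hi).eq_of_src _ _ }
  obtain ⟨g, hg⟩ : ∃ g : (q).obj ((single A up 0).obj Z) ⟶ (q).obj K, (q).map u = g ≫ (q).map r := by
    have hT := HomotopyCategory.mappingCone_triangleh_distinguished r
    refine Triangle.coyoneda_exact₂ _ hT ((q).map u) ?_
    change (q).map u ≫ (q).map (CochainComplex.mappingCone.inr r) = 0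
    rw [← Functor.map_comp]
    exact hnull _
  obtain ⟨w, rfl⟩ := (q).map_surjective g
  refine ⟨w, ?_⟩
  haveI : IsIso (DerivedCategory.Q.map r) := inferInstance
  rw [← cancel_mono (DerivedCategory.Q.map r), ← Functor.map_comp, ← hu]
  have h : (q).map (w ≫ r) = (q).map u := by rw [Functor.map_comp]; exact hg.symm
  exact DerivedCategory.Q_map_eq_of_homotopy _ (HomotopyCategory.homotopyOfEq _ _ h)

variable {T : Type v} (hF : ∀ p : ℕ, PreservesColimitsOfShape (Discrete T) ((Hm Z).rightDerived p))
  (hsum : ∀ (T' : Type v), PreservesColimitsOfShape (Discrete T') (Hm Z))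
  (X : T → DerivedCategory A)

include hF hsum in
theorem bijective_of_isGE [HasCoproduct X] (a : ℤ) (hX : ∀ t, (X t).IsGE a) :
    Function.Bijective (CohDer.homSumToHomCoprod ((DerivedCategory.singleFunctor A 0).obj Z) X) := by
  haveI : HasCoproducts.{v} (DerivedCategory A) := Groth.DerivedCoh.KInjRes.hasCoproducts
  have hrep : ∀ t, ∃ (K : CochainComplex A ℤ), K.IsStrictlyGE a ∧ (∀ n, Injective (K.X n)) ∧
      Nonempty (DerivedCategory.Q.obj K ≅ X t) := fun t => by
    haveI := hX t
    obtain ⟨L, hL, ⟨e⟩⟩ := DerivedCategory.exists_iso_Q_obj_of_isGE (X t) a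
    haveI := hL
    obtain ⟨I, i, hi, hI, hge⟩ := CochainComplex.Plus.modelCategoryQuillen.exists_quasiIso_injective L a
    haveI := hi
    exact ⟨I, hge, hI, ⟨(asIso (DerivedCategory.Q.map i)).symm ≪≫ e.symm⟩⟩
  choose K hge hI hK using hrep
  haveI : (∐ K).IsStrictlyGE a := by
    rw [CochainComplex.isStrictlyGE_iff]
    intro i hi
    exact isZero_of_isColimit_zero _ (isColimitOfPreserves (eval A up i)
      (colimit.isColimit (Discrete.functor K))) fun t => (K t.as).isZero_of_isStrictlyGE a i hi
  obtain ⟨J, r, hr, hJ, hJge⟩ :=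
    CochainComplex.Plus.modelCategoryQuillen.exists_quasiIso_injective (∐ K) a
  haveI := hJ
  haveI := hr
  haveI := hJge
  haveI := CochainComplex.isKInjective_of_injective J a
  refine Groth.SitesTopoi.ProjCompact.bijective_homSum_of_reps Z X K (fun t => (hK t).some)
    (surjective_Q_map Z r ?_) fun T' Y z => haveI := hsum T'; exists_finset_sum Z Y z
  haveI : (CochainComplex.mappingCone r).IsStrictlyGE (a - 1) := by
    rw [CochainComplex.isStrictlyGE_iff]
    intro i hi
    exact (HomologicalComplex.homotopyCofiber.XIsoBiprod r i (i + 1) rfl).isZero_iff.2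
      ((biprod_isZero_iff _ _).2 ⟨(∐ K).isZero_of_isStrictlyGE a _ (by lia),
        J.isZero_of_isStrictlyGE a _ (by lia)⟩)
  refine Groth.Misc7.GSS.exactAt_mapHomologicalComplex (Hm Z) _ (a - 1)
    (acyclic_cone r) (fun n j => ?_) 0
  exact ((rightAcyclic_biprod (Hm Z) (rightAcyclic_sigma Z hF K hI (n + 1))
    (rightAcyclic_of_injective (Hm Z) (J.X n))) j).of_iso
      (((Hm Z).rightDerived (j + 1)).mapIso (HomologicalComplex.homotopyCofiber.XIsoBiprod r n (n + 1) rfl))

include hF hsum in
theorem bijective_of_cd [HasCoproduct X] (d : ℕ) (hd : ∀ Y : A, IsZero (((Hm Z).rightDerived (d + 1)).obj Y)) :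
    Function.Bijective (CohDer.homSumToHomCoprod ((DerivedCategory.singleFunctor A 0).obj Z) X) := by
  haveI : HasCoproducts.{v} (DerivedCategory A) := Groth.DerivedCoh.KInjRes.hasCoproducts
  have hrep : ∀ t, ∃ (K : CochainComplex A ℤ), (∀ n, Injective (K.X n)) ∧
      Nonempty (DerivedCategory.Q.obj K ≅ X t) := fun t => by
    let L := (DerivedCategory.Q (C := A)).objPreimage (X t)
    obtain ⟨I, i, -, hi, -, hI⟩ := Groth.DerivedCoh.KInjRes.exists_resolution L
    haveI := hi
    exact ⟨I, hI, ⟨(asIso (DerivedCategory.Q.map i)).symm ≪≫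
      (DerivedCategory.Q (C := A)).objObjPreimageIso (X t)⟩⟩
  choose K hI hK using hrep
  obtain ⟨J, r, -, hr, hJK, hJ⟩ := Groth.DerivedCoh.KInjRes.exists_resolution (∐ K)
  haveI := hr
  haveI := hJK
  haveI := hJ
  refine Groth.SitesTopoi.ProjCompact.bijective_homSum_of_reps Z X K (fun t => (hK t).some)
    (surjective_Q_map Z r ?_) fun T' Y z => haveI := hsum T'; exists_finset_sum Z Y z
  refine Groth.Agent.FiniteDim.exactAt_map (Hm Z) (d + 1) hd _
    (acyclic_cone r) (fun n j => ?_) 0
  exact ((rightAcyclic_biprod (Hm Z) (rightAcyclic_sigma Z hF K hI (n + 1))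
    (rightAcyclic_of_injective (Hm Z) (J.X n))) j).of_iso
      (((Hm Z).rightDerived (j + 1)).mapIso (HomologicalComplex.homotopyCofiber.XIsoBiprod r n (n + 1) rfl))

end Groth.Misc4.CompactAcyclic
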