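import Groth.Agent.DAlg.TorAmp
import Groth.Agent.DAlg.PCoh
import Groth.Agent.DerivedCoh.PCoh.Perfect
import Groth.Agent.DerivedCoh.TildeD.Iff
import Groth.Agent.PropsBasic2.TildeExact
import Groth.Agent.Misc4.QCoprod
import Groth.Agent.DerivedCoh.KInj.Products

/-!
# Compact objects of the derived category of a ring are perfect
-/

universe u

open CategoryTheory CategoryTheory.Limits Pretriangulated HomologicalComplex
open Groth.DAlg Groth.FlatCxBase
open scoped ZeroObject

attribute [local instance] HasDerivedCategory.standard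

set_option backward.isDefEq.respectTransparency false
set_option synthInstance.maxHeartbeats 400000
set_option maxHeartbeats 1000000
set_option linter.style.haveILetI false

namespace Groth.Misc4.CompactModule

local notation "up" => ComplexShape.up ℤ

section Kill

variable {C : Type*} [Category C] [Preadditive C] {I : Type*} [DecidableEq I] (M : I → C) [HasCoproduct M]

/-- The endomorphism of a direct sum killing the summands in `S`. -/
noncomputable def kill (S : Finset I) : ∐ M ⟶ ∐ M :=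
  Limits.Sigma.desc fun i => if i ∈ S then 0 else Limits.Sigma.ι M i

lemma kill_comp (S S' : Finset I) : kill M S ≫ kill M S' = kill M (S ∪ S') := by
  refine Limits.Sigma.hom_ext _ _ fun i => ?_
  simp only [kill, Limits.Sigma.ι_desc_assoc, Limits.Sigma.ι_desc, Finset.mem_union]
  by_cases h : i ∈ S
  · simp [h]
  · simp [h]

lemma sum_add_kill (S : Finset I) :
    (∑ i ∈ S, (Limits.Sigma.desc fun j => if h : j = i then eqToHom (congrArg M h) else 0) ≫ Limits.Sigma.ι M i) +
      kill M S = 𝟙 _ := by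
  refine Limits.Sigma.hom_ext _ _ fun j => ?_
  rw [Preadditive.comp_add, Preadditive.comp_sum, Category.comp_id]
  simp only [kill, Limits.Sigma.ι_desc_assoc, Limits.Sigma.ι_desc]
  by_cases h : j ∈ S
  · rw [if_pos h, add_zero, Finset.sum_eq_single j]
    · simp
    · intro i _ hi
      rw [dif_neg (Ne.symm hi), zero_comp]
    · exact fun h' => absurd h h'
  · rw [if_neg h, Finset.sum_eq_zero, zero_add]
    intro i hi
    rw [dif_neg (by rintro rfl; exact h hi), zero_comp]

lemma exists_sum_of_kill {K : C} (φ : K ⟶ ∐ M) (S : Finset I) (h : φ ≫ kill M S = 0) :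
    ∃ f : ∀ i, K ⟶ M i, φ = ∑ i ∈ S, f i ≫ Limits.Sigma.ι M i := by
  refine ⟨fun i => φ ≫ Limits.Sigma.desc fun j => if h : j = i then eqToHom (congrArg M h) else 0, ?_⟩
  simp only [Category.assoc]
  rw [← Preadditive.comp_sum]
  conv_lhs => rw [← Category.comp_id φ, ← sum_add_kill M S, Preadditive.comp_add, h, add_zero]

lemma kill_sum {K : C} (f : ∀ i, K ⟶ M i) (S : Finset I) :
    (∑ i ∈ S, f i ≫ Limits.Sigma.ι M i) ≫ kill M S = 0 := by
  rw [Preadditive.sum_comp]
  refine Finset.sum_eq_zero fun i hi => ?_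
  simp [kill, hi]

end Kill

variable {A : Type u} [CommRing A]

/-- Maps out of `K` into small direct sums only involve finitely many summands. -/
def Cpt (K : Dual.D A) : Prop :=
  ∀ (I : Type u) [DecidableEq I] (M : I → Dual.D A) [HasCoproduct M] (φ : K ⟶ ∐ M),
    ∃ S : Finset I, φ ≫ kill M S = 0

lemma cpt_of_sum {K : Dual.D A}
    (h : ∀ (I : Type u) (M : I → Dual.D A) [HasCoproduct M] (φ : K ⟶ ∐ M),
      ∃ (S : Finset I) (f : ∀ i, K ⟶ M i), φ = ∑ i ∈ S, f i ≫ Limits.Sigma.ι M i) : Cpt K := by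
  intro I _ M _ φ
  obtain ⟨S, f, rfl⟩ := h I M φ
  exact ⟨S, kill_sum M f S⟩

lemma Cpt.of_iso {K L : Dual.D A} (h : Cpt K) (e : K ≅ L) : Cpt L := fun I _ M _ φ => by
  obtain ⟨S, hS⟩ := h I M (e.hom ≫ φ)
  exact ⟨S, (cancel_epi e.hom).1 (by rw [← Category.assoc, hS, comp_zero])⟩

lemma Cpt.shift {K : Dual.D A} (h : Cpt K) (n : ℤ) : Cpt (K⟦n⟧) := fun I _ M _ φ => by
  haveI : HasCoproducts.{u} (Dual.D A) := Groth.DerivedCoh.KInjRes.hasCoproducts
  let F := shiftFunctor (Dual.D A) n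
  let ι' : ∀ i, ((M i)⟦-n⟧)⟦n⟧ ≅ M i := fun i => (shiftFunctorCompIsoId (Dual.D A) (-n) n (by omega)).app (M i)
  let c : (∐ fun i => (M i)⟦-n⟧)⟦n⟧ ≅ ∐ M :=
    IsColimit.coconePointsIsoOfNatIso (isColimitOfPreserves F (coproductIsCoproduct fun i => (M i)⟦-n⟧))
      (coproductIsCoproduct M) (Discrete.natIso fun i => ι' i.as)
  have hc : ∀ i, (Limits.Sigma.ι (fun i => (M i)⟦-n⟧) i)⟦n⟧' ≫ c.hom = (ι' i).hom ≫ Limits.Sigma.ι M i := fun i =>
    IsColimit.comp_coconePointsIsoOfNatIso_hom (isColimitOfPreserves F (coproductIsCoproduct fun i => (M i)⟦-n⟧))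
      (coproductIsCoproduct M) (Discrete.natIso fun i => ι' i.as) ⟨i⟩
  obtain ⟨ψ, hψ⟩ := F.map_surjective (φ ≫ c.inv)
  obtain ⟨S, hS⟩ := h I (fun i => (M i)⟦-n⟧) ψ
  refine ⟨S, ?_⟩
  have hk : (kill (fun i => (M i)⟦-n⟧) S)⟦n⟧' ≫ c.hom = c.hom ≫ kill M S := by
    refine (isColimitOfPreserves F (coproductIsCoproduct fun i => (M i)⟦-n⟧)).hom_ext fun ⟨i⟩ => ?_
    change (Limits.Sigma.ι (fun i => (M i)⟦-n⟧) i)⟦n⟧' ≫ _ = (Limits.Sigma.ι (fun i => (M i)⟦-n⟧) i)⟦n⟧' ≫ _
    rw [← Functor.map_comp_assoc, reassoc_of% hc i]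
    simp only [kill, Limits.Sigma.ι_desc]
    split_ifs <;> simp [hc]
  have := congrArg (fun t => t⟦n⟧' ≫ c.hom) hS
  simp only [Functor.map_comp, Functor.map_zero, zero_comp, Category.assoc] at this
  rw [hk] at this
  change F.map ψ ≫ _ = 0 at this
  rw [hψ] at this
  simpa using this

lemma Cpt.fiber {T : Triangle (Dual.D A)} (hT : T ∈ distTriang _) (h₂ : Cpt T.obj₂) (h₃ : Cpt T.obj₃) :
    Cpt T.obj₁ := fun I _ M _ φ => by
  obtain ⟨S, hS⟩ := h₃.shift (-1) I M (T.invRotate.mor₁ ≫ φ)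
  obtain ⟨ψ, hψ⟩ := Triangle.yoneda_exact₂ _ (inv_rot_of_distTriang _ hT) (φ ≫ kill M S)
    ((Category.assoc _ _ _).symm.trans hS)
  obtain ⟨S', hS'⟩ := h₂ I M ψ
  refine ⟨S ∪ S', ?_⟩
  rw [← kill_comp, reassoc_of% hψ]
  exact (congrArg (_ ≫ ·) hS').trans comp_zero

lemma cpt_of_isZero {K : Dual.D A} (h : IsZero K) : Cpt K := fun _ _ _ _ _ => ⟨∅, h.eq_of_src _ _⟩

/-- `A[n]`. -/
noncomputable abbrev unitAt (A : Type u) [CommRing A] (n : ℤ) : Dual.D A :=
  DerivedCategory.Q.obj ((HomologicalComplex.single (ModuleCat.{u} A) up n).obj (ModuleCat.of A A))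

lemma isPerfect_unitAt (n : ℤ) : DRing.IsPerfect A (unitAt A n) := by
  refine ⟨_, n, n, fun i hi => isZero_single_obj_X up n _ i (by omega), fun i => ?_, ⟨Iso.refl _⟩⟩
  by_cases h : i = n
  · subst h
    exact (isAdditiveSub_finProj A).of_iso (singleObjXSelf up i (ModuleCat.of A A)).symm
      ⟨inferInstanceAs (Module.Finite A A), inferInstanceAs (Module.Projective A A)⟩
  · exact (isAdditiveSub_finProj A).zero _ (isZero_single_obj_X up n _ i h)

/-- `f` into `F` can be killed up to a perfect error. -/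
def Good (F : Dual.D A) : Prop :=
  ∀ (C : Dual.D A), Cpt C → ∀ f : C ⟶ F, ∃ (C' W : Dual.D A) (u : C' ⟶ C) (v : C ⟶ W) (w : W ⟶ C'⟦(1 : ℤ)⟧),
    Triangle.mk u v w ∈ distTriang (Dual.D A) ∧ Cpt C' ∧ DRing.IsPerfect A W ∧ u ≫ f = 0

lemma exists_comp {C C' C'' W W' : Dual.D A} {u : C' ⟶ C} {v : C ⟶ W} {w : W ⟶ C'⟦(1 : ℤ)⟧}
    {u' : C'' ⟶ C'} {v' : C' ⟶ W'} {w' : W' ⟶ C''⟦(1 : ℤ)⟧}
    (hT : Triangle.mk u v w ∈ distTriang (Dual.D A)) (hT' : Triangle.mk u' v' w' ∈ distTriang (Dual.D A))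
    (hW : DRing.IsPerfect A W) (hW' : DRing.IsPerfect A W') :
    ∃ (V : Dual.D A) (b : C ⟶ V) (d : V ⟶ C''⟦(1 : ℤ)⟧),
      Triangle.mk (u' ≫ u) b d ∈ distTriang (Dual.D A) ∧ DRing.IsPerfect A V := by
  obtain ⟨V, b, d, hV⟩ := distinguished_cocone_triangle (u' ≫ u)
  exact ⟨V, b, d, hV, IsPerfect.ext (Triangulated.someOctahedron rfl hT' hT hV).mem hW' hW⟩

lemma Good.ext {T : Triangle (Dual.D A)} (hT : T ∈ distTriang (Dual.D A)) (h₁ : Good T.obj₁) (h₃ : Good T.obj₃) :
    Good T.obj₂ := fun C hC f => by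
  obtain ⟨C', W, u, v, w, hu, hC', hW, huf⟩ := h₃ C hC (f ≫ T.mor₂)
  obtain ⟨g, hg⟩ := Triangle.coyoneda_exact₂ _ hT (u ≫ f) ((Category.assoc _ _ _).trans huf)
  obtain ⟨C'', W', u', v', w', hu', hC'', hW', hug⟩ := h₁ C' hC' g
  obtain ⟨V, b, d, hV, hVp⟩ := exists_comp hu hu' hW hW'
  refine ⟨C'', V, u' ≫ u, b, d, hV, hC'', hVp, ?_⟩
  rw [Category.assoc, hg, reassoc_of% hug, zero_comp]

lemma Good.of_retract {F G : Dual.D A} (h : Good G) (s : F ⟶ G) (r : G ⟶ F) (hsr : s ≫ r = 𝟙 F) : Good F :=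
  fun C hC f => by
  obtain ⟨C', W, u, v, w, hu, hC', hW, huf⟩ := h C hC (f ≫ s)
  refine ⟨C', W, u, v, w, hu, hC', hW, ?_⟩
  rw [← Category.comp_id (u ≫ f), ← hsr, ← Category.assoc, Category.assoc u f s, huf, zero_comp]

lemma Good.of_iso {F G : Dual.D A} (h : Good G) (e : F ≅ G) : Good F := h.of_retract e.hom e.inv e.hom_inv_id

lemma good_of_isZero {F : Dual.D A} (h : IsZero F) : Good F := fun C hC f =>
  ⟨C, 0, 𝟙 C, 0, 0, contractible_distinguished C, hC, IsPerfect.of_isZero (isZero_zero _), h.eq_of_tgt _ _⟩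

lemma cpt_unitAt (n : ℤ) : Cpt (unitAt A n) := fun I _ M _ φ => by
  classical
  haveI : HasCoproducts.{u} (Dual.D A) := Groth.DerivedCoh.KInjRes.hasCoproducts
  let C := fun i => DerivedCategory.Q.objPreimage (M i)
  obtain ⟨hQ⟩ := Groth.Misc4.QCoprod.nonempty_isColimit C
  let s : DerivedCategory.Q.obj (∐ C) ≅ ∐ M :=
    IsColimit.coconePointsIsoOfNatIso hQ (colimit.isColimit _)
      (Discrete.natIso fun i => DerivedCategory.Q.objObjPreimageIso (M i.as))
  haveI : CochainComplex.IsKProjective ((HomologicalComplex.single (ModuleCat.{u} A) up n).obj (ModuleCat.of A A)) := by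
    refine Groth.DAlg.isKProjective_of_bounded (b := n) (fun i hi => isZero_single_obj_X up n _ i (by omega))
      fun i => ?_
    by_cases h : i = n
    · subst h
      exact Module.Projective.of_equiv (singleObjXSelf up i (ModuleCat.of A A)).symm.toLinearEquiv
    · haveI := ModuleCat.subsingleton_of_isZero (isZero_single_obj_X up n (ModuleCat.of A A) i h)
      infer_instance
  obtain ⟨x, hx⟩ := (CochainComplex.IsKProjective.Qh_map_bijective
    ((HomologicalComplex.single (ModuleCat.{u} A) up n).obj (ModuleCat.of A A))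
    ((HomotopyCategory.quotient _ _).obj (∐ C))).surjective
    ((DerivedCategory.quotientCompQhIso _).hom.app _ ≫ (φ ≫ s.inv) ≫
      (DerivedCategory.quotientCompQhIso _).inv.app _)
  obtain ⟨γ, rfl⟩ := (HomotopyCategory.quotient _ _).map_surjective x
  have hγ : DerivedCategory.Q.map γ = φ ≫ s.inv := by
    have h := (DerivedCategory.quotientCompQhIso (ModuleCat.{u} A)).hom.naturality γ
    simp only [Functor.comp_map] at h
    rw [hx] at h
    exact ((cancel_epi _).1 (h.symm.trans (by simp)))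
  -- the image of `1` has finite support
  let E := eval (ModuleCat.{u} A) up n
  let e : (∐ C).X n ≅ ∐ fun i => (C i).X n := (PreservesCoproduct.iso E C)
  let x₀ := (ModuleCat.coprodIsoDirectSum fun i => (C i).X n).hom
    (e.hom (γ.f n ((singleObjXSelf up n (ModuleCat.of A A)).inv (1 : A))))
  refine ⟨DFinsupp.support x₀, ?_⟩
  let S := DFinsupp.support x₀
  have hk : DerivedCategory.Q.map (kill C S) ≫ s.hom = s.hom ≫ kill M S := by
    refine hQ.hom_ext fun ⟨i⟩ => ?_
    have hs : ∀ i, DerivedCategory.Q.map (Limits.Sigma.ι C i) ≫ s.hom =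
        (DerivedCategory.Q.objObjPreimageIso (M i)).hom ≫ Limits.Sigma.ι M i := fun i =>
      IsColimit.comp_coconePointsIsoOfNatIso_hom hQ (colimit.isColimit _) _ ⟨i⟩
    change DerivedCategory.Q.map (Limits.Sigma.ι C i) ≫ _ = DerivedCategory.Q.map (Limits.Sigma.ι C i) ≫ _
    rw [← Functor.map_comp_assoc, reassoc_of% hs i]
    simp only [kill, Limits.Sigma.ι_desc]
    split_ifs <;> simp [hs]
  have h0 : γ ≫ kill C S = 0 := by
    refine from_single_hom_ext ?_
    rw [comp_f, zero_f]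
    refine (cancel_epi (singleObjXSelf up n (ModuleCat.of A A)).inv).1 ?_
    rw [comp_zero]
    refine ModuleCat.hom_ext (LinearMap.ext_ring ?_)
    have hxs : γ.f n ((singleObjXSelf up n (ModuleCat.of A A)).inv (1 : A)) =
        ∑ i ∈ S, (Limits.Sigma.ι C i).f n (x₀ i) := by
      apply (e ≪≫ ModuleCat.coprodIsoDirectSum fun i => (C i).X n).toLinearEquiv.injective
      rw [map_sum]
      change x₀ = _
      conv_lhs => rw [← DirectSum.sum_support_of x₀]
      refine Finset.sum_congr rfl fun i _ => ?_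
      change _ = (ModuleCat.coprodIsoDirectSum fun i => (C i).X n).hom (e.hom ((Limits.Sigma.ι C i).f n (x₀ i)))
      have h1 : (Limits.Sigma.ι C i).f n ≫ e.hom = Limits.Sigma.ι (fun i => (C i).X n) i :=
        (Iso.comp_inv_eq e).1 ((congrArg (Limits.Sigma.ι (fun i => (C i).X n) i ≫ ·) (PreservesCoproduct.inv_hom E C)).trans
          (ι_comp_sigmaComparison E C i)) |>.symm
      rw [← ConcreteCategory.comp_apply ((Limits.Sigma.ι C i).f n) e.hom, h1,
        ← ConcreteCategory.comp_apply, ModuleCat.ι_coprodIsoDirectSum_hom]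
      rfl
    show (kill C S).f n (γ.f n ((singleObjXSelf up n (ModuleCat.of A A)).inv (1 : A))) = 0
    rw [hxs, map_sum]
    refine Finset.sum_eq_zero fun i hi => ?_
    rw [← ConcreteCategory.comp_apply, ← comp_f, show Limits.Sigma.ι C i ≫ kill C S = 0 by simp [kill, hi]]
    rfl
  refine (cancel_mono s.inv).1 ?_
  have h1 : kill M S ≫ s.inv = s.inv ≫ DerivedCategory.Q.map (kill C S) := by
    rw [Iso.comp_inv_eq, Category.assoc, hk, Iso.inv_hom_id_assoc]
  rw [zero_comp, Category.assoc, h1, ← Category.assoc, ← hγ, ← Functor.map_comp, h0, Functor.map_zero]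

lemma good_sigma {J : Type u} (n : ℤ) [HasCoproduct fun _ : J => unitAt A n] : Good (∐ fun _ : J => unitAt A n) := by
  classical
  intro C hC f
  obtain ⟨S, hS⟩ := hC J _ f
  obtain ⟨g, rfl⟩ := exists_sum_of_kill _ f S hS
  clear hS
  suffices ∃ (C' W : Dual.D A) (u : C' ⟶ C) (v : C ⟶ W) (w : W ⟶ C'⟦(1 : ℤ)⟧),
      Triangle.mk u v w ∈ distTriang (Dual.D A) ∧ Cpt C' ∧ DRing.IsPerfect A W ∧ ∀ i ∈ S, u ≫ g i = 0 by
    obtain ⟨C', W, u, v, w, hu, hC', hW, h⟩ := this
    refine ⟨C', W, u, v, w, hu, hC', hW, ?_⟩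
    rw [Preadditive.comp_sum]
    exact Finset.sum_eq_zero fun i hi => by rw [reassoc_of% h i hi, zero_comp]
  induction S using Finset.induction_on with
  | empty => exact ⟨C, 0, 𝟙 C, 0, 0, contractible_distinguished C, hC, IsPerfect.of_isZero (isZero_zero _), by simp⟩
  | @insert j S hj ih =>
    obtain ⟨C', W, u, v, w, hu, hC', hW, h⟩ := ih
    obtain ⟨C'', u', d, hu'⟩ := distinguished_cocone_triangle₁ (u ≫ g j)
    obtain ⟨V, b, e, hV, hVp⟩ := exists_comp hu hu' hW (isPerfect_unitAt n)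
    refine ⟨C'', V, u' ≫ u, b, e, hV, Cpt.fiber hu' hC' (cpt_unitAt n), hVp, fun i hi => ?_⟩
    rcases Finset.mem_insert.1 hi with rfl | hi
    · exact (Category.assoc _ _ _).trans (comp_distTriang_mor_zero₁₂ _ hu')
    · rw [Category.assoc, h i hi, comp_zero]

lemma good_single (n : ℤ) (P : ModuleCat.{u} A) [Module.Projective A P] :
    Good ((DerivedCategory.singleFunctor (ModuleCat.{u} A) n).obj P) := by
  haveI : HasCoproducts.{u} (Dual.D A) := Groth.DerivedCoh.KInjRes.hasCoproducts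
  refine Good.of_iso ?_ ((DerivedCategory.singleFunctorIsoCompQ (ModuleCat.{u} A) n).app P)
  show Good (DerivedCategory.Q.obj ((HomologicalComplex.single (ModuleCat.{u} A) up n).obj P))
  obtain ⟨σ, hσ⟩ := Module.projective_def'.1 ‹Module.Projective A P›
  let s₁ := HomologicalComplex.single (ModuleCat.{u} A) up n
  let C : P → CochainComplex (ModuleCat.{u} A) ℤ := fun _ => s₁.obj (ModuleCat.of A A)
  obtain ⟨hQ⟩ := Groth.Misc4.QCoprod.nonempty_isColimit C
  let el : P → (∐ C).X n := fun p => (Limits.Sigma.ι C p).f n ((singleObjXSelf up n (ModuleCat.of A A)).inv (1 : A))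
  have hd : ∀ k, (ComplexShape.up ℤ).Rel n k → (∐ C).d n k = 0 := fun k hk => by
    refine (isColimitOfPreserves (eval (ModuleCat.{u} A) up n) (coproductIsCoproduct C)).hom_ext fun ⟨p⟩ => ?_
    change (Limits.Sigma.ι C p).f n ≫ _ = (Limits.Sigma.ι C p).f n ≫ _
    rw [comp_zero, (Limits.Sigma.ι C p).comm, single_obj_d, zero_comp]
  let a : s₁.obj P ⟶ ∐ C := mkHomFromSingle
    (ModuleCat.ofHom ((Finsupp.linearCombination A el).comp σ)) fun k hk => by rw [hd k hk, comp_zero]
  let b : ∐ C ⟶ s₁.obj P := Limits.Sigma.desc fun p => s₁.map (ModuleCat.ofHom (LinearMap.toSpanSingleton A P p))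
  have hab : a ≫ b = 𝟙 _ := by
    refine from_single_hom_ext ?_
    rw [comp_f, id_f, mkHomFromSingle_f, Category.assoc, ← cancel_epi (singleObjXSelf up n P).inv,
      Iso.inv_hom_id_assoc, Category.comp_id, ← cancel_mono (singleObjXSelf up n P).hom, Iso.inv_hom_id]
    refine ModuleCat.hom_ext ?_
    have hb : ∀ p, (singleObjXSelf up n P).hom (b.f n (el p)) = p := fun p => by
      show (singleObjXSelf up n P).hom (b.f n ((Limits.Sigma.ι C p).f n _)) = p
      rw [← ConcreteCategory.comp_apply ((Limits.Sigma.ι C p).f n), ← comp_f, Limits.Sigma.ι_desc,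
        ← ConcreteCategory.comp_apply, ← ConcreteCategory.comp_apply, single_map_f_self]
      simp [LinearMap.toSpanSingleton_apply]
    change ((singleObjXSelf up n P).hom.hom ∘ₗ (b.f n).hom) ∘ₗ ((Finsupp.linearCombination A el).comp σ) = LinearMap.id
    rw [← LinearMap.comp_assoc]
    conv_rhs => rw [← hσ]
    congr 1
    refine Finsupp.lhom_ext fun p r => ?_
    rw [LinearMap.comp_apply, Finsupp.linearCombination_single, Finsupp.linearCombination_single, map_smul]
    exact congrArg (r • ·) (hb p)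
  haveI : HasCoproduct fun _ : P => unitAt A n := inferInstance
  let e : DerivedCategory.Q.obj (∐ C) ≅ ∐ fun _ : P => unitAt A n :=
    hQ.coconePointUniqueUpToIso (coproductIsCoproduct fun _ : P => unitAt A n)
  refine Good.of_retract (good_sigma n (J := P)) (DerivedCategory.Q.map a ≫ e.hom) (e.inv ≫ DerivedCategory.Q.map b) ?_
  rw [Category.assoc, e.hom_inv_id_assoc, ← Functor.map_comp, hab, CategoryTheory.Functor.map_id]

lemma good_bounded (E : DRing.Cx A) {a b : ℤ} (h : DRing.VanishesOutside E a b)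
    (hP : ∀ i, Module.Projective A (E.X i)) : Good (DRing.toD E) :=
  Groth.DAlg.bounded_induction Good (fun X Y e hX => hX.of_iso e.symm) (fun T hT => Good.ext hT)
    (fun X hX => good_of_isZero hX) E a b h fun i => haveI := hP i; good_single i (E.X i)

lemma isPerfect_of_split {K C : Dual.D A} {W : Dual.D A} {u : C ⟶ K} {v : K ⟶ W} {w : W ⟶ C⟦(1 : ℤ)⟧}
    (hT : Triangle.mk u v w ∈ distTriang (Dual.D A)) (hu : u = 0) (hW : DRing.IsPerfect A W) :
    DRing.IsPerfect A K := by
  haveI := Groth.PropsBasic2.preservesFiniteLimits_tilde (CommRingCat.of A)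
  let G := DCoh.tildeD (CommRingCat.of A)
  obtain ⟨e, -, -⟩ := exists_iso_binaryBiproduct_of_distTriang _
    (G.map_distinguished _ (rot_of_distTriang _ hT)) (by
      show G.map (-u⟦(1 : ℤ)⟧') ≫ _ = 0
      rw [hu, Functor.map_zero, neg_zero, Functor.map_zero, zero_comp])
  exact (Groth.DerivedCoh.TildeD.isPerfect_tildeD_iff K).1
    (Groth.DerivedCoh.PCoh.isPerfect_summands _ _ (Groth.KTheory.Perf.isPerfect_of_iso e
      ((Groth.DerivedCoh.TildeD.isPerfect_tildeD_iff W).2 hW))).1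

/-- The test map from a complex to the direct sum of its cokernels in all degrees; killing it outside `S`. -/
lemma exists_test (L : DRing.Cx A) (hL : Cpt (DRing.toD L)) :
    ∃ S : Finset ℤ, ∀ n, n ∉ S → ∃ hφ,
      DerivedCategory.Q.map (mkHomToSingle (j := n) (ModuleCat.ofHom (cokerπ L (n - 1) n) :
        L.X n ⟶ ModuleCat.of A (Coker L (n - 1) n)) hφ) = 0 := by
  classical
  haveI : HasCoproducts.{u} (Dual.D A) := Groth.DerivedCoh.KInjRes.hasCoproducts
  let I := ULift.{u} ℤ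
  let Mo : ℤ → ModuleCat.{u} A := fun n => ModuleCat.of A (Coker L (n - 1) n)
  let C : I → CochainComplex (ModuleCat.{u} A) ℤ := fun n =>
    (HomologicalComplex.single (ModuleCat.{u} A) up n.down).obj (Mo n.down)
  have hm : ∀ n i, (ComplexShape.up ℤ).Rel i n → L.d i n ≫ ModuleCat.ofHom (cokerπ L (n - 1) n) = 0 := by
    intro n i hi
    obtain rfl : i = n - 1 := by simp at hi; omega
    refine ModuleCat.hom_ext (LinearMap.ext fun x => ?_)
    exact (Submodule.Quotient.mk_eq_zero _).2 ⟨x, rfl⟩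
  have hd : ∀ k k', (∐ C).d k k' = 0 := fun k k' => by
    refine (isColimitOfPreserves (eval (ModuleCat.{u} A) up k) (coproductIsCoproduct C)).hom_ext fun ⟨p⟩ => ?_
    change (Limits.Sigma.ι C p).f k ≫ _ = (Limits.Sigma.ι C p).f k ≫ _
    rw [comp_zero, (Limits.Sigma.ι C p).comm, single_obj_d, zero_comp]
  let comp : ∀ n : I, L ⟶ C n := fun n => mkHomToSingle (ModuleCat.ofHom (cokerπ L (n.down - 1) n.down)) (hm n.down)
  let t : L ⟶ ∐ C :=
    { f := fun n => (comp ⟨n⟩).f n ≫ (Limits.Sigma.ι C ⟨n⟩).f n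
      comm' := fun i j hij => by
        rw [hd, comp_zero, ← Category.assoc, ← (comp ⟨j⟩).comm i j,
          show (C ⟨j⟩).d i j = 0 from single_obj_d .., comp_zero, zero_comp] }
  let pr : ∀ n : I, ∐ C ⟶ C n := fun n =>
    Limits.Sigma.desc fun m => if h : m = n then eqToHom (congrArg C h) else 0
  have htp : ∀ n : I, t ≫ pr n = comp n := fun n => to_single_hom_ext (by
    show ((comp ⟨n.down⟩).f n.down ≫ (Limits.Sigma.ι C ⟨n.down⟩).f n.down) ≫ (pr n).f n.down = _
    rw [Category.assoc, ← comp_f, Limits.Sigma.ι_desc, dif_pos rfl, eqToHom_refl, id_f, Category.comp_id])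
  obtain ⟨hQ⟩ := Groth.Misc4.QCoprod.nonempty_isColimit C
  let e : DerivedCategory.Q.obj (∐ C) ≅ ∐ fun n => DerivedCategory.Q.obj (C n) :=
    hQ.coconePointUniqueUpToIso (coproductIsCoproduct fun n => DerivedCategory.Q.obj (C n))
  obtain ⟨S, hS⟩ := hL I _ (DerivedCategory.Q.map t ≫ e.hom)
  refine ⟨S.image ULift.down, fun n hn => ⟨hm n, ?_⟩⟩
  have hn' : (⟨n⟩ : I) ∉ S := fun h => hn (Finset.mem_image.2 ⟨_, h, rfl⟩)
  show DerivedCategory.Q.map (comp ⟨n⟩) = 0
  rw [← htp ⟨n⟩, Functor.map_comp]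
  have hp : DerivedCategory.Q.map (pr ⟨n⟩) = e.hom ≫ kill (fun n => DerivedCategory.Q.obj (C n)) S ≫ e.inv ≫
      DerivedCategory.Q.map (pr ⟨n⟩) := by
    refine hQ.hom_ext fun ⟨m⟩ => ?_
    change DerivedCategory.Q.map (Limits.Sigma.ι C m) ≫ _ = DerivedCategory.Q.map (Limits.Sigma.ι C m) ≫ _
    have he : DerivedCategory.Q.map (Limits.Sigma.ι C m) ≫ e.hom = Limits.Sigma.ι (fun n => DerivedCategory.Q.obj (C n)) m :=
      IsColimit.comp_coconePointUniqueUpToIso_hom hQ (coproductIsCoproduct fun n => DerivedCategory.Q.obj (C n)) ⟨m⟩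
    have he' : Limits.Sigma.ι (fun n => DerivedCategory.Q.obj (C n)) m ≫ e.inv = DerivedCategory.Q.map (Limits.Sigma.ι C m) :=
      (Iso.comp_inv_eq e).2 he.symm
    rw [reassoc_of% he]
    simp only [kill, Limits.Sigma.ι_desc_assoc]
    split_ifs with h
    · rw [zero_comp, ← Functor.map_comp, Limits.Sigma.ι_desc, dif_neg (by rintro rfl; exact hn' h), Functor.map_zero]
    · rw [reassoc_of% he']
  rw [hp, ← Category.assoc _ e.hom, ← Category.assoc _ (kill _ S), hS, zero_comp]

lemma subsingleton_HD_of_test {L : DRing.Cx A} {n : ℤ} {hφ}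
    (h : DerivedCategory.Q.map (mkHomToSingle (j := n) (ModuleCat.ofHom (cokerπ L (n - 1) n) :
        L.X n ⟶ ModuleCat.of A (Coker L (n - 1) n)) hφ) = 0) : IsZero (L.homology n) := by
  refine (L.exactAt_iff_isZero_homology n).1 ?_
  rw [L.exactAt_iff' (n - 1) n (n + 1) (by simp) (by simp), ShortComplex.moduleCat_exact_iff]
  intro x hx
  obtain ⟨w, hw⟩ := exists_boundary_of_map_eq_zero _ (i := n - 1) (j := n) (k := n + 1) (by simp) (by simp)
    (by rw [h, Functor.map_zero]) x hx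
  rw [single_obj_d] at hw
  rw [mkHomToSingle_f] at hw
  have h0 : cokerπ L (n - 1) n x = 0 := by
    have := congrArg (singleObjXSelf up n (ModuleCat.of A (Coker L (n - 1) n))).hom hw.symm
    simpa using this
  exact (Submodule.Quotient.mk_eq_zero _).1 h0

/-- Compact objects of `D(A)` are perfect. -/
theorem isPerfect_of_cpt (K : Dual.D A) (hK : Cpt K) : DRing.IsPerfect A K := by
  classical
  obtain ⟨L, ⟨eL⟩⟩ : ∃ L : DRing.Cx A, Nonempty (DRing.toD L ≅ K) :=
    ⟨_, ⟨DerivedCategory.Q.objObjPreimageIso K⟩⟩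
  obtain ⟨S, hS⟩ := exists_test L (hK.of_iso eL.symm)
  obtain ⟨b, hb⟩ := S.bddAbove
  have hbK : ∀ i, b < i → Subsingleton (Dual.HD A K i) := fun i hi => by
    obtain ⟨_, h⟩ := hS i fun hm => by have := hb hm; omega
    exact ModuleCat.subsingleton_of_isZero ((subsingleton_HD_of_test h).of_iso
      (((DerivedCategory.homologyFunctor _ i).mapIso eL).symm ≪≫
        (DerivedCategory.homologyFunctorFactors _ i).app L))
  obtain ⟨P, hP, hfree, ⟨eP⟩⟩ := exists_free_rep A hbK
  haveI hproj : ∀ i, Module.Projective A (P.X i) := fun i => haveI := hfree i; inferInstance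
  haveI := isKProjective_of_bounded hP hproj
  obtain ⟨T, hT⟩ := exists_test P (hK.of_iso eP.symm)
  obtain ⟨a₀, ha⟩ := T.bddBelow
  let c := a₀ - 1
  have hz : ∀ i, i ≤ c → IsZero (P.homology i) := fun i hi => by
    obtain ⟨_, h⟩ := hT i fun hm => by have := ha hm; omega
    exact subsingleton_HD_of_test h
  haveI : Module.Projective A (Coker P (c - 1) c) := by
    obtain ⟨hφ, h⟩ := hT c fun hm => by have := ha hm; omega
    let f := mkHomToSingle (j := c) (ModuleCat.ofHom (cokerπ P (c - 1) c) :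
      P.X c ⟶ ModuleCat.of A (Coker P (c - 1) c)) hφ
    have hq : (HomotopyCategory.quotient _ up).map f = 0 := by
      refine (CochainComplex.IsKProjective.Qh_map_bijective P _).1 ?_
      rw [Functor.map_zero, ← cancel_mono ((DerivedCategory.quotientCompQhIso (ModuleCat.{u} A)).hom.app _), zero_comp]
      exact ((DerivedCategory.quotientCompQhIso (ModuleCat.{u} A)).hom.naturality f).trans
        ((congrArg (_ ≫ ·) h).trans comp_zero)
    let H := HomotopyCategory.homotopyOfEq f 0 (hq.trans (Functor.map_zero _ _ _).symm)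
    have hc := H.comm c
    rw [dNext_eq _ (show (ComplexShape.up ℤ).Rel c (c + 1) by simp), prevD_eq _ (show (ComplexShape.up ℤ).Rel (c - 1) c by simp),
      single_obj_d, comp_zero, add_zero, zero_f, add_zero, mkHomToSingle_f] at hc
    let r : P.X (c + 1) →ₗ[A] Coker P (c - 1) c :=
      (H.hom (c + 1) c ≫ (singleObjXSelf up c (ModuleCat.of A (Coker P (c - 1) c))).hom).hom
    have hr : ∀ x, r (P.d c (c + 1) x) = cokerπ P (c - 1) c x := fun x => by
      have := congrArg (fun g => (g ≫ (singleObjXSelf up c (ModuleCat.of A (Coker P (c - 1) c))).hom) x) hc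
      simpa [r] using this.symm
    let i : Coker P (c - 1) c →ₗ[A] P.X (c + 1) := Submodule.liftQ _ (P.d c (c + 1)).hom (by
      rintro _ ⟨y, rfl⟩
      show P.d c (c + 1) (P.d (c - 1) c y) = 0
      rw [← ConcreteCategory.comp_apply, P.d_comp_d]
      rfl)
    exact Module.Projective.of_split i r (LinearMap.ext fun q => Submodule.Quotient.induction_on _ q hr)
  haveI : (allProj A).IsClosedUnderIsomorphisms := ⟨fun e h => (isAdditiveSub_allProj A).of_iso e h⟩
  have hE : ∀ i, Module.Projective A ((P.truncGE c).X i) :=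
    truncGE_X_of_prop (allProj A) P c (isAdditiveSub_allProj A).zero (fun i _ => hproj i) ‹_›
  obtain ⟨e'⟩ := nonempty_truncGE_iso (P := P) (a := c) fun i hi => hz i hi.le
  have hg : Good K := (good_bounded _ (vanishesOutside_truncGE P c hP) hE).of_iso (eP.symm ≪≫ e'.symm)
  obtain ⟨C', W, u, v, w, hu, -, hW, h0⟩ := hg K hK (𝟙 K)
  exact isPerfect_of_split hu ((Category.comp_id u).symm.trans h0) hW

end Groth.Misc4.CompactModule
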