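import Groth.Agent.Misc4.PerfectCompactQCoh
import Groth.Agent.Misc4.CompactModule
import Groth.Agent.Misc4.PerfectGenerator
import Groth.Agent.DerivedCoh.CoprodTriangle
import Groth.Agent.Misc4.RpushCoprod
import Groth.Agent.Misc4.PushRestrict
import Groth.Agent.Misc4.ApproxGlue

/-!
# Compact objects of `D_QCoh` are perfect
-/

universe u v₁ u₁ v₂ u₂

open CategoryTheory CategoryTheory.Limits Pretriangulated AlgebraicGeometry
open Groth.KTheory.Perf
open Groth.Misc4.ApproxExtend Groth.Misc4.ApproxGlue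

attribute [local instance] HasDerivedCategory.standard

set_option backward.isDefEq.respectTransparency false
set_option backward.defeqAttrib.useBackward true
set_option synthInstance.maxHeartbeats 400000
set_option maxHeartbeats 1000000

namespace Groth.Misc4.CompactScheme

local notation "up" => ComplexShape.up ℤ

/-- The derived functor of an exact functor commuting with direct sums commutes with direct sums. -/
theorem preservesColimit_mapDerived {A : Type u₁} [Category.{u} A] [Abelian A] [IsGrothendieckAbelian.{u} A]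
    {B : Type u₂} [Category.{u} B] [Abelian B] [IsGrothendieckAbelian.{u} B] (F : A ⥤ B) [F.Additive]
    [PreservesFiniteLimits F] [PreservesFiniteColimits F] {I : Type u} [PreservesColimitsOfShape (Discrete I) F]
    (M : I → DerivedCategory A) : PreservesColimit (Discrete.functor M) F.mapDerivedCategory := by
  let C := fun i => DerivedCategory.Q.objPreimage (M i)
  obtain ⟨hQ⟩ := Groth.Misc4.QCoprod.nonempty_isColimit C
  haveI : PreservesColimit (Discrete.functor C) (F.mapHomologicalComplex up) :=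
    ⟨fun {c} hc => ⟨HomologicalComplex.isColimitOfEval _ _ fun n =>
      isColimitOfPreserves F (isColimitOfPreserves (HomologicalComplex.eval A up n) hc)⟩⟩
  haveI := Groth.Misc4.QCoprod.preservesColimitsOfShape (A := B) I
  let γ' := F.mapDerivedCategoryFactors
  haveI : PreservesColimit (Discrete.functor C) (DerivedCategory.Q ⋙ F.mapDerivedCategory) :=
    preservesColimit_of_natIso _ γ'.symm
  haveI : PreservesColimit (Discrete.functor fun i => DerivedCategory.Q.obj (C i)) F.mapDerivedCategory :=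
    preservesColimit_of_preserves_colimit_cocone hQ
      ((Cofan.isColimitMapCoconeEquiv _ _ _).symm
        (Cofan.isColimitMapCoconeEquiv (DerivedCategory.Q ⋙ F.mapDerivedCategory) _ _
          (isColimitOfPreserves (DerivedCategory.Q ⋙ F.mapDerivedCategory) (coproductIsCoproduct C))))
  exact preservesColimit_of_iso_diagram _ (Discrete.natIso fun i => DerivedCategory.Q.objObjPreimageIso (M i.as) :
    Discrete.functor (fun i => DerivedCategory.Q.obj (C i)) ≅ Discrete.functor M)

variable {X : Scheme.{u}}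

lemma exists_sum {K : DCoh.D X} {P : DCoh.D X → Prop} (h : PerfAux.IsCompactObjRel.{u} P K) {I : Type u}
    (M : I → DCoh.D X) [HasCoproduct M] (hM : ∀ i, P (M i)) (φ : K ⟶ ∐ M) :
    ∃ (S : Finset I) (f : ∀ i, K ⟶ M i), φ = ∑ i ∈ S, f i ≫ Limits.Sigma.ι M i := by
  classical
  obtain ⟨x, rfl⟩ := (h I M hM).2 φ
  refine ⟨DFinsupp.support x, fun j => x j, ?_⟩
  conv_lhs => rw [← DirectSum.sum_support_of x]
  rw [map_sum]
  exact Finset.sum_congr rfl fun j _ => Groth.Misc4.PerfectCompactQCoh.homSum_of K M j (x j)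

/-- Compact objects of `D_QCoh` are perfect. -/
theorem isPerfect_of_compact [CompactSpace X] [QuasiSeparatedSpace X] (K : DCoh.D X) (hK : DCoh.IsQCohD K)
    (h : PerfAux.IsCompactObjRel.{u} (fun L : DCoh.D X => DCoh.IsQCohD L) K) : DCoh.IsPerfect K := by
  rw [isPerfect_iff]
  intro x
  obtain ⟨_, ⟨V, hV, rfl⟩, hxV, -⟩ := X.isBasis_affineOpens.exists_subset_of_mem_open (Set.mem_univ x) isOpen_univ
  replace hV : IsAffineOpen V := hV
  let R := Γ(X, V)
  let j : Spec R ⟶ X := hV.fromSpec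
  have hj : Set.range j = (V : Set X) := hV.range_fromSpec
  obtain ⟨y, rfl⟩ : x ∈ Set.range j := by rw [hj]; exact hxV
  refine exists_perfOn_of_rd j ?_ y
  haveI := Groth.PropsBasic2.preservesFiniteLimits_tilde R
  haveI := preservesFiniteLimits_restrictFunctor j
  haveI : PreservesFiniteColimits (Scheme.Modules.restrictFunctor j) :=
    haveI := (Scheme.Modules.restrictAdjunction j).leftAdjoint_preservesColimits
    inferInstance
  haveI : DCoh.HasRpush j := Groth.Misc4.PushRestrict.hasRightDerived _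
  haveI : QuasiCompact j := by
    refine ⟨fun U hU hUc => ?_⟩
    rw [j.isOpenEmbedding.isEmbedding.isCompact_iff, Set.image_preimage_eq_inter_range, hj]
    exact QuasiSeparatedSpace.inter_isCompact U _ hU hUc V.2 hV.isCompact
  let adj : DCoh.restrictD j ⊣ DCoh.Rpush j :=
    Groth.DerivedAdj.derivedAdj (Scheme.Modules.restrictAdjunction j) (Groth.DerivedCoh.KFlat.enoughKInj (Spec R))
  haveI : (DCoh.Rpush j).Additive := adj.right_adjoint_additive
  obtain ⟨N, ⟨eN⟩⟩ := (Groth.Misc4.QCohTildeD.isQCohD_iff (R := R) _).1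
    (Groth.Misc4.QCohDPerf.isQCohD_restrict j hK)
  refine isPerfect_of_iso eN ((Groth.DerivedCoh.TildeD.isPerfect_tildeD_iff N).2
    (Groth.Misc4.CompactModule.isPerfect_of_cpt N (Groth.Misc4.CompactModule.cpt_of_sum fun I M _ φ => ?_)))
  haveI : HasCoproducts.{u} (DCoh.D X) := Groth.DerivedCoh.KInjRes.hasCoproducts
  haveI : HasCoproducts.{u} (DCoh.D (Spec R)) := Groth.DerivedCoh.KInjRes.hasCoproducts
  let T : I → DCoh.D (Spec R) := fun i => (DCoh.tildeD R).obj (M i)
  have hT : ∀ i, DCoh.IsQCohD (T i) := fun i => (Groth.Misc4.QCohTildeD.isQCohD_iff (R := R) _).2 ⟨M i, ⟨Iso.refl _⟩⟩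
  let L : I → DCoh.D X := fun i => (DCoh.Rpush j).obj (T i)
  have hL : ∀ i, DCoh.IsQCohD (L i) := fun i => Groth.Misc4.QCohRpushD.isQCohD j _ (hT i)
  haveI : PreservesColimitsOfSize.{u, u} (tilde.functor R) :=
    (tilde.adjunction (R := R)).leftAdjoint_preservesColimits
  haveI : PreservesColimit (Discrete.functor M) (DCoh.tildeD R) := preservesColimit_mapDerived (tilde.functor R) M
  haveI := Groth.Misc4.RpushCoprod.isIso_sigmaDesc j T hT
  let s : (∐ T) ⟶ (DCoh.tildeD R).obj (∐ M) := sigmaComparison (DCoh.tildeD R) M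
  haveI : IsIso s := inferInstanceAs (IsIso (sigmaComparison (DCoh.tildeD R) M))
  let c : (∐ L) ⟶ (DCoh.Rpush j).obj (∐ T) := Limits.Sigma.desc fun i => (DCoh.Rpush j).map (Limits.Sigma.ι T i)
  haveI : IsIso c := ‹IsIso _›
  let ω : (DCoh.restrictD j).obj K ⟶ ∐ T := eN.inv ≫ (DCoh.tildeD R).map φ ≫ inv s
  obtain ⟨S, g, hg⟩ := exists_sum h L hL (adj.homEquiv _ _ ω ≫ inv c)
  choose f hf using fun i => (Groth.Misc4.QCohTildeD.bijective_map (R := R) N (M i)).2
    (eN.hom ≫ (adj.homEquiv _ _).symm (g i))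
  refine ⟨S, f, (Groth.Misc4.QCohTildeD.bijective_map (R := R) N (∐ M)).1 ?_⟩
  show (DCoh.tildeD R).map φ = (DCoh.tildeD R).map _
  rw [Functor.map_sum]
  have h1 : adj.homEquiv _ _ ω = ∑ i ∈ S, g i ≫ (DCoh.Rpush j).map (Limits.Sigma.ι T i) := by
    rw [IsIso.comp_inv_eq] at hg
    rw [hg, Preadditive.sum_comp]
    exact Finset.sum_congr rfl fun i _ => by simp [c, Limits.Sigma.ι_desc]
  have h2 : ω = ∑ i ∈ S, (adj.homEquiv _ _).symm (g i) ≫ Limits.Sigma.ι T i := by
    apply (adj.homAddEquiv _ _).injective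
    rw [map_sum]
    refine h1.trans (Finset.sum_congr rfl fun i _ => ?_)
    change _ = adj.homEquiv _ _ _
    rw [Adjunction.homEquiv_naturality_right, Equiv.apply_symm_apply]
  calc (DCoh.tildeD R).map φ = eN.hom ≫ ω ≫ s := by simp [ω]
    _ = _ := by
      rw [h2, Preadditive.sum_comp, Preadditive.comp_sum]
      refine Finset.sum_congr rfl fun i _ => ?_
      rw [Functor.map_comp, (show (DCoh.tildeD R).map (f i) = _ from hf i), Category.assoc, Category.assoc, ι_comp_sigmaComparison]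

/-- Compact objects among those supported on `T` are compact in `D_QCoh`. -/
theorem compact_of_compact_support [CompactSpace X] [QuasiSeparatedSpace X] {T : Set X} (hT : IsClosed T)
    (hTc : IsCompact Tᶜ) (K : DCoh.D X) (hKT : ∀ i : ℤ, CohB1.support (DCoh.HD K i) ⊆ T)
    (h : PerfAux.IsCompactObjRel.{u}
      (fun L : DCoh.D X => DCoh.IsQCohD L ∧ ∀ i : ℤ, CohB1.support (DCoh.HD L i) ⊆ T) K) :
    PerfAux.IsCompactObjRel.{u} (fun L : DCoh.D X => DCoh.IsQCohD L) K := by
  intro I M _ hM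
  classical
  refine ⟨Groth.Misc4.PerfectCompactQCoh.injective_homSum K M, fun φ => ?_⟩
  let V : X.Opens := ⟨Tᶜ, hT.isOpen_compl⟩
  haveI := Groth.FlatMorOne.quasiCompact_ι (O := V) hTc
  haveI : CompactSpace (V : Scheme.{u}) := isCompact_iff_compactSpace.1 hTc
  haveI := preservesFiniteLimits_restrictFunctor V.ι
  haveI : PreservesFiniteColimits (Scheme.Modules.restrictFunctor V.ι) :=
    haveI := (Scheme.Modules.restrictAdjunction V.ι).leftAdjoint_preservesColimits
    inferInstance
  haveI : DCoh.HasRpush V.ι := Groth.Misc4.PushRestrict.hasRightDerived _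
  let adj : DCoh.restrictD V.ι ⊣ DCoh.Rpush V.ι :=
    Groth.DerivedAdj.derivedAdj (Scheme.Modules.restrictAdjunction V.ι)
      (Groth.DerivedCoh.KFlat.enoughKInj (V : Scheme.{u}))
  haveI : (DCoh.Rpush V.ι).Additive := adj.right_adjoint_additive
  haveI := Groth.Misc4.PerfectGenerator.isIso_rpush_counit V adj
  haveI : HasCoproducts.{u} (DCoh.D X) := Groth.DerivedCoh.KInjRes.hasCoproducts
  haveI : HasCoproducts.{u} (DCoh.D (V : Scheme.{u})) := Groth.DerivedCoh.KInjRes.hasCoproducts
  let N : I → DCoh.D (V : Scheme.{u}) := fun i => (DCoh.restrictD V.ι).obj (M i)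
  have hN : ∀ i, DCoh.IsQCohD (N i) := fun i => Groth.Misc4.QCohDPerf.isQCohD_restrict V.ι (hM i)
  choose F a d hF using fun i => distinguished_cocone_triangle₁ (adj.unit.app (M i))
  let Δ : I → Triangle (DCoh.D X) := fun i => Triangle.mk (a i) (adj.unit.app (M i)) (d i)
  have hΔ : ∀ i, Δ i ∈ distTriang (DCoh.D X) := hF
  have hFq : ∀ i, DCoh.IsQCohD (F i) := fun i =>
    Groth.Misc4.QCohDPerf.isQCohD_obj₂ (Δ i).invRotate (inv_rot_of_distTriang _ (hΔ i))
      (Groth.Misc4.QCohDPerf.isQCohD_shift (Groth.Misc4.QCohRpushD.isQCohD V.ι _ (hN i)) (-1)) (hM i)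
  have hF0 : ∀ i, IsZero ((DCoh.restrictD V.ι).obj (F i)) := fun i => by
    refine (Triangle.isZero₁_iff_isIso₂ _ ((DCoh.restrictD V.ι).map_distinguished _ (hΔ i))).2 ?_
    show IsIso ((DCoh.restrictD V.ι).map (adj.unit.app (M i)))
    have e := adj.left_triangle_components (M i)
    haveI : IsIso ((DCoh.restrictD V.ι).map (adj.unit.app (M i)) ≫ adj.counit.app ((DCoh.restrictD V.ι).obj (M i))) :=
      ⟨𝟙 _, (congrArg (· ≫ 𝟙 _) e).trans (Category.comp_id _), (congrArg (𝟙 _ ≫ ·) e).trans (Category.comp_id _)⟩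
    exact IsIso.of_isIso_comp_right _ (adj.counit.app ((DCoh.restrictD V.ι).obj (M i)))
  have hFs : ∀ i m, CohB1.support (DCoh.HD (F i) m) ⊆ T := fun i m x hx => by
    by_contra hxV
    exact Set.eq_empty_iff_forall_notMem.1 (isZero_iff_support.1
      ((DerivedCategory.homologyFunctor _ m).map_isZero (hF0 i))) ⟨x, hxV⟩
      ((mem_support_hd_rd V.ι (F i) m ⟨x, hxV⟩).2 hx)
  have hzero : φ ≫ Limits.Sigma.map (fun i => (Δ i).mor₂) = 0 := by
    let c : (∐ fun i => (DCoh.Rpush V.ι).obj (N i)) ⟶ (DCoh.Rpush V.ι).obj (∐ N) :=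
      Limits.Sigma.desc fun i => (DCoh.Rpush V.ι).map (Limits.Sigma.ι N i)
    haveI : IsIso c := Groth.Misc4.RpushCoprod.isIso_sigmaDesc V.ι N hN
    refine (cancel_mono c).1 ?_
    have hz : IsZero ((DCoh.restrictD V.ι).obj K) :=
      Groth.DerivedCoh.PerfPush.isZero_restrictD (T := T) _ hKT V fun y hy => hy
    exact (adj.homEquiv _ _).symm.injective (hz.eq_of_src _ _)
  obtain ⟨γ, hγ⟩ := Groth.DerivedCoh.exists_factor_sigma Δ hΔ φ hzero
  obtain ⟨S, f, hf⟩ := exists_sum h (fun i => (Δ i).obj₁) (fun i => ⟨hFq i, hFs i⟩) γ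
  refine ⟨∑ i ∈ S, DirectSum.of (fun i => K ⟶ M i) i (f i ≫ a i), ?_⟩
  rw [map_sum, hγ, hf, Preadditive.sum_comp]
  refine Finset.sum_congr rfl fun i _ => ?_
  rw [Groth.Misc4.PerfectCompactQCoh.homSum_of, Category.assoc, Category.assoc]
  exact congrArg (f i ≫ ·) (Limits.Sigma.ι_map (fun i => (Δ i).mor₁) i).symm

end Groth.Misc4.CompactScheme
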