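import Groth.Agent.Misc4.CompactAcyclic
import Groth.Agent.Misc4.QCoprod

/-!
Maps from `Z[0]` into direct sums in a derived category (with arbitrary universe of morphisms) are finite
sums, when direct sums of injectives are acyclic for `Hom(Z, -)`.
-/

universe w v u

set_option maxHeartbeats 1000000
set_option backward.defeqAttrib.useBackward true
set_option backward.isDefEq.respectTransparency false

open CategoryTheory CategoryTheory.Limits Opposite HomologicalComplex Pretriangulated
open Groth.CohFin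

namespace Groth.Misc4.CompactSum

open CompactAcyclic (Hm)

variable {A : Type u} [Category.{v} A] [Abelian A] [IsGrothendieckAbelian.{v} A]
  [HasDerivedCategory.{w} A] (Z : A)

local notation "up" => ComplexShape.up ℤ
local notation "q" => HomotopyCategory.quotient A (ComplexShape.up ℤ)

/-- maps from `Z` lift along a quasi-isomorphism whose cone stays exact after applying `Hom(Z, -)` -/
lemma surjective_Q_map {K J : CochainComplex A ℤ} [J.IsKInjective] (r : K ⟶ J) [QuasiIso r]
    (hC : (((Hm Z).mapHomologicalComplex up).obj (CochainComplex.mappingCone r)).ExactAt 0) :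
    Function.Surjective (DerivedCategory.Q.map : ((single A up 0).obj Z ⟶ K) → _) := by
  intro φ
  let C := CochainComplex.mappingCone r
  obtain ⟨u, hu⟩ := Groth.DerivedCoh.KInjRes.Q_map_surjective _ J (φ ≫ DerivedCategory.Q.map r)
  have hnull : ∀ v : (single A up 0).obj Z ⟶ C, (q).map v = 0 := by
    intro v
    rw [exactAt_iff' _ (-1) 0 1 (by simp) (by simp), ShortComplex.ab_exact_iff] at hC
    let z : Z ⟶ C.X 0 := (singleObjXSelf up 0 Z).inv ≫ v.f 0
    obtain ⟨x, hx⟩ := hC z (by
      change z ≫ C.d 0 1 = 0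
      simp [z])
    have hx' : x ≫ C.d (-1) 0 = z := hx
    refine (HomotopyCategory.eq_of_homotopy v 0 ?_).trans (Functor.map_zero _ _ _)
    exact
      { hom := fun i j => if h : i = 0 ∧ j = -1 then
          (singleObjXIsoOfEq up 0 Z i h.1).hom ≫ x ≫ eqToHom (congrArg C.X h.2.symm) else 0
        zero := fun i j hij => dif_neg fun h => hij (by simp [h.1, h.2])
        comm := fun i => by
          rw [dNext_eq _ (show (up).Rel i (i + 1) from rfl), zero_f, add_zero]
          by_cases hi : i = 0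
          · subst hi
            rw [prevD_eq _ (show (up).Rel (-1) 0 by simp),
              dif_neg (by lia : ¬((0 : ℤ) + 1 = 0 ∧ (0 : ℤ) = -1)), comp_zero, zero_add,
              dif_pos ⟨rfl, rfl⟩]
            change v.f 0 = ((singleObjXSelf up 0 Z).hom ≫ x ≫ 𝟙 _) ≫ C.d (-1) 0
            rw [Category.comp_id, Category.assoc, hx']
            simp [z]
          · exact (isZero_single_obj_X up 0 Z i hi).eq_of_src _ _ }
  obtain ⟨g, hg⟩ : ∃ g : (q).obj ((single A up 0).obj Z) ⟶ (q).obj K, (q).map u = g ≫ (q).map r := by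
    have hT := HomotopyCategory.mappingCone_triangleh_distinguished r
    refine Triangle.coyoneda_exact₂ _ hT ((q).map u) ?_
    change (q).map u ≫ (q).map (CochainComplex.mappingCone.inr r) = 0
    rw [← Functor.map_comp]
    exact hnull _
  obtain ⟨w, rfl⟩ := (q).map_surjective g
  refine ⟨w, ?_⟩
  haveI : IsIso (DerivedCategory.Q.map r) := inferInstance
  rw [← cancel_mono (DerivedCategory.Q.map r), ← Functor.map_comp, ← hu]
  have h : (q).map (w ≫ r) = (q).map u := by rw [Functor.map_comp]; exact hg.symm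
  exact DerivedCategory.Q_map_eq_of_homotopy _ (HomotopyCategory.homotopyOfEq _ _ h)

/-- `Hom(Z, -)` kills the higher derived functors on direct sums of injectives, termwise -/
lemma rightAcyclic_sigmaX {T : Type v}
    (hA : ∀ I : T → A, (∀ t, Injective (I t)) → RightAcyclic (Hm Z) (∐ I))
    (K : T → CochainComplex A ℤ) (hK : ∀ t n, Injective ((K t).X n)) (n : ℤ) :
    RightAcyclic (Hm Z) ((∐ K).X n) := fun j => by
  haveI : PreservesColimit (Discrete.functor K) (eval A up n) :=
    preservesColimit_of_preserves_colimit_cocone (coproductIsCoproduct K)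
      (isColimitOfPreserves _ (coproductIsCoproduct K))
  exact (hA (fun t => (K t).X n) (fun t => hK t n) j).of_iso
    (((Hm Z).rightDerived (j + 1)).mapIso (PreservesCoproduct.iso (eval A up n) K))

variable {T : Type v}
  (hA : ∀ I : T → A, (∀ t, Injective (I t)) → RightAcyclic (Hm Z) (∐ I))
  (hsum : ∀ (I : T → A) (z : Z ⟶ ∐ I), ∃ (S : Finset T) (t : ∀ i, Z ⟶ I i),
    z = ∑ i ∈ S, t i ≫ Limits.Sigma.ι I i)
  {X : T → DerivedCategory A} {Y : DerivedCategory A} {ι : ∀ t, X t ⟶ Y}
  (hc : IsColimit (Cofan.mk Y ι))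

include hsum hc in
theorem exists_sum_of_reps (K : T → CochainComplex A ℤ) (e : ∀ t, DerivedCategory.Q.obj (K t) ≅ X t)
    (hsurj : Function.Surjective (DerivedCategory.Q.map : ((single A up 0).obj Z ⟶ ∐ K) → _))
    (φ : (DerivedCategory.singleFunctor A 0).obj Z ⟶ Y) :
    ∃ (S : Finset T) (f : ∀ t, (DerivedCategory.singleFunctor A 0).obj Z ⟶ X t),
      φ = ∑ t ∈ S, f t ≫ ι t := by
  classical
  let d : Y ⟶ DerivedCategory.Q.obj (∐ K) :=
    Cofan.IsColimit.desc hc fun t => (e t).inv ≫ DerivedCategory.Q.map (Sigma.ι K t)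
  let m : DerivedCategory.Q.obj (∐ K) ⟶ Y :=
    Cofan.IsColimit.desc (Groth.Misc4.QCoprod.nonempty_isColimit K).some fun t => (e t).hom ≫ ι t
  have hm : ∀ t, DerivedCategory.Q.map (Sigma.ι K t) ≫ m = (e t).hom ≫ ι t := fun t =>
    Cofan.IsColimit.fac (Groth.Misc4.QCoprod.nonempty_isColimit K).some _ t
  have hdm : d ≫ m = 𝟙 _ := Cofan.IsColimit.hom_ext hc _ _ fun t => by
    change ι t ≫ d ≫ m = ι t ≫ 𝟙 _
    rw [← Category.assoc, show ι t ≫ d = _ from Cofan.IsColimit.fac hc _ t, Category.assoc, hm,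
      Iso.inv_hom_id_assoc, Category.comp_id]
  change (DerivedCategory.Q.obj ((single A up 0).obj Z) ⟶ Y) at φ
  obtain ⟨u, hu⟩ := hsurj (φ ≫ d)
  let π : ∀ t, ∐ K ⟶ K t := fun t =>
    Sigma.desc fun s => if hst : s = t then eqToHom (congrArg K hst) else 0
  haveI : PreservesColimit (Discrete.functor K) (eval A up 0) :=
    preservesColimit_of_preserves_colimit_cocone (coproductIsCoproduct K)
      (isColimitOfPreserves _ (coproductIsCoproduct K))
  let c := PreservesCoproduct.iso (eval A up 0) K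
  obtain ⟨S, a, ha⟩ := hsum (fun t => (K t).X 0) ((singleObjXSelf up 0 Z).inv ≫ u.f 0 ≫ c.hom)
  have hι : ∀ t, Limits.Sigma.ι (fun t => (K t).X 0) t ≫ c.inv = (Sigma.ι K t).f 0 := fun t =>
    ι_comp_sigmaComparison (eval A up 0) K t
  have h0 : (singleObjXSelf up 0 Z).inv ≫ u.f 0 = ∑ t ∈ S, a t ≫ (Sigma.ι K t).f 0 := by
    have := ha =≫ c.inv
    simp only [Category.assoc] at this
    erw [c.hom_inv_id, Category.comp_id] at this
    refine this.trans ?_
    exact (Preadditive.sum_comp _ _ _).trans (Finset.sum_congr rfl fun t _ =>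
      (Category.assoc _ _ _).trans (congrArg (fun k => a t ≫ k) (hι t)))
  have hsum' : u = ∑ t ∈ S, u ≫ π t ≫ Sigma.ι K t := by
    refine HomologicalComplex.from_single_hom_ext ((cancel_epi (singleObjXSelf up 0 Z).inv).1 ?_)
    have hE : (∑ t ∈ S, u ≫ π t ≫ Sigma.ι K t).f 0 = ∑ t ∈ S, u.f 0 ≫ (π t).f 0 ≫ (Sigma.ι K t).f 0 :=
      (eval A up 0).map_sum _ _
    rw [hE, Preadditive.comp_sum, h0]
    refine Finset.sum_congr rfl fun t ht => ?_
    rw [← Category.assoc, h0, Preadditive.sum_comp, Finset.sum_eq_single t]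
    · rw [Category.assoc, ← Category.assoc ((Sigma.ι K t).f 0), ← comp_f, Sigma.ι_desc, dif_pos rfl,
        eqToHom_refl, id_f, Category.id_comp]
    · intro s _ hst
      rw [Category.assoc, ← Category.assoc ((Sigma.ι K s).f 0), ← comp_f, Sigma.ι_desc, dif_neg hst]
      simp
    · exact fun hn => absurd ht hn
  refine ⟨S, fun t => DerivedCategory.Q.map (u ≫ π t) ≫ (e t).hom, ?_⟩
  have hφ : DerivedCategory.Q.map u ≫ m = φ := by
    rw [hu, Category.assoc, hdm, Category.comp_id]
  rw [← hφ]
  conv_lhs => rw [hsum', Functor.map_sum, Preadditive.sum_comp]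
  refine Finset.sum_congr rfl fun t _ => ?_
  simp only [Functor.map_comp, Category.assoc, hm]

include hA hsum hc in
theorem exists_sum_of_isGE (a : ℤ) (hX : ∀ t, (X t).IsGE a)
    (φ : (DerivedCategory.singleFunctor A 0).obj Z ⟶ Y) :
    ∃ (S : Finset T) (f : ∀ t, (DerivedCategory.singleFunctor A 0).obj Z ⟶ X t),
      φ = ∑ t ∈ S, f t ≫ ι t := by
  have hrep : ∀ t, ∃ (K : CochainComplex A ℤ), K.IsStrictlyGE a ∧ (∀ n, Injective (K.X n)) ∧
      Nonempty (DerivedCategory.Q.obj K ≅ X t) := fun t => by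
    haveI := hX t
    obtain ⟨L, hL, ⟨e⟩⟩ := DerivedCategory.exists_iso_Q_obj_of_isGE (X t) a
    haveI := hL
    obtain ⟨I, i, hi, hI, hge⟩ := CochainComplex.Plus.modelCategoryQuillen.exists_quasiIso_injective L a
    haveI := hi
    exact ⟨I, hge, hI, ⟨(asIso (DerivedCategory.Q.map i)).symm ≪≫ e.symm⟩⟩
  choose K hge hI hK using hrep
  haveI : (∐ K).IsStrictlyGE a := by
    rw [CochainComplex.isStrictlyGE_iff]
    intro i hi
    exact CompactAcyclic.isZero_of_isColimit_zero _ (isColimitOfPreserves (eval A up i)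
      (colimit.isColimit (Discrete.functor K))) fun t => (K t.as).isZero_of_isStrictlyGE a i hi
  obtain ⟨J, r, hr, hJ, hJge⟩ :=
    CochainComplex.Plus.modelCategoryQuillen.exists_quasiIso_injective (∐ K) a
  haveI := hJ
  haveI := hr
  haveI := hJge
  haveI := CochainComplex.isKInjective_of_injective J a
  refine exists_sum_of_reps Z hsum hc K (fun t => (hK t).some) (surjective_Q_map Z r ?_) φ
  haveI : (CochainComplex.mappingCone r).IsStrictlyGE (a - 1) := by
    rw [CochainComplex.isStrictlyGE_iff]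
    intro i hi
    exact (HomologicalComplex.homotopyCofiber.XIsoBiprod r i (i + 1) rfl).isZero_iff.2
      ((biprod_isZero_iff _ _).2 ⟨(∐ K).isZero_of_isStrictlyGE a _ (by lia),
        J.isZero_of_isStrictlyGE a _ (by lia)⟩)
  refine Groth.Misc7.GSS.exactAt_mapHomologicalComplex (Hm Z) _ (a - 1)
    (CompactAcyclic.acyclic_cone r) (fun n j => ?_) 0
  exact ((rightAcyclic_biprod (Hm Z) (rightAcyclic_sigmaX Z hA K hI (n + 1))
    (rightAcyclic_of_injective (Hm Z) (J.X n))) j).of_iso
      (((Hm Z).rightDerived (j + 1)).mapIso (HomologicalComplex.homotopyCofiber.XIsoBiprod r n (n + 1) rfl))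

include hA hsum hc in
theorem exists_sum_of_cd (d : ℕ) (hd : ∀ Y : A, IsZero (((Hm Z).rightDerived (d + 1)).obj Y))
    (φ : (DerivedCategory.singleFunctor A 0).obj Z ⟶ Y) :
    ∃ (S : Finset T) (f : ∀ t, (DerivedCategory.singleFunctor A 0).obj Z ⟶ X t),
      φ = ∑ t ∈ S, f t ≫ ι t := by
  have hrep : ∀ t, ∃ (K : CochainComplex A ℤ), (∀ n, Injective (K.X n)) ∧
      Nonempty (DerivedCategory.Q.obj K ≅ X t) := fun t => by
    let L := (DerivedCategory.Q (C := A)).objPreimage (X t)
    obtain ⟨I, i, -, hi, -, hI⟩ := Groth.DerivedCoh.KInjRes.exists_resolution L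
    haveI := hi
    exact ⟨I, hI, ⟨(asIso (DerivedCategory.Q.map i)).symm ≪≫
      (DerivedCategory.Q (C := A)).objObjPreimageIso (X t)⟩⟩
  choose K hI hK using hrep
  obtain ⟨J, r, -, hr, hJK, hJ⟩ := Groth.DerivedCoh.KInjRes.exists_resolution (∐ K)
  haveI := hr
  haveI := hJK
  haveI := hJ
  refine exists_sum_of_reps Z hsum hc K (fun t => (hK t).some) (surjective_Q_map Z r ?_) φ
  refine Groth.Agent.FiniteDim.exactAt_map (Hm Z) (d + 1) hd _
    (CompactAcyclic.acyclic_cone r) (fun n j => ?_) 0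
  exact ((rightAcyclic_biprod (Hm Z) (rightAcyclic_sigmaX Z hA K hI (n + 1))
    (rightAcyclic_of_injective (Hm Z) (J.X n))) j).of_iso
      (((Hm Z).rightDerived (j + 1)).mapIso (HomologicalComplex.homotopyCofiber.XIsoBiprod r n (n + 1) rfl))

end Groth.Misc4.CompactSum
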