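import Groth.Agent.DerivedAdj.Basic
import Groth.Agent.DerivedCoh.KInj.Resolution
import Mathlib.CategoryTheory.Abelian.SerreClass.Basic
import Mathlib.Algebra.Homology.DerivedCategory.HomologySequence
import Mathlib.CategoryTheory.Functor.ReflectsIso.Basic

/-!
Derived categories of a coreflective exact subcategory for which the coreflection computes
complexes of injectives with cohomology in the subcategory.
-/

universe w₁ w₂ v v' u u'

set_option backward.defeqAttrib.useBackward true
set_option backward.isDefEq.respectTransparency false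
set_option linter.unusedSectionVars false
set_option linter.style.haveILetI false

open CategoryTheory CategoryTheory.Limits DerivedCategory

namespace Groth.Misc4.CorefDerived

variable {A : Type u} [Category.{v} A] [Abelian A] {C : Type u'} [Category.{v'} C] [Abelian C]
  [HasDerivedCategory.{w₁} A] [HasDerivedCategory.{w₂} C]
  (w : A ⥤ C) [w.Additive] [PreservesFiniteLimits w] [PreservesFiniteColimits w]
  {T : C ⥤ A} [T.Additive] (adj : w ⊣ T)

local notation "up" => ComplexShape.up ℤ

/-- The counit on complexes. -/
@[simps]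
noncomputable def cε (I : CochainComplex C ℤ) :
    (w.mapHomologicalComplex up).obj ((T.mapHomologicalComplex up).obj I) ⟶ I where
  f n := adj.counit.app (I.X n)
  comm' i j _ := (adj.counit.naturality (I.d i j)).symm

/-- Transposition on complexes. -/
@[simps]
noncomputable def tr {M : CochainComplex A ℤ} {I : CochainComplex C ℤ}
    (i : (w.mapHomologicalComplex up).obj M ⟶ I) : M ⟶ (T.mapHomologicalComplex up).obj I where
  f n := adj.homEquiv _ _ (i.f n)
  comm' a b _ := by
    dsimp
    rw [← Adjunction.homEquiv_naturality_left, ← Adjunction.homEquiv_naturality_right]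
    exact congrArg _ (i.comm a b)

lemma tr_cε {M : CochainComplex A ℤ} {I : CochainComplex C ℤ} (i : (w.mapHomologicalComplex up).obj M ⟶ I) :
    (w.mapHomologicalComplex up).map (tr w adj i) ≫ cε w adj I = i := by
  ext n
  simp [Adjunction.homEquiv_unit]

variable [w.Full] [w.Faithful]
  (P : ObjectProperty C)
  (hres : ∀ K : CochainComplex C ℤ, ∃ (I : CochainComplex C ℤ) (i : K ⟶ I), QuasiIso i ∧ I.IsKInjective ∧
    ∀ n, Injective (I.X n))
  (hP : P.IsClosedUnderIsomorphisms)
  (hA : ∀ (M : CochainComplex A ℤ) (n : ℤ), P (((w.mapHomologicalComplex up).obj M).homology n))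
  (hε : ∀ I : CochainComplex C ℤ, I.IsKInjective → (∀ n, Injective (I.X n)) → (∀ n, P (I.homology n)) →
    QuasiIso (cε w adj I))

include hP hA in
lemma prop_homology {M : CochainComplex A ℤ} {I : CochainComplex C ℤ}
    (i : (w.mapHomologicalComplex up).obj M ⟶ I) [QuasiIso i] (n : ℤ) : P (I.homology n) :=
  have := hP
  P.prop_of_iso (asIso (HomologicalComplex.homologyMap i n)) (hA M n)

/-- The isomorphism of the image of a quotient. -/
noncomputable def facIso (M : CochainComplex A ℤ) :
    w.mapDerivedCategory.obj (DerivedCategory.Q.obj M) ≅ DerivedCategory.Q.obj ((w.mapHomologicalComplex up).obj M) :=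
  w.mapDerivedCategoryFactors.app M

lemma fac_map {M N : CochainComplex A ℤ} (h : M ⟶ N) :
    w.mapDerivedCategory.map (DerivedCategory.Q.map h) ≫ (facIso w N).hom =
      (facIso w M).hom ≫ DerivedCategory.Q.map ((w.mapHomologicalComplex up).map h) :=
  w.mapDerivedCategoryFactors.hom.naturality h

include adj hres hP hA hε in
/-- Every object has a good representative. -/
lemma exists_rep (Y : DerivedCategory A) :
    ∃ I : CochainComplex C ℤ, I.IsKInjective ∧ IsIso (DerivedCategory.Q.map (cε w adj I)) ∧
      Nonempty (DerivedCategory.Q.obj ((T.mapHomologicalComplex up).obj I) ≅ Y) := by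
  let M := DerivedCategory.Q.objPreimage Y
  obtain ⟨I, i, hi, hI, hinj⟩ := hres ((w.mapHomologicalComplex up).obj M)
  have hcε : QuasiIso (cε w adj I) := hε I hI hinj (fun n => prop_homology w P hP hA i n)
  have : QuasiIso ((w.mapHomologicalComplex up).map (tr w adj i) ≫ cε w adj I) := by rw [tr_cε]; exact hi
  have h1 : QuasiIso ((w.mapHomologicalComplex up).map (tr w adj i)) :=
    quasiIso_of_comp_right _ (cε w adj I)
  have : QuasiIso (tr w adj i) := (HomologicalComplex.quasiIso_map_iff_of_preservesHomology (tr w adj i) w).1 h1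
  exact ⟨I, hI, inferInstance,
    ⟨(asIso (DerivedCategory.Q.map (tr w adj i))).symm ≪≫ DerivedCategory.Q.objObjPreimageIso Y⟩⟩

lemma bijective_of_iso {X X' Y Y' : DerivedCategory A} (eX : X ≅ X') (eY : Y ≅ Y')
    (h : Function.Bijective (w.mapDerivedCategory.map : (X ⟶ Y) → _)) :
    Function.Bijective (w.mapDerivedCategory.map : (X' ⟶ Y') → _) := by
  have e : (w.mapDerivedCategory.map : (X' ⟶ Y') → _) =
      (Iso.homCongr (w.mapDerivedCategory.mapIso eX) (w.mapDerivedCategory.mapIso eY)) ∘
        w.mapDerivedCategory.map ∘ (Iso.homCongr eX eY).symm := by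
    ext f
    simp
  rw [e]
  exact (Equiv.bijective _).comp (h.comp (Equiv.bijective _))

/-- Morphisms to K-injective complexes come from morphisms of complexes. -/
lemma exists_lift_Q {D : Type*} [Category D] [Abelian D] [HasDerivedCategory D] {M : CochainComplex D ℤ}
    (N : CochainComplex D ℤ) [N.IsKInjective] (f : DerivedCategory.Q.obj M ⟶ DerivedCategory.Q.obj N) :
    ∃ h : M ⟶ N, DerivedCategory.Q.map h = f := by
  let e := DerivedCategory.quotientCompQhIso D
  obtain ⟨k, hk⟩ := (CochainComplex.IsKInjective.Qh_map_bijective ((HomotopyCategory.quotient D up).obj M) N).2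
    (e.hom.app M ≫ f ≫ e.inv.app N)
  obtain ⟨h, rfl⟩ := (HomotopyCategory.quotient D up).map_surjective k
  refine ⟨h, ?_⟩
  have hn := e.hom.naturality h
  simp only [Functor.comp_map] at hn
  rw [hk] at hn
  rw [Category.assoc, Category.assoc, Iso.inv_hom_id_app] at hn
  refine (cancel_epi (e.hom.app M)).1 (hn.symm.trans ?_)
  exact congrArg (e.hom.app M ≫ ·) (Category.comp_id f)

/-- Morphisms to K-injective complexes vanishing in the derived category are null-homotopic. -/
lemma homotopy_of_Q_map_eq_zero {D : Type*} [Category D] [Abelian D] [HasDerivedCategory D] {M : CochainComplex D ℤ}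
    (N : CochainComplex D ℤ) [N.IsKInjective] (f : M ⟶ N) (hf : DerivedCategory.Q.map f = 0) :
    Nonempty (Homotopy f 0) := by
  refine ⟨HomotopyCategory.homotopyOfEq _ _ ((CochainComplex.IsKInjective.Qh_map_bijective
    ((HomotopyCategory.quotient D up).obj M) N).1 ?_)⟩
  have hn := (DerivedCategory.quotientCompQhIso D).hom.naturality f
  simp only [Functor.comp_map, hf, comp_zero] at hn
  rw [Functor.map_zero, Functor.map_zero]
  exact (Preadditive.IsIso.comp_right_eq_zero _ _).1 hn

/-- A null-homotopy of the transpose gives one of the map. -/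
noncomputable def transpose {M : CochainComplex A ℤ} {I : CochainComplex C ℤ} {f : M ⟶ (T.mapHomologicalComplex up).obj I}
    (H : Homotopy ((w.mapHomologicalComplex up).map f ≫ cε w adj I) 0) : Homotopy f 0 where
  hom p q := adj.homEquiv _ _ (H.hom p q)
  zero p q hpq := by rw [H.zero p q hpq, Adjunction.homEquiv_unit, Functor.map_zero, comp_zero]
  comm n := by
    have e := congrArg (adj.homEquiv _ _) (H.comm n)
    rw [dNext_eq _ (show (up).Rel n (n + 1) by simp), prevD_eq _ (show (up).Rel (n - 1) n by simp)] at e ⊢
    have e1 : adj.homEquiv _ _ (((w.mapHomologicalComplex up).map f ≫ cε w adj I).f n) = f.f n := by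
      simp [Adjunction.homEquiv_unit]
    rw [e1] at e
    rw [e]
    simp [Adjunction.homEquiv_unit, Functor.map_add]

include adj in
lemma isKInjective_T (I : CochainComplex C ℤ) [I.IsKInjective] :
    CochainComplex.IsKInjective ((T.mapHomologicalComplex up).obj I) := ⟨fun {M} f hM => by
  have hM' : ((w.mapHomologicalComplex up).obj M).Acyclic := fun n => (hM n).map w
  obtain ⟨H⟩ := CochainComplex.IsKInjective.nonempty_homotopy_zero ((w.mapHomologicalComplex up).map f ≫ cε w adj I) hM'
  exact ⟨transpose w adj H⟩⟩

include adj hres hP hA hε in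
/-- The derived functor of the inclusion is fully faithful. -/
theorem bijective_map (X Y : DerivedCategory A) :
    Function.Bijective (w.mapDerivedCategory.map : (X ⟶ Y) → _) := by
  obtain ⟨I, hI, hiso, ⟨eY⟩⟩ := exists_rep w adj P hres hP hA hε Y
  let M := DerivedCategory.Q.objPreimage X
  let eX : DerivedCategory.Q.obj M ≅ X := DerivedCategory.Q.objObjPreimageIso X
  suffices hb : Function.Bijective (w.mapDerivedCategory.map :
      (DerivedCategory.Q.obj M ⟶ DerivedCategory.Q.obj ((T.mapHomologicalComplex up).obj I)) → _) from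
    Groth.Misc4.CorefDerived.bijective_of_iso w eX eY hb
  have := isKInjective_T w adj I
  let N := (T.mapHomologicalComplex up).obj I
  let WM := (w.mapHomologicalComplex up).obj M
  have key : ∀ h : M ⟶ N, w.mapDerivedCategory.map (DerivedCategory.Q.map h) ≫ (facIso w N).hom ≫
      DerivedCategory.Q.map (cε w adj I) =
      (facIso w M).hom ≫ DerivedCategory.Q.map ((w.mapHomologicalComplex up).map h ≫ cε w adj I) := fun h => by
    rw [← Category.assoc, fac_map, Category.assoc, Functor.map_comp]
  constructor
  · intro a b hab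
    rw [← sub_eq_zero]
    have h0 : w.mapDerivedCategory.map (a - b) = 0 := by rw [Functor.map_sub, hab, sub_self]
    obtain ⟨h, hh⟩ := exists_lift_Q N (a - b)
    rw [← hh] at h0 ⊢
    have e := key h
    rw [h0, zero_comp, eq_comm, Preadditive.IsIso.comp_left_eq_zero] at e
    obtain ⟨H⟩ := homotopy_of_Q_map_eq_zero I _ e
    exact (DerivedCategory.Q_map_eq_of_homotopy _ (transpose w adj H)).trans (Functor.map_zero _ _ _)
  · intro φ
    obtain ⟨k, hk⟩ := exists_lift_Q I ((facIso w M).inv ≫ φ ≫ (facIso w N).hom ≫ DerivedCategory.Q.map (cε w adj I))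
    refine ⟨DerivedCategory.Q.map (tr w adj k), ?_⟩
    rw [← cancel_mono ((facIso w N).hom ≫ DerivedCategory.Q.map (cε w adj I)), key, tr_cε, hk,
      Iso.hom_inv_id_assoc]

include adj hres hP hA hε in
/-- The essential image consists of the objects with cohomology in the subcategory. -/
theorem essImage_iff (K : DerivedCategory C) :
    (∀ n, P ((homologyFunctor C n).obj K)) ↔ w.mapDerivedCategory.essImage K := by
  have := hP
  constructor
  · intro hK
    let L := DerivedCategory.Q.objPreimage K
    let e : DerivedCategory.Q.obj L ≅ K := DerivedCategory.Q.objObjPreimageIso K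
    obtain ⟨I, i, hi, hI, hinj⟩ := hres L
    have hIP : ∀ n, P (I.homology n) := fun n =>
      P.prop_of_iso ((homologyFunctor C n).mapIso e.symm ≪≫ (homologyFunctorFactors C n).app L ≪≫
        asIso (HomologicalComplex.homologyMap i n)) (hK n)
    have : QuasiIso (cε w adj I) := hε I hI hinj hIP
    exact ⟨DerivedCategory.Q.obj ((T.mapHomologicalComplex up).obj I),
      ⟨facIso w _ ≪≫ asIso (DerivedCategory.Q.map (cε w adj I)) ≪≫ (asIso (DerivedCategory.Q.map i)).symm ≪≫ e⟩⟩
  · rintro ⟨X, ⟨e⟩⟩ n
    let M := DerivedCategory.Q.objPreimage X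
    exact P.prop_of_iso ((homologyFunctorFactors C n).symm.app _ ≪≫ (homologyFunctor C n).mapIso
      ((facIso w M).symm ≪≫ w.mapDerivedCategory.mapIso (DerivedCategory.Q.objObjPreimageIso X) ≪≫ e)) (hA M n)

end Groth.Misc4.CorefDerived
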