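import Mathlib.Algebra.Homology.DerivedCategory.Fractions
import Mathlib.Algebra.Homology.DerivedCategory.HomologySequence
import Mathlib.Algebra.Homology.SingleHomology
import Mathlib.CategoryTheory.Abelian.Refinements

/-!
Morphisms from an object to a complex in the derived category, up to epimorphisms on the source,
are the morphisms to its zeroth cohomology.
-/

universe w v u

set_option backward.defeqAttrib.useBackward true
set_option backward.isDefEq.respectTransparency false

namespace Groth.Misc4.DerivedLift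

open CategoryTheory CategoryTheory.Limits HomologicalComplex

variable {A : Type u} [Category.{v} A] [Abelian A] [HasDerivedCategory.{w} A]

local notation "up" => ComplexShape.up ℤ

/-- an object as an object of the derived category -/
noncomputable abbrev S0 : A ⥤ DerivedCategory A :=
  HomologicalComplex.single A up 0 ⋙ DerivedCategory.Q

/-- cohomology of a complex -/
noncomputable def fI (Y : CochainComplex A ℤ) :
    Y.homology 0 ≅ (DerivedCategory.homologyFunctor A 0).obj (DerivedCategory.Q.obj Y) :=
  ((DerivedCategory.homologyFunctorFactors A 0).app Y).symm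

lemma fI_nat {Y Z : CochainComplex A ℤ} (g : Y ⟶ Z) :
    (fI Y).hom ≫ (DerivedCategory.homologyFunctor A 0).map (DerivedCategory.Q.map g) =
      homologyMap g 0 ≫ (fI Z).hom :=
  ((DerivedCategory.homologyFunctorFactors A 0).inv.naturality g).symm

/-- the zeroth cohomology of an object -/
noncomputable abbrev η (M : A) : M ⟶ (DerivedCategory.homologyFunctor A 0).obj (S0.obj M) :=
  (singleObjHomologySelfIso up 0 M).inv ≫ (fI ((single A up 0).obj M)).hom

/-- the class of a morphism -/
noncomputable def ev {M : A} {X : DerivedCategory A} (f : S0.obj M ⟶ X) :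
    M ⟶ (DerivedCategory.homologyFunctor A 0).obj X :=
  η M ≫ (DerivedCategory.homologyFunctor A 0).map f

lemma ev_comp {M : A} {X Y : DerivedCategory A} (f : S0.obj M ⟶ X) (g : X ⟶ Y) :
    ev (f ≫ g) = ev f ≫ (DerivedCategory.homologyFunctor A 0).map g := by
  simp [ev]

lemma ev_map {M M' : A} (p : M' ⟶ M) {X : DerivedCategory A} (f : S0.obj M ⟶ X) :
    ev (S0.map p ≫ f) = p ≫ ev f := by
  have e1 : (fI ((single A up 0).obj M')).hom ≫ (DerivedCategory.homologyFunctor A 0).map (S0.map p) =
      homologyMap ((single A up 0).map p) 0 ≫ (fI ((single A up 0).obj M)).hom :=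
    fI_nat ((single A up 0).map p)
  simp only [ev, η, Functor.map_comp, Functor.comp_map, Category.assoc]
  rw [reassoc_of% e1, singleObjHomologySelfIso_inv_naturality_assoc]

lemma ev_Q {M : A} {Y : CochainComplex A ℤ} (g : (single A up 0).obj M ⟶ Y) :
    ev (DerivedCategory.Q.map g) = (singleObjHomologySelfIso up 0 M).inv ≫ homologyMap g 0 ≫
      (fI Y).hom := by
  simp only [ev, η, Category.assoc]
  exact congrArg (_ ≫ ·) (fI_nat g)

/-- Classes lift after an epimorphism. -/
theorem exists_epi_lift {M : A} {X : DerivedCategory A}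
    (s : M ⟶ (DerivedCategory.homologyFunctor A 0).obj X) :
    ∃ (M' : A) (p : M' ⟶ M) (_ : Epi p) (f : S0.obj M' ⟶ X), ev f = p ≫ s := by
  let Y := DerivedCategory.Q.objPreimage X
  let e : DerivedCategory.Q.obj Y ≅ X := DerivedCategory.Q.objObjPreimageIso X
  let s' : M ⟶ Y.homology 0 := s ≫ (DerivedCategory.homologyFunctor A 0).map e.inv ≫
    (fI Y).inv
  obtain ⟨M', p, hp, x, hx⟩ := surjective_up_to_refinements_of_epi (Y.homologyπ 0) s'
  have hc : ∀ j, (up).Rel 0 j → (x ≫ Y.iCycles 0) ≫ Y.d 0 j = 0 := fun j _ => by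
    rw [Category.assoc, iCycles_d, comp_zero]
  refine ⟨M', p, hp, DerivedCategory.Q.map (mkHomFromSingle (x ≫ Y.iCycles 0) hc) ≫ e.hom, ?_⟩
  have h : (singleObjHomologySelfIso up 0 M').inv ≫
      homologyMap (mkHomFromSingle (x ≫ Y.iCycles 0) hc) 0 = x ≫ Y.homologyπ 0 := by
    rw [← singleObjCyclesSelfIso_inv_homologyπ, Category.assoc, homologyπ_naturality,
      ← Category.assoc]
    congr 1
    rw [← cancel_mono (Y.iCycles 0), Category.assoc, cyclesMap_i,
      singleObjCyclesSelfIso_inv_iCycles_assoc, mkHomFromSingle_f]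
    simp
  refine (ev_comp (DerivedCategory.Q.map _) e.hom).trans ?_
  rw [ev_Q, Category.assoc, Category.assoc, reassoc_of% h, ← reassoc_of% hx]
  simp [s', ← Functor.map_comp]

/-- Morphisms of class zero vanish after an epimorphism. -/
theorem exists_epi_kill {M : A} {X : DerivedCategory A} (f : S0.obj M ⟶ X) (hf : ev f = 0) :
    ∃ (M' : A) (p : M' ⟶ M) (_ : Epi p), S0.map p ≫ f = 0 := by
  let Y := DerivedCategory.Q.objPreimage X
  let e : DerivedCategory.Q.obj Y ≅ X := DerivedCategory.Q.objObjPreimageIso X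
  obtain ⟨Z, g, s, hs, hfac⟩ := DerivedCategory.left_fac
    (X := (single A up 0).obj M) (Y := Y) (f ≫ e.inv)
  have hg0 : homologyMap g 0 = 0 := by
    have h : ev (DerivedCategory.Q.map g) = 0 := by
      have : DerivedCategory.Q.map g = (f ≫ e.inv) ≫ DerivedCategory.Q.map s := by
        rw [hfac]; simp
      rw [this, ev_comp, ev_comp, hf, zero_comp, zero_comp]
    rw [ev_Q] at h
    simpa using h
  let c : M ⟶ Z.cycles 0 := (singleObjCyclesSelfIso up 0 M).inv ≫ cyclesMap g 0
  have hc : c ≫ Z.homologyπ 0 = 0 := by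
    simp [c, ← homologyπ_naturality, hg0]
  have hex : (ShortComplex.mk (Z.toCycles (-1) 0) (Z.homologyπ 0) (Z.toCycles_comp_homologyπ _ _)).Exact :=
    ShortComplex.exact_of_g_is_cokernel _ (Z.homologyIsCokernel (-1) 0 (by simp))
  obtain ⟨M', p, hp, y, hy⟩ := hex.exact_up_to_refinements c hc
  refine ⟨M', p, hp, ?_⟩
  let hh : ∀ i j, (up).Rel j i → (((single A up 0).obj M').X i ⟶ Z.X j) := fun i j hij =>
    if hi : i = 0 then (singleObjXIsoOfEq up 0 M' i hi).hom ≫ y ≫
      eqToHom (by subst hi; simp at hij; rw [show j = -1 by lia]) else 0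
  have hz : (single A up 0).map p ≫ g = Homotopy.nullHomotopicMap' hh := by
    refine from_single_hom_ext ?_
    rw [Homotopy.nullHomotopicMap'_f (k₀ := (1 : ℤ)) (k₁ := 0) (k₂ := (-1 : ℤ)) (by simp) (by simp)]
    have e0 : y ≫ Z.d (-1) 0 = p ≫ (singleObjXSelf up 0 M).inv ≫ g.f 0 := by
      have := hy =≫ Z.iCycles 0
      simp only [Category.assoc, toCycles_i] at this
      rw [← this]
      simp [c]
    simp [hh, single_map_f_self, singleObjXSelf, e0]
  have hQ : DerivedCategory.Q.map ((single A up 0).map p ≫ g) = 0 := by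
    rw [hz, DerivedCategory.Q_map_eq_of_homotopy _ (Homotopy.nullHomotopy' hh), Functor.map_zero]
  have h2 : S0.map p ≫ f ≫ e.inv = 0 := by
    rw [show f ≫ e.inv = DerivedCategory.Q.map g ≫ inv (DerivedCategory.Q.map s) from hfac,
      ← Category.assoc]
    change (DerivedCategory.Q.map ((single A up 0).map p) ≫ DerivedCategory.Q.map g) ≫ _ = 0
    rw [← Functor.map_comp, hQ, zero_comp]
  rw [← cancel_mono e.inv, Category.assoc, h2, zero_comp]

end Groth.Misc4.DerivedLift
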