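import Groth.Agent.Misc4.PerfVanishQcqs
import Groth.Agent.Misc4.DerivedLift
import Groth.Agent.DAlg.PCoh
import Groth.Agent.Misc4.KillSupported

/-!
# Countability of Hom groups out of perfect objects
-/

universe u

open CategoryTheory CategoryTheory.Limits Pretriangulated AlgebraicGeometry Opposite
open Groth.KTheory.Perf
open Groth.Misc4.ApproxExtend Groth.Misc4.ApproxGlue Groth.Misc4.PerfVanishQcqs

attribute [local instance] HasDerivedCategory.standard

set_option backward.isDefEq.respectTransparency false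
set_option synthInstance.maxHeartbeats 400000
set_option maxHeartbeats 1000000

namespace Groth.Misc4.CountableHom

/-- countable image and countable kernel -/
lemma countable_of_addHom {G H : Type*} [AddCommGroup G] [AddCommGroup H] (f : G →+ H) [Countable H]
    (hk : Countable f.ker) : Countable G := by
  classical
  let s : H → G := fun h => if hh : ∃ g, f g = h then hh.choose else 0
  have hs : ∀ g, f (s (f g)) = f g := fun g => by
    simp only [s, dif_pos (show ∃ g', f g' = f g from ⟨g, rfl⟩)]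
    exact Exists.choose_spec (p := fun g' => f g' = f g) _
  refine Function.Injective.countable (f := fun g =>
    ((f g, ⟨g - s (f g), by rw [AddMonoidHom.mem_ker, map_sub, hs, sub_self]⟩) : H × f.ker)) fun a b h => ?_
  have h1 : f a = f b := congrArg Prod.fst h
  have h2 : a - s (f a) = b - s (f b) := congrArg (fun p : H × f.ker => (p.2 : G)) h
  rw [h1] at h2
  exact sub_left_inj.1 h2

/-! ### modules -/

section ring

variable {A : Type u} [CommRing A]

/-- all cohomology modules are countable -/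
def CM (N : Dual.D A) : Prop :=
  ∀ i : ℤ, Countable ((DerivedCategory.homologyFunctor (ModuleCat.{u} A) i).obj N : ModuleCat.{u} A)

lemma CM.shift {N : Dual.D A} (h : CM N) (n : ℤ) : CM (N⟦n⟧) := fun i =>
  haveI := h (n + i)
  ((Groth.DerivedCoh.PCoh.hShiftIso n i (n + i) rfl).app N).toLinearEquiv.injective.countable

/-- maps into objects with countable cohomology form countable groups -/
def Src (M : Dual.D A) : Prop := ∀ N : Dual.D A, CM N → Countable (M ⟶ N)

lemma Src.of_iso {M M' : Dual.D A} (e : M ≅ M') (h : Src M) : Src M' := fun N hN =>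
  haveI := h N hN
  Function.Injective.countable (f := fun φ : M' ⟶ N => e.hom ≫ φ) fun _ _ h => (cancel_epi e.hom).1 h

lemma Src.ext (T : Triangle (Dual.D A)) (hT : T ∈ distTriang (Dual.D A)) (h₁ : Src T.obj₁) (h₃ : Src T.obj₃) :
    Src T.obj₂ := fun N hN => by
  haveI := h₁ N hN
  haveI := h₃ N hN
  refine countable_of_addHom (Preadditive.leftComp N T.mor₁) ?_
  refine Function.Surjective.countable (f := fun ψ : T.obj₃ ⟶ N => (⟨T.mor₂ ≫ ψ, by
    rw [AddMonoidHom.mem_ker]
    show T.mor₁ ≫ T.mor₂ ≫ ψ = 0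
    rw [← Category.assoc, comp_distTriang_mor_zero₁₂ _ hT, zero_comp]⟩ : (Preadditive.leftComp N T.mor₁).ker)) ?_
  rintro ⟨φ, hφ⟩
  obtain ⟨ψ, hψ⟩ := Triangle.yoneda_exact₂ _ hT φ hφ
  exact ⟨ψ, Subtype.ext hψ.symm⟩

lemma src_zero (P : ModuleCat.{u} A) [Module.Projective A P] [Module.Finite A P] :
    Src (Groth.Misc4.DerivedLift.S0.obj P) := fun N hN => by
  haveI := hN 0
  haveI : Countable (P ⟶ (DerivedCategory.homologyFunctor (ModuleCat.{u} A) 0).obj N) := by
    obtain ⟨s, hs⟩ := Module.Finite.fg_top (R := A) (M := P)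
    exact Function.Injective.countable (f := fun g : P ⟶ (DerivedCategory.homologyFunctor (ModuleCat.{u} A) 0).obj N =>
      fun x : s => g x.1) fun a b h => ModuleCat.hom_ext (LinearMap.ext_on hs fun x hx => congrFun h ⟨x, hx⟩)
  refine Function.Injective.countable (f := Groth.Misc4.DerivedLift.ev) fun a b h => ?_
  have hd : Groth.Misc4.DerivedLift.ev (a - b) = 0 := by
    simp only [Groth.Misc4.DerivedLift.ev] at h ⊢
    rw [Functor.map_sub, Preadditive.comp_sub, h, sub_self]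
  obtain ⟨M', p, hp, hf⟩ := Groth.Misc4.DerivedLift.exists_epi_kill (a - b) hd
  haveI := hp
  haveI : Projective P := ModuleCat.projective_of_categoryTheory_projective P
  refine sub_eq_zero.1 ?_
  have h1 : Groth.Misc4.DerivedLift.S0.map (Projective.factorThru (𝟙 P) p) ≫ Groth.Misc4.DerivedLift.S0.map p = 𝟙 _ := by
    rw [← Functor.map_comp, Projective.factorThru_comp, CategoryTheory.Functor.map_id]
  rw [← Category.id_comp (a - b), ← h1, Category.assoc, hf, comp_zero]

lemma src_single (P : ModuleCat.{u} A) [Module.Projective A P] [Module.Finite A P] (n : ℤ) :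
    Src ((DerivedCategory.singleFunctor (ModuleCat.{u} A) n).obj P) := fun N hN => by
  let e := ((DerivedCategory.singleFunctors (ModuleCat.{u} A)).shiftIso n 0 n (by omega)).app P
  haveI := Src.of_iso ((DerivedCategory.singleFunctorIsoCompQ (ModuleCat.{u} A) 0).app P).symm
    (src_zero P) (N⟦n⟧) (hN.shift n)
  exact Function.Injective.countable (f := fun φ : (DerivedCategory.singleFunctor (ModuleCat.{u} A) n).obj P ⟶ N =>
      e.inv ≫ φ⟦n⟧') fun a b h => (shiftFunctor (Dual.D A) n).map_injective ((cancel_epi e.inv).1 h)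

theorem src_of_perfect (M : Dual.D A) (hM : DRing.IsPerfect A M) : Src M := by
  obtain ⟨P, a, b, hP, hproj, ⟨e⟩⟩ := hM
  refine Src.of_iso e (Groth.DAlg.bounded_induction Src (fun X Y i h => h.of_iso i) (fun T hT => Src.ext T hT)
    (fun X hX N _ => haveI : Subsingleton (X ⟶ N) := ⟨hX.eq_of_src⟩; inferInstance) P a b hP fun i => ?_)
  haveI := (hproj i).1
  haveI := (hproj i).2
  exact src_single (P.X i) i

end ring

/-! ### schemes -/

/-- all cohomology sheaves have countably many sections on affine opens -/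
def CS {X : Scheme.{u}} (Z : DCoh.D X) : Prop :=
  ∀ V : X.Opens, IsAffineOpen V → ∀ i : ℤ, Countable ((DCoh.HD Z i).val.obj (op V))

lemma countable_of_iso {X : Scheme.{u}} {F G : X.Modules} (e : F ≅ G) (V : X.Opens)
    (h : Countable (F.val.obj (op V))) : Countable (G.val.obj (op V)) := by
  haveI : Countable Γ(F, V) := h
  show Countable Γ(G, V)
  refine Function.Injective.countable (f := fun x : Γ(G, V) => (e.inv.app V).hom x) fun a b hab => ?_
  have h2 : e.inv.app V ≫ e.hom.app V = 𝟙 _ := by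
    rw [← Scheme.Modules.Hom.comp_app, Iso.inv_hom_id]; rfl
  have h3 : ∀ x : Γ(G, V), (e.hom.app V).hom ((e.inv.app V).hom x) = x := fun x =>
    (ConcreteCategory.comp_apply _ _ x).symm.trans (by rw [h2]; rfl)
  rw [← h3 a, ← h3 b]
  exact congrArg _ hab

lemma CS.rd {X Y : Scheme.{u}} (j : Y ⟶ X) [IsOpenImmersion j] {Z : DCoh.D X} (h : CS Z) :
    CS ((DCoh.restrictD j).obj Z) := fun V hV i => by
  obtain ⟨e⟩ := nonempty_hdRd j Z i
  exact countable_of_iso e.symm V (h (j ''ᵁ V) (hV.image_of_isOpenImmersion j) i)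

lemma CS.shift {X : Scheme.{u}} {Z : DCoh.D X} (h : CS Z) (n : ℤ) : CS (Z⟦n⟧) := fun V hV i =>
  countable_of_iso ((Groth.DerivedCoh.PCoh.hShiftIso n i (n + i) rfl).app Z).symm V (h V hV (n + i))

/-- countability of Hom groups out of perfect objects -/
def Cnt (Y : Scheme.{u}) : Prop :=
  ∀ F Z : DCoh.D Y, DCoh.IsPerfect F → DCoh.IsQCohD Z → CS Z → Countable (F ⟶ Z)

theorem cnt_affine (Y : Scheme.{u}) [IsAffine Y] : Cnt Y := by
  intro F Z hF hZ hc
  let R := Γ(Y, ⊤)
  let j : Spec R ⟶ Y := Y.isoSpec.inv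
  haveI := Groth.PropsBasic2.preservesFiniteLimits_tilde R
  haveI := preservesFiniteLimits_restrictFunctor j
  have hFj : DCoh.IsPerfect ((DCoh.restrictD j).obj F) := Groth.DerivedCoh.PCohDescent.isPerfect_rd j hF
  obtain ⟨M, ⟨eM⟩⟩ := (Groth.Misc4.QCohTildeD.isQCohD_iff (R := R) _).1
    (Groth.Misc4.Thomason.isQCohD_of_isPerfect hFj)
  obtain ⟨N, ⟨eN⟩⟩ := (Groth.Misc4.QCohTildeD.isQCohD_iff (R := R) _).1
    (Groth.Misc4.QCohDPerf.isQCohD_restrict j hZ)
  have hN : CM N := fun i => by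
    obtain ⟨d⟩ := Groth.Misc4.KoszulUnit.nonempty_hd_tildeD N i
    haveI : Countable ↑((modulesSpecToSheaf.obj (tilde ((DerivedCategory.homologyFunctor (ModuleCat.{u} R) i).obj N))).presheaf.obj (op ⊤)) :=
      countable_of_iso ((DerivedCategory.homologyFunctor _ i).mapIso eN.symm ≪≫ d) ⊤
      (hc.rd j ⊤ (isAffineOpen_top _) i)
    exact Function.Injective.countable
      (ConcreteCategory.bijective_of_isIso (tilde.toOpen ((DerivedCategory.homologyFunctor (ModuleCat.{u} R) i).obj N) ⊤)).1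
  haveI := src_of_perfect M ((Groth.DerivedCoh.TildeD.isPerfect_tildeD_iff M).1 (isPerfect_of_iso eM.symm hFj)) N hN
  haveI : Countable ((DCoh.restrictD j).obj F ⟶ (DCoh.restrictD j).obj Z) :=
    Function.Surjective.countable (f := fun ψ : M ⟶ N => eM.inv ≫ (DCoh.tildeD R).map ψ ≫ eN.hom) fun φ => by
      obtain ⟨ψ, hψ⟩ := (Groth.Misc4.QCohTildeD.bijective_map (R := R) M N).2 (eM.hom ≫ φ ≫ eN.inv)
      exact ⟨ψ, (congrArg (fun t => eM.inv ≫ t ≫ eN.hom) hψ).trans (by simp)⟩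
  exact Function.Injective.countable (f := (DCoh.restrictD j).map) fun a b h =>
    rd_injective j (fun i x _ => ⟨Y.isoSpec.hom.base x, by
      show (Y.isoSpec.hom ≫ Y.isoSpec.inv).base x = x
      simp⟩) h

lemma cnt_ext {X Y : Scheme.{u}} (j : Y ⟶ X) [IsOpenImmersion j] (hY : Cnt Y) {F Z : DCoh.D X}
    (hF : DCoh.IsPerfect F) (hZ : DCoh.IsQCohD Z) (hc : CS Z) :
    Countable ((CxOX.extZeroD j).obj ((DCoh.restrictD j).obj F) ⟶ Z) :=
  haveI := hY _ _ (Groth.DerivedCoh.PCohDescent.isPerfect_rd j hF)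
    (Groth.Misc4.QCohDPerf.isQCohD_restrict j hZ) (hc.rd j)
  ((Groth.DerivedCoh.ExtZero.extZeroDAdj j).homEquiv _ _).injective.countable

theorem cnt_union {Y : Scheme.{u}} (U V : Y.Opens) (hUV : U ⊔ V = ⊤) (hU : Cnt (U : Scheme.{u}))
    (hV : Cnt (V : Scheme.{u})) (hW : Cnt ((U ⊓ V : Y.Opens) : Scheme.{u})) : Cnt Y := by
  intro F Z hF hZ hc
  haveI := preservesFiniteLimits_restrictFunctor U.ι
  obtain ⟨a, b, d, hT⟩ := Groth.Misc4.MVExtZero.exists_triangle_ez U V hUV F
  haveI := cnt_ext U.ι hU hF hZ hc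
  haveI := cnt_ext V.ι hV hF hZ hc
  haveI := cnt_ext (U ⊓ V).ι hW hF (Groth.Misc4.QCohDPerf.isQCohD_shift hZ (-1)) (hc.shift (-1))
  let ε : (Z⟦(-1 : ℤ)⟧)⟦(1 : ℤ)⟧ ≅ Z := (shiftFunctorCompIsoId (DCoh.D Y) (-1 : ℤ) 1 (by omega)).app Z
  haveI : Countable ((_ ⊞ _ : DCoh.D Y) ⟶ Z) :=
    Function.Injective.countable
      (f := fun φ : ((CxOX.extZeroD U.ι).obj ((DCoh.restrictD U.ι).obj F) ⊞
          (CxOX.extZeroD V.ι).obj ((DCoh.restrictD V.ι).obj F)) ⟶ Z => (biprod.inl ≫ φ, biprod.inr ≫ φ))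
      fun _ _ h => biprod.hom_ext' _ _ (congrArg Prod.fst h) (congrArg Prod.snd h)
  refine countable_of_addHom (Preadditive.leftComp Z b) ?_
  refine Function.Surjective.countable
    (f := fun χ : (CxOX.extZeroD (U ⊓ V).ι).obj ((DCoh.restrictD (U ⊓ V).ι).obj F) ⟶ Z⟦(-1 : ℤ)⟧ =>
      (⟨d ≫ χ⟦(1 : ℤ)⟧' ≫ ε.hom, by
        rw [AddMonoidHom.mem_ker]
        show b ≫ d ≫ _ = 0
        rw [← Category.assoc, show b ≫ d = 0 from comp_distTriang_mor_zero₂₃ _ hT, zero_comp]⟩ :
        (Preadditive.leftComp Z b).ker)) ?_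
  rintro ⟨φ, hφ⟩
  obtain ⟨ψ, hψ⟩ := Triangle.yoneda_exact₃ _ hT φ hφ
  obtain ⟨χ, hχ⟩ := (shiftFunctor (DCoh.D Y) (1 : ℤ)).map_surjective (ψ ≫ ε.inv)
  refine ⟨χ, Subtype.ext ?_⟩
  show d ≫ χ⟦(1 : ℤ)⟧' ≫ ε.hom = φ
  rw [hχ, Category.assoc, ε.inv_hom_id, Category.comp_id]
  exact hψ.symm

/-- countability on quasi-compact quasi-separated schemes -/
theorem cnt (X : Scheme.{u}) [CompactSpace X] [QuasiSeparatedSpace X] : Cnt X := by
  have key := Groth.CohBase.qcqs_induction_on
    (fun W : X.Opens => ∀ (Y : Scheme.{u}) (i : Y ⟶ X) [IsOpenImmersion i], i.opensRange = W → Cnt Y) ⊤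
    (by simpa using (isQuasiSeparated_univ_iff (α := X)).2 inferInstance) ?_ ?_ ⊤
    (by simpa using (isCompact_univ : IsCompact (Set.univ : Set X))) le_rfl
  · exact key X (𝟙 X) (TopologicalSpace.Opens.ext (by simp))
  · intro W hW _ Y i _ hi
    haveI : IsAffine Y := by
      haveI : IsAffine (W : Scheme.{u}) := hW
      exact IsAffine.of_isIso (IsOpenImmersion.isoOfRangeEq W.ι i (by
        rw [Scheme.Opens.range_ι, ← hi]; rfl)).inv
    exact cnt_affine Y
  · intro U V _ _ _ _ hU hV hUV Y i _ hi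
    have hr : ∀ Z : X.Opens, Z ≤ i.opensRange → ((i ⁻¹ᵁ Z).ι ≫ i).opensRange = Z := fun Z hZ => by
      rw [Scheme.Hom.opensRange_comp, Scheme.Opens.opensRange_ι, Scheme.Hom.image_preimage_eq_opensRange_inf]
      exact inf_eq_right.2 hZ
    have hle : U ≤ i.opensRange ∧ V ≤ i.opensRange := by rw [hi]; exact ⟨le_sup_left, le_sup_right⟩
    have hcov : i ⁻¹ᵁ U ⊔ i ⁻¹ᵁ V = ⊤ := by
      refine TopologicalSpace.Opens.ext (Set.eq_univ_of_forall fun y => ?_)
      have h : i y ∈ U ⊔ V := hi ▸ ⟨y, rfl⟩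
      exact h
    exact cnt_union _ _ hcov (hU _ _ (hr U hle.1)) (hV _ _ (hr V hle.2))
      (hUV _ ((i ⁻¹ᵁ U ⊓ i ⁻¹ᵁ V).ι ≫ i) (hr (U ⊓ V) (inf_le_left.trans hle.1)))

end Groth.Misc4.CountableHom
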