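import Groth.Agent.Misc4.CountableHom
import Groth.Agent.Misc1.Telescope2
import Groth.Agent.AdicLinTop.HomologyCoprod
import Groth.Prelude.Def_DerLim

/-!
# Countable sections of cohomology sheaves of homotopy colimits of perfect objects
-/

universe u

open CategoryTheory CategoryTheory.Limits Pretriangulated AlgebraicGeometry Opposite
open Groth.KTheory.Perf
open Groth.Misc4.ApproxExtend Groth.Misc4.CountableHom

attribute [local instance] HasDerivedCategory.standard

set_option backward.isDefEq.respectTransparency false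
set_option synthInstance.maxHeartbeats 400000
set_option maxHeartbeats 1000000

namespace Groth.Misc4.CountableSections

variable {X : Scheme.{u}}

lemma countable_of_eq (F : X.Modules) {V W : X.Opens} (h : V = W) (hc : Countable (F.val.obj (op V))) :
    Countable (F.val.obj (op W)) := h ▸ hc

/-- sections on an affine open of a sheaf that is `tilde H` on the chart -/
lemma countable_chart {V : X.Opens} (hV : IsAffineOpen V) (F : X.Modules) (H : ModuleCat.{u} Γ(X, V))
    (hH : Countable H) (e : (Scheme.Modules.restrictFunctor hV.fromSpec).obj F ≅ (tilde.functor Γ(X, V)).obj H) :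
    Countable (F.val.obj (op V)) := by
  haveI : Countable ↑((modulesSpecToSheaf.obj (tilde H)).presheaf.obj (op ⊤)) :=
    (ConcreteCategory.bijective_of_isIso (tilde.toOpen H ⊤)).2.countable
  exact countable_of_eq F (hV.fromSpec.image_top_eq_opensRange.trans hV.opensRange_fromSpec)
    (countable_of_iso e.symm ⊤ this)

/-- perfect modules over a countable ring have countable cohomology -/
lemma countable_homology {A : Type u} [CommRing A] [Countable A] {M : Dual.D A} (hM : DRing.IsPerfect A M) :
    CM M := fun i => by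
  obtain ⟨P, a, b, -, hproj, ⟨e⟩⟩ := hM
  haveI := (hproj i).1
  haveI : Countable (P.X i : ModuleCat.{u} A) := by
    obtain ⟨n, π, hπ⟩ := Module.Finite.exists_fin' A (P.X i : ModuleCat.{u} A)
    exact hπ.countable
  haveI : Countable (P.cycles i : ModuleCat.{u} A) :=
    ((ModuleCat.mono_iff_injective (P.iCycles i)).1 inferInstance).countable
  haveI : Countable ((HomologicalComplex.homologyFunctor (ModuleCat.{u} A) (ComplexShape.up ℤ) i).obj P : ModuleCat.{u} A) :=
    ((ModuleCat.epi_iff_surjective (P.homologyπ i)).1 inferInstance).countable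
  exact (((DerivedCategory.homologyFunctorFactors (ModuleCat.{u} A) i).symm.app P ≪≫
    (DerivedCategory.homologyFunctor _ i).mapIso e)).symm.toLinearEquiv.injective.countable

/-- a quasi-coherent object on a chart with module values -/
lemma exists_chart {V : X.Opens} (hV : IsAffineOpen V) {Z : DCoh.D X} (hZ : DCoh.IsQCohD Z) :
    ∃ N : Dual.D Γ(X, V), (DCoh.IsPerfect Z → DRing.IsPerfect Γ(X, V) N) ∧
      ∀ i : ℤ, Nonempty ((Scheme.Modules.restrictFunctor hV.fromSpec).obj (DCoh.HD Z i) ≅
        (tilde.functor Γ(X, V)).obj ((DerivedCategory.homologyFunctor (ModuleCat.{u} Γ(X, V)) i).obj N)) := by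
  haveI := Groth.PropsBasic2.preservesFiniteLimits_tilde Γ(X, V)
  haveI := preservesFiniteLimits_restrictFunctor hV.fromSpec
  obtain ⟨N, ⟨eN⟩⟩ := (Groth.Misc4.QCohTildeD.isQCohD_iff (R := Γ(X, V)) _).1
    (Groth.Misc4.QCohDPerf.isQCohD_restrict hV.fromSpec hZ)
  refine ⟨N, fun h => (Groth.DerivedCoh.TildeD.isPerfect_tildeD_iff N).1
    (isPerfect_of_iso eN.symm (Groth.DerivedCoh.PCohDescent.isPerfect_rd hV.fromSpec h)), fun i => ?_⟩
  obtain ⟨d⟩ := Groth.Misc4.KoszulUnit.nonempty_hd_tildeD N i
  obtain ⟨e⟩ := nonempty_hdRd hV.fromSpec Z i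
  exact ⟨e.symm ≪≫ (DerivedCategory.homologyFunctor _ i).mapIso eN.symm ≪≫ d⟩

/-- perfect objects have countably many sections over countable rings -/
theorem cs_of_perfect (hX : ∀ U : X.Opens, IsAffineOpen U → Countable (X.presheaf.obj (op U)))
    {E : DCoh.D X} (hE : DCoh.IsPerfect E) : CS E := fun V hV i => by
  haveI : Countable Γ(X, V) := hX V hV
  obtain ⟨N, hN, he⟩ := exists_chart hV (Groth.Misc4.Thomason.isQCohD_of_isPerfect hE)
  exact countable_chart hV _ _ (countable_homology (hN hE) i) (he i).some

/-- a module receiving jointly epimorphic maps from countable modules is countable -/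
lemma countable_of_jointlyEpi {A : CommRingCat.{u}} (M : ℕ → ModuleCat.{u} A) (H : ModuleCat.{u} A)
    (g : ∀ n, M n ⟶ H) (hM : ∀ n, Countable (M n))
    (h : ∀ (G : (Spec A).Modules) (q : (tilde.functor A).obj H ⟶ G),
      (∀ n, (tilde.functor A).map (g n) ≫ q = 0) → q = 0) : Countable H := by
  classical
  let N : Submodule A H := ⨆ n, LinearMap.range (g n).hom
  have hq : ModuleCat.ofHom N.mkQ = (0 : H ⟶ ModuleCat.of A (H ⧸ N)) := by
    refine (tilde.functor A).map_injective ?_
    rw [Functor.map_zero]
    refine h _ _ fun n => ?_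
    rw [← Functor.map_comp, show g n ≫ ModuleCat.ofHom N.mkQ = 0 from ModuleCat.hom_ext (LinearMap.ext fun x =>
      (Submodule.Quotient.mk_eq_zero N).2 (Submodule.mem_iSup_of_mem n ⟨x, rfl⟩)), Functor.map_zero]
  refine Function.Surjective.countable (f := fun p : Σ S : Finset ℕ, ∀ n : S, M n.1 =>
    ∑ n ∈ p.1.attach, g n.1 (p.2 n)) fun x => ?_
  have hx : x ∈ N := (Submodule.Quotient.mk_eq_zero N).1 (LinearMap.congr_fun (congrArg ModuleCat.Hom.hom hq) x)
  obtain ⟨f, hf, hsum⟩ := (Submodule.mem_iSup_iff_exists_finsupp _ x).1 hx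
  choose y hy using hf
  refine ⟨⟨f.support, fun n => y n.1⟩, ?_⟩
  rw [← hsum, Finsupp.sum, ← Finset.sum_attach f.support]
  exact Finset.sum_congr rfl fun n _ => hy n.1

/-- homotopy colimits of perfect objects have countably many sections -/
theorem cs_of_hocolim [HasColimitsOfShape (Discrete ℕ) (DCoh.D X)]
    (hX : ∀ U : X.Opens, IsAffineOpen U → Countable (X.presheaf.obj (op U)))
    {K : DCoh.D X} (hK : DCoh.IsQCohD K) (E : ℕ → DCoh.D X) (f : ∀ n, E n ⟶ E (n + 1)) (i : ∀ n, E n ⟶ K)
    (hE : ∀ n, DCoh.IsPerfect (E n)) (hc : DerLim.IsHocolim E f K i) : CS K := fun V hV d => by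
  haveI : Countable Γ(X, V) := hX V hV
  haveI := Groth.PropsBasic2.preservesFiniteLimits_tilde Γ(X, V)
  obtain ⟨N, -, he⟩ := exists_chart hV hK
  choose M hM hMe using fun n => exists_chart hV (Groth.Misc4.Thomason.isQCohD_of_isPerfect (hE n))
  haveI := Groth.AdicLinTop.HomologyCoprod.preservesColimitsOfShape_homologyFunctor (A := X.Modules) (ULift.{u} ℕ) d
  haveI : PreservesColimitsOfShape (Discrete ℕ) (DerivedCategory.homologyFunctor X.Modules d) :=
    preservesColimitsOfShape_of_equiv (Discrete.equivalence (Equiv.ulift.{u} (α := ℕ))) _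
  obtain ⟨e, he'⟩ := Groth.Misc1.Telescope.colimit_iso_of_isHocolim
    (DerivedCategory.homologyFunctor X.Modules d) E f K i hc
  let R := Scheme.Modules.restrictFunctor hV.fromSpec
  let εK := (he d).some
  let ε := fun n => (hMe n d).some
  choose g hg using fun n => (tilde.functor Γ(X, V)).map_surjective
    ((ε n).inv ≫ R.map ((DerivedCategory.homologyFunctor X.Modules d).map (i n)) ≫ εK.hom)
  refine countable_chart hV _ _ (countable_of_jointlyEpi _ _ g
    (fun n => countable_homology (hM n (hE n)) d) fun G q hq => ?_) εK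
  haveI : PreservesColimitsOfSize.{0, 0} R := (Scheme.Modules.restrictAdjunction hV.fromSpec).leftAdjoint_preservesColimits
  have h2 : R.map e.hom ≫ εK.hom ≫ q = 0 := by
    refine (isColimitOfPreserves R (colimit.isColimit _)).hom_ext fun n => ?_
    show R.map (colimit.ι _ n) ≫ _ = _ ≫ 0
    have := hq n
    rw [hg, Category.assoc, Category.assoc, Preadditive.IsIso.comp_left_eq_zero] at this
    rw [comp_zero, ← Functor.map_comp_assoc, he']
    exact this
  rwa [Preadditive.IsIso.comp_left_eq_zero, Preadditive.IsIso.comp_left_eq_zero] at h2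

end Groth.Misc4.CountableSections
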