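import Groth.Agent.Misc4.DerivedAdj
import Mathlib.Algebra.Homology.QuasiIso
import Mathlib.CategoryTheory.Preadditive.Injective.Preserves

/-! Transferring the criterion of `DerivedAdj` along a jointly conservative family. -/

open CategoryTheory CategoryTheory.Category CategoryTheory.Limits

namespace Groth.Misc4.DerivedAdjTransfer

open DerivedAdj

universe v v' u u' w

section Compose

variable {C0 : Type*} [Category* C0] {CF : Type*} [Category* CF] {CP : Type*} [Category* CP]
  {C0' : Type*} [Category* C0'] {CF' : Type*} [Category* CF'] {CP' : Type*} [Category* CP']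
  {E : C0 ⥤ CF} {Rs : CF ⥤ C0} (aE : E ⊣ Rs) {I : CF ⥤ CP} {Rn : CP ⥤ CF} (aI : I ⊣ Rn)
  {E' : C0' ⥤ CF'} {Rs' : CF' ⥤ C0'} (aE' : E' ⊣ Rs') {I' : CF' ⥤ CP'} {Rn' : CP' ⥤ CF'} (aI' : I' ⊣ Rn')
  {ρ0 : C0 ⥤ C0'} {ρF : CF ⥤ CF'} {ρP : CP ⥤ CP'}
  (σ : Rs ⋙ ρ0 ≅ ρF ⋙ Rs') (τ : I ⋙ ρP ≅ ρF ⋙ I')

/-- Base change on left adjoints. -/
@[simps]
def bcLeft : ρ0 ⋙ E' ⟶ E ⋙ ρF where
  app X := (aE'.homEquiv _ _).symm (ρ0.map (aE.unit.app X) ≫ σ.hom.app _)
  naturality X Y f := by
    dsimp
    rw [← Adjunction.homEquiv_naturality_left_symm, ← Adjunction.homEquiv_naturality_right_symm]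
    congr 1
    have h1 := σ.hom.naturality (E.map f)
    dsimp at h1
    have h2 := congrArg ρ0.map (aE.unit.naturality f)
    simp only [Functor.id_map, Functor.comp_map, Functor.map_comp] at h2
    rw [assoc, ← h1, ← assoc, ← assoc, h2]

/-- Base change on right adjoints. -/
@[simps]
def bcRight : Rn ⋙ ρF ⟶ ρP ⋙ Rn' where
  app M := aI'.homEquiv _ _ (τ.inv.app _ ≫ ρP.map (aI.counit.app M))
  naturality M N f := by
    dsimp
    rw [← Adjunction.homEquiv_naturality_left, ← Adjunction.homEquiv_naturality_right]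
    congr 1
    have h1 := τ.inv.naturality (Rn.map f)
    dsimp at h1
    have h2 := congrArg ρP.map (aI.counit.naturality f)
    simp only [Functor.id_map, Functor.comp_map, Functor.map_comp] at h2
    rw [reassoc_of% h1, h2, assoc]

variable [∀ X, IsIso ((bcLeft aE aE' σ).app X)] [∀ M, IsIso ((bcRight aI aI' τ).app M)]

/-- The comparison of composite left adjoints. -/
noncomputable def thetaIso : ρ0 ⋙ E' ⋙ I' ≅ (E ⋙ I) ⋙ ρP :=
  NatIso.ofComponents (fun X => I'.mapIso (asIso ((bcLeft aE aE' σ).app X)) ≪≫ (τ.app (E.obj X)).symm)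
    (fun {X Y} f => by
      have h1 := congrArg I'.map ((bcLeft aE aE' σ).naturality f)
      have h2 := τ.inv.naturality (E.map f)
      simp only [Functor.comp_map, Functor.map_comp] at h1 h2
      simp only [Functor.comp_obj, Iso.trans_hom, Functor.mapIso_hom, asIso_hom, Iso.symm_hom, Iso.app_inv,
        Functor.comp_map, assoc]
      rw [reassoc_of% h1, h2])

/-- The comparison of composite right adjoints. -/
noncomputable def kappaIso : (Rn ⋙ Rs) ⋙ ρ0 ≅ ρP ⋙ Rn' ⋙ Rs' :=
  NatIso.ofComponents (fun M => σ.app (Rn.obj M) ≪≫ Rs'.mapIso (asIso ((bcRight aI aI' τ).app M)))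
    (fun {M N} f => by
      have h1 := congrArg Rs'.map ((bcRight aI aI' τ).naturality f)
      have h2 := σ.hom.naturality (Rn.map f)
      simp only [Functor.comp_map, Functor.map_comp] at h1 h2
      simp only [Functor.comp_obj, Iso.trans_hom, Functor.mapIso_hom, asIso_hom, Iso.app_hom,
        Functor.comp_map, assoc]
      rw [reassoc_of% h2, h1])

lemma theta_kappa (X : C0) (M : CP) (r : I.obj (E.obj X) ⟶ M) :
    (aE'.comp aI').homEquiv _ _ ((thetaIso aE aE' σ τ).hom.app X ≫ ρP.map r) =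
      ρ0.map ((aE.comp aI).homEquiv _ _ r) ≫ (kappaIso aI aI' σ τ).hom.app M := by
  simp only [thetaIso, kappaIso, NatIso.ofComponents_hom_app, Iso.trans_hom, Functor.mapIso_hom, asIso_hom,
    Iso.symm_hom, Iso.app_inv, Iso.app_hom, Functor.comp_obj, assoc, Adjunction.comp_homEquiv,
    Equiv.trans_apply]
  set x := aI.homEquiv _ _ r with hx
  have e1 : aI'.homEquiv (ρF.obj (E.obj X)) _ (τ.inv.app (E.obj X) ≫ ρP.map r) =
      ρF.map x ≫ (bcRight aI aI' τ).app M := by
    refine Eq.trans ?_ (aI'.homEquiv_naturality_left (ρF.map x) _)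
    refine congrArg _ ?_
    have h1 := τ.inv.naturality x
    dsimp at h1
    rw [reassoc_of% h1, ← ρP.map_comp, ← aI.homEquiv_counit, hx, Equiv.symm_apply_apply]
  rw [Adjunction.homEquiv_naturality_left, e1, Adjunction.homEquiv_naturality_right, bcLeft_app]
  erw [Equiv.apply_symm_apply]
  rw [Functor.map_comp, aE.homEquiv_unit, Functor.map_comp, assoc, assoc]
  congr 1
  exact ((σ.hom.naturality_assoc x _)).symm

end Compose

variable {A : Type u} [Category.{v} A] [Abelian A] {B : Type u'} [Category.{v'} B] [Abelian B]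
  {L : A ⥤ B} [L.Additive] {R : B ⥤ A} [R.Additive] (adj : L ⊣ R)

/-- The criterion passes from a jointly conservative family to the original adjunction. -/
theorem good_of_family {J : Type w} {A' : J → Type*} [∀ j, Category* (A' j)] [∀ j, Abelian (A' j)]
    {B' : J → Type*} [∀ j, Category* (B' j)] [∀ j, Abelian (B' j)]
    {L' : ∀ j, A' j ⥤ B' j} [∀ j, (L' j).Additive] {R' : ∀ j, B' j ⥤ A' j} [∀ j, (R' j).Additive]
    (adj' : ∀ j, L' j ⊣ R' j)
    (ρA : ∀ j, A ⥤ A' j) [∀ j, (ρA j).Additive] [∀ j, PreservesFiniteLimits (ρA j)]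
    [∀ j, PreservesFiniteColimits (ρA j)] [∀ j, (ρA j).PreservesInjectiveObjects]
    (ρB : ∀ j, B ⥤ B' j) [∀ j, (ρB j).Additive] [∀ j, PreservesFiniteLimits (ρB j)]
    [∀ j, PreservesFiniteColimits (ρB j)] [∀ j, (ρB j).PreservesInjectiveObjects]
    (θ : ∀ j, ρA j ⋙ L' j ≅ L ⋙ ρB j) (κ : ∀ j, R ⋙ ρA j ≅ ρB j ⋙ R' j)
    (compat : ∀ j (X : A) (M : B) (r : L.obj X ⟶ M),
      (adj' j).homEquiv _ _ ((θ j).hom.app X ≫ (ρB j).map r) = (ρA j).map (adj.homEquiv _ _ r) ≫ (κ j).hom.app M)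
    (hcons : ∀ {X Y : A} (f : X ⟶ Y), (∀ j, IsIso ((ρA j).map f)) → IsIso f)
    (h : ∀ j, Good (L' j) (R' j) (adj' j)) : Good L R adj := by
  intro I n _ _ M m _ _ r hr
  rw [quasiIso_iff]
  intro i
  rw [quasiIsoAt_iff_isIso_homologyMap]
  apply hcons
  intro j
  let Iv := ((ρA j).mapHomologicalComplex (ComplexShape.up ℤ)).obj I
  let Mv := ((ρB j).mapHomologicalComplex (ComplexShape.up ℤ)).obj M
  have : ∀ i, Injective (Iv.X i) := fun i => inferInstanceAs (Injective ((ρA j).obj (I.X i)))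
  have : ∀ i, Injective (Mv.X i) := fun i => inferInstanceAs (Injective ((ρB j).obj (M.X i)))
  let θ' : ((L' j).mapHomologicalComplex (ComplexShape.up ℤ)).obj Iv ≅
      ((ρB j).mapHomologicalComplex (ComplexShape.up ℤ)).obj ((L.mapHomologicalComplex (ComplexShape.up ℤ)).obj I) :=
    HomologicalComplex.Hom.isoOfComponents (fun i => (θ j).app (I.X i))
      (fun a b _ => ((θ j).hom.naturality (I.d a b)).symm)
  let κ' : ((ρA j).mapHomologicalComplex (ComplexShape.up ℤ)).obj ((R.mapHomologicalComplex (ComplexShape.up ℤ)).obj M) ≅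
      ((R' j).mapHomologicalComplex (ComplexShape.up ℤ)).obj Mv :=
    HomologicalComplex.Hom.isoOfComponents (fun i => (κ j).app (M.X i))
      (fun a b _ => ((κ j).hom.naturality (M.d a b)).symm)
  let rv : ((L' j).mapHomologicalComplex (ComplexShape.up ℤ)).obj Iv ⟶ Mv :=
    θ'.hom ≫ ((ρB j).mapHomologicalComplex (ComplexShape.up ℤ)).map r
  have : QuasiIso (((ρB j).mapHomologicalComplex (ComplexShape.up ℤ)).map r) :=
    HomologicalComplex.quasiIso_map_of_preservesHomology _ _
  have : QuasiIso rv := inferInstance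
  have hq := h j Iv n Mv m rv inferInstance
  have e : adjunct (adj' j) rv = ((ρA j).mapHomologicalComplex (ComplexShape.up ℤ)).map (adjunct adj r) ≫ κ'.hom := by
    ext i
    have := compat j (I.X i) (M.X i) (r.f i)
    have h1 : ∀ (g : (L' j).obj ((ρA j).obj (I.X i)) ⟶ (ρB j).obj (M.X i)) (x : L.obj (I.X i) ⟶ M.X i),
        (adj' j).homEquiv _ _ g = (ρA j).map (adj.homEquiv _ _ x) ≫ (κ j).hom.app (M.X i) →
        (adj' j).unit.app _ ≫ (R' j).map g = (ρA j).map (adj.unit.app _ ≫ R.map x) ≫ (κ j).hom.app (M.X i) := by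
      intro g x hh
      rwa [Adjunction.homEquiv_unit, Adjunction.homEquiv_unit] at hh
    exact h1 _ _ this
  rw [e, quasiIso_iff_comp_right] at hq
  have h2 : QuasiIsoAt (((ρA j).mapHomologicalComplex (ComplexShape.up ℤ)).map (adjunct adj r)) i := inferInstance
  rw [quasiIsoAt_iff, ShortComplex.quasiIso_iff] at h2
  let φ := (HomologicalComplex.shortComplexFunctor A (ComplexShape.up ℤ) i).map (adjunct adj r)
  have h3 : IsIso (ShortComplex.homologyMap ((ρA j).mapShortComplex.map φ)) := h2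
  have h4 := ShortComplex.mapHomologyIso_hom_naturality φ (ρA j)
  have : IsIso ((ρA j).map (ShortComplex.homologyMap φ)) := by
    replace h4 := (Iso.inv_comp_eq _).2 h4
    rw [← h4]
    exact IsIso.comp_isIso' (Iso.isIso_inv _) (IsIso.comp_isIso' h3 (Iso.isIso_hom _))
  exact this

end Groth.Misc4.DerivedAdjTransfer
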