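import Groth.Agent.Misc4.CdEquiv
import Groth.Agent.Misc4.RFSingle

/-!
The comparison between two topologies on modules and on derived categories.
-/

universe u

set_option backward.defeqAttrib.useBackward true
set_option backward.isDefEq.respectTransparency false
set_option linter.unusedSectionVars false
set_option linter.unusedVariables false
set_option linter.style.haveILetI false
set_option synthInstance.maxHeartbeats 400000
set_option maxHeartbeats 1000000

open CategoryTheory CategoryTheory.Limits CategoryTheory.Pretriangulated DerivedCategory Opposite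

namespace Groth.Misc4.EpsPush

section

variable {A : Type*} [Category A] [Abelian A] {B : Type*} [Category B] [Abelian B]

lemma kernel_ι_factorThruImage {X Y : A} (k : X ⟶ Y) : kernel.ι k ≫ Abelian.factorThruImage k = 0 :=
  zero_of_comp_mono (Abelian.image.ι k) (by rw [Category.assoc, Abelian.image.fac, kernel.condition])

lemma shortExact_factorThruImage {X Y : A} (k : X ⟶ Y) :
    (ShortComplex.mk (kernel.ι k) (Abelian.factorThruImage k) (kernel_ι_factorThruImage k)).ShortExact :=
  { exact := by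
      refine ShortComplex.exact_of_f_is_kernel _ (KernelFork.IsLimit.ofι _ _
        (fun {W} g hg => kernel.lift k g (by rw [← Abelian.image.fac k, reassoc_of% hg, zero_comp]))
        (fun {W} g hg => kernel.lift_ι _ _ _) (fun {W} g hg m hm => ?_))
      rw [← cancel_mono (kernel.ι k), hm, kernel.lift_ι] }

lemma shortExact_image {X Y : A} (k : X ⟶ Y) :
    (ShortComplex.mk (Abelian.image.ι k) (cokernel.π k) (kernel.condition _)).ShortExact :=
  { exact := ShortComplex.exact_of_f_is_kernel _ (kernelIsKernel _) }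

/-- A left exact functor commutes with a cokernel whose two halves stay epimorphisms. -/
lemma nonempty_cokernel_iso_of_epi (G : A ⥤ B) [G.Additive] [PreservesLimitsOfSize.{0, 0} G] {X Y : A}
    (k : X ⟶ Y) (h1 : Epi (G.map (Abelian.factorThruImage k))) (h2 : Epi (G.map (cokernel.π k))) :
    Nonempty (cokernel (G.map k) ≅ G.obj (cokernel k)) := by
  have hS := shortExact_image k
  have hex := hS.exact.map_of_mono_of_preservesKernel G hS.mono_f inferInstance
  let T := ShortComplex.mk (G.map k) (G.map (cokernel.π k))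
    (by rw [← G.map_comp, cokernel.condition, G.map_zero])
  have hT : T.Exact := by
    let φ : T ⟶ ShortComplex.mk (G.map (Abelian.image.ι k)) (G.map (cokernel.π k))
        (by rw [← G.map_comp, kernel.condition, G.map_zero]) :=
      { τ₁ := G.map (Abelian.factorThruImage k), τ₂ := 𝟙 _, τ₃ := 𝟙 _
        comm₁₂ := by simp [T, ← G.map_comp] }
    have : Epi φ.τ₁ := h1
    exact (ShortComplex.exact_iff_of_epi_of_isIso_of_mono φ).2 hex
  have : Epi T.g := h2
  exact ⟨(cokernelIsCokernel _).coconePointUniqueUpToIso hT.gIsCokernel⟩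

end

open Groth.Misc4.DerivedLift (S0)
open Groth.SitesTopoi.ModH

variable {C : Type u} [SmallCategory C] {J J' : GrothendieckTopology C} (h : J' ≤ J) {O : Sheaf J CommRingCat.{u}}

/-- A morphism between sheaves for the finer topology is one for the coarser topology. -/
noncomputable def preimagePush {F G : ModSite.Mod O}
    (ψ : (SiteCmp.eps h O).push.obj F ⟶ (SiteCmp.eps h O).push.obj G) : F ⟶ G where
  val :=
    { app := fun U => ModuleCat.ofHom (X := sc F.val U.unop) (Y := sc G.val U.unop)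
        { toFun := fun m => apm ψ.val U.unop m
          map_add' := fun a b => map_add (apm ψ.val U.unop) a b
          map_smul' := fun r a => map_smul (apm ψ.val U.unop) r a }
      naturality := fun {U V} g => by
        ext m
        exact PresheafOfModules.naturality_apply ψ.val g m }

instance faithful_push : (SiteCmp.eps h O).push.Faithful where
  map_injective {F G} a b e := mod_hom_ext fun U m =>
    (congrArg (fun φ : (SiteCmp.eps h O).push.obj F ⟶ (SiteCmp.eps h O).push.obj G => apm φ.val U m) e :)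

instance full_push : (SiteCmp.eps h O).push.Full where
  map_surjective {F G} ψ := ⟨preimagePush h ψ, mod_hom_ext fun U m => rfl⟩

instance isIso_counit (F : ModSite.Mod O) : IsIso ((SiteCmp.eps h O).adj.counit.app F) := inferInstance

attribute [local instance] HasDerivedCategory.standard

variable (A : ObjectProperty (ModSite.Mod O)) [WSerre.IsWeakSerre A] (B : Set C)
  (h3 : ∀ U : C, ∃ (ι : Type u) (Y : ι → C) (g : ∀ i, Y i ⟶ U), Sieve.ofArrows Y g ∈ J' U ∧ ∀ i, Y i ∈ B)
  (h4 : ∀ U ∈ B, ∀ F : ModSite.Mod O, A F → ∀ p : ℕ, 0 < p → Subsingleton (ModSite.HU O F p U))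

include h3 h4 in
/-- Direct images keep short exact sequences starting in the subcategory exact. -/
theorem epi_push_map {F₁ F₂ F₃ : ModSite.Mod O} {i : F₁ ⟶ F₂} {p : F₂ ⟶ F₃} {w : i ≫ p = 0}
    (hS : (ShortComplex.mk i p w).ShortExact) (hF₁ : A F₁) : Epi ((SiteCmp.eps h O).push.map p) := by
  have : HasExt.{u} (ModSite.Mod O) := hasExt_of_enoughInjectives _
  refine Preadditive.epi_of_cokernel_zero (RlimSite.eq_zero_of_free h3 _ fun V hV s => ?_)
  obtain ⟨e⟩ := RFUpstairs.nonempty_pull_freeOn_iso (SiteCmp.eps h O) V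
  let s' : ModSite.freeOn O V ⟶ F₃ := e.inv ≫ ((SiteCmp.eps h O).adj.homEquiv _ _).symm s
  have : Subsingleton (ModSite.HU O F₁ 1 V) := h4 V hV F₁ hF₁ 1 Nat.one_pos
  have h1 : Subsingleton (Abelian.Ext (ModSite.freeOn O V) F₁ 1) := ExtFree.subsingleton_ext_freeOn V F₁ 1
  obtain ⟨x, hx⟩ := Abelian.Ext.covariant_sequence_exact₃ (ModSite.freeOn O V) hS
    (Abelian.Ext.mk₀ s') (zero_add 1) (Subsingleton.elim (h := h1) _ _)
  obtain ⟨y, rfl⟩ := (Abelian.Ext.mk₀_bijective _ _).2 x
  rw [Abelian.Ext.mk₀_comp_mk₀] at hx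
  have hy : y ≫ p = s' := (Abelian.Ext.mk₀_bijective _ _).1 hx
  have hs : s = (SiteCmp.eps h O).adj.homEquiv _ _ (e.hom ≫ y) ≫ (SiteCmp.eps h O).push.map p := by
    rw [← Adjunction.homEquiv_naturality_right, Category.assoc, hy]
    simp [s']
  rw [hs, Category.assoc, cokernel.condition, comp_zero]

include h3 h4 in
/-- Higher direct images vanish on the subcategory. -/
theorem isZero_homology [HasInjectiveResolutions (ModSite.Mod O)] [SiteCmp.HasRpushD (SiteCmp.eps h O)]
    (F : ModSite.Mod O) (hF : A F) (q : ℤ) (hq : q ≠ 0) :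
    IsZero ((homologyFunctor _ q).obj
      ((SiteCmp.RpushD (SiteCmp.eps h O)).obj ((singleFunctor (ModSite.Mod O) 0).obj F))) := by
  let f := SiteCmp.eps h O
  let β := (SiteCmp.pushKh f).totalRightDerivedUnit DerivedCategory.Qh
      (HomotopyCategory.quasiIso (ModSite.Mod O) (ComplexShape.up ℤ))
  let R := (SiteCmp.RpushD f).obj ((singleFunctor (ModSite.Mod O) 0).obj F)
  rcases lt_or_gt_of_ne hq with hn | hp
  · have : R.IsGE 0 := RFBounded.isGE_obj f.push (SiteCmp.RpushD f) β _ 0
    exact R.isZero_of_isGE 0 q hn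
  refine IsZero.of_iso ?_ (RlimVanish.hShift R q 0 q (add_zero q)).symm
  rw [IsZero.iff_id_eq_zero]
  refine RlimSite.eq_zero_of_free h3 _ fun V hV s => ?_
  obtain ⟨M', p, hp', φ, hφ⟩ := DerivedLift.exists_epi_lift (X := R⟦q⟧) s
  obtain ⟨S, hS, hl⟩ := RlimSite.exists_local_lift p
  rw [Category.comp_id]
  refine RlimSite.eq_zero_of_locally s hS fun W g hg => ?_
  obtain ⟨ι, Y, k, hk, hY⟩ := h3 W
  refine RlimSite.eq_zero_of_locally _ hk ?_
  rintro W' _ ⟨_, l, _, ⟨i⟩, rfl⟩
  obtain ⟨l', hl'⟩ := hl (k i ≫ g) (S.downward_closed hg _)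
  have h0 : S0.map l' ≫ φ = 0 := RFUpstairs.eq_zero_push f _ F 0 q
    (fun n hn => h4 _ (hY i) F hF n (by lia)) _
  rw [← Category.assoc, RlimSite.res_comp, Category.assoc, Category.assoc, ← Category.assoc (RlimSite.res (k i)),
    ← RlimSite.res_comp, ← hl', Category.assoc, ← hφ, ← DerivedLift.ev_map, h0]
  simp [DerivedLift.ev]

include h3 h4 in
/-- Cokernels of morphisms in the subcategory are preserved. -/
theorem nonempty_cokernel_iso {F₁ F₂ : ModSite.Mod O} (k : F₁ ⟶ F₂) (h₁ : A F₁) (h₂ : A F₂) :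
    Nonempty (cokernel ((SiteCmp.eps h O).push.map k) ≅ (SiteCmp.eps h O).push.obj (cokernel k)) := by
  have : PreservesLimitsOfSize.{0, 0} (SiteCmp.eps h O).push :=
    (SiteCmp.eps h O).adj.rightAdjoint_preservesLimits
  have hC : A (cokernel k) := A.prop_cokernel k h₁ h₂
  refine nonempty_cokernel_iso_of_epi (SiteCmp.eps h O).push k
    (epi_push_map h A B h3 h4 (shortExact_factorThruImage k) (A.prop_kernel k h₁ h₂))
    (epi_push_map h A B h3 h4 (shortExact_image k) (A.prop_kernel (cokernel.π k) h₂ hC))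

/-- The unit is invertible on direct images. -/
lemma isIso_unit_of_iso (Y : ModSite.Mod (SiteCmp.epsRing h O)) (F : ModSite.Mod O)
    (e : (SiteCmp.eps h O).push.obj F ≅ Y) : IsIso ((SiteCmp.eps h O).adj.unit.app Y) := by
  rw [← NatTrans.isIso_app_iff_of_iso (SiteCmp.eps h O).adj.unit e]
  infer_instance

include h3 h4 in
/-- The direct images form a weak Serre subcategory. -/
theorem isWeakSerre [PreservesFiniteLimits (SiteCmp.eps h O).pull] :
    WSerre.IsWeakSerre (A.map (SiteCmp.eps h O).push) := by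
  let f := SiteCmp.eps h O
  have : PreservesLimitsOfSize.{0, 0} f.push := f.adj.rightAdjoint_preservesLimits
  exact
  { exists_zero := by
      obtain ⟨Z, hZ, hA⟩ := A.exists_prop_of_containsZero
      exact ⟨f.push.obj Z, f.push.map_isZero hZ, A.prop_map_obj _ hA⟩
    kernels_le := by
      rintro _ ⟨φ, c, hc, ⟨⟨F₁, h₁, ⟨e₁⟩⟩, ⟨F₂, h₂, ⟨e₂⟩⟩⟩⟩
      obtain ⟨k, hk⟩ := f.push.map_surjective (e₁.hom ≫ φ ≫ e₂.inv)
      refine ⟨kernel k, A.prop_kernel k h₁ h₂,
        ⟨PreservesKernel.iso f.push k ≪≫ kernel.mapIso _ _ e₁ e₂ (by rw [hk]; simp) ≪≫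
          (limit.isLimit _).conePointUniqueUpToIso hc⟩⟩
    cokernels_le := by
      rintro _ ⟨φ, c, hc, ⟨⟨F₁, h₁, ⟨e₁⟩⟩, ⟨F₂, h₂, ⟨e₂⟩⟩⟩⟩
      obtain ⟨k, hk⟩ := f.push.map_surjective (e₁.hom ≫ φ ≫ e₂.inv)
      obtain ⟨e⟩ := nonempty_cokernel_iso h A B h3 h4 k h₁ h₂
      refine ⟨cokernel k, A.prop_cokernel k h₁ h₂,
        ⟨e.symm ≪≫ cokernel.mapIso _ _ e₁ e₂ (by rw [hk]; simp) ≪≫
          (colimit.isColimit _).coconePointUniqueUpToIso hc⟩⟩
    prop_X₂_of_shortExact := by
      intro S hS ⟨F₁, h₁, ⟨e₁⟩⟩ ⟨F₃, h₃, ⟨e₃⟩⟩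
      have hP : (S.map f.pull).ShortExact := hS.map_of_exact f.pull
      have hE : A (f.pull.obj S.X₂) := A.prop_X₂_of_shortExact hP
        (A.prop_of_iso ((asIso (f.adj.counit.app F₁)).symm ≪≫ f.pull.mapIso e₁) h₁)
        (A.prop_of_iso ((asIso (f.adj.counit.app F₃)).symm ≪≫ f.pull.mapIso e₃) h₃)
      have := hP.mono_f
      have hPP : ((S.map f.pull).map f.push).ShortExact :=
        { exact := hP.exact.map_of_mono_of_preservesKernel f.push hP.mono_f inferInstance
          mono_f := f.push.map_mono (S.map f.pull).f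
          epi_g := epi_push_map h A B h3 h4 hP
            (A.prop_of_iso ((asIso (f.adj.counit.app F₁)).symm ≪≫ f.pull.mapIso e₁) h₁) }
      let φ : S ⟶ (S.map f.pull).map f.push :=
        { τ₁ := f.adj.unit.app S.X₁, τ₂ := f.adj.unit.app S.X₂, τ₃ := f.adj.unit.app S.X₃
          comm₁₂ := (f.adj.unit.naturality S.f).symm
          comm₂₃ := (f.adj.unit.naturality S.g).symm }
      have : IsIso φ.τ₁ := isIso_unit_of_iso h _ F₁ e₁
      have : IsIso φ.τ₃ := isIso_unit_of_iso h _ F₃ e₃
      have : IsIso φ.τ₂ := ShortComplex.isIso₂_of_shortExact_of_isIso₁₃ φ hS hPP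
      exact ⟨_, hE, ⟨(asIso φ.τ₂).symm⟩⟩ }

include h3 h4 in
/-- The unit on derived categories is invertible on direct images of the subcategory. -/
theorem isIso_unit_inD [PreservesFiniteLimits (SiteCmp.eps h O).pull] [SiteCmp.HasRpushD (SiteCmp.eps h O)]
    (adj : SiteCmp.pullD (SiteCmp.eps h O) ⊣ SiteCmp.RpushD (SiteCmp.eps h O))
    (F' : ModSite.Mod (SiteCmp.epsRing h O)) (hF' : A.map (SiteCmp.eps h O).push F') :
    IsIso (adj.unit.app (SiteCmp.inD (SiteCmp.epsRing h O) F')) := by
  obtain ⟨F, hF, ⟨e⟩⟩ := hF'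
  let f := SiteCmp.eps h O
  have : HasInjectiveResolutions (ModSite.Mod O) := inferInstance
  have : PreservesLimitsOfSize.{0, 0} f.push := f.adj.rightAdjoint_preservesLimits
  let β := (SiteCmp.pushKh f).totalRightDerivedUnit DerivedCategory.Qh
      (HomotopyCategory.quasiIso (ModSite.Mod O) (ComplexShape.up ℤ))
  have hi := RFSingle.isIso_compSingle f.push (SiteCmp.RpushD f) β F fun q hq =>
    isZero_homology h A B h3 h4 F hF q hq
  let c : F ≅ f.pull.obj F' := (asIso (f.adj.counit.app F)).symm ≪≫ f.pull.mapIso e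
  refine RFSingle.isIso_unit adj (Z := (singleFunctor _ 0).obj F)
    ((singleFunctor _ 0).mapIso e.symm ≪≫ asIso ((RFSingle.compSingle f.push (SiteCmp.RpushD f) β).app F))
    ((f.pull.mapDerivedCategorySingleFunctor 0).app F' ≪≫ (singleFunctor _ 0).mapIso c.symm) ?_
  exact RFSingle.bijective_map f.push (SiteCmp.RpushD f) β hi hi

end Groth.Misc4.EpsPush
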