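import Groth.Agent.Misc4.ApproxGlue

/-!
# Extending perfect objects and morphisms across an affine open
-/

universe u

open CategoryTheory CategoryTheory.Limits Pretriangulated AlgebraicGeometry
open Groth.KTheory.Perf
open Groth.DerivedCoh.PCoh (Near Below hShiftIso)
open Groth.Misc4.ApproxExtend
open Groth.Misc4.KoszulOrth Groth.Misc4.KoszulUnit Groth.Misc4.Thomason Groth.Misc4.ApproxGlue

attribute [local instance] HasDerivedCategory.standard

set_option backward.isDefEq.respectTransparency false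
set_option backward.defeqAttrib.useBackward true
set_option synthInstance.maxHeartbeats 400000
set_option maxHeartbeats 1000000

namespace Groth.Misc4.ExtendStep

variable {X : Scheme.{u}} {A : Type u} [CommRing A]

/-- From an open of `X` to the overlap with the chart. -/
noncomputable abbrev rdExt (W : X.Opens) (j : Spec (CommRingCat.of A) ⟶ X) [IsOpenImmersion j] (gs : List A)
    [PreservesFiniteLimits (Scheme.Modules.restrictFunctor W.ι)]
    [PreservesFiniteLimits (Scheme.Modules.restrictFunctor j)]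
    [PreservesFiniteLimits (Scheme.Modules.restrictFunctor (U gs).ι)] :
    DCoh.D (W : Scheme.{u}) ⥤ DCoh.D ((U gs : (Spec (CommRingCat.of A)).Opens) : Scheme.{u}) :=
  CxOX.extZeroD W.ι ⋙ DCoh.restrictD j ⋙ DCoh.restrictD (U gs).ι

variable [PreservesFiniteLimits (tilde.functor (CommRingCat.of A))]
  (W : X.Opens) (j : Spec (CommRingCat.of A) ⟶ X) [IsOpenImmersion j] (ts gs : List A)
  [PreservesFiniteLimits (Scheme.Modules.restrictFunctor W.ι)]
  [PreservesFiniteLimits (Scheme.Modules.restrictFunctor j)]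
  [PreservesFiniteLimits (Scheme.Modules.restrictFunctor (U gs).ι)]
  {T : Set X} (hts : ∀ y, j y ∈ T ↔ y ∉ U ts) (hgs : ∀ y, j y ∈ W ↔ y ∈ U gs)

include hts hgs in
/-- A perfect object plus an odd shift of it lifts to the chart. -/
theorem lift_doubled (A₀ : DCoh.D (W : Scheme.{u})) (hA₀ : DCoh.IsPerfect A₀)
    (hA₀s : ∀ i, CohB1.support (DCoh.HD A₀ i) ⊆ W.ι.base ⁻¹' T) (k : ℕ) :
    Lift ts gs ((rdExt W j gs).obj (A₀⟦((2 * k + 1 : ℕ) : ℤ)⟧ ⊞ A₀)) := by
  let adjW := Groth.DerivedCoh.ExtZero.extZeroDAdj W.ι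
  let kk : ((U gs : (Spec (CommRingCat.of A)).Opens) : Scheme.{u}) ⟶ (W : Scheme.{u}) :=
    IsOpenImmersion.lift W.ι ((U gs).ι ≫ j) (by
      rw [Scheme.Opens.range_ι]
      rintro _ ⟨z, rfl⟩
      exact (hgs _).2 z.2)
  have hkk : kk ≫ W.ι = (U gs).ι ≫ j := IsOpenImmersion.lift_fac _ _ _
  haveI : IsOpenImmersion kk := by
    haveI : IsOpenImmersion (kk ≫ W.ι) := hkk ▸ inferInstance
    exact IsOpenImmersion.of_comp kk W.ι
  let G := rdExt W j gs
  obtain ⟨c₁⟩ := nonempty_rdComp (k := kk) (j := W.ι) (l := (U gs).ι ≫ j) hkk.symm ((CxOX.extZeroD W.ι).obj A₀)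
  obtain ⟨c₂⟩ := nonempty_rdComp (k := (U gs).ι) (j := j) (l := (U gs).ι ≫ j) rfl ((CxOX.extZeroD W.ι).obj A₀)
  haveI := isIso_extZeroDAdj_unit W.ι A₀
  let g₀ : G.obj A₀ ≅ (DCoh.restrictD kk).obj A₀ :=
    c₂.symm ≪≫ c₁ ≪≫ (DCoh.restrictD kk).mapIso (asIso (adjW.unit.app A₀)).symm
  have hF₀ : DCoh.IsPerfect (G.obj A₀) :=
    isPerfect_of_iso g₀.symm (Groth.DerivedCoh.PCohDescent.isPerfect_rd kk hA₀)
  have hF₀s : ∀ i, ∀ z ∈ CohB1.support (DCoh.HD (G.obj A₀) i), (U gs).ι z ∉ U ts := fun i z hz => by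
    rw [support_of_iso ((DerivedCategory.homologyFunctor _ i).mapIso g₀)] at hz
    have h : W.ι (kk z) ∈ T := hA₀s i ((mem_support_hd_rd kk A₀ i z).1 hz)
    rw [← Scheme.Hom.comp_apply, hkk, Scheme.Hom.comp_apply] at h
    exact (hts _).1 h
  haveI := preservesBinaryBiproducts_of_preservesBiproducts G
  exact (lift_of_perfect (G.obj A₀) hF₀ hF₀s k).of_iso
    (biprod.mapIso ((G.commShiftIso ((2 * k + 1 : ℕ) : ℤ)).app A₀).symm (Iso.refl _) ≪≫ (G.mapBiprod _ A₀).symm)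

include hts hgs in
/-- A perfect object on `W` with a map to `E` extends to the chart, given a lift of its restriction. -/
theorem extendLocal (A₁ : DCoh.D (W : Scheme.{u})) (hA₁ : DCoh.IsPerfect A₁)
    (hA₁s : ∀ i, CohB1.support (DCoh.HD A₁ i) ⊆ W.ι.base ⁻¹' T) (hlift : Lift ts gs ((rdExt W j gs).obj A₁))
    {E : DCoh.D X} (hE : DCoh.IsQCohD ((DCoh.restrictD j).obj E)) (α₁ : A₁ ⟶ (DCoh.restrictD W.ι).obj E) :
    ∃ (F : DCoh.D X) (h : F ⟶ E) (eW : A₁ ≅ (DCoh.restrictD W.ι).obj F),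
      DCoh.IsPerfect ((DCoh.restrictD j).obj F) ∧
      (∀ i, CohB1.support (DCoh.HD ((DCoh.restrictD j).obj F) i) ⊆ j.base ⁻¹' T) ∧ eW.hom ≫ (DCoh.restrictD W.ι).map h = α₁ := by
  let adjW := Groth.DerivedCoh.ExtZero.extZeroDAdj W.ι
  let adjJ := Groth.DerivedCoh.ExtZero.extZeroDAdj j
  let PA : DCoh.D X := (CxOX.extZeroD W.ι).obj A₁
  let αX : PA ⟶ E := (adjW.homEquiv A₁ E).symm α₁
  obtain ⟨Gm, hGm, ⟨ψ⟩⟩ := hlift
  -- extend the map
  let MV := (DCoh.restrictD j).obj PA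
  let αV : MV ⟶ (DCoh.restrictD j).obj E := (DCoh.restrictD j).map αX
  obtain ⟨E₁, β, γ, hE₁, hβ, hγ⟩ := exists_extend hGm (E' := (DCoh.restrictD j).obj E)
    hE (ψ.hom ≫ (DCoh.restrictD (U gs).ι).map αV)
  have hMV : ∀ i, CohB1.support (DCoh.HD MV i) ⊆ ((U gs).ι.opensRange : Set (Spec (CommRingCat.of A))) :=
    fun i y hy => by
      rw [Scheme.Opens.opensRange_ι]
      obtain ⟨z, hz, -⟩ := mem_support_ext W.ι A₁ i ((mem_support_hd_rd j PA i y).1 hy)
      exact (hgs y).1 (hz ▸ z.2)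
  let B := (DCoh.tildeD (CommRingCat.of A)).obj E₁
  haveI := hβ
  obtain ⟨τ, hτ⟩ := rd_surjective (U gs).ι (M := MV) (N := B) hMV (ψ.inv ≫ inv ((Φ gs).map β))
  have hτγ : τ ≫ γ = αV := by
    refine rd_injective (U gs).ι hMV ?_
    rw [Functor.map_comp, hτ, ← hγ, Category.assoc, IsIso.inv_hom_id_assoc]
    exact ψ.inv_hom_id_assoc _
  haveI hτiso : IsIso ((DCoh.restrictD (U gs).ι).map τ) := by rw [hτ]; infer_instance
  -- glue
  let s : (CxOX.extZeroD j).obj MV ⟶ PA := adjJ.counit.app PA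
  let t : (CxOX.extZeroD j).obj MV ⟶ (CxOX.extZeroD j).obj B := (CxOX.extZeroD j).map τ
  let βX : (CxOX.extZeroD j).obj B ⟶ E := (CxOX.extZeroD j).map γ ≫ adjJ.counit.app E
  have hw : s ≫ αX = t ≫ βX := by
    show adjJ.counit.app PA ≫ αX = (CxOX.extZeroD j).map τ ≫ (CxOX.extZeroD j).map γ ≫ adjJ.counit.app E
    rw [← Category.assoc, ← Functor.map_comp, hτγ]
    exact (adjJ.counit.naturality αX).symm
  haveI : IsIso ((DCoh.restrictD j).map s) := isIso_rd_counit j PA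
  haveI : IsIso ((DCoh.restrictD W.ι).map t) := by
    obtain ⟨Cτ, v, w, hC⟩ := distinguished_cocone_triangle τ
    have hz : IsZero ((DCoh.restrictD (U gs).ι).obj Cτ) :=
      (Triangle.isZero₃_iff_isIso₁ _ ((DCoh.restrictD (U gs).ι).map_distinguished _ hC)).2 hτiso
    refine isIso_rd_of_support W.ι _ ((CxOX.extZeroD j).map_distinguished _ hC) fun q z hq => ?_
    obtain ⟨y, hy, hy'⟩ := mem_support_ext j Cτ q hq
    have hyU : y ∈ U gs := (hgs y).1 (hy ▸ z.2)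
    exact Set.eq_empty_iff_forall_notMem.1 (isZero_iff_support.1
      ((DerivedCategory.homologyFunctor _ q).map_isZero hz)) ⟨y, hyU⟩
        ((mem_support_hd_rd (U gs).ι Cτ q ⟨y, hyU⟩).2 hy')
  obtain ⟨F, h, a, b', ha, -, haI, hbI⟩ := ApproxGlue.glue W.ι j s t αX βX hw
  haveI := haI
  haveI := hbI
  haveI := isIso_extZeroDAdj_unit W.ι A₁
  haveI := isIso_extZeroDAdj_unit j B
  let eW : A₁ ≅ (DCoh.restrictD W.ι).obj F := asIso (adjW.unit.app A₁) ≪≫ asIso ((DCoh.restrictD W.ι).map a)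
  let eV : B ≅ (DCoh.restrictD j).obj F := asIso (adjJ.unit.app B) ≪≫ asIso ((DCoh.restrictD j).map b')
  have hB : DCoh.IsPerfect B := (Groth.DerivedCoh.TildeD.isPerfect_tildeD_iff E₁).2 hE₁.1
  refine ⟨F, h, eW, isPerfect_of_iso eV hB, fun i y hy => ?_, ?_⟩
  · refine (hts y).2 ((support_tilde_subset_iff ts _).2 (fun f hf => hE₁.2 f hf i) y ?_)
    rw [← support_of_iso (nonempty_hd_tildeD E₁ i).some]
    exact (Set.ext_iff.1 (support_of_iso ((DerivedCategory.homologyFunctor _ i).mapIso eV)) y).2 hy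
  · show (adjW.unit.app A₁ ≫ (DCoh.restrictD W.ι).map a) ≫ (DCoh.restrictD W.ι).map h = α₁
    rw [Category.assoc, ← Functor.map_comp, ha]
    exact rd_symm W.ι α₁


include hts hgs in
/-- A perfect object on `W` with a map to `E` extends across the chart, given a lift of its restriction. -/
theorem extend (hcov : ∀ x, x ∉ W → x ∈ j.opensRange) (A₁ : DCoh.D (W : Scheme.{u})) (hA₁ : DCoh.IsPerfect A₁)
    (hA₁s : ∀ i, CohB1.support (DCoh.HD A₁ i) ⊆ W.ι.base ⁻¹' T) (hlift : Lift ts gs ((rdExt W j gs).obj A₁))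
    {E : DCoh.D X} (hE : DCoh.IsQCohD ((DCoh.restrictD j).obj E)) (α₁ : A₁ ⟶ (DCoh.restrictD W.ι).obj E) :
    ∃ (F : DCoh.D X) (h : F ⟶ E) (eW : A₁ ≅ (DCoh.restrictD W.ι).obj F), DCoh.IsPerfect F ∧
      (∀ i, CohB1.support (DCoh.HD F i) ⊆ T) ∧ eW.hom ≫ (DCoh.restrictD W.ι).map h = α₁ := by
  obtain ⟨F, h, eW, hV, hVs, he⟩ := extendLocal W j ts gs hts hgs A₁ hA₁ hA₁s hlift hE α₁
  refine ⟨F, h, eW, ?_, fun i x hx => ?_, he⟩
  · rw [isPerfect_iff]
    intro x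
    by_cases hx : x ∈ W
    · exact exists_perfOn_of_rd W.ι (isPerfect_of_iso eW hA₁) ⟨x, hx⟩
    · obtain ⟨y, rfl⟩ := hcov x hx
      exact exists_perfOn_of_rd j hV y
  · by_cases hxW : x ∈ W
    · exact hA₁s i ((Set.ext_iff.1 (support_of_iso ((DerivedCategory.homologyFunctor _ i).mapIso eW)) ⟨x, hxW⟩).2
        ((mem_support_hd_rd W.ι F i ⟨x, hxW⟩).2 hx))
    · obtain ⟨y, rfl⟩ := hcov x hxW
      exact hVs i ((mem_support_hd_rd j F i y).2 hx)

end Groth.Misc4.ExtendStep
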