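import Groth.Agent.DerivedCoh.RelAmp.PushAmp
import Groth.Agent.DerivedCoh.PerfPush.FlatProper
import Groth.Agent.DEquivH6.DiagPhi
import Groth.Agent.DerivedCoh.Duality.Braid
import Groth.Agent.DerivedCoh.KFlat.LTensorCx
import Groth.Agent.HTor.FlatCoh
import Groth.Agent.IntMult.CohDTensor
import Groth.Agent.DerivedAdj.Devissage

/-!
The kernel of a Fourier–Mukai functor given by a module which is flat over the source:
`Lp^* - ⊗^L K` preserves boundedness and coherence, with cohomology supported on `Supp K`.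
-/

set_option autoImplicit false

universe u

open CategoryTheory CategoryTheory.Limits CategoryTheory.Pretriangulated AlgebraicGeometry HomologicalComplex
open scoped ZeroObject

attribute [local instance] HasDerivedCategory.standard

namespace Groth.Misc4.FMKernel

open Groth.DerivedCoh.KFlat (T IsKFlat tot tmCx pullCx flatResolution flatResolutionAug)

local notation "up" => ComplexShape.up ℤ

variable {X W : Scheme.{u}} (p : W ⟶ X) (K : W.Modules) [DCoh.HasLpull p] [DCoh.HasLTensorMod K]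

/-- the kernel functor -/
noncomputable abbrev G : DCoh.D X ⥤ DCoh.D W := DCoh.Lpull p ⋙ DCoh.LTensorMod K

/-- `G` at a K-flat complex -/
noncomputable def gQIso (E : CochainComplex X.Modules ℤ) (hE : IsKFlat (T X) E) :
    (G p K).obj (DCoh.toD X E) ≅ DCoh.toD W ((tmCx K).obj ((pullCx p).obj E)) :=
  (DCoh.LTensorMod K).mapIso (Groth.DerivedCoh.KFlat.lpullQIso p E hE) ≪≫
    Groth.DerivedCoh.KFlat.ltmQIso K _ (Groth.DerivedCoh.KFlat.isKFlat_pullCx p E hE)

/-- the values of `G` on a distinguished triangle form a distinguished triangle -/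
theorem exists_g_triangle (S : Triangle (DCoh.D X)) (hS : S ∈ distTriang _) :
    ∃ S' : Triangle (DCoh.D W), S' ∈ distTriang _ ∧ Nonempty (S'.obj₁ ≅ (G p K).obj S.obj₁) ∧
      Nonempty (S'.obj₂ ≅ (G p K).obj S.obj₂) ∧ Nonempty (S'.obj₃ ≅ (G p K).obj S.obj₃) :=
  Groth.DerivedCoh.KFlat.exists_triangle (Scheme.Modules.pullback p ⋙ DCoh.tensorRightMod K) (G p K)
    (fun E hE => ⟨gQIso p K E hE ≪≫ DerivedCategory.Q.mapIso
      ((Functor.mapHomologicalComplexCompIso (Iso.refl (Scheme.Modules.pullback p ⋙ DCoh.tensorRightMod K))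
        up).app E)⟩) S hS

lemma isZero_g {Z : DCoh.D X} (hZ : IsZero Z) : IsZero ((G p K).obj Z) := by
  have h : IsZero ((Scheme.Modules.pullback p ⋙ DCoh.tensorRightMod K).mapHomologicalComplex up |>.obj
      (0 : CochainComplex X.Modules ℤ)) := Functor.map_isZero _ (isZero_zero _)
  refine (DerivedCategory.Q.map_isZero h).of_iso ?_
  exact (G p K).mapIso (hZ.iso (DerivedCategory.Q.map_isZero (isZero_zero _))) ≪≫
    gQIso p K 0 (fun L _ i => ExactAt.of_isZero (Functor.map_isZero (HomologicalComplex.eval _ _ i) (Functor.map_isZero (Groth.DerivedCoh.KFlat.totR (T X) L) (isZero_zero _)))) ≪≫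
    DerivedCategory.Q.mapIso ((Functor.mapHomologicalComplexCompIso
      (Iso.refl (Scheme.Modules.pullback p ⋙ DCoh.tensorRightMod K)) up).app 0)

variable {S : Scheme.{u}} (q : W ⟶ S) [IsLocallyNoetherian X] [IsLocallyNoetherian W]

/-- bounded, with coherent cohomology supported properly over `S` -/
def Good (Z : DCoh.D W) : Prop :=
  (∀ i, Groth.DerivedCoh.PerfPush.cohSupp q (DCoh.HD Z i)) ∧
    ∃ a b : ℤ, ∀ i, i < a ∨ b < i → IsZero (DCoh.HD Z i)

variable {q}

lemma Good.of_iso {Z Z' : DCoh.D W} (h : Good q Z) (e : Z ≅ Z')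
    [WSerre.IsWeakSerre (Groth.DerivedCoh.PerfPush.cohSupp q)] : Good q Z' := by
  obtain ⟨h1, a, b, h2⟩ := h
  exact ⟨fun i => (Groth.DerivedCoh.PerfPush.cohSupp q).prop_of_iso
      ((DerivedCategory.homologyFunctor _ i).mapIso e) (h1 i),
    a, b, fun i hi => (h2 i hi).of_iso ((DerivedCategory.homologyFunctor _ i).mapIso e).symm⟩

lemma Good.ext {T : Triangle (DCoh.D W)} (hT : T ∈ distTriang _)
    [WSerre.IsWeakSerre (Groth.DerivedCoh.PerfPush.cohSupp q)]
    (h₁ : Good q T.obj₁) (h₃ : Good q T.obj₃) : Good q T.obj₂ := by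
  obtain ⟨c1, a1, b1, z1⟩ := h₁
  obtain ⟨c3, a3, b3, z3⟩ := h₃
  refine ⟨Groth.DerivedAdj.cohIn_obj₂ (Groth.DerivedCoh.PerfPush.cohSupp q) T hT c1 c3,
    min a1 a3, max b1 b3, fun i hi => ?_⟩
  exact (DerivedCategory.HomologySequence.exact₂ T hT i).isZero_of_both_zeros
    ((z1 i (by omega)).eq_of_src _ _) ((z3 i (by omega)).eq_of_tgt _ _)

lemma Good.shift {Z : DCoh.D W} (h : Good q Z) (n : ℤ)
    [WSerre.IsWeakSerre (Groth.DerivedCoh.PerfPush.cohSupp q)] : Good q (Z⟦n⟧) := by
  obtain ⟨h1, a, b, h2⟩ := h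
  let e := fun i => ((DerivedCategory.homologyFunctor W.Modules 0).shiftIso n i (n + i) rfl).app Z
  exact ⟨fun i => (Groth.DerivedCoh.PerfPush.cohSupp q).prop_of_iso (e i).symm (h1 (n + i)),
    a - n, b - n, fun i hi => (h2 (n + i) (by omega)).of_iso (e i)⟩

/-- `G` commutes with `⟦1⟧` -/
theorem nonempty_g_shift (Z : DCoh.D X) :
    Nonempty ((G p K).obj (Z⟦(1 : ℤ)⟧) ≅ ((G p K).obj Z)⟦(1 : ℤ)⟧) := by
  obtain ⟨S', hS', ⟨e1⟩, ⟨e2⟩, ⟨e3⟩⟩ := exists_g_triangle p K (contractibleTriangle Z).rotate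
    (rot_of_distTriang _ (contractible_distinguished Z))
  have h2 : IsZero S'.obj₂ := (isZero_g p K (isZero_zero _)).of_iso e2
  haveI := (Triangle.isZero₂_iff_isIso₃ S' hS').1 h2
  exact ⟨e3.symm ≪≫ asIso S'.mor₃ ≪≫ (shiftFunctor _ (1 : ℤ)).mapIso e1⟩

/-- `G` of a coherent module in degree zero -/
theorem good_single_zero (hK : Coh.IsCoh K) (hflat : FlatMod.IsFlatOver p K)
    (hsupp : ClSub.IsProperOver q (CohB1.support K)) (N : X.Modules) (hN : Coh.IsCoh N) :
    Good q ((G p K).obj ((DerivedCategory.singleFunctor X.Modules 0).obj N)) := by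
  let C := (single X.Modules up 0).obj N
  let P := (flatResolution X).obj C
  have hP : IsKFlat (T X) P := Groth.DerivedCoh.KFlat.flatResolution_isKFlat C
  haveI : QuasiIso ((flatResolutionAug X).app C) := Groth.DerivedCoh.KFlat.flatResolution_quasiIso C
  let P' := (pullCx p).obj P
  have hP' : IsKFlat (T W) P' := Groth.DerivedCoh.KFlat.isKFlat_pullCx p P hP
  haveI := Groth.DerivedCoh.KFlat.hasLTensorCx P'
  let F := (single W.Modules up 0).obj K
  have hF0 : DCoh.VanishesOutside F 0 0 := fun i hi => isZero_single_obj_X up 0 K i (by omega)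
  have hF : DerSch.HasTorAmplitude p 0 0 F :=
    (Groth.DerivedCoh.RelAmp.hasTorAmplitude_iff F 0 0).2 fun x =>
      Groth.DerivedCoh.RelAmp.ampAt_of_relFlatAmp ⟨F, hF0, fun i => by
        by_cases h : i = 0
        · subst h
          exact Groth.DerivedCoh.RelAmp.isFlatOver_of_iso (singleObjXSelf up 0 K).symm hflat
        · exact Groth.DerivedCoh.RelAmp.isFlatOver_of_isZero (hF0 i (by omega)), ⟨Iso.refl _⟩⟩ x
  let eC : DCoh.toD X P ≅ (DerivedCategory.singleFunctor X.Modules 0).obj N :=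
    asIso (DerivedCategory.Q.map ((flatResolutionAug X).app C)) ≪≫
      ((DerivedCategory.singleFunctorIsoCompQ X.Modules 0).app N).symm
  let eG : (G p K).obj ((DerivedCategory.singleFunctor X.Modules 0).obj N) ≅
      (DCoh.LTensorCx P').obj (DCoh.toD W F) :=
    (G p K).mapIso eC.symm ≪≫ gQIso p K P hP ≪≫
      DerivedCategory.Q.mapIso ((Groth.DEquivH6.DiagPhi.totSingleNatIso K).app P' ≪≫
        Groth.DerivedCoh.Duality.brIso P' F) ≪≫
      (Groth.DerivedCoh.KFlat.ltcxIso P' hP' F).symm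
  have hz : ∀ i : ℤ, i < 0 ∨ 0 < i →
      IsZero (DCoh.HD ((G p K).obj ((DerivedCategory.singleFunctor X.Modules 0).obj N)) i) := fun i hi =>
    (Groth.DerivedCoh.RelAmp.isZero_HD_ltensor_pullCx p F hF N P ((flatResolutionAug X).app C) hP P'
      (Iso.refl _) hi).of_iso ((DerivedCategory.homologyFunctor _ i).mapIso eG)
  have hNcoh : DCoh.IsCohD ((DerivedCategory.singleFunctor X.Modules 0).obj N) := fun i => by
    by_cases hi : i = 0
    · subst hi
      exact Groth.QCohMod.isCoh_of_iso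
        ((DerivedCategory.singleFunctorCompHomologyFunctorIso X.Modules 0).app N).symm hN
    · rcases lt_or_gt_of_ne hi with h | h
      · exact Groth.KTheory.isCoh_of_isZero (DerivedCategory.isZero_of_isGE _ 0 i h)
      · exact Groth.KTheory.isCoh_of_isZero (DerivedCategory.isZero_of_isLE _ 0 i h)
  obtain ⟨hPc, hPb⟩ := Groth.HTor.FlatCoh.isCohD_Lpull p hNcoh (b := 0) fun i hi =>
    DerivedCategory.isZero_of_isLE _ 0 i hi
  let eP : (DCoh.Lpull p).obj ((DerivedCategory.singleFunctor X.Modules 0).obj N) ≅ DCoh.toD W P' :=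
    (DCoh.Lpull p).mapIso eC.symm ≪≫ Groth.DerivedCoh.KFlat.lpullQIso p P hP
  have hFc : DCoh.IsCohD (DCoh.toD W F) := fun i => by
    refine Groth.QCohMod.isCoh_of_iso (Groth.DerivedCoh.KFlat.hdIso F i).symm ?_
    by_cases hi : i = 0
    · subst hi
      exact Groth.QCohMod.isCoh_of_iso (HomologicalComplex.singleObjHomologySelfIso up 0 K).symm hK
    · exact Groth.KTheory.isCoh_of_isZero
        ((exactAt_iff_isZero_homology _ _).1 (ExactAt.of_isZero (isZero_single_obj_X up 0 K i hi)))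
  obtain ⟨hT, -⟩ := Groth.IntMult.CohDTensor.isCohD_LTensorCx P' hFc (a := 0)
    (fun i hi => (Groth.DerivedCoh.KFlat.isZero_hd_toD_iff F i).2
      (ExactAt.of_isZero (isZero_single_obj_X up 0 K i (by omega))))
    (fun i => Groth.QCohMod.isCoh_of_iso ((DerivedCategory.homologyFunctor _ i).mapIso eP) (hPc i))
    (b := 0) (fun i hi => (hPb i hi).of_iso ((DerivedCategory.homologyFunctor _ i).mapIso eP).symm)
  refine ⟨fun i => ?_, 0, 0, hz⟩
  have hc : Coh.IsCoh (DCoh.HD ((G p K).obj ((DerivedCategory.singleFunctor X.Modules 0).obj N)) i) :=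
    Groth.QCohMod.isCoh_of_iso ((DerivedCategory.homologyFunctor _ i).mapIso eG).symm (hT i)
  exact ⟨hc, Groth.CohDev.isProperOver_mono q hsupp (Groth.CohC3.isClosed_support_of_isCoh _ hc)
    (Groth.DerivedCoh.PerfPush.support_hd_ltm K _ i)⟩

/-- `G` of a bounded coherent object -/
theorem good_g [WSerre.IsWeakSerre (Groth.DerivedCoh.PerfPush.cohSupp q)]
    (hK : Coh.IsCoh K) (hflat : FlatMod.IsFlatOver p K)
    (hsupp : ClSub.IsProperOver q (CohB1.support K))
    (M : DCoh.D X) (hM : DCoh.IsCohD M) (m n : ℤ) [M.IsGE m] [M.IsLE n] : Good q ((G p K).obj M) := by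
  refine Groth.DerivedAdj.devissage (Groth.KTheory.cohProp X) (fun Z => Good q ((G p K).obj Z))
    (fun e h => h.of_iso ((G p K).mapIso e)) ?_ ?_ ?_ M m n hM
    (fun N hN => Groth.KTheory.isCoh_of_isZero hN)
  · intro Z hZ
    have hz : ∀ i, IsZero (DCoh.HD ((G p K).obj Z) i) := fun i =>
      (DerivedCategory.homologyFunctor _ i).map_isZero (isZero_g p K hZ)
    exact ⟨fun i => (Groth.DerivedCoh.PerfPush.cohSupp q).prop_of_isZero (hz i), 0, 0, fun i _ => hz i⟩
  · intro T hT h₁ h₃
    obtain ⟨S', hS', ⟨e1⟩, ⟨e2⟩, ⟨e3⟩⟩ := exists_g_triangle p K T hT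
    exact (Good.ext hS' (h₁.of_iso e1.symm) (h₃.of_iso e3.symm)).of_iso e2
  · intro N hN k
    have h0 := good_single_zero p K (q := q) hK hflat hsupp N hN
    have hneg : ∀ (j : ℕ), Good q ((G p K).obj ((DerivedCategory.singleFunctor X.Modules (-(j : ℤ))).obj N)) ∧
        Good q ((G p K).obj ((DerivedCategory.singleFunctor X.Modules (j : ℤ)).obj N)) := by
      intro j
      induction j with
      | zero => exact ⟨by simpa using h0, by simpa using h0⟩
      | succ j ih =>
        constructor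
        · obtain ⟨c⟩ := nonempty_g_shift p K ((DerivedCategory.singleFunctor X.Modules (-(j : ℤ))).obj N)
          exact ((ih.1.shift 1).of_iso c.symm).of_iso ((G p K).mapIso
            (((DerivedCategory.singleFunctors X.Modules).shiftIso 1 (-((j + 1 : ℕ) : ℤ)) (-(j : ℤ))
              (by omega)).app N))
        · let Z := (DerivedCategory.singleFunctor X.Modules ((j + 1 : ℕ) : ℤ)).obj N
          obtain ⟨c⟩ := nonempty_g_shift p K Z
          have h1 : Good q ((G p K).obj (Z⟦(1 : ℤ)⟧)) := ih.2.of_iso ((G p K).mapIso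
            (((DerivedCategory.singleFunctors X.Modules).shiftIso 1 (j : ℤ) ((j + 1 : ℕ) : ℤ)
              (by omega)).app N).symm)
          exact ((h1.of_iso c).shift (-1)).of_iso ((shiftEquiv (DCoh.D W) (1 : ℤ)).unitIso.app _).symm
    rcases Int.eq_nat_or_neg k with ⟨j, rfl | rfl⟩
    · exact (hneg j).2
    · exact (hneg j).1

end Groth.Misc4.FMKernel
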