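import Groth.Agent.DerivedCoh.PCohDescent.Main
import Groth.Agent.DerivedCoh.PCoh.Pullback
import Groth.Agent.DerivedCoh.PerfPush.FlatProper
import Groth.Agent.DerivedCoh.KFlat.LTensorGen
import Groth.Agent.DerivedCoh.KFlat.StalkCriterion
import Groth.Agent.DerivedCoh.Duality.Braid
import Groth.Agent.IntMult.CohDTensor

/-!
`E ⊗^L K` for `E` of bounded flat amplitude and `K` bounded coherent: it is bounded coherent and its
cohomology lives on the support of the cohomology of `K`.
-/

set_option autoImplicit false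

universe u

open CategoryTheory CategoryTheory.Limits AlgebraicGeometry HomologicalComplex

attribute [local instance] HasDerivedCategory.standard

namespace Groth.Misc4.FMPerfect

open Groth.DerivedCoh.KFlat (T IsKFlat tot totR stk hdIso)

local notation "up" => ComplexShape.up ℤ

variable {X : Scheme.{u}}

/-- a total tensor product of two bounded complexes is bounded -/
lemma isZero_tot_X (P Q : CochainComplex X.Modules ℤ) {a b c d : ℤ}
    (hP : ∀ i, i < a ∨ b < i → IsZero (P.X i)) (hQ : ∀ i, i < c ∨ d < i → IsZero (Q.X i))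
    {n : ℤ} (hn : n < a + c ∨ b + d < n) : IsZero ((tot (T X) P Q).X n) := by
  rw [IsZero.iff_id_eq_zero]
  refine Groth.DerivedCoh.Duality.tot_ext P Q fun p q h => IsZero.eq_of_src ?_ _ _
  by_cases hp : p < a ∨ b < p
  · exact ((T X).map_isZero (hP p hp)).obj _
  · exact ((T X).obj (P.X p)).map_isZero (hQ q (by omega))

/-- bounded complexes representing bounded objects -/
lemma exists_bounded_rep (K : CochainComplex X.Modules ℤ) (c d : ℤ)
    (hge : DerivedCategory.IsGE (DCoh.toD X K) c) (hle : DerivedCategory.IsLE (DCoh.toD X K) d) :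
    ∃ (K₁ K' : CochainComplex X.Modules ℤ) (s : K₁ ⟶ K) (t : K₁ ⟶ K'), QuasiIso s ∧ QuasiIso t ∧
      ∀ i, i < c ∨ d < i → IsZero (K'.X i) := by
  haveI : K.IsLE d := (DerivedCategory.isLE_Q_obj_iff K d).1 hle
  haveI : K.IsGE c := (DerivedCategory.isGE_Q_obj_iff K c).1 hge
  haveI : QuasiIso (K.ιTruncLE d) := inferInstance
  haveI : (K.truncLE d).IsGE c := by
    rw [CochainComplex.isGE_iff]
    intro i hi
    exact (quasiIsoAt_iff_exactAt' (K.ιTruncLE d) i (K.exactAt_of_isGE c i hi)).1 inferInstance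
  refine ⟨K.truncLE d, (K.truncLE d).truncGE c, K.ιTruncLE d, (K.truncLE d).πTruncGE c, inferInstance,
    inferInstance, fun i hi => ?_⟩
  rcases hi with hi | hi
  · exact ((K.truncLE d).truncGE c).isZero_of_isStrictlyGE c i hi
  · exact ((K.truncLE d).truncGE c).isZero_of_isStrictlyLE d i hi

/-- `E ⊗^L K` at a bounded flat complex -/
theorem bounded_ltcx (E : DCoh.D X) {a b : ℤ} (hE : DCoh.HasFlatAmplitudeIn a b E)
    (K : CochainComplex X.Modules ℤ) [DCoh.HasLTensorCx K] (c d : ℤ)
    (hge : DerivedCategory.IsGE (DCoh.toD X K) c) (hle : DerivedCategory.IsLE (DCoh.toD X K) d) :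
    (∀ i, i < a + c ∨ b + d < i → IsZero (DCoh.HD ((DCoh.LTensorCx K).obj E) i)) ∧
    ∀ i, CohB1.support (DCoh.HD ((DCoh.LTensorCx K).obj E) i) ⊆
      ⋃ j, CohB1.support (DCoh.HD (DCoh.toD X K) j) := by
  obtain ⟨P, h0, hf, ⟨e⟩⟩ := hE
  have hP : IsKFlat (T X) P := Groth.DerivedCoh.KFlat.isKFlat_of_isFlat_of_vanishes P a b h0 hf
  have hP' : IsKFlat (T X).flip P := Groth.DerivedCoh.Duality.isKFlat_flip hP
  let eT : (DCoh.LTensorCx K).obj E ≅ DCoh.toD X (tot (T X) P K) :=
    (DCoh.LTensorCx K).mapIso e.symm ≪≫ @asIso _ _ _ _ ((Groth.DerivedCoh.KFlat.ltcxCounit K).app P)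
      (Groth.DerivedCoh.KFlat.isIso_ltcxCounit_app K P hP')
  let ei := fun i => (DerivedCategory.homologyFunctor X.Modules i).mapIso eT ≪≫ hdIso (tot (T X) P K) i
  refine ⟨fun i hi => ?_, fun i x hx => ?_⟩
  · obtain ⟨K₁, K', s, t, hs, ht, hK'⟩ := exists_bounded_rep K c d hge hle
    haveI : QuasiIso ((totR (T X) P).map s) := Groth.DerivedCoh.KFlat.quasiIso_totR (T X) hP' s
    haveI : QuasiIso ((totR (T X) P).map t) := Groth.DerivedCoh.KFlat.quasiIso_totR (T X) hP' t
    refine IsZero.of_iso ?_ (ei i)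
    refine IsZero.of_iso ?_ ((asIso (homologyMap ((totR (T X) P).map s) i)).symm ≪≫
      asIso (homologyMap ((totR (T X) P).map t) i))
    exact (ExactAt.of_isZero (isZero_tot_X P K' h0 hK' hi)).isZero_homology
  · by_contra hxU
    refine hx ?_
    have hKx : (((stk x).mapHomologicalComplex up).obj K).Acyclic := fun j => by
      have hj : IsZero ((stk x).obj (K.homology j)) := by
        have hs : x ∉ CohB1.support (DCoh.HD (DCoh.toD X K) j) := fun h => hxU (Set.mem_iUnion.2 ⟨j, h⟩)
        haveI := not_not.1 hs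
        exact (@ModuleCat.isZero_of_subsingleton _ _ ((stk x).obj (DCoh.HD (DCoh.toD X K) j))
          (not_not.1 hs)).of_iso ((stk x).mapIso (hdIso K j).symm)
      rw [exactAt_iff]
      exact (ShortComplex.exact_iff_isZero_homology _).2 (hj.of_iso ((K.sc j).mapHomologyIso (stk x)))
    have hPx := (Groth.DerivedCoh.KFlat.isKFlat_iff_stalk P).1
      ((Groth.DerivedCoh.KFlat.isKFlat_iff P).2 hP) x
    have h1 : (((stk x).mapHomologicalComplex up).obj (tot (T X) K P)).ExactAt i :=
      ExactAt.of_iso ((exactAt_iff_isZero_homology _ _).2 (hPx _ (fun j => (hKx j).isZero_homology) i))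
        (Groth.DerivedCoh.KFlat.stkTotIso x K P).symm
    have h2 : (((stk x).mapHomologicalComplex up).obj (tot (T X) P K)).ExactAt i :=
      h1.of_iso (((stk x).mapHomologicalComplex up).mapIso (Groth.DerivedCoh.Duality.brIso K P))
    rw [exactAt_iff] at h2
    have h0' : IsZero ((stk x).obj ((tot (T X) P K).homology i)) :=
      IsZero.of_iso ((ShortComplex.exact_iff_isZero_homology _).1 h2)
        (((tot (T X) P K).sc i).mapHomologyIso (stk x)).symm
    exact AddCommGrpCat.subsingleton_of_isZero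
      ((forget₂ (ModuleCat.{u} (X.presheaf.stalk x)) AddCommGrpCat.{u}).map_isZero
        (h0'.of_iso ((stk x).mapIso (ei i))))

end Groth.Misc4.FMPerfect
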