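import Groth.Agent.Misc4.ThinTot
import Groth.Prelude.Def_FibDesc
import Mathlib.CategoryTheory.Adjunction.Triple
import Mathlib.CategoryTheory.Limits.Constructions.EventuallyConstant

/-! Basic facts on the open-set sites of an augmented indexed space. -/

universe u

open CategoryTheory CategoryTheory.Limits Opposite TopologicalSpace Pseudofunctor.CoGrothendieck

set_option synthInstance.maxHeartbeats 400000
set_option maxHeartbeats 1000000
namespace Groth.Misc4.FibDescBase

open Groth.Misc4.FibSiteTot Groth.Misc4.ThinTot

set_option backward.defeqAttrib.useBackward true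
set_option backward.isDefEq.respectTransparency false
set_option backward.isDefEq.respectTransparency.types false

variable {D : Type} [SmallCategory D] (Y : (WithInitial D)ᵒᵖ ⥤ TopCat.{u})

local notation "F" => FibDesc.topAug Y
local notation "J" => FibDesc.topAugTop Y

instance thin_topAug : ThinFib F where
  thin S a b := inferInstanceAs (Subsingleton ((a : Opens (Y.obj S)) ⟶ (b : Opens (Y.obj S))))

instance thin_part : ThinFib (FibDesc.part F) where
  thin S a b := inferInstanceAs (Subsingleton ((a : Opens (Y.obj ((FibDesc.toAug D).obj S))) ⟶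
    (b : Opens (Y.obj ((FibDesc.toAug D).obj S)))))

lemma preFib : FibSite.IsPreFibSite F J :=
  fun R S f => inferInstanceAs ((Opens.map (Y.map f)).IsContinuous
    (Opens.grothendieckTopology (Y.obj S)) (Opens.grothendieckTopology (Y.obj R)))

lemma preFib_part : FibSite.IsPreFibSite (FibDesc.part F) (FibDesc.partTop F J) :=
  fun R S f => preFib Y ((FibDesc.toAug D).map f)

/-- `incl` as a functor of total categories with thin fibres. -/
noncomputable def inclMap : TotMap (FibDesc.part F) F where
  ψ := FibDesc.toAug D
  φ i := 𝟭 _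
  comm m V := 𝟙 _

/-- `incl` agrees with the associated functor. -/
noncomputable def inclIso : (inclMap Y).functor ≅ FibDesc.incl F :=
  natIsoOfEq (fun _ => rfl) (fun _ => by simp [inclMap])

instance continuous_incl : (FibDesc.incl F).IsContinuous (FibDesc.totPart F J) (FibDesc.totAug F J) :=
  have := (inclMap Y).isContinuous (preFib_part Y) (preFib Y) (fun i =>
    Functor.isContinuous_id (C := (F).obj ⟨op ((FibDesc.toAug D).obj i)⟩) (J ((FibDesc.toAug D).obj i)))
  Functor.isContinuous_of_iso (inclIso Y) _ _

instance cocontinuous_incl : (FibDesc.incl F).IsCocontinuous (FibDesc.totPart F J) (FibDesc.totAug F J) :=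
  have := (inclMap Y).isCocontinuous (preFib_part Y) (preFib Y) (fun i =>
    isCocontinuous_id (C := (F).obj ⟨op ((FibDesc.toAug D).obj i)⟩) (J ((FibDesc.toAug D).obj i)))
  Functor.IsCocontinuous.of_iso (inclIso Y)

instance continuous_ι (i : (WithInitial D)ᵒᵖ) : (ι F i).IsContinuous (J i) (FibDesc.totAug F J) :=
  isContinuous_ι (preFib Y) i

instance cocontinuous_ι (i : (WithInitial D)ᵒᵖ) : (ι F i).IsCocontinuous (J i) (FibDesc.totAug F J) :=
  isCocontinuous_ι (preFib Y) i

/-- The base point is terminal. -/
def botTerminal : IsTerminal (FibDesc.bot D) := terminalOpOfInitial WithInitial.starInitial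

instance flat_eps : RepresentablyFlat (FibDesc.eps F) :=
  flat_ι (botTerminal) (fun R => inferInstanceAs (RepresentablyFlat (Opens.map (Y.map ((botTerminal).from R)))))

instance full_eps : (FibDesc.eps F).Full := ⟨fun k => exists_ι_map k (botTerminal.hom_ext _ _)⟩

instance faithful_eps : (FibDesc.eps F).Faithful := ⟨ι_map_injective⟩



instance isIso_unit_extend :
    IsIso ((FibDesc.eps F).sheafAdjunctionContinuous AddCommGrpCat.{u} (J (FibDesc.bot D)) (FibDesc.totAug F J)).unit := by
  let t : CategoryTheory.Adjunction.Triple (FibSite.extend F J AddCommGrpCat.{u} (FibDesc.bot D))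
      (FibSite.restr F J AddCommGrpCat.{u} (FibDesc.bot D)) (FibSite.coextend F J AddCommGrpCat.{u} (FibDesc.bot D)) :=
    ⟨(FibDesc.eps F).sheafAdjunctionContinuous AddCommGrpCat.{u} _ _, (FibDesc.eps F).sheafAdjunctionCocontinuous AddCommGrpCat.{u} _ _⟩
  apply t.isIso_unit_iff_isIso_counit.2
  have : ∀ G, IsIso (t.adj₂.counit.app G) := fun G => by
    have : IsIso ((sheafToPresheaf _ _).map (t.adj₂.counit.app G)) := by
      show IsIso (t.adj₂.counit.app G).hom
      rw [show (t.adj₂.counit.app G).hom = ((FibDesc.eps F).op.ranAdjunction AddCommGrpCat.{u}).counit.app G.obj from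
        (FibDesc.eps F).sheafAdjunctionCocontinuous_counit_app_hom AddCommGrpCat.{u} _ _ G]
      infer_instance
    exact isIso_of_reflects_iso _ (sheafToPresheaf _ _)
  exact NatIso.isIso_of_isIso_app _

instance pfl_extend : PreservesFiniteLimits (FibSite.extend F J AddCommGrpCat.{u} (FibDesc.bot D)) :=
  Functor.sheafPullbackConstruction.preservesFiniteLimits.{u, u, u, u + 1, u, u} (FibDesc.eps F) AddCommGrpCat.{u} (J (FibDesc.bot D)) (FibDesc.totAug F J)

instance pfl_pull : PreservesFiniteLimits (FibDesc.pull F J AddCommGrpCat.{u}) := by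
  have : ((FibDesc.incl F).sheafPushforwardContinuous AddCommGrpCat.{u} (FibDesc.totPart F J) (FibDesc.totAug F J)).IsRightAdjoint :=
    inferInstance
  exact comp_preservesFiniteLimits _ _

section Derived

attribute [local instance] HasDerivedCategory.standard

/-- The side conditions of cohomological descent hold, so it is full faithfulness on bounded below objects. -/
theorem isCohDescentTop_of_bijective
    (h : ∀ (K L : DerivedCategory.Plus (FibDesc.BaseSh F J AddCommGrpCat.{u})),
      Function.Bijective fun g : K.obj ⟶ L.obj => (FibDesc.pull F J AddCommGrpCat.{u}).mapDerivedCategory.map g) :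
    FibDesc.IsCohDescentTop Y :=
  ⟨inferInstance, inferInstance, inferInstance, inferInstance, inferInstance, inferInstance, h⟩

theorem bijective_of_isCohDescentTop (hY : FibDesc.IsCohDescentTop Y)
    (K L : DerivedCategory.Plus (FibDesc.BaseSh F J AddCommGrpCat.{u})) :
    Function.Bijective fun g : K.obj ⟶ L.obj => (FibDesc.pull F J AddCommGrpCat.{u}).mapDerivedCategory.map g := by
  obtain ⟨_, _, _, _, _, _, h⟩ := hY
  exact h K L

end Derived

end Groth.Misc4.FibDescBase
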