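import Groth.Agent.Misc4.FibDescRows

/-! Cohomological descent in a doubly indexed augmented space. -/

universe u

open CategoryTheory CategoryTheory.Limits Opposite TopologicalSpace Pseudofunctor.CoGrothendieck

namespace Groth.Misc4.FibDescBi

open Groth.Misc4.FibSiteTot Groth.Misc4.ThinTot Groth.Misc4.TopFib Groth.Misc4.SiteBaseChange
  Groth.Misc4.FibDescBase

set_option backward.defeqAttrib.useBackward true
set_option backward.isDefEq.respectTransparency false
set_option backward.isDefEq.respectTransparency.types false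
set_option synthInstance.maxHeartbeats 400000
set_option maxHeartbeats 1000000

variable {D₁ D₂ : Type} [SmallCategory D₁] [SmallCategory D₂]
  (G : (WithInitial D₁)ᵒᵖ × (WithInitial D₂)ᵒᵖ ⥤ TopCat.{u})

/-- The column over the base of the second index. -/
noncomputable abbrev col : (WithInitial D₁)ᵒᵖ ⥤ TopCat.{u} :=
  Prod.sectL (WithInitial D₁)ᵒᵖ (FibDesc.bot D₂) ⋙ G

/-- The family without the base of the first index. -/
noncomputable abbrev rows : D₁ᵒᵖ × (WithInitial D₂)ᵒᵖ ⥤ TopCat.{u} :=
  ((FibDesc.toAug D₁).prod (𝟭 (WithInitial D₂)ᵒᵖ)) ⋙ G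

/-- The doubly indexed part. -/
noncomputable abbrev core : D₁ᵒᵖ × D₂ᵒᵖ ⥤ TopCat.{u} := FibDescRows.inner (rows G)

/-- The topology of the column. -/
noncomputable abbrev TA := FibDesc.totAug (FibDesc.topAug (col G)) (FibDesc.topAugTop (col G))

/-- The topology of the part of the column. -/
noncomputable abbrev TP := FibDesc.totPart (FibDesc.topAug (col G)) (FibDesc.topAugTop (col G))

/-- The inclusion of the family without the base of the first index. -/
noncomputable abbrev qF : ∫ᶜ topFib (rows G) ⥤ ∫ᶜ topFib G :=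
  bc G ((FibDesc.toAug D₁).prod (𝟭 (WithInitial D₂)ᵒᵖ))

/-- The inclusion of the column. -/
noncomputable def jF : ∫ᶜ (FibDesc.topAug (col G)) ⥤ ∫ᶜ topFib G :=
  bc G (Prod.sectL (WithInitial D₁)ᵒᵖ (FibDesc.bot D₂))

instance : (jF G).IsContinuous (TA G) (tot G) := continuous_bc G _

/-- The inclusion of the part of the column. -/
noncomputable def kC : ∫ᶜ (FibDesc.part (FibDesc.topAug (col G))) ⥤ ∫ᶜ topFib (rows G) :=
  FibDescRows.kF (rows G)

instance : (kC G).IsContinuous (TP G) (tot (rows G)) :=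
  continuous_bc (rows G) (Prod.sectL D₁ᵒᵖ (FibDesc.bot D₂))

/-- Compatibility of the inclusions. -/
noncomputable def e₃ : kC G ⋙ qF G ≅ FibDesc.incl (FibDesc.topAug (col G)) ⋙ jF G :=
  natIsoOfEq (fun _ => rfl) (fun _ => by simp [kC, jF])

lemma initial_e₃ (X : ∫ᶜ (FibDesc.topAug (col G))) :
    (Ψ (qF G) (FibDesc.incl (FibDesc.topAug (col G))) (kC G) (jF G) (e₃ G) X).Initial := by
  refine initial_of_zigzag _ fun t => ?_
  let B : ∫ᶜ topFib (rows G) := t.right.unop
  let a : (qF G).obj B ⟶ (jF G).obj X := t.hom.unop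
  let U : Opens ((col G).obj X.base) := X.fiber
  let f : (FibDesc.toAug D₁).obj B.base.1 ⟶ X.base := a.base.1
  let z : B.base.2 ⟶ FibDesc.bot D₂ := botTerminal.from _
  let W₀ : Opens ((FibDesc.toAug D₁ ⋙ col G).obj B.base.1) := (Opens.map ((col G).map f)).obj U
  let A₀ : ∫ᶜ (FibDesc.part (FibDesc.topAug (col G))) := ⟨B.base.1, W₀⟩
  let j₀ : StructuredArrow (op X) (FibDesc.incl (FibDesc.topAug (col G))).op :=
    StructuredArrow.mk (Y := op A₀)
      (mkHom (X := (FibDesc.incl (FibDesc.topAug (col G))).obj A₀) (Y := X) f (𝟙 _)).op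
  let Bf : Opens ((rows G).obj B.base) := B.fiber
  have hV : Bf ≤
      (Opens.map ((rows G).map ((𝟙 _, z) : B.base ⟶ (B.base.1, FibDesc.bot D₂)))).obj W₀ := by
    intro x hx
    have := leOfHom (X := Opens (G.obj ((FibDesc.toAug D₁).obj B.base.1, B.base.2))) a.fiber hx
    change G.map ((f, 𝟙 _) : ((FibDesc.toAug D₁).obj B.base.1, FibDesc.bot D₂) ⟶ (X.base, FibDesc.bot D₂))
      (G.map (((FibDesc.toAug D₁).map (𝟙 B.base.1), z) :
        ((FibDesc.toAug D₁).obj B.base.1, B.base.2) ⟶ ((FibDesc.toAug D₁).obj B.base.1, FibDesc.bot D₂)) x) ∈ U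
    rw [← TopCat.comp_app, ← G.map_comp]
    have e : (((FibDesc.toAug D₁).map (𝟙 B.base.1), z) :
        ((FibDesc.toAug D₁).obj B.base.1, B.base.2) ⟶ ((FibDesc.toAug D₁).obj B.base.1, FibDesc.bot D₂)) ≫
        ((f, 𝟙 _) : ((FibDesc.toAug D₁).obj B.base.1, FibDesc.bot D₂) ⟶ (X.base, FibDesc.bot D₂)) = a.base :=
      Prod.ext (by simp [f]) (botTerminal.hom_ext _ _)
    rw [e]
    exact this
  refine ⟨CostructuredArrow.mk (Y := j₀) (StructuredArrow.homMk
    (mkHom (X := B) (Y := (kC G).obj A₀) ((𝟙 _, z) : B.base ⟶ (B.base.1, FibDesc.bot D₂))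
      (FibDescRows.fHom (rows G) _ hV)).op ?_), fun b => ?_⟩
  · refine Quiver.Hom.unop_inj (hom_ext (Prod.ext ?_ (botTerminal.hom_ext _ _)))
    exact (show (FibDesc.toAug D₁).map (𝟙 B.base.1) ≫ 𝟙 _ ≫ f = f by simp)
  · let A : ∫ᶜ (FibDesc.part (FibDesc.topAug (col G))) := b.left.right.unop
    let k : B ⟶ (kC G).obj A := (CommaMorphism.right b.hom).unop
    let c : (FibDesc.incl (FibDesc.topAug (col G))).obj A ⟶ X := b.left.hom.unop
    let k1 : B.base.1 ⟶ A.base := k.base.1
    let c1 : (FibDesc.toAug D₁).obj A.base ⟶ X.base := c.base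
    have hw := congrArg Hom.base (congrArg Quiver.Hom.unop (StructuredArrow.w b.hom))
    have h1 : (FibDesc.toAug D₁).map k1 ≫ c1 = f := by
      have : (FibDesc.toAug D₁).map k1 ≫ 𝟙 _ ≫ c1 = f := congrArg Prod.fst hw
      rwa [Category.id_comp] at this
    let W₁ : Opens ((FibDesc.toAug D₁ ⋙ col G).obj A.base) := (Opens.map ((col G).map c1)).obj U
    let A₁ : ∫ᶜ (FibDesc.part (FibDesc.topAug (col G))) := ⟨A.base, W₁⟩
    let u₁ : A ⟶ A₁ := (ι (FibDesc.part (FibDesc.topAug (col G))) A.base).map c.fiber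
    have hW : W₀ ≤ (Opens.map ((FibDesc.toAug D₁ ⋙ col G).map k1)).obj W₁ := by
      intro x hx
      change (col G).map c1 ((col G).map ((FibDesc.toAug D₁).map k1) x) ∈ U
      rw [← TopCat.comp_app, ← (col G).map_comp, h1]
      exact hx
    let u₀ : A₀ ⟶ A₁ := mkHom (X := A₀) (Y := A₁) k1 (FibDescRows.fHom (FibDesc.toAug D₁ ⋙ col G) _ hW)
    let j₁ : StructuredArrow (op X) (FibDesc.incl (FibDesc.topAug (col G))).op :=
      StructuredArrow.mk (Y := op A₁)
        (mkHom (X := (FibDesc.incl (FibDesc.topAug (col G))).obj A₁) (Y := X) c1 (𝟙 _)).op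
    let M := CostructuredArrow.mk (Y := j₁)
      (S := Ψ (qF G) (FibDesc.incl (FibDesc.topAug (col G))) (kC G) (jF G) (e₃ G) X) (T := t)
      (StructuredArrow.homMk (k ≫ (kC G).map u₁).op (Quiver.Hom.unop_inj (hom_ext (Prod.ext
        (show (FibDesc.toAug D₁).map (k1 ≫ 𝟙 A.base) ≫ 𝟙 _ ≫ c1 = f by
          rw [Category.comp_id, Category.id_comp, h1])
        (botTerminal.hom_ext _ _)))))
    let l : M ⟶ b := CostructuredArrow.homMk (StructuredArrow.homMk u₁.op
      (Quiver.Hom.unop_inj (hom_ext (show (FibDesc.toAug D₁).map (𝟙 A.base) ≫ c1 = c1 by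
        rw [CategoryTheory.Functor.map_id, Category.id_comp]))))
      (StructuredArrow.hom_ext _ _ rfl)
    refine (Zigzag.of_inv l).trans (Zigzag.of_hom (CostructuredArrow.homMk (StructuredArrow.homMk u₀.op
      (Quiver.Hom.unop_inj (hom_ext (show (FibDesc.toAug D₁).map k1 ≫ c1 = f from h1)))) ?_))
    refine StructuredArrow.hom_ext _ _ (Quiver.Hom.unop_inj (hom_ext (Prod.ext ?_ (botTerminal.hom_ext _ _))))
    exact (show 𝟙 B.base.1 ≫ k1 = k1 ≫ 𝟙 A.base by simp)

/-- The inclusion of the doubly indexed part. -/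
noncomputable abbrev pF : ∫ᶜ topFib (core G) ⥤ ∫ᶜ topFib G := FibDescRows.rF (rows G) ⋙ qF G

instance continuous_pF : (pF G).IsContinuous (tot (core G)) (tot G) :=
  Functor.isContinuous_comp _ _ _ (tot (rows G)) _

/-- The base. -/
noncomputable def e₀₀ : (FibDesc.topAug (col G)).obj ⟨op (FibDesc.bot D₁)⟩ ⥤ ∫ᶜ topFib G := ι (topFib G) ((FibDesc.bot D₁, FibDesc.bot D₂) : (WithInitial D₁)ᵒᵖ × (WithInitial D₂)ᵒᵖ)

/-- The topology of the base. -/
noncomputable abbrev T₀ := FibDesc.topAugTop (col G) (FibDesc.bot D₁)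

instance continuous_e₀₀ : (e₀₀ G).IsContinuous (T₀ G) (tot G) := continuous_ι G _

/-- The inverse image from the base to the doubly indexed part. -/
noncomputable abbrev E : Sheaf (T₀ G) AddCommGrpCat.{u} ⥤ Sh (core G) :=
  (e₀₀ G).sheafPullback AddCommGrpCat.{u} (T₀ G) (tot G) ⋙
    (pF G).sheafPushforwardContinuous AddCommGrpCat.{u} (tot (core G)) (tot G)

/-- The inverse image to the doubly indexed part factors through the column. -/
noncomputable def isoE : FibDesc.pull (FibDesc.topAug (col G)) (FibDesc.topAugTop (col G)) AddCommGrpCat.{u} ⋙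
    FibDescRows.L (rows G) ≅ E G :=
  let aK := (kC G).sheafAdjunctionContinuous AddCommGrpCat.{u} (TP G) (tot (rows G))
  let aJ := (jF G).sheafAdjunctionContinuous AddCommGrpCat.{u} (TA G) (tot G)
  have hi : (FibDesc.incl (FibDesc.topAug (col G))).IsCocontinuous (TP G) (TA G) := cocontinuous_incl (col G)
  have hi' : (FibDesc.incl (FibDesc.topAug (col G))).IsContinuous (TP G) (TA G) := continuous_incl (col G)
  have he : (FibDesc.eps (FibDesc.topAug (col G))).IsContinuous (T₀ G) (TA G) := FibDescBase.continuous_ι (col G) _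
  let σ := (pushIso (JC := tot (rows G)) (JD := tot G) (JC' := TP G) (JD' := TA G)
    (qF G) (FibDesc.incl (FibDesc.topAug (col G))) (kC G) (jF G) (e₃ G)).symm
  have h₁ : ∀ X, IsIso ((DerivedAdjTransfer.bcLeft aJ aK σ).app X) := fun X =>
    isIso_bcLeft aJ aK σ
      ((FibDesc.incl (FibDesc.topAug (col G))).sheafAdjunctionCocontinuous AddCommGrpCat.{u} (TP G) (TA G))
      ((qF G).sheafAdjunctionCocontinuous AddCommGrpCat.{u} (tot (rows G)) (tot G))
      (fun W => isIso_bcRight _ _ _ _ _ (initial_e₃ G) W) X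
  have h₂ : IsIso (DerivedAdjTransfer.bcLeft aJ aK σ) := NatIso.isIso_of_isIso_app _
  let aC := (FibDesc.eps (FibDesc.topAug (col G))).sheafAdjunctionContinuous AddCommGrpCat.{u} (T₀ G) (TA G)
  let u₀ := (aC.comp aJ).leftAdjointUniq
    (((e₀₀ G).sheafAdjunctionContinuous AddCommGrpCat.{u} (T₀ G) (tot G)).ofNatIsoRight
      (Functor.sheafPushforwardContinuousComp' (F := FibDesc.eps (FibDesc.topAug (col G))) (G := jF G)
        (FG := e₀₀ G) (natIsoOfEq (fun _ => rfl) (fun _ => by simp [jF, e₀₀]))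
        AddCommGrpCat.{u} (T₀ G) (TA G) (tot G)).symm)
  Functor.associator _ _ _ ≪≫
    Functor.isoWhiskerLeft _ ((Functor.associator _ _ _).symm ≪≫
      Functor.isoWhiskerRight (asIso (DerivedAdjTransfer.bcLeft aJ aK σ)) _ ≪≫ Functor.associator _ _ _) ≪≫
    (Functor.associator _ _ _).symm ≪≫ Functor.isoWhiskerRight u₀ _

/-- The family with the indices exchanged. -/
noncomputable abbrev swap : (WithInitial D₂)ᵒᵖ × (WithInitial D₁)ᵒᵖ ⥤ TopCat.{u} :=
  CategoryTheory.Prod.swap (WithInitial D₂)ᵒᵖ (WithInitial D₁)ᵒᵖ ⋙ G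

/-- Exchanging the indices. -/
noncomputable def swF : ∫ᶜ topFib G ⥤ ∫ᶜ topFib (swap G) :=
  bc (swap G) (CategoryTheory.Prod.swap (WithInitial D₁)ᵒᵖ (WithInitial D₂)ᵒᵖ)

instance : (swF G).IsContinuous (tot G) (tot (swap G)) := continuous_bc (swap G) _

/-- Exchanging the indices back. -/
noncomputable def swB : ∫ᶜ topFib (swap G) ⥤ ∫ᶜ topFib G := bc G (CategoryTheory.Prod.swap _ _)

instance : (swB G).IsContinuous (tot (swap G)) (tot G) := continuous_bc G _

/-- Exchanging the indices of the doubly indexed part. -/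
noncomputable def swC : ∫ᶜ topFib (core G) ⥤ ∫ᶜ topFib (core (swap G)) :=
  bc (core (swap G)) (CategoryTheory.Prod.swap D₁ᵒᵖ D₂ᵒᵖ)

instance : (swC G).IsContinuous (tot (core G)) (tot (core (swap G))) := continuous_bc (core (swap G)) _

instance : (swC G).IsCocontinuous (tot (core G)) (tot (core (swap G))) := cocontinuous_bc (core (swap G)) _

/-- Exchanging the indices of the doubly indexed part back. -/
noncomputable def swC' : ∫ᶜ topFib (core (swap G)) ⥤ ∫ᶜ topFib (core G) :=
  bc (core G) (CategoryTheory.Prod.swap D₂ᵒᵖ D₁ᵒᵖ)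

instance : (swC' G).IsContinuous (tot (core (swap G))) (tot (core G)) := continuous_bc (core G) _

instance : (swC' G).IsCocontinuous (tot (core (swap G))) (tot (core G)) := cocontinuous_bc (core G) _

/-- Exchanging the indices is an equivalence on sheaves. -/
noncomputable def swEquiv : Sh (swap G) ≌ Sh G :=
  CategoryTheory.Equivalence.mk ((swF G).sheafPushforwardContinuous AddCommGrpCat.{u} (tot G) (tot (swap G)))
    ((swB G).sheafPushforwardContinuous AddCommGrpCat.{u} (tot (swap G)) (tot G))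
    ((Functor.sheafPushforwardContinuousId _ _).symm ≪≫ (Functor.sheafPushforwardContinuousComp' (FG := 𝟭 _)
      (natIsoOfEq (fun _ => rfl) (fun _ => by simp [swF, swB])) AddCommGrpCat.{u} (tot (swap G)) (tot G) (tot (swap G))).symm)
    (Functor.sheafPushforwardContinuousComp' (FG := 𝟭 _)
      (natIsoOfEq (fun _ => rfl) (fun _ => by simp [swF, swB])) AddCommGrpCat.{u} (tot G) (tot (swap G)) (tot G) ≪≫
      Functor.sheafPushforwardContinuousId _ _)

/-- The inverse image of the base, with the indices exchanged. -/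
noncomputable def e₀₀Iso : (e₀₀ (swap G)).sheafPullback AddCommGrpCat.{u} (T₀ (swap G)) (tot (swap G)) ⋙
    (swF G).sheafPushforwardContinuous AddCommGrpCat.{u} (tot G) (tot (swap G)) ≅
    (e₀₀ G).sheafPullback AddCommGrpCat.{u} (T₀ G) (tot G) :=
  have : (e₀₀ (swap G)).IsContinuous (T₀ G) (tot (swap G)) := continuous_e₀₀ (swap G)
  (((e₀₀ (swap G)).sheafAdjunctionContinuous AddCommGrpCat.{u} (T₀ (swap G)) (tot (swap G))).comp
      (swEquiv G).toAdjunction).leftAdjointUniq
    (((e₀₀ G).sheafAdjunctionContinuous AddCommGrpCat.{u} (T₀ G) (tot G)).ofNatIsoRight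
      (Functor.sheafPushforwardContinuousComp' (F := e₀₀ (swap G)) (G := swB G)
        (FG := e₀₀ G) (natIsoOfEq (fun _ => rfl) (fun _ => by simp [swB, e₀₀]))
        AddCommGrpCat.{u} (T₀ G) (tot (swap G)) (tot G)).symm)

/-- The inverse image to the doubly indexed part, with the indices exchanged. -/
noncomputable def isoSwap : E (swap G) ⋙
    (swC G).sheafPushforwardContinuous AddCommGrpCat.{u} (tot (core G)) (tot (core (swap G))) ≅ E G :=
  have := Functor.isContinuous_comp (swC G) (pF (swap G)) (tot (core G)) (tot (core (swap G))) (tot (swap G))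
  have := Functor.isContinuous_comp (pF G) (swF G) (tot (core G)) (tot G) (tot (swap G))
  Functor.associator _ _ _ ≪≫
    Functor.isoWhiskerLeft _ (Functor.sheafPushforwardContinuousComp (swC G) (pF (swap G)) AddCommGrpCat.{u} _ _ _ ≪≫
      Functor.sheafPushforwardContinuousIso (natIsoOfEq (fun _ => rfl) (fun _ => by simp [swC, swF]) :
        pF G ⋙ swF G ≅ swC G ⋙ pF (swap G)) AddCommGrpCat.{u} _ _ ≪≫
      (Functor.sheafPushforwardContinuousComp (pF G) (swF G) AddCommGrpCat.{u} _ _ _).symm) ≪≫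
    (Functor.associator _ _ _).symm ≪≫ Functor.isoWhiskerRight (e₀₀Iso G) _

instance additive_E : (E G).Additive :=
  have : (FibDesc.pull (FibDesc.topAug (col G)) (FibDesc.topAugTop (col G)) AddCommGrpCat.{u}).Additive :=
    FibDesc.additive_pull _ _ _
  have hA : (FibDescRows.L (rows G)).Additive := FibDescRows.additive_L _
  Functor.additive_of_iso (isoE G)

lemma pfl_E : PreservesFiniteLimits (E G) :=
  have h₁ : PreservesFiniteLimits (FibDesc.pull (FibDesc.topAug (col G)) (FibDesc.topAugTop (col G)) AddCommGrpCat.{u}) :=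
    pfl_pull (col G)
  have h₂ : PreservesFiniteLimits (FibDescRows.L (rows G)) := FibDescRows.pfl_L _
  have : PreservesFiniteLimits (FibDesc.pull (FibDesc.topAug (col G)) (FibDesc.topAugTop (col G)) AddCommGrpCat.{u} ⋙
    FibDescRows.L (rows G)) := comp_preservesFiniteLimits _ _
  preservesFiniteLimits_of_natIso (isoE G)

lemma pfc_E : PreservesFiniteColimits (E G) :=
  have h₂ : PreservesFiniteColimits (FibDescRows.L (rows G)) := FibDescRows.pfc_L _
  have h₁ : PreservesFiniteColimits (FibDesc.pull (FibDesc.topAug (col G)) (FibDesc.topAugTop (col G)) AddCommGrpCat.{u}) :=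
    FibDesc.preservesFiniteColimits_pull _ _ _
  have : PreservesFiniteColimits (FibDesc.pull (FibDesc.topAug (col G)) (FibDesc.topAugTop (col G)) AddCommGrpCat.{u} ⋙
    FibDescRows.L (rows G)) := comp_preservesFiniteColimits _ _
  preservesFiniteColimits_of_natIso (isoE G)

section Derived

attribute [local instance] HasDerivedCategory.standard

set_option maxHeartbeats 8000000 in
/-- If all rows in both directions and one column are of cohomological descent, so is the other column. -/
theorem isCohDescentTop_col (hW : ∀ m, FibDesc.IsCohDescentTop (FibDescRows.row (rows G) m))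
    (hW' : ∀ n, FibDesc.IsCohDescentTop (FibDescRows.row (rows (swap G)) n))
    (hC : FibDesc.IsCohDescentTop (col (swap G))) : FibDesc.IsCohDescentTop (col G) := by
  have hA₁ : (FibDescRows.L (rows G)).Additive := FibDescRows.additive_L _
  have hA₂ : (FibDescRows.L (rows (swap G))).Additive := FibDescRows.additive_L _
  have hl₁ : PreservesFiniteLimits (FibDescRows.L (rows G)) := FibDescRows.pfl_L _
  have hl₂ : PreservesFiniteLimits (FibDescRows.L (rows (swap G))) := FibDescRows.pfl_L _
  have hc₁ : PreservesFiniteColimits (FibDescRows.L (rows G)) := FibDescRows.pfc_L _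
  have hc₂ : PreservesFiniteColimits (FibDescRows.L (rows (swap G))) := FibDescRows.pfc_L _
  have hL := FibDescRows.bij_L (rows G) hW
  have hL' := FibDescRows.bij_L (rows (swap G)) hW'
  have hEfl : PreservesFiniteLimits (E G) := pfl_E G
  have hEfl' : PreservesFiniteLimits (E (swap G)) := pfl_E (swap G)
  have hEfc : PreservesFiniteColimits (E G) := pfc_E G
  have hEfc' : PreservesFiniteColimits (E (swap G)) := pfc_E (swap G)
  have hE' : DerivedComp.Bij (E (swap G)) :=
    DerivedComp.bij_comp _ _ _ (isoE (swap G)) (bijective_of_isCohDescentTop _ hC) hL'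
  let S := (swC G).sheafPushforwardContinuous AddCommGrpCat.{u} (tot (core G)) (tot (core (swap G)))
  let S' := (swC' G).sheafPushforwardContinuous AddCommGrpCat.{u} (tot (core (swap G))) (tot (core G))
  have : S.IsLeftAdjoint := ((swC G).sheafAdjunctionCocontinuous AddCommGrpCat.{u} _ _).isLeftAdjoint
  have : S'.IsLeftAdjoint := ((swC' G).sheafAdjunctionCocontinuous AddCommGrpCat.{u} _ _).isLeftAdjoint
  have : S.Additive := Functor.additive_of_preserves_binary_products _
  have : S'.Additive := Functor.additive_of_preserves_binary_products _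
  have hS : DerivedComp.Bij S := DerivedComp.bij_of_inverse S S'
    (Functor.sheafPushforwardContinuousComp' (FG := 𝟭 _)
      (natIsoOfEq (fun _ => rfl) (fun _ => by simp [swC, swC'])) AddCommGrpCat.{u} _ _ _ ≪≫
      Functor.sheafPushforwardContinuousId _ _)
    (Functor.sheafPushforwardContinuousComp' (FG := 𝟭 _)
      (natIsoOfEq (fun _ => rfl) (fun _ => by simp [swC, swC'])) AddCommGrpCat.{u} _ _ _ ≪≫
      Functor.sheafPushforwardContinuousId _ _)
  have hE : DerivedComp.Bij (E G) := DerivedComp.bij_comp _ S _ (isoSwap G) hE' hS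
  exact isCohDescentTop_of_bijective _ (DerivedComp.bij_of_comp _ _ _ (isoE G) hL hE)

end Derived

end Groth.Misc4.FibDescBi
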