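import Groth.Agent.Misc4.DerivedAdjTransfer
import Mathlib.CategoryTheory.Sites.Pullback
import Mathlib.CategoryTheory.Sites.CoverLifting
import Mathlib.Algebra.Category.Grp.AB
import Mathlib.Algebra.Category.Grp.Limits
import Mathlib.Algebra.Category.Grp.Colimits
import Mathlib.CategoryTheory.Sites.Abelian

/-! Base change for sheaves on squares of sites, and preservation of injectives. -/

universe u

open CategoryTheory CategoryTheory.Category CategoryTheory.Limits Opposite

namespace Groth.Misc4.SiteBaseChange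

open DerivedAdjTransfer

set_option backward.defeqAttrib.useBackward true
set_option backward.isDefEq.respectTransparency false
set_option synthInstance.maxHeartbeats 400000
set_option maxHeartbeats 1000000

variable {C D C' D' : Type u} [SmallCategory C] [SmallCategory D] [SmallCategory C'] [SmallCategory D']
  {JC : GrothendieckTopology C} {JD : GrothendieckTopology D}
  {JC' : GrothendieckTopology C'} {JD' : GrothendieckTopology D'}
  (p : C ⥤ D) (p' : C' ⥤ D') (a : C' ⥤ C) (b : D' ⥤ D) (e : a ⋙ p ≅ p' ⋙ b)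

/-- The comparison of comma categories of a square. -/
@[simps]
def Ψ (X : D') : StructuredArrow (op X) p'.op ⥤ StructuredArrow (op (b.obj X)) p.op where
  obj j := StructuredArrow.mk (Y := op (a.obj j.right.unop)) (e.hom.app j.right.unop ≫ b.map j.hom.unop).op
  map {j j'} f := StructuredArrow.homMk (a.map f.right.unop).op (by
    apply Quiver.Hom.unop_inj
    have h1 : p'.map f.right.unop ≫ j.hom.unop = j'.hom.unop := congrArg Quiver.Hom.unop (StructuredArrow.w f)
    have h2 := e.hom.naturality f.right.unop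
    dsimp at h1 h2 ⊢
    rw [reassoc_of% h2, ← b.map_comp, h1])

variable [p.IsContinuous JC JD] [p.IsCocontinuous JC JD] [p'.IsContinuous JC' JD'] [p'.IsCocontinuous JC' JD']
  [a.IsContinuous JC' JC] [b.IsContinuous JD' JD]


/-- The isomorphism of direct images of a square. -/
noncomputable def pushIso :
    p.sheafPushforwardContinuous AddCommGrpCat.{u} JC JD ⋙ a.sheafPushforwardContinuous AddCommGrpCat.{u} JC' JC ≅
      b.sheafPushforwardContinuous AddCommGrpCat.{u} JD' JD ⋙ p'.sheafPushforwardContinuous AddCommGrpCat.{u} JC' JD' :=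
  NatIso.ofComponents (fun M => (fullyFaithfulSheafToPresheaf _ _).preimageIso
      (Functor.isoWhiskerRight (NatIso.op e.symm) M.obj))
    (fun {M N} f => by
      apply Sheaf.hom_ext
      apply NatTrans.ext
      funext X
      exact (f.hom.naturality _).symm)

/-- Base change for right Kan extensions. -/
lemma isIso_bcRight (h : ∀ X, (Ψ p p' a b e X).Initial)
    (M : Sheaf JC AddCommGrpCat.{u}) :
    IsIso ((bcRight (p.sheafAdjunctionCocontinuous AddCommGrpCat.{u} JC JD)
      (p'.sheafAdjunctionCocontinuous AddCommGrpCat.{u} JC' JD') (pushIso p p' a b e)).app M) := by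
  set aI := p.sheafAdjunctionCocontinuous AddCommGrpCat.{u} JC JD
  set aI' := p'.sheafAdjunctionCocontinuous AddCommGrpCat.{u} JC' JD'
  set β := (bcRight aI aI' (pushIso p p' a b e)).app M with hβ
  suffices IsIso ((sheafToPresheaf _ _).map β) from isIso_of_reflects_iso _ (sheafToPresheaf _ _)
  rw [NatTrans.isIso_iff_isIso_app]
  rintro ⟨X⟩
  let M' := (a.sheafPushforwardContinuous AddCommGrpCat.{u} JC' JC).obj M
  have hlim := p.op.isPointwiseRightKanExtensionRanCounit M.obj (op (b.obj X))
  have hlim' := p'.op.isPointwiseRightKanExtensionRanCounit M'.obj (op X)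
  have := h X
  have hw := (Functor.Initial.isLimitWhiskerEquiv (Ψ p p' a b e X) _).symm hlim
  have htri : (p'.sheafPushforwardContinuous AddCommGrpCat.{u} JC' JD').map β ≫ aI'.counit.app M' =
      (pushIso p p' a b e).inv.app _ ≫ (a.sheafPushforwardContinuous AddCommGrpCat.{u} JC' JC).map (aI.counit.app M) := by
    rw [hβ, bcRight_app]
    exact (aI'.homEquiv_counit _ _ _).symm.trans (Equiv.symm_apply_apply _ _)
  have hc : (aI.counit.app M).hom = p.op.ranCounit.app M.obj :=
    (p.sheafAdjunctionCocontinuous_counit_app_hom AddCommGrpCat.{u} JC JD M).trans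
      (by rw [Functor.ranAdjunction_counit])
  have hc' : (aI'.counit.app M').hom = p'.op.ranCounit.app M'.obj :=
    (p'.sheafAdjunctionCocontinuous_counit_app_hom AddCommGrpCat.{u} JC' JD' M').trans
      (by rw [Functor.ranAdjunction_counit])
  have key : ((sheafToPresheaf _ _).map β).app (op X) = hlim'.lift ((Cone.whisker (Ψ p p' a b e X)
      (Functor.RightExtension.coneAt (Functor.RightExtension.mk _ (p.op.ranCounit.app M.obj)) (op (b.obj X))))) := by
    apply hlim'.hom_ext
    intro j
    rw [IsLimit.fac]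
    have hn := β.hom.naturality j.hom
    have ht := congrArg (fun t => t.hom.app j.right) htri
    change β.hom.app _ ≫ _ = _ at ht
    rw [hc'] at ht
    change β.hom.app (op X) ≫ (p'.op.ran.obj M'.obj).map j.hom ≫ (p'.op.ranCounit.app M'.obj).app j.right = _
    erw [← reassoc_of% hn, ht]
    change _ ≫ (p.op.ran.obj M.obj).map (e.hom.app _).op ≫ (aI.counit.app M).hom.app _ =
      (p.op.ran.obj M.obj).map (e.hom.app _ ≫ b.map j.hom.unop).op ≫ (p.op.ranCounit.app M.obj).app _
    rw [hc, op_comp, Functor.map_comp, assoc]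
    rfl
  rw [key]
  exact (hw.conePointUniqueUpToIso hlim').isIso_hom

section Left

variable {C0 CF C0' CF' : Type*} [Category* C0] [Category* CF] [Category* C0'] [Category* CF']
  {E : C0 ⥤ CF} {Rs : CF ⥤ C0} (aE : E ⊣ Rs) {E' : C0' ⥤ CF'} {Rs' : CF' ⥤ C0'} (aE' : E' ⊣ Rs')
  {ρ0 : C0 ⥤ C0'} {ρF : CF ⥤ CF'} (σ : Rs ⋙ ρ0 ≅ ρF ⋙ Rs')
  {F0 : C0' ⥤ C0} (a0 : ρ0 ⊣ F0) {FF : CF' ⥤ CF} (aF : ρF ⊣ FF)

include a0 aF in
/-- Base change for left adjoints from base change for right adjoints. -/
lemma isIso_bcLeft (h : ∀ W, IsIso ((bcRight aF a0 σ.symm).app W)) (X : C0) :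
    IsIso ((bcLeft aE aE' σ).app X) := by
  refine (isIso_iff_coyoneda_map_bijective _).2 fun W => ?_
  have := h W
  let Θ : ((ρF.obj (E.obj X)) ⟶ W) ≃ ((E').obj (ρ0.obj X) ⟶ W) :=
    (aF.homEquiv _ _).trans ((aE.homEquiv _ _).trans ((Iso.homToEquiv (asIso ((bcRight aF a0 σ.symm).app W))).trans
      ((a0.homEquiv _ _).symm.trans (aE'.homEquiv _ _).symm)))
  show Function.Bijective (fun g : ρF.obj (E.obj X) ⟶ W => (bcLeft aE aE' σ).app X ≫ g)
  suffices e : (fun g : ρF.obj (E.obj X) ⟶ W => (bcLeft aE aE' σ).app X ≫ g) = ⇑Θ from e ▸ Θ.bijective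
  funext g
  simp only [Θ, Equiv.trans_apply, Iso.homToEquiv_apply, asIso_hom]
  refine (Equiv.eq_symm_apply (aE'.homEquiv _ _)).2 ?_
  refine (Equiv.eq_symm_apply (a0.homEquiv _ _)).2 ?_
  show _ = aE.homEquiv _ _ (aF.homEquiv _ _ g) ≫ (bcRight aF a0 σ.symm).app W
  rw [bcRight_app, Adjunction.homEquiv_naturality_right, bcLeft_app]
  erw [Equiv.apply_symm_apply]
  have hn := σ.hom.naturality (aF.homEquiv _ _ g)
  dsimp at hn
  refine Eq.trans ?_ (a0.homEquiv_naturality_left _ _)
  refine congrArg _ ?_
  rw [Iso.symm_inv]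
  have h1 : σ.hom.app (E.obj X) ≫ Rs'.map g = ρ0.map (Rs.map (aF.homEquiv _ _ g)) ≫ σ.hom.app _ ≫
      Rs'.map (aF.counit.app W) := by
    rw [reassoc_of% hn, ← Rs'.map_comp]
    erw [(aF.homEquiv_counit _ _ _).symm.trans (Equiv.symm_apply_apply _ g)]
  rw [assoc, h1, ← assoc, ← ρ0.map_comp, ← aE.homEquiv_unit]

end Left

section Injective

variable {C D : Type u} [SmallCategory C] [SmallCategory D] {JC : GrothendieckTopology C}
  {JD : GrothendieckTopology D} (a : C ⥤ D)

/-- Left Kan extension preserves monomorphisms when the comma categories are discrete up to final functors. -/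
lemma preservesMono_lan
    (h : ∀ X : Dᵒᵖ, ∃ (κ : Type u) (K : Discrete κ ⥤ CostructuredArrow a.op X), K.Final) :
    (a.op.lan : (Cᵒᵖ ⥤ AddCommGrpCat.{u}) ⥤ _).PreservesMonomorphisms := by
  constructor
  intro P Q f hf
  have : ∀ X, Mono ((a.op.lan.map f).app X) := by
    intro X
    obtain ⟨κ, K, hK⟩ := h X
    let iP := Functor.leftKanExtensionObjIsoColimit a.op P X
    let iQ := Functor.leftKanExtensionObjIsoColimit a.op Q X
    let α := Functor.whiskerLeft (CostructuredArrow.proj a.op X) f
    let γ : colim.obj (K ⋙ CostructuredArrow.proj a.op X ⋙ P) ⟶ colim.obj (K ⋙ CostructuredArrow.proj a.op X ⋙ Q) :=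
      colim.map (Functor.whiskerLeft K α)
    have hγ : Mono γ := by
      have : Mono (Functor.whiskerLeft K α) := by
        have : ∀ i, Mono ((Functor.whiskerLeft K α).app i) := fun i =>
          inferInstanceAs (Mono (f.app _))
        exact NatTrans.mono_of_mono_app _
      exact Functor.map_mono colim _
    have e : γ ≫ colimit.pre (CostructuredArrow.proj a.op X ⋙ Q) K ≫ iQ.inv =
        colimit.pre (CostructuredArrow.proj a.op X ⋙ P) K ≫ iP.inv ≫ (a.op.lan.map f).app X := by
      apply colimit.hom_ext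
      intro i
      have hn := congr_app (a.op.lanUnit.naturality f) (K.obj i).left
      dsimp at hn
      simp only [γ, iP, iQ, α, ι_colimMap_assoc, colim_map, colimit.ι_pre_assoc, Functor.whiskerLeft_app]
      erw [Functor.ι_leftKanExtensionObjIsoColimit_inv,
        Functor.ι_leftKanExtensionObjIsoColimit_inv_assoc, reassoc_of% hn]
      simp
      rfl
    have : (a.op.lan.map f).app X = iP.hom ≫ inv (colimit.pre (CostructuredArrow.proj a.op X ⋙ P) K) ≫
        γ ≫ colimit.pre (CostructuredArrow.proj a.op X ⋙ Q) K ≫ iQ.inv := by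
      rw [e]; simp
    rw [this]
    infer_instance
  exact NatTrans.mono_of_mono_app _

/-- Direct image along such a functor preserves injective sheaves. -/
lemma preservesInjectiveObjects_push [a.IsContinuous JC JD]
    (h : ∀ X : Dᵒᵖ, ∃ (κ : Type u) (K : Discrete κ ⥤ CostructuredArrow a.op X), K.Final) :
    (a.sheafPushforwardContinuous AddCommGrpCat.{u} JC JD).PreservesInjectiveObjects := by
  have := preservesMono_lan a h
  have h1 : (Functor.sheafPullbackConstruction.sheafPullback a AddCommGrpCat.{u} JC JD).PreservesMonomorphisms := by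
    have : (presheafToSheaf JD AddCommGrpCat.{u}).PreservesMonomorphisms := inferInstance
    unfold Functor.sheafPullbackConstruction.sheafPullback
    infer_instance
  exact Functor.preservesInjectiveObjects_of_adjunction_of_preservesMonomorphisms
    (Functor.sheafPullbackConstruction.sheafAdjunctionContinuous a AddCommGrpCat.{u} JC JD)

end Injective

end Groth.Misc4.SiteBaseChange
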