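import Groth.Agent.Misc4.FibDescBase
import Groth.Agent.Misc4.SiteBaseChange
import Mathlib.CategoryTheory.Abelian.GrothendieckCategory.EnoughInjectives
import Mathlib.CategoryTheory.Abelian.GrothendieckAxioms.Sheaf
import Mathlib.Algebra.Category.Grp.EnoughInjectives
import Mathlib.CategoryTheory.Sites.LocalProperties
import Mathlib.CategoryTheory.Limits.Final

/-! Cohomological descent is local on the base. -/

universe u w

open CategoryTheory CategoryTheory.Limits Opposite TopologicalSpace Pseudofunctor.CoGrothendieck Topology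

namespace Groth.Misc4.FibDescLocal

open Groth.Misc4.FibSiteTot Groth.Misc4.ThinTot Groth.Misc4.FibDescBase Groth.Misc4.SiteBaseChange

set_option backward.defeqAttrib.useBackward true
set_option backward.isDefEq.respectTransparency false
set_option backward.isDefEq.respectTransparency.types false
set_option synthInstance.maxHeartbeats 400000
set_option maxHeartbeats 2000000

/-- A functor mapping an initial object to an initial object is initial. -/
lemma initial_of_initial {C D : Type*} [Category* C] [Category* D] (F : C ⥤ D) {c : C} (hc : IsInitial c)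
    (hd : IsInitial (F.obj c)) : F.Initial := by
  constructor
  intro d
  let a : CostructuredArrow F d := CostructuredArrow.mk (hd.to d)
  have : Nonempty (CostructuredArrow F d) := ⟨a⟩
  refine zigzag_isConnected fun j k => ?_
  have h : ∀ j : CostructuredArrow F d, Zigzag a j := fun j =>
    Zigzag.of_hom (CostructuredArrow.homMk (hc.to j.left) (hd.hom_ext _ _))
  exact (zigzag_symm.symm _ _ (h j)).trans (h k)

variable {D : Type} [SmallCategory D] {Y Y' : (WithInitial D)ᵒᵖ ⥤ TopCat.{u}}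

/-- An open part of an augmented space, cut out by an open subset of the base. -/
structure OpenPart (Y' Y : (WithInitial D)ᵒᵖ ⥤ TopCat.{u}) where
  /-- The inclusion. -/
  g : Y' ⟶ Y
  emb : ∀ i, IsOpenEmbedding (g.app i)
  range : ∀ i x, Y.map (botTerminal.from i) x ∈ Set.range (g.app (FibDesc.bot D)) → x ∈ Set.range (g.app i)

/-- A morphism in a fibre from an inclusion. -/
noncomputable def fibHom (Z : (WithInitial D)ᵒᵖ ⥤ TopCat.{u}) (i : (WithInitial D)ᵒᵖ) {V W : Opens (Z.obj i)}
    (h : V ≤ W) : @Quiver.Hom ((FibDesc.topAug Z).obj ⟨op i⟩) _ V W :=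
  homOfLE (X := Opens (Z.obj i)) h

/-- A morphism in a fibre of the part from an inclusion. -/
noncomputable def fibHomP (Z : (WithInitial D)ᵒᵖ ⥤ TopCat.{u}) (i : Dᵒᵖ)
    {V W : Opens (Z.obj ((FibDesc.toAug D).obj i))}
    (h : V ≤ W) : @Quiver.Hom ((FibDesc.part (FibDesc.topAug Z)).obj ⟨op i⟩) _ V W :=
  homOfLE (X := Opens (Z.obj ((FibDesc.toAug D).obj i))) h

lemma opensHom_eq {X : TopCat.{u}} {U V : Opens X} (f g : U ⟶ V) : f = g := Subsingleton.elim f g

variable (o : OpenPart Y' Y)

local notation "F" => FibDesc.topAug Y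
local notation "F'" => FibDesc.topAug Y'
local notation "TF" => FibDesc.totAug (FibDesc.topAug Y) (FibDesc.topAugTop Y)
local notation "TP" => FibDesc.totPart (FibDesc.topAug Y) (FibDesc.topAugTop Y)
local notation "TF'" => FibDesc.totAug (FibDesc.topAug Y') (FibDesc.topAugTop Y')
local notation "TP'" => FibDesc.totPart (FibDesc.topAug Y') (FibDesc.topAugTop Y')

include o in
lemma OpenPart.naturality_apply {i j : (WithInitial D)ᵒᵖ} (m : i ⟶ j) (x : Y'.obj i) :
    o.g.app j (Y'.map m x) = Y.map m (o.g.app i x) := by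
  rw [← TopCat.comp_app, ← TopCat.comp_app, o.g.naturality]

lemma OpenPart.mem_range {i j : (WithInitial D)ᵒᵖ} (m : i ⟶ j) (x : Y.obj i)
    (h : Y.map m x ∈ Set.range (o.g.app j)) : x ∈ Set.range (o.g.app i) := by
  obtain ⟨y, hy⟩ := h
  refine o.range i x ⟨Y'.map (botTerminal.from j) y, ?_⟩
  rw [o.naturality_apply, hy, ← TopCat.comp_app, ← Y.map_comp, botTerminal.hom_ext (m ≫ _) (botTerminal.from i)]

lemma OpenPart.image_le {i j : (WithInitial D)ᵒᵖ} (m : i ⟶ j) (V : Opens (Y'.obj j)) :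
    (o.emb i).functor.obj ((Opens.map (Y'.map m)).obj V) ≤ (Opens.map (Y.map m)).obj ((o.emb j).functor.obj V) := by
  rintro _ ⟨y, hy, rfl⟩
  exact ⟨Y'.map m y, hy, o.naturality_apply m y⟩

/-- The image functor of total categories. -/
noncomputable def OpenPart.uMap : TotMap F' F :=
  TotMap.ofId (fun i => (o.emb i).functor) (fun m V => fibHom Y _ (o.image_le m V))

/-- The image functor on the non-augmented parts. -/
noncomputable def OpenPart.uMapP : TotMap (FibDesc.part F') (FibDesc.part F) :=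
  TotMap.ofId (fun i => (o.emb ((FibDesc.toAug D).obj i)).functor)
    (fun m V => fibHomP Y _ (o.image_le ((FibDesc.toAug D).map m) V))

/-- `U` on augmented total categories. -/
noncomputable abbrev OpenPart.uF : ∫ᶜ F' ⥤ ∫ᶜ F := o.uMap.functor
/-- `U` on the parts. -/
noncomputable abbrev OpenPart.uP : ∫ᶜ (FibDesc.part F') ⥤ ∫ᶜ (FibDesc.part F) := o.uMapP.functor
/-- `U` on the base. -/
noncomputable abbrev OpenPart.u₀ : (F').obj ⟨op (FibDesc.bot D)⟩ ⥤ (F).obj ⟨op (FibDesc.bot D)⟩ :=
  (o.emb (FibDesc.bot D)).functor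

/-- Compatibility with the inclusion of the part. -/
noncomputable def OpenPart.ePF : o.uP ⋙ FibDesc.incl F ≅ FibDesc.incl F' ⋙ o.uF :=
  natIsoOfEq (fun _ => rfl) (fun f => by simp [OpenPart.uMap, OpenPart.uMapP, TotMap.ofId])

/-- Compatibility with the inclusion of the base. -/
noncomputable def OpenPart.e₀ : FibDesc.eps F' ⋙ o.uF ≅ o.u₀ ⋙ FibDesc.eps F :=
  natIsoOfEq (fun _ => rfl) (fun f => botTerminal.hom_ext _ _)

lemma cocontinuous_image {X Z : TopCat.{u}} {g : X ⟶ Z} (h : IsOpenEmbedding g) :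
    h.functor.IsCocontinuous (Opens.grothendieckTopology X) (Opens.grothendieckTopology Z) :=
  h.isOpenMap.adjunction.isCocontinuous_iff_coverPreserving _ _ |>.2 (coverPreserving_opens_map g)

instance : o.uF.IsContinuous TF' TF :=
  o.uMap.isContinuous (preFib Y') (preFib Y) (fun i => (o.emb i).functor_isContinuous)

instance : o.uF.IsCocontinuous TF' TF :=
  o.uMap.isCocontinuous (preFib Y') (preFib Y) (fun i => cocontinuous_image (o.emb i))

instance : o.uP.IsContinuous TP' TP :=
  o.uMapP.isContinuous (preFib_part Y') (preFib_part Y)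
    (fun i => (o.emb ((FibDesc.toAug D).obj i)).functor_isContinuous)

instance : o.uP.IsCocontinuous TP' TP :=
  o.uMapP.isCocontinuous (preFib_part Y') (preFib_part Y)
    (fun i => cocontinuous_image (o.emb ((FibDesc.toAug D).obj i)))

instance : o.u₀.IsContinuous (FibDesc.topAugTop Y' (FibDesc.bot D)) (FibDesc.topAugTop Y (FibDesc.bot D)) :=
  (o.emb (FibDesc.bot D)).functor_isContinuous

instance : o.u₀.IsCocontinuous (FibDesc.topAugTop Y' (FibDesc.bot D)) (FibDesc.topAugTop Y (FibDesc.bot D)) :=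
  cocontinuous_image (o.emb (FibDesc.bot D))

lemma image_preimage {X Z : TopCat.{u}} {g : X ⟶ Z} (h : IsOpenEmbedding g) {W : Opens Z}
    (hW : (W : Set Z) ⊆ Set.range g) : h.functor.obj ((Opens.map g).obj W) = W :=
  Opens.ext (Set.image_preimage_eq_of_subset hW)

lemma le_of_image_le {X Z : TopCat.{u}} {g : X ⟶ Z} (h : IsOpenEmbedding g) {W W' : Opens X}
    (hW : h.functor.obj W ≤ h.functor.obj W') : W ≤ W' := fun x hx => by
  obtain ⟨y, hy, e⟩ := hW ⟨x, hx, rfl⟩
  exact h.injective e ▸ hy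

lemma OpenPart.initial_ePF (X : ∫ᶜ F') :
    (Ψ (FibDesc.incl F) (FibDesc.incl F') o.uP o.uF o.ePF X).Initial := by
  let P := Ψ (FibDesc.incl F) (FibDesc.incl F') o.uP o.uF o.ePF X
  have : P.Faithful := ⟨fun {j k} f f' e => by
    have e1 : (o.uP.map f.right.unop).base = (o.uP.map f'.right.unop).base :=
      congrArg (fun t : P.obj j ⟶ P.obj k => Hom.base (X := o.uP.obj k.right.unop) (Y := o.uP.obj j.right.unop)
        (StructuredArrow.Hom.right t).unop) e
    exact StructuredArrow.hom_ext _ _ (Quiver.Hom.unop_inj (hom_ext e1))⟩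
  have : P.Full := ⟨fun {j k} φ => by
    let r : o.uP.obj k.right.unop ⟶ o.uP.obj j.right.unop := φ.right.unop
    let W : Opens (Y'.obj ((FibDesc.toAug D).obj k.right.unop.base)) := k.right.unop.fiber
    let W' : Opens (Y'.obj ((FibDesc.toAug D).obj j.right.unop.base)) := j.right.unop.fiber
    have hr : (o.emb _).functor.obj W ≤
        (Opens.map (Y.map ((FibDesc.toAug D).map r.base))).obj ((o.emb _).functor.obj W') :=
      leOfHom (X := Opens (Y.obj ((FibDesc.toAug D).obj k.right.unop.base))) r.fiber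
    have hfib : W ≤ (Opens.map (Y'.map ((FibDesc.toAug D).map r.base))).obj W' := by
      intro y hy
      obtain ⟨z, hz, e⟩ := hr ⟨y, hy, rfl⟩
      change Y'.map ((FibDesc.toAug D).map r.base) y ∈ W'
      have : o.g.app _ (Y'.map ((FibDesc.toAug D).map r.base) y) = o.g.app _ z := by
        rw [o.naturality_apply]; exact e.symm
      rwa [(o.emb _).injective this]
    let s : k.right.unop ⟶ j.right.unop := mkHom r.base (fibHomP Y' _ hfib)
    refine ⟨StructuredArrow.homMk s.op ?_, ?_⟩
    · apply Quiver.Hom.unop_inj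
      refine hom_ext ?_
      exact congrArg (fun t => Hom.base (X := (FibDesc.incl F).obj (o.uP.obj k.right.unop)) (Y := o.uF.obj X)
        (Quiver.Hom.unop t)) (StructuredArrow.w φ) |> fun h => by simpa [P, Ψ, r, s, OpenPart.ePF, natIsoOfEq, OpenPart.uMap, OpenPart.uMapP, TotMap.ofId] using h
    · exact StructuredArrow.hom_ext _ _ (Quiver.Hom.unop_inj (hom_ext rfl))⟩
  have : P.EssSurj := ⟨fun t => by
    let A : ∫ᶜ (FibDesc.part F) := t.right.unop
    let a : (FibDesc.incl F).obj A ⟶ o.uF.obj X := t.hom.unop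
    let W : Opens (Y.obj ((FibDesc.toAug D).obj A.base)) := A.fiber
    let Z : Opens (Y'.obj X.base) := X.fiber
    have ha : W ≤ (Opens.map (Y.map a.base)).obj ((o.emb X.base).functor.obj Z) :=
      leOfHom (X := Opens (Y.obj ((FibDesc.toAug D).obj A.base))) a.fiber
    have hA : (W : Set (Y.obj ((FibDesc.toAug D).obj A.base))) ⊆ Set.range (o.g.app _) := by
      intro x hx
      obtain ⟨z, -, hz⟩ := ha hx
      exact o.mem_range a.base x ⟨z, hz⟩
    let W₀ : Opens (Y'.obj ((FibDesc.toAug D).obj A.base)) := (Opens.map (o.g.app _)).obj W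
    let A' : ∫ᶜ (FibDesc.part F') := ⟨A.base, W₀⟩
    have hle : W₀ ≤ (Opens.map (Y'.map a.base)).obj Z := by
      intro y hy
      obtain ⟨z, hz, e⟩ := ha hy
      change Y'.map a.base y ∈ Z
      have : o.g.app X.base (Y'.map a.base y) = o.g.app X.base z := (o.naturality_apply a.base y).trans e.symm
      rwa [(o.emb _).injective this]
    refine ⟨StructuredArrow.mk (Y := op A')
      (mkHom (X := (FibDesc.incl F').obj A') (Y := X) a.base (fibHom Y' _ hle)).op, ⟨?_⟩⟩
    let i : A ≅ o.uP.obj A' := fibIso (eqToIso (image_preimage (o.emb _) hA).symm)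
    refine StructuredArrow.isoMk i.op ?_
    apply Quiver.Hom.unop_inj
    refine hom_ext ?_
    simp [i, P, A', Ψ, OpenPart.ePF, OpenPart.uMap, OpenPart.uMapP, TotMap.ofId, natIsoOfEq, a, A]⟩
  have : P.IsEquivalence := { }
  exact inferInstanceAs P.Initial

lemma OpenPart.initial_e₀ (Z : Opens (Y.obj (FibDesc.bot D))) :
    (Ψ o.uF o.u₀ (FibDesc.eps F') (FibDesc.eps F) o.e₀ Z).Initial := by
  let adj := (o.emb (FibDesc.bot D)).isOpenMap.adjunction
  let Z₀ : Opens (Y'.obj (FibDesc.bot D)) := (Opens.map (o.g.app (FibDesc.bot D))).obj Z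
  let j₀ : StructuredArrow (op Z) o.u₀.op := StructuredArrow.mk (Y := op Z₀) (adj.counit.app Z).op
  refine initial_of_initial _ (c := j₀) (IsInitial.ofUniqueHom (fun j => ?_) fun j m => ?_)
    (IsInitial.ofUniqueHom (fun t => ?_) fun t m => ?_)
  · let V : Opens (Y'.obj (FibDesc.bot D)) := j.right.unop
    have h : (o.emb _).functor.obj V ≤ Z := leOfHom (X := Opens (Y.obj (FibDesc.bot D))) j.hom.unop
    exact StructuredArrow.homMk (fibHom Y' (FibDesc.bot D) (V := V) (W := Z₀) fun x hx => h ⟨x, hx, rfl⟩).op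
      (Quiver.Hom.unop_inj (opensHom_eq _ _))
  · exact StructuredArrow.hom_ext _ _ (Quiver.Hom.unop_inj (opensHom_eq _ _))
  · let B : ∫ᶜ F' := t.right.unop
    let a : o.uF.obj B ⟶ (FibDesc.eps F).obj Z := t.hom.unop
    let W : Opens (Y'.obj B.base) := B.fiber
    let m : B.base ⟶ FibDesc.bot D := botTerminal.from _
    have ha : (o.emb B.base).functor.obj W ≤ (Opens.map (Y.map a.base)).obj Z :=
      leOfHom (X := Opens (Y.obj B.base)) a.fiber
    have hle : W ≤ (Opens.map (Y'.map m)).obj Z₀ := by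
      intro y hy
      change o.g.app (FibDesc.bot D) (Y'.map m y) ∈ Z
      rw [o.naturality_apply, botTerminal.hom_ext m a.base]
      exact ha ⟨y, hy, rfl⟩
    exact StructuredArrow.homMk (mkHom (X := B) (Y := (FibDesc.eps F').obj Z₀) m (fibHom Y' _ hle)).op
      (Quiver.Hom.unop_inj (hom_ext (botTerminal.hom_ext _ _)))
  · exact StructuredArrow.hom_ext _ _ (Quiver.Hom.unop_inj (hom_ext (botTerminal.hom_ext _ _)))

/-- An empty or terminal comma category has a final functor from a discrete category. -/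
lemma exists_final {J : Type*} [Category* J] (h : IsEmpty J ∨ ∃ j : J, Nonempty (IsTerminal j)) :
    ∃ (κ : Type u) (K : Discrete κ ⥤ J), K.Final := by
  rcases h with h | ⟨j, ⟨hj⟩⟩
  · exact ⟨PEmpty.{u + 1}, Discrete.functor PEmpty.elim, ⟨fun j => h.elim j⟩⟩
  · refine ⟨PUnit.{u + 1}, Discrete.functor fun _ => j, ⟨fun d => ?_⟩⟩
    have : Nonempty (StructuredArrow d (Discrete.functor fun _ : PUnit.{u + 1} => j)) :=
      ⟨StructuredArrow.mk (Y := ⟨PUnit.unit⟩) (hj.from d)⟩
    exact zigzag_isConnected fun a b => Zigzag.of_hom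
      (StructuredArrow.homMk (Discrete.eqToHom' (Subsingleton.elim _ _)) (hj.hom_ext _ _))

lemma OpenPart.preservesInjective_uP :
    (o.uP.sheafPushforwardContinuous AddCommGrpCat.{u} TP' TP).PreservesInjectiveObjects := by
  refine preservesInjectiveObjects_push o.uP fun X => exists_final ?_
  obtain ⟨X⟩ := X
  let i := (FibDesc.toAug D).obj X.base
  let W : Opens (Y.obj i) := X.fiber
  by_cases hX : (W : Set (Y.obj i)) ⊆ Set.range (o.g.app i)
  · let W₀ : Opens (Y'.obj i) := (Opens.map (o.g.app i)).obj W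
    let A₀ : ∫ᶜ (FibDesc.part F') := ⟨X.base, W₀⟩
    let e : X ⟶ o.uP.obj A₀ := (fibIso (eqToIso (image_preimage (o.emb i) hX).symm)).hom
    refine Or.inr ⟨CostructuredArrow.mk (Y := op A₀) e.op, ⟨IsTerminal.ofUniqueHom (fun A => ?_) fun A m => ?_⟩⟩
    · let B : ∫ᶜ (FibDesc.part F') := A.left.unop
      let a : X ⟶ o.uP.obj B := A.hom.unop
      let V : Opens (Y'.obj ((FibDesc.toAug D).obj B.base)) := B.fiber
      have ha : W ≤ (Opens.map (Y.map ((FibDesc.toAug D).map a.base))).obj ((o.emb _).functor.obj V) :=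
        leOfHom (X := Opens (Y.obj i)) a.fiber
      have hle : W₀ ≤ (Opens.map (Y'.map ((FibDesc.toAug D).map a.base))).obj V := by
        intro y hy
        obtain ⟨z, hz, e⟩ := ha hy
        change Y'.map ((FibDesc.toAug D).map a.base) y ∈ V
        have : o.g.app _ (Y'.map ((FibDesc.toAug D).map a.base) y) = o.g.app _ z :=
          (o.naturality_apply _ y).trans e.symm
        rwa [(o.emb _).injective this]
      exact CostructuredArrow.homMk (mkHom (X := A₀) (Y := B) a.base (fibHomP Y' _ hle)).op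
        (Quiver.Hom.unop_inj (hom_ext (by simp [e, a, B, A₀, OpenPart.uMapP, TotMap.ofId])))
    · refine CostructuredArrow.hom_ext _ _ (Quiver.Hom.unop_inj (hom_ext ?_))
      have := congrArg (fun t => Hom.base (X := X) (Y := o.uP.obj A.left.unop) (Quiver.Hom.unop t))
        (CostructuredArrow.w m)
      simpa [e, OpenPart.uMapP, TotMap.ofId, A₀] using this
  · refine Or.inl ⟨fun A => hX ?_⟩
    let a : X ⟶ o.uP.obj A.left.unop := A.hom.unop
    intro x hx
    obtain ⟨z, -, hz⟩ := leOfHom (X := Opens (Y.obj i)) a.fiber hx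
    exact o.mem_range ((FibDesc.toAug D).map a.base) x ⟨z, hz⟩

lemma OpenPart.preservesInjective_u₀ :
    (o.u₀.sheafPushforwardContinuous AddCommGrpCat.{u} (FibDesc.topAugTop Y' (FibDesc.bot D))
      (FibDesc.topAugTop Y (FibDesc.bot D))).PreservesInjectiveObjects := by
  refine preservesInjectiveObjects_push o.u₀ fun X => exists_final ?_
  obtain ⟨W⟩ := X
  let W' : Opens (Y.obj (FibDesc.bot D)) := W
  by_cases hX : (W' : Set (Y.obj (FibDesc.bot D))) ⊆ Set.range (o.g.app (FibDesc.bot D))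
  · let W₀ : Opens (Y'.obj (FibDesc.bot D)) := (Opens.map (o.g.app (FibDesc.bot D))).obj W'
    refine Or.inr ⟨CostructuredArrow.mk (Y := op W₀) (eqToHom (image_preimage (o.emb _) hX).symm : W' ⟶ _).op,
      ⟨IsTerminal.ofUniqueHom (fun A => ?_) fun A m =>
        CostructuredArrow.hom_ext _ _ (Quiver.Hom.unop_inj (opensHom_eq _ _))⟩⟩
    let V : Opens (Y'.obj (FibDesc.bot D)) := A.left.unop
    have ha : W' ≤ (o.emb _).functor.obj V := leOfHom (X := Opens (Y.obj (FibDesc.bot D))) A.hom.unop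
    exact CostructuredArrow.homMk (fibHom Y' (FibDesc.bot D) (V := W₀) (W := V)
      (le_of_image_le (o.emb _) ((image_preimage (o.emb _) hX).trans_le ha))).op
      (Quiver.Hom.unop_inj (opensHom_eq _ _))
  · refine Or.inl ⟨fun A => hX ?_⟩
    intro x hx
    obtain ⟨z, -, hz⟩ := leOfHom (X := Opens (Y.obj (FibDesc.bot D))) A.hom.unop hx
    exact ⟨z, hz⟩

/-- The compatibility of direct images with the inclusion of the base. -/
noncomputable def OpenPart.σ :=
  (pushIso (JC := TF') (JD := TF) (JC' := FibDesc.topAugTop Y' (FibDesc.bot D)) (JD' := FibDesc.topAugTop Y (FibDesc.bot D))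
    o.uF o.u₀ (FibDesc.eps F') (FibDesc.eps F) o.e₀).symm

section Derived

attribute [local instance] HasDerivedCategory.standard

variable (Y) in
/-- Cohomological descent can be checked on the members of an open covering of the base. -/
theorem isCohDescentTop_of_openParts {ι : Type u} (Z : ι → (WithInitial D)ᵒᵖ ⥤ TopCat.{u})
    (o : ∀ j, OpenPart (Z j) Y) (hcov : ∀ x, ∃ j, x ∈ Set.range ((o j).g.app (FibDesc.bot D)))
    (h : ∀ j, FibDesc.IsCohDescentTop (Z j)) : FibDesc.IsCohDescentTop Y := by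
  have heps : ∀ X : (WithInitial D)ᵒᵖ ⥤ TopCat.{u}, (FibDesc.eps (FibDesc.topAug X)).IsContinuous
      (FibDesc.topAugTop X (FibDesc.bot D)) (FibDesc.totAug (FibDesc.topAug X) (FibDesc.topAugTop X)) :=
    fun X => continuous_ι X (FibDesc.bot D)
  have heps' : ∀ X : (WithInitial D)ᵒᵖ ⥤ TopCat.{u}, (FibDesc.eps (FibDesc.topAug X)).IsCocontinuous
      (FibDesc.topAugTop X (FibDesc.bot D)) (FibDesc.totAug (FibDesc.topAug X) (FibDesc.topAugTop X)) :=
    fun X => cocontinuous_ι X (FibDesc.bot D)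
  have hc₀ : ∀ j, (o j).u₀.IsContinuous (FibDesc.topAugTop (Z j) (FibDesc.bot D)) (FibDesc.topAugTop Y (FibDesc.bot D)) :=
    fun j => ((o j).emb (FibDesc.bot D)).functor_isContinuous
  have hd₀ : ∀ j, (o j).u₀.IsCocontinuous (FibDesc.topAugTop (Z j) (FibDesc.bot D)) (FibDesc.topAugTop Y (FibDesc.bot D)) :=
    fun j => cocontinuous_image ((o j).emb (FibDesc.bot D))
  let aE := fun X : (WithInitial D)ᵒᵖ ⥤ TopCat.{u} => (FibDesc.eps (FibDesc.topAug X)).sheafAdjunctionContinuous
    AddCommGrpCat.{u} ( (FibDesc.topAugTop X (FibDesc.bot D))) (FibDesc.totAug (FibDesc.topAug X) (FibDesc.topAugTop X))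
  let aI := fun X : (WithInitial D)ᵒᵖ ⥤ TopCat.{u} => (FibDesc.incl (FibDesc.topAug X)).sheafAdjunctionCocontinuous
    AddCommGrpCat.{u} (FibDesc.totPart (FibDesc.topAug X) (FibDesc.topAugTop X))
      (FibDesc.totAug (FibDesc.topAug X) (FibDesc.topAugTop X))
  let σ := fun j => (o j).σ
  apply isCohDescentTop_of_bijective
  refine DerivedAdj.bijective_of_good (FibDesc.adj F (FibDesc.topAugTop Y) AddCommGrpCat.{u}) ?_
  have hR : ∀ j M, IsIso ((DerivedAdjTransfer.bcRight (aI Y) (aI (Z j))
      (pushIso (FibDesc.incl F) (FibDesc.incl (FibDesc.topAug (Z j))) (o j).uP (o j).uF (o j).ePF)).app M) :=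
    fun j M => isIso_bcRight _ _ _ _ _ (o j).initial_ePF M
  have hL : ∀ j G, IsIso ((DerivedAdjTransfer.bcLeft (aE Y) (aE (Z j)) (σ j)).app G) := fun j G =>
    isIso_bcLeft (aE Y) (aE (Z j)) (σ j)
      ((o j).u₀.sheafAdjunctionCocontinuous AddCommGrpCat.{u} ( (FibDesc.topAugTop (Z j) (FibDesc.bot D))) ( (FibDesc.topAugTop Y (FibDesc.bot D))))
      ((o j).uF.sheafAdjunctionCocontinuous AddCommGrpCat.{u} ((FibDesc.totAug (FibDesc.topAug (Z j)) (FibDesc.topAugTop (Z j)))) TF)
      (fun W => isIso_bcRight _ _ _ _ _ (o j).initial_e₀ W) G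
  have hρA : ∀ j, ((o j).u₀.sheafPushforwardContinuous AddCommGrpCat.{u} ( (FibDesc.topAugTop (Z j) (FibDesc.bot D))) ( (FibDesc.topAugTop Y (FibDesc.bot D)))).IsLeftAdjoint :=
    fun j => ((o j).u₀.sheafAdjunctionCocontinuous AddCommGrpCat.{u} _ _).isLeftAdjoint
  have hρB : ∀ j, ((o j).uP.sheafPushforwardContinuous AddCommGrpCat.{u} ((FibDesc.totPart (FibDesc.topAug (Z j)) (FibDesc.topAugTop (Z j)))) TP).IsLeftAdjoint :=
    fun j => ((o j).uP.sheafAdjunctionCocontinuous AddCommGrpCat.{u} _ _).isLeftAdjoint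
  have hρA' := fun j => (o j).preservesInjective_u₀
  have hρB' := fun j => (o j).preservesInjective_uP
  have hρA'' : ∀ j, ((o j).u₀.sheafPushforwardContinuous AddCommGrpCat.{u} ( (FibDesc.topAugTop (Z j) (FibDesc.bot D))) ( (FibDesc.topAugTop Y (FibDesc.bot D)))).Additive :=
    fun j => Functor.additive_of_preserves_binary_products _
  have hρB'' : ∀ j, ((o j).uP.sheafPushforwardContinuous AddCommGrpCat.{u} ((FibDesc.totPart (FibDesc.topAug (Z j)) (FibDesc.topAugTop (Z j)))) TP).Additive :=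
    fun j => Functor.additive_of_preserves_binary_products _
  refine DerivedAdjTransfer.good_of_family _
    (fun j => FibDesc.adj (FibDesc.topAug (Z j)) (FibDesc.topAugTop (Z j)) AddCommGrpCat.{u})
    (fun j => (o j).u₀.sheafPushforwardContinuous AddCommGrpCat.{u} ( (FibDesc.topAugTop (Z j) (FibDesc.bot D))) ( (FibDesc.topAugTop Y (FibDesc.bot D))))
    (fun j => (o j).uP.sheafPushforwardContinuous AddCommGrpCat.{u} ((FibDesc.totPart (FibDesc.topAug (Z j)) (FibDesc.topAugTop (Z j)))) TP)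
    (fun j => DerivedAdjTransfer.thetaIso (aE Y) (aE (Z j)) (σ j)
      (pushIso (FibDesc.incl F) (FibDesc.incl (FibDesc.topAug (Z j))) (o j).uP (o j).uF (o j).ePF))
    (fun j => DerivedAdjTransfer.kappaIso (aI Y) (aI (Z j)) (σ j)
      (pushIso (FibDesc.incl F) (FibDesc.incl (FibDesc.topAug (Z j))) (o j).uP (o j).uF (o j).ePF))
    (fun j X M r => DerivedAdjTransfer.theta_kappa (aE Y) (aI Y) (aE (Z j)) (aI (Z j)) (σ j) _ X M r)
    ?_ (fun j => DerivedAdj.good_of_bijective _ (bijective_of_isCohDescentTop (Z j) (h j)))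
  intro G H f hf
  let U : ι → Opens (Y.obj (FibDesc.bot D)) := fun j => ⟨Set.range ((o j).g.app (FibDesc.bot D)), ((o j).emb _).isOpen_range⟩
  refine Sheaf.isIso_of_coversTop (X := U) ?_ fun j => ?_
  · intro W x hx
    obtain ⟨j, hj⟩ := hcov x
    exact ⟨W ⊓ U j, homOfLE inf_le_left, ⟨j, ⟨homOfLE inf_le_right⟩⟩, ⟨hx, hj⟩⟩
  · rw [← ObjectProperty.isIso_hom_iff, NatTrans.isIso_iff_isIso_app]
    rintro ⟨Wo⟩
    let W : Opens (Y.obj (FibDesc.bot D)) := Wo.left
    have hW : W ≤ U j := leOfHom Wo.hom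
    let W₀ : Opens ((Z j).obj (FibDesc.bot D)) := (Opens.map ((o j).g.app (FibDesc.bot D))).obj W
    have := hf j
    have hiso : IsIso (f.hom.app (op ((o j).u₀.obj W₀))) :=
      inferInstanceAs (IsIso (((sheafToPresheaf _ _).map
        (((o j).u₀.sheafPushforwardContinuous AddCommGrpCat.{u} ( (FibDesc.topAugTop (Z j) (FibDesc.bot D))) ( (FibDesc.topAugTop Y (FibDesc.bot D)))).map f)).app (op W₀)))
    have e : (o j).u₀.obj W₀ = W := image_preimage ((o j).emb _) hW
    exact (congrArg (fun V => IsIso (f.hom.app (op V))) e).mp hiso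

end Derived

end Groth.Misc4.FibDescLocal
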