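import Groth.Agent.Misc4.TopFib
import Groth.Agent.Misc4.DerivedComp
import Mathlib.CategoryTheory.Products.Basic
import Mathlib.CategoryTheory.Adjunction.Additive
import Mathlib.CategoryTheory.Comma.Over.Basic

/-! Cohomological descent row by row in a family of augmented spaces. -/

universe u

open CategoryTheory CategoryTheory.Limits Opposite TopologicalSpace Pseudofunctor.CoGrothendieck

namespace Groth.Misc4.FibDescRows

open Groth.Misc4.FibSiteTot Groth.Misc4.ThinTot Groth.Misc4.TopFib Groth.Misc4.SiteBaseChange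
  Groth.Misc4.FibDescBase

set_option backward.defeqAttrib.useBackward true
set_option backward.isDefEq.respectTransparency false
set_option backward.isDefEq.respectTransparency.types false
set_option synthInstance.maxHeartbeats 400000
set_option maxHeartbeats 1000000

variable {𝒯 : Type} [SmallCategory 𝒯]

/-- The inclusion of a fibre preserves injective sheaves. -/
lemma exists_final_over (e : 𝒯) (G : 𝒯 ⥤ TopCat.{u}) (X : (∫ᶜ topFib G)ᵒᵖ) :
    ∃ (κ : Type u) (K : Discrete κ ⥤ CostructuredArrow (bc G (Over.forget e)).op X), K.Final := by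
  obtain ⟨X⟩ := X
  let q := Over.forget e
  let pt : ULift.{u} (X.base ⟶ e) → CostructuredArrow (bc G q).op (op X) := fun g =>
    CostructuredArrow.mk (Y := op (⟨Over.mk g.down, X.fiber⟩ : ∫ᶜ topFib (q ⋙ G))) (𝟙 X).op
  refine ⟨ULift.{u} (X.base ⟶ e), Discrete.functor pt, ⟨fun A => ?_⟩⟩
  let B : ∫ᶜ topFib (q ⋙ G) := A.left.unop
  let m : X ⟶ (bc G q).obj B := A.hom.unop
  let g₀ : ULift.{u} (X.base ⟶ e) := ⟨m.base ≫ B.base.hom⟩
  let φ : (⟨Over.mk g₀.down, X.fiber⟩ : ∫ᶜ topFib (q ⋙ G)) ⟶ B :=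
    mkHom (X := (⟨Over.mk g₀.down, X.fiber⟩ : ∫ᶜ topFib (q ⋙ G))) (Y := B)
      (Over.homMk m.base rfl : Over.mk g₀.down ⟶ B.base) m.fiber
  let f₀ : A ⟶ pt g₀ := CostructuredArrow.homMk φ.op (Quiver.Hom.unop_inj (hom_ext (by simp [pt, φ, q, m])))
  have : Nonempty (StructuredArrow A (Discrete.functor pt)) := ⟨StructuredArrow.mk (Y := (⟨g₀⟩ : Discrete (ULift.{u} (X.base ⟶ e)))) (f₀ : A ⟶ (Discrete.functor pt).obj ⟨g₀⟩)⟩
  let s₀ : StructuredArrow A (Discrete.functor pt) :=
    StructuredArrow.mk (Y := (⟨g₀⟩ : Discrete (ULift.{u} (X.base ⟶ e)))) f₀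
  suffices hz : ∀ s, Zigzag s s₀ from
    zigzag_isConnected fun s t => (hz s).trans (zigzag_symm.symm _ _ (hz t))
  intro s
  obtain ⟨⟨g⟩, f, rfl⟩ := StructuredArrow.mk_surjective s
  let ψ : (⟨Over.mk g.down, X.fiber⟩ : ∫ᶜ topFib (q ⋙ G)) ⟶ B := f.left.unop
  have hw : (bc G q).map ψ = m := by
    have := congrArg Quiver.Hom.unop (CostructuredArrow.w f)
    exact (Category.id_comp _).symm.trans this
  have h2 : ψ.base.left = m.base := congrArg Hom.base hw
  have hg : g = g₀ := by
    apply ULift.down_injective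
    have h1 := Over.w ψ.base
    show g.down = m.base ≫ B.base.hom
    rw [← h2]; exact h1.symm
  subst hg
  refine Zigzag.of_hom (StructuredArrow.homMk (𝟙 _) ?_)
  refine CostructuredArrow.hom_ext _ _ (Quiver.Hom.unop_inj (hom_ext ?_))
  simp only [CategoryTheory.Functor.map_id, Category.comp_id]
  exact Over.OverMorphism.ext h2

section Push

variable {C₁ C₂ C₃ : Type u} [SmallCategory C₁] [SmallCategory C₂] [SmallCategory C₃]
  {J₁ : GrothendieckTopology C₁} {J₂ : GrothendieckTopology C₂} {J₃ : GrothendieckTopology C₃}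

/-- Direct image along a flat continuous functor preserves injectives. -/
lemma inj_of_flat (a : C₁ ⥤ C₂) [a.IsContinuous J₁ J₂] [RepresentablyFlat a] :
    (a.sheafPushforwardContinuous AddCommGrpCat.{u} J₁ J₂).PreservesInjectiveObjects := by
  have : PreservesFiniteLimits (a.sheafPullback AddCommGrpCat.{u} J₁ J₂) :=
    Functor.sheafPullbackConstruction.preservesFiniteLimits.{u, u, u, u + 1, u, u} a AddCommGrpCat.{u} J₁ J₂
  exact Functor.preservesInjectiveObjects_of_adjunction_of_preservesMonomorphisms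
    (a.sheafAdjunctionContinuous AddCommGrpCat.{u} J₁ J₂)

/-- Preservation of injectives by composite direct images. -/
lemma inj_of_comp (a : C₁ ⥤ C₂) (b : C₂ ⥤ C₃) (c : C₁ ⥤ C₃) (e : a ⋙ b ≅ c) [a.IsContinuous J₁ J₂]
    [b.IsContinuous J₂ J₃] [c.IsContinuous J₁ J₃]
    (ha : (a.sheafPushforwardContinuous AddCommGrpCat.{u} J₁ J₂).PreservesInjectiveObjects)
    (hb : (b.sheafPushforwardContinuous AddCommGrpCat.{u} J₂ J₃).PreservesInjectiveObjects) :
    (c.sheafPushforwardContinuous AddCommGrpCat.{u} J₁ J₃).PreservesInjectiveObjects :=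
  ⟨fun {X} hX => Injective.of_iso
    ((Functor.sheafPushforwardContinuousComp' e AddCommGrpCat.{u} J₁ J₂ J₃).app X)
    (ha.injective_obj (hb.injective_obj hX))⟩

end Push

/-- The inclusion of a fibre factors through the slice. -/
noncomputable def ιSliceIso (G : 𝒯 ⥤ TopCat.{u}) (m : 𝒯) :
    ι (topFib (Over.forget m ⋙ G)) (Over.mk (𝟙 m)) ⋙ bc G (Over.forget m) ≅ ι (topFib G) m :=
  natIsoOfEq (fun _ => rfl) (fun _ => by simp)

lemma preservesInjective_ι (G : 𝒯 ⥤ TopCat.{u}) (m : 𝒯) :
    ((ι (topFib G) m).sheafPushforwardContinuous AddCommGrpCat.{u} (topTop G m) (tot G)).PreservesInjectiveObjects := by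
  have : RepresentablyFlat (ι (topFib (Over.forget m ⋙ G)) (Over.mk (𝟙 m))) :=
    flat_ι Over.mkIdTerminal (fun R => inferInstanceAs
      (RepresentablyFlat (Opens.map ((Over.forget m ⋙ G).map (Over.mkIdTerminal.from R)))))
  have : (ι (topFib (Over.forget m ⋙ G)) (Over.mk (𝟙 m))).IsContinuous (topTop G m) (tot (Over.forget m ⋙ G)) :=
    continuous_ι (Over.forget m ⋙ G) (Over.mk (𝟙 m))
  exact inj_of_comp (J₂ := tot (Over.forget m ⋙ G)) _ _ _ (ιSliceIso G m)
    (inj_of_flat (ι (topFib (Over.forget m ⋙ G)) (Over.mk (𝟙 m))))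
    (preservesInjectiveObjects_push _ (exists_final_over m G))

variable {D : Type} [SmallCategory D] (R : 𝒯 × (WithInitial D)ᵒᵖ ⥤ TopCat.{u})

/-- The bases of the rows. -/
noncomputable abbrev col : 𝒯 ⥤ TopCat.{u} := Prod.sectL 𝒯 (FibDesc.bot D) ⋙ R

/-- The rows. -/
noncomputable abbrev row (m : 𝒯) : (WithInitial D)ᵒᵖ ⥤ TopCat.{u} := Prod.sectR m (WithInitial D)ᵒᵖ ⋙ R

/-- The non-augmented part of the family. -/
noncomputable abbrev inner : 𝒯 × Dᵒᵖ ⥤ TopCat.{u} := ((𝟭 𝒯).prod (FibDesc.toAug D)) ⋙ R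

/-- The inclusion of the bases. -/
noncomputable abbrev kF : ∫ᶜ topFib (col R) ⥤ ∫ᶜ topFib R := bc R (Prod.sectL 𝒯 (FibDesc.bot D))

/-- The inclusion of the non-augmented part. -/
noncomputable abbrev rF : ∫ᶜ topFib (inner R) ⥤ ∫ᶜ topFib R := bc R ((𝟭 𝒯).prod (FibDesc.toAug D))

/-- The inclusion of a row. -/
noncomputable abbrev eF (m : 𝒯) : ∫ᶜ topFib (row R m) ⥤ ∫ᶜ topFib R := bc R (Prod.sectR m (WithInitial D)ᵒᵖ)

/-- The total topology of a row. -/
noncomputable abbrev TA (m : 𝒯) := FibDesc.totAug (FibDesc.topAug (row R m)) (FibDesc.topAugTop (row R m))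

/-- The total topology of the non-augmented part of a row. -/
noncomputable abbrev TP (m : 𝒯) := FibDesc.totPart (FibDesc.topAug (row R m)) (FibDesc.topAugTop (row R m))

/-- The inclusion of the non-augmented part of a row. -/
noncomputable def zF (m : 𝒯) : ∫ᶜ (FibDesc.part (FibDesc.topAug (row R m))) ⥤ ∫ᶜ topFib (inner R) :=
  bc (inner R) (Prod.sectR m Dᵒᵖ)

instance (m : 𝒯) : (zF R m).IsContinuous (TP R m) (tot (inner R)) :=
  continuous_bc (inner R) (Prod.sectR m Dᵒᵖ)

instance (m : 𝒯) : (zF R m).IsCocontinuous (TP R m) (tot (inner R)) :=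
  cocontinuous_bc (inner R) (Prod.sectR m Dᵒᵖ)

instance flat_kF : RepresentablyFlat (kF R) :=
  flat_bc R _ fun ⟨j, y⟩ =>
    ⟨StructuredArrow.mk (Y := j) ((𝟙 j, botTerminal.from y) : (j, y) ⟶ (j, FibDesc.bot D)),
      ⟨IsInitial.ofUniqueHom
        (fun s => StructuredArrow.homMk s.hom.1 (Prod.ext (by simp) (botTerminal.hom_ext _ _)))
        (fun s f => StructuredArrow.hom_ext _ _ (by
          have := congrArg Prod.fst (StructuredArrow.w f)
          simpa using this))⟩⟩

/-- The inverse image from the bases to the non-augmented part. -/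
noncomputable abbrev L : Sh (col R) ⥤ Sh (inner R) :=
  (kF R).sheafPullback AddCommGrpCat.{u} (tot (col R)) (tot R) ⋙
    (rF R).sheafPushforwardContinuous AddCommGrpCat.{u} (tot (inner R)) (tot R)

/-- Its adjunction. -/
noncomputable abbrev adjL :=
  ((kF R).sheafAdjunctionContinuous AddCommGrpCat.{u} (tot (col R)) (tot R)).comp
    ((rF R).sheafAdjunctionCocontinuous AddCommGrpCat.{u} (tot (inner R)) (tot R))

instance : (L R).IsLeftAdjoint := (adjL R).isLeftAdjoint

instance pfl_L : PreservesFiniteLimits (L R) := by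
  have : PreservesFiniteLimits ((kF R).sheafPullback AddCommGrpCat.{u} (tot (col R)) (tot R)) :=
    Functor.sheafPullbackConstruction.preservesFiniteLimits.{u, u, u, u + 1, u, u} _ AddCommGrpCat.{u} _ _
  exact comp_preservesFiniteLimits _ _

instance additive_L : (L R).Additive := by
  have := (adjL R).isLeftAdjoint
  have := Functor.preservesZeroMorphisms_of_preserves_initial_object (F := L R)
  have : PreservesLimitsOfShape (Discrete WalkingPair) (L R) :=
    PreservesFiniteLimits.preservesFiniteLimits (F := L R) _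
  exact Functor.additive_of_preserves_binary_products _

instance pfc_L : PreservesFiniteColimits (L R) := by
  have : PreservesColimitsOfSize.{0, 0} (L R) := (adjL R).leftAdjoint_preservesColimits
  exact PreservesColimitsOfSize.preservesFiniteColimits _

/-- Compatibility of the inclusion of a base. -/
noncomputable def e₂ (m : 𝒯) : FibDesc.eps (FibDesc.topAug (row R m)) ⋙ eF R m ≅ ι (topFib (col R)) m ⋙ kF R :=
  natIsoOfEq (fun _ => rfl) (fun _ => by simp)

/-- Compatibility of the inclusion of a row. -/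
noncomputable def e₁ (m : 𝒯) : zF R m ⋙ rF R ≅ FibDesc.incl (FibDesc.topAug (row R m)) ⋙ eF R m :=
  natIsoOfEq (fun _ => rfl) (fun _ => by simp [zF])

/-- A morphism in a fibre from an inclusion. -/
noncomputable def fHom {𝒮 : Type} [SmallCategory 𝒮] (G : 𝒮 ⥤ TopCat.{u}) (i : 𝒮) {V W : Opens (G.obj i)} (h : V ≤ W) :
    @Quiver.Hom ((topFib G).obj ⟨op i⟩) _ V W :=
  homOfLE (X := Opens (G.obj i)) h

lemma initial_e₂ (m : 𝒯) (X : ∫ᶜ topFib (col R)) :
    (Ψ (eF R m) (ι (topFib (col R)) m) (FibDesc.eps (FibDesc.topAug (row R m))) (kF R) (e₂ R m) X).Initial := by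
  refine initial_of_zigzag _ fun t => ?_
  let B : ∫ᶜ topFib (row R m) := t.right.unop
  let a : (eF R m).obj B ⟶ (kF R).obj X := t.hom.unop
  let U : Opens (R.obj (X.base, FibDesc.bot D)) := X.fiber
  let f : m ⟶ X.base := a.base.1
  let Y₀ : Opens ((col R).obj m) := (Opens.map ((col R).map f)).obj U
  let j₀ : StructuredArrow (op X) (ι (topFib (col R)) m).op :=
    StructuredArrow.mk (Y := op Y₀) (mkHom (X := (ι (topFib (col R)) m).obj Y₀) (Y := X) f (𝟙 _)).op
  let Bf : Opens ((row R m).obj B.base) := B.fiber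
  have hV : Bf ≤
      (Opens.map ((row R m).map (botTerminal.from B.base))).obj Y₀ := by
    intro x hx
    have := leOfHom (X := Opens (R.obj (m, B.base))) a.fiber hx
    change R.map ((f, 𝟙 _) : (m, FibDesc.bot D) ⟶ (X.base, FibDesc.bot D))
      (R.map ((𝟙 m, botTerminal.from B.base) : (m, B.base) ⟶ (m, FibDesc.bot D)) x) ∈ U
    rw [← TopCat.comp_app, ← R.map_comp]
    have e : ((𝟙 m, botTerminal.from B.base) : (m, B.base) ⟶ (m, FibDesc.bot D)) ≫
        ((f, 𝟙 _) : (m, FibDesc.bot D) ⟶ (X.base, FibDesc.bot D)) = a.base :=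
      Prod.ext (by simp [f]) (botTerminal.hom_ext _ _)
    rw [e]
    exact this
  refine ⟨CostructuredArrow.mk (Y := j₀) (StructuredArrow.homMk
    (mkHom (X := B) (Y := (FibDesc.eps (FibDesc.topAug (row R m))).obj Y₀) (botTerminal.from _)
      (fHom (row R m) _ hV)).op ?_), fun b => ?_⟩
  · refine Quiver.Hom.unop_inj (hom_ext (Prod.ext ?_ (botTerminal.hom_ext _ _)))
    exact (show 𝟙 m ≫ 𝟙 m ≫ f = f by simp)
  · let k : B ⟶ (FibDesc.eps (FibDesc.topAug (row R m))).obj b.left.right.unop := (CommaMorphism.right b.hom).unop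
    let g : (ι (topFib (col R)) m).obj b.left.right.unop ⟶ X := b.left.hom.unop
    have hb : g.base = f := by
      have := congrArg Prod.fst (congrArg Hom.base (congrArg Quiver.Hom.unop (StructuredArrow.w b.hom)))
      replace this : 𝟙 m ≫ 𝟙 m ≫ g.base = f := this
      simpa using this
    let Yb : Opens ((col R).obj m) := b.left.right.unop
    have hY : Yb ≤ Y₀ := by
      intro x hx
      have := leOfHom (X := Opens ((col R).obj m)) g.fiber hx
      change (col R).map f x ∈ U
      rw [← hb]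
      exact this
    refine Zigzag.symm (Zigzag.of_hom (CostructuredArrow.homMk (StructuredArrow.homMk (fHom (col R) m hY).op
      (Quiver.Hom.unop_inj (hom_ext (show 𝟙 m ≫ f = g.base by rw [Category.id_comp, hb])))) ?_))
    exact StructuredArrow.hom_ext _ _ (Quiver.Hom.unop_inj (hom_ext (botTerminal.hom_ext _ _)))

lemma initial_e₁ (m : 𝒯) (X : ∫ᶜ topFib (row R m)) :
    (Ψ (rF R) (FibDesc.incl (FibDesc.topAug (row R m))) (zF R m) (eF R m) (e₁ R m) X).Initial := by
  refine initial_of_zigzag _ fun t => ?_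
  let B : ∫ᶜ topFib (inner R) := t.right.unop
  let a : (rF R).obj B ⟶ (eF R m).obj X := t.hom.unop
  let U : Opens ((row R m).obj X.base) := X.fiber
  let f : B.base.1 ⟶ m := a.base.1
  let g : (FibDesc.toAug D).obj B.base.2 ⟶ X.base := a.base.2
  let W₀ : Opens ((FibDesc.toAug D ⋙ row R m).obj B.base.2) := (Opens.map ((row R m).map g)).obj U
  let A₀ : ∫ᶜ (FibDesc.part (FibDesc.topAug (row R m))) := ⟨B.base.2, W₀⟩
  let j₀ : StructuredArrow (op X) (FibDesc.incl (FibDesc.topAug (row R m))).op :=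
    StructuredArrow.mk (Y := op A₀)
      (mkHom (X := (FibDesc.incl (FibDesc.topAug (row R m))).obj A₀) (Y := X) g (𝟙 _)).op
  let Bf : Opens ((inner R).obj B.base) := B.fiber
  have hV : Bf ≤
      (Opens.map ((inner R).map ((f, 𝟙 _) : B.base ⟶ (m, B.base.2)))).obj W₀ := by
    intro x hx
    have := leOfHom (X := Opens (R.obj (B.base.1, (FibDesc.toAug D).obj B.base.2))) a.fiber hx
    change R.map ((𝟙 m, g) : (m, (FibDesc.toAug D).obj B.base.2) ⟶ (m, X.base))
      (R.map ((f, (FibDesc.toAug D).map (𝟙 B.base.2)) :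
        (B.base.1, (FibDesc.toAug D).obj B.base.2) ⟶ (m, (FibDesc.toAug D).obj B.base.2)) x) ∈ U
    rw [← TopCat.comp_app, ← R.map_comp]
    have e : ((f, (FibDesc.toAug D).map (𝟙 B.base.2)) :
        (B.base.1, (FibDesc.toAug D).obj B.base.2) ⟶ (m, (FibDesc.toAug D).obj B.base.2)) ≫
        ((𝟙 m, g) : (m, (FibDesc.toAug D).obj B.base.2) ⟶ (m, X.base)) = a.base :=
      Prod.ext (by simp [f]) (by simp [g])
    rw [e]
    exact this
  refine ⟨CostructuredArrow.mk (Y := j₀) (StructuredArrow.homMk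
    (mkHom (X := B) (Y := (zF R m).obj A₀) ((f, 𝟙 _) : B.base ⟶ (m, B.base.2))
      (fHom (inner R) _ hV)).op ?_), fun b => ?_⟩
  · refine Quiver.Hom.unop_inj (hom_ext (Prod.ext ?_ ?_))
    · exact (show f ≫ 𝟙 m ≫ 𝟙 m = f by simp)
    · exact (show (FibDesc.toAug D).map (𝟙 B.base.2) ≫ 𝟙 _ ≫ g = g by simp)
  · let A : ∫ᶜ (FibDesc.part (FibDesc.topAug (row R m))) := b.left.right.unop
    let k : B ⟶ (zF R m).obj A := (CommaMorphism.right b.hom).unop
    let c : (FibDesc.incl (FibDesc.topAug (row R m))).obj A ⟶ X := b.left.hom.unop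
    have hw := congrArg Hom.base (congrArg Quiver.Hom.unop (StructuredArrow.w b.hom))
    let k1 : B.base.1 ⟶ m := k.base.1
    let k2 : B.base.2 ⟶ A.base := k.base.2
    let c1 : (FibDesc.toAug D).obj A.base ⟶ X.base := c.base
    have h1 : k1 = f := by
      have : k1 ≫ 𝟙 m ≫ 𝟙 m = f := congrArg Prod.fst hw
      rwa [Category.comp_id, Category.comp_id] at this
    have h2 : (FibDesc.toAug D).map k2 ≫ c1 = g := by
      have : (FibDesc.toAug D).map k2 ≫ 𝟙 _ ≫ c1 = g := congrArg Prod.snd hw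
      rwa [Category.id_comp] at this
    let W₁ : Opens ((FibDesc.toAug D ⋙ row R m).obj A.base) := (Opens.map ((row R m).map c1)).obj U
    let A₁ : ∫ᶜ (FibDesc.part (FibDesc.topAug (row R m))) := ⟨A.base, W₁⟩
    let u₁ : A ⟶ A₁ := (ι ((FibDesc.part (FibDesc.topAug (row R m)))) A.base).map c.fiber
    have hW : W₀ ≤ (Opens.map ((FibDesc.toAug D ⋙ row R m).map k2)).obj W₁ := by
      intro x hx
      change (row R m).map c1 ((row R m).map ((FibDesc.toAug D).map k2) x) ∈ U
      rw [← TopCat.comp_app, ← (row R m).map_comp, h2]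
      exact hx
    let u₀ : A₀ ⟶ A₁ := mkHom (X := A₀) (Y := A₁) k2 (fHom _ _ hW)
    let j₁ : StructuredArrow (op X) (FibDesc.incl (FibDesc.topAug (row R m))).op :=
      StructuredArrow.mk (Y := op A₁)
        (mkHom (X := (FibDesc.incl (FibDesc.topAug (row R m))).obj A₁) (Y := X) c1 (𝟙 _)).op
    let M := CostructuredArrow.mk (Y := j₁) (S := Ψ (rF R) (FibDesc.incl (FibDesc.topAug (row R m))) (zF R m) (eF R m) (e₁ R m) X) (T := t)
      (StructuredArrow.homMk (k ≫ (zF R m).map u₁).op (Quiver.Hom.unop_inj (hom_ext (Prod.ext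
        (show (k1 ≫ 𝟙 m) ≫ 𝟙 m ≫ 𝟙 m = f by simp [h1])
        (show (FibDesc.toAug D).map (k2 ≫ 𝟙 A.base) ≫ 𝟙 _ ≫ c1 = g by
          rw [Category.comp_id, Category.id_comp, h2])))))
    let l : M ⟶ b := CostructuredArrow.homMk (StructuredArrow.homMk u₁.op
      (Quiver.Hom.unop_inj (hom_ext (show (FibDesc.toAug D).map (𝟙 A.base) ≫ c1 = c1 by rw [CategoryTheory.Functor.map_id, Category.id_comp]))))
      (StructuredArrow.hom_ext _ _ rfl)
    refine (Zigzag.of_inv l).trans (Zigzag.of_hom (CostructuredArrow.homMk (StructuredArrow.homMk u₀.op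
      (Quiver.Hom.unop_inj (hom_ext (show (FibDesc.toAug D).map k2 ≫ c1 = g from h2)))) ?_))
    refine StructuredArrow.hom_ext _ _ (Quiver.Hom.unop_inj (hom_ext (Prod.ext ?_ ?_)))
    · exact (show f ≫ 𝟙 m = k1 ≫ 𝟙 m by rw [h1])
    · exact (show 𝟙 B.base.2 ≫ k2 = k2 ≫ 𝟙 A.base by simp)

lemma preservesInjective_zF (m : 𝒯) :
    ((zF R m).sheafPushforwardContinuous AddCommGrpCat.{u} (TP R m)
      (tot (inner R))).PreservesInjectiveObjects := by
  let s : Dᵒᵖ ⥤ Over m × Dᵒᵖ := Prod.sectR (Over.mk (𝟙 m)) Dᵒᵖ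
  let q : Over m × Dᵒᵖ ⥤ 𝒯 × Dᵒᵖ := (Over.forget m).prod (𝟭 _)
  let a : ∫ᶜ (FibDesc.part (FibDesc.topAug (row R m))) ⥤ ∫ᶜ topFib (q ⋙ inner R) := bc (q ⋙ inner R) s
  have : a.IsContinuous (TP R m) (tot (q ⋙ inner R)) :=
    continuous_bc (q ⋙ inner R) s
  have : RepresentablyFlat a := flat_bc (q ⋙ inner R) s fun ⟨o, d⟩ =>
    ⟨StructuredArrow.mk (Y := d) ((Over.mkIdTerminal.from o, 𝟙 d) : (o, d) ⟶ (Over.mk (𝟙 m), d)),
      ⟨IsInitial.ofUniqueHom
        (fun x => StructuredArrow.homMk x.hom.2 (Prod.ext (Over.mkIdTerminal.hom_ext _ _) (by simp [s])))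
        (fun x f => StructuredArrow.hom_ext _ _ (by
          have := congrArg Prod.snd (StructuredArrow.w f)
          simpa [s] using this))⟩⟩
  exact inj_of_comp (J₂ := tot (q ⋙ inner R)) a (bc (inner R) q) (zF R m)
    (natIsoOfEq (fun _ => rfl) (fun _ => by simp [a, s, q, zF]))
    (inj_of_flat a) (preservesInjectiveObjects_push _ (exists_final_slice m (inner R)))

section Derived

attribute [local instance] HasDerivedCategory.standard

set_option maxHeartbeats 4000000 in
/-- Descent row by row makes the inverse image to the non-augmented part fully faithful. -/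
theorem bij_L (h : ∀ m, FibDesc.IsCohDescentTop (row R m)) : DerivedComp.Bij (L R) := by
  intro K J
  have := (adjL R).right_adjoint_additive
  refine DerivedAdj.bijective_of_good (adjL R) ?_ K J
  let aK := (kF R).sheafAdjunctionContinuous AddCommGrpCat.{u} (tot (col R)) (tot R)
  let aR := (rF R).sheafAdjunctionCocontinuous AddCommGrpCat.{u} (tot (inner R)) (tot R)
  have heps : ∀ m : 𝒯, (FibDesc.eps (FibDesc.topAug (row R m))).IsContinuous
      (FibDesc.topAugTop (row R m) (FibDesc.bot D)) (TA R m) :=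
    fun m => FibDescBase.continuous_ι (row R m) (FibDesc.bot D)
  have heps' : ∀ m : 𝒯, (FibDesc.eps (FibDesc.topAug (row R m))).IsContinuous
      (topTop (col R) m) (TA R m) :=
    fun m => FibDescBase.continuous_ι (row R m) (FibDesc.bot D)
  have he : ∀ m : 𝒯, (eF R m).IsContinuous (TA R m) (tot R) := fun m => continuous_bc R _
  have he' : ∀ m : 𝒯, (eF R m).IsCocontinuous (TA R m) (tot R) := fun m => cocontinuous_bc R _
  have hz : ∀ m : 𝒯, (zF R m).IsContinuous (TP R m) (tot (inner R)) := fun m => continuous_bc (inner R) _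
  have hz' : ∀ m : 𝒯, (zF R m).IsCocontinuous (TP R m) (tot (inner R)) := fun m => cocontinuous_bc (inner R) _
  have hi : ∀ m : 𝒯, (FibDesc.incl (FibDesc.topAug (row R m))).IsContinuous (TP R m) (TA R m) :=
    fun m => FibDescBase.continuous_incl (row R m)
  have hi' : ∀ m : 𝒯, (FibDesc.incl (FibDesc.topAug (row R m))).IsCocontinuous (TP R m) (TA R m) :=
    fun m => FibDescBase.cocontinuous_incl (row R m)
  let aE := fun m : 𝒯 => (FibDesc.eps (FibDesc.topAug (row R m))).sheafAdjunctionContinuous AddCommGrpCat.{u}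
    (FibDesc.topAugTop (row R m) (FibDesc.bot D)) (TA R m)
  let aI := fun m : 𝒯 => (FibDesc.incl (FibDesc.topAug (row R m))).sheafAdjunctionCocontinuous AddCommGrpCat.{u}
    (TP R m)
    (TA R m)
  let aι := fun m : 𝒯 => (ι (topFib (col R)) m).sheafAdjunctionCocontinuous AddCommGrpCat.{u} (topTop (col R) m)
    (tot (col R))
  let aF := fun m : 𝒯 => (eF R m).sheafAdjunctionCocontinuous AddCommGrpCat.{u} (TA R m) (tot R)
  let az := fun m : 𝒯 => (zF R m).sheafAdjunctionCocontinuous AddCommGrpCat.{u} (TP R m)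
    (tot (inner R))
  let σ := fun m : 𝒯 => (pushIso (JC := TA R m) (JD := tot R) (JC' := topTop (col R) m)
    (JD' := tot (col R))
    (eF R m) (ι (topFib (col R)) m) (FibDesc.eps (FibDesc.topAug (row R m))) (kF R) (e₂ R m)).symm
  let τ := fun m : 𝒯 => pushIso (JC := tot (inner R)) (JD := tot R) (JC' := TP R m)
    (JD' := TA R m) (rF R) (FibDesc.incl (FibDesc.topAug (row R m))) (zF R m) (eF R m) (e₁ R m)
  have hR : ∀ m M, IsIso ((DerivedAdjTransfer.bcRight aR (aI m) (τ m)).app M) :=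
    fun m M => isIso_bcRight _ _ _ _ _ (initial_e₁ R m) M
  have hL : ∀ m G, IsIso ((DerivedAdjTransfer.bcLeft aK (aE m) (σ m)).app G) := fun m G =>
    isIso_bcLeft aK (aE m) (σ m) (aι m) (aF m)
      (fun W => isIso_bcRight _ _ _ _ _ (initial_e₂ R m) W) G
  have hρA : ∀ m, ((ι (topFib (col R)) m).sheafPushforwardContinuous AddCommGrpCat.{u} (topTop (col R) m) (tot (col R))).IsLeftAdjoint :=
    fun m => (aι m).isLeftAdjoint
  have hρB : ∀ m, ((zF R m).sheafPushforwardContinuous AddCommGrpCat.{u} (TP R m) (tot (inner R))).IsLeftAdjoint :=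
    fun m => (az m).isLeftAdjoint
  have hρA' := fun m => preservesInjective_ι (col R) m
  have hρB' := fun m => preservesInjective_zF R m
  have hρA'' : ∀ m, ((ι (topFib (col R)) m).sheafPushforwardContinuous AddCommGrpCat.{u} (topTop (col R) m) (tot (col R))).Additive :=
    fun m => Functor.additive_of_preserves_binary_products _
  have hρB'' : ∀ m, ((zF R m).sheafPushforwardContinuous AddCommGrpCat.{u} (TP R m) (tot (inner R))).Additive :=
    fun m => Functor.additive_of_preserves_binary_products _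
  refine DerivedAdjTransfer.good_of_family _
    (fun m => FibDesc.adj (FibDesc.topAug (row R m)) (FibDesc.topAugTop (row R m)) AddCommGrpCat.{u})
    (fun m => (ι (topFib (col R)) m).sheafPushforwardContinuous AddCommGrpCat.{u} (topTop (col R) m) (tot (col R)))
    (fun m => (zF R m).sheafPushforwardContinuous AddCommGrpCat.{u} (TP R m) (tot (inner R)))
    (fun m => DerivedAdjTransfer.thetaIso aK (aE m) (σ m) (τ m))
    (fun m => DerivedAdjTransfer.kappaIso aR (aI m) (σ m) (τ m))
    (fun m X M r => DerivedAdjTransfer.theta_kappa aK aR (aE m) (aI m) (σ m) (τ m) X M r)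
    ?_ (fun m => DerivedAdj.good_of_bijective _ (bijective_of_isCohDescentTop (row R m) (h m)))
  intro G H f hf
  suffices IsIso ((sheafToPresheaf _ _).map f) from isIso_of_reflects_iso _ (sheafToPresheaf _ _)
  rw [NatTrans.isIso_iff_isIso_app]
  rintro ⟨m, V⟩
  have := hf m
  exact inferInstanceAs (IsIso (((sheafToPresheaf _ _).map
    (((ι (topFib (col R)) m).sheafPushforwardContinuous AddCommGrpCat.{u} (topTop (col R) m) (tot (col R))).map f)).app
      (op V)))

end Derived

end Groth.Misc4.FibDescRows
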