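import Groth.Agent.Misc4.FibDescBase
import Groth.Agent.Misc4.DerivedFF

/-! A split augmentation is of cohomological descent. -/

universe u

open CategoryTheory CategoryTheory.Limits Opposite TopologicalSpace Pseudofunctor.CoGrothendieck

namespace Groth.Misc4.FibDescSplit

open Groth.Misc4.FibSiteTot Groth.Misc4.ThinTot Groth.Misc4.FibDescBase

set_option backward.defeqAttrib.useBackward true
set_option backward.isDefEq.respectTransparency false
set_option backward.isDefEq.respectTransparency.types false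
set_option synthInstance.maxHeartbeats 400000
set_option maxHeartbeats 1000000

section Abstract

variable {C E : Type*} [Category* C] [Category* E] {Bp : C ⥤ E} {Dp : E ⥤ C} {Hp : C ⥤ E} {Hl : E ⥤ C}
  (aH : Hl ⊣ Hp) (β : 𝟭 C ⟶ Bp ⋙ Dp) (e : Hp ⋙ Dp ⟶ 𝟭 C)

/-- The composite `𝟭 ⟶ B ⋙ D ⟶ B ⋙ Hl ⋙ Hp ⋙ D ⟶ B ⋙ Hl`. -/
@[simps]
def mate : 𝟭 C ⟶ Bp ⋙ Hl where
  app M := β.app M ≫ Dp.map (aH.unit.app _) ≫ e.app _
  naturality M N f := by
    have h1 := β.naturality f
    have h2 := aH.unit.naturality (Bp.map f)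
    have h3 := e.naturality (Hl.map (Bp.map f))
    simp only [Functor.id_map, Functor.comp_map] at h1 h2 h3
    simp only [Functor.id_map, Category.assoc, Functor.comp_map]
    rw [reassoc_of% h1, ← Functor.map_comp_assoc, h2, Functor.map_comp_assoc, h3]

lemma mate_comp {Bc : E ⥤ C} (aB : Bp ⊣ Bc) (M W : C) (g : Hl.obj (Bp.obj M) ⟶ W) :
    (mate aH β e).app M ≫ g =
      aB.homEquiv _ _ (aH.homEquiv _ _ g) ≫ β.app _ ≫ Dp.map (aB.counit.app _) ≫ e.app W := by
  have h1 := β.naturality (aB.homEquiv _ _ (aH.homEquiv _ _ g))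
  have h3 := e.naturality g
  simp only [Functor.id_map, Functor.comp_map] at h1 h3
  simp only [mate_app, Category.assoc]
  have h4 : Bp.map (aB.homEquiv _ _ (aH.homEquiv _ _ g)) ≫ aB.counit.app _ = aH.homEquiv _ _ g :=
    (aB.homEquiv_counit _ _ _).symm.trans (Equiv.symm_apply_apply _ _)
  rw [← h3, reassoc_of% h1, ← Functor.map_comp_assoc, ← Functor.map_comp_assoc, ← aH.homEquiv_unit, h4]

/-- A variant of `mate` with values read through `J`. -/
@[simps]
def mateThrough {C₀ : Type*} [Category* C₀] {J : C ⥤ C₀} {B₀ : C₀ ⥤ E} (β₀ : 𝟭 C₀ ⟶ B₀ ⋙ Dp ⋙ J) :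
    𝟭 C₀ ⟶ (B₀ ⋙ Hl) ⋙ J where
  app M := β₀.app M ≫ J.map (Dp.map (aH.unit.app _) ≫ e.app _)
  naturality M N f := by
    have h1 := β₀.naturality f
    have h2 := aH.unit.naturality (B₀.map f)
    have h3 := e.naturality (Hl.map (B₀.map f))
    simp only [Functor.id_map, Functor.comp_map] at h1 h2 h3
    simp only [Functor.id_map, Category.assoc, Functor.comp_map]
    rw [reassoc_of% h1, ← Functor.map_comp, ← Functor.map_comp_assoc, h2, Functor.map_comp_assoc, h3,
      ← Functor.map_comp, Category.assoc]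

end Abstract

variable {D : Type} [SmallCategory D] {Y : (WithInitial D)ᵒᵖ ⥤ TopCat.{u}}

/-- An augmented space with an extra degeneracy. -/
structure Split (Y : (WithInitial D)ᵒᵖ ⥤ TopCat.{u}) where
  /-- The shift. -/
  sh : (WithInitial D)ᵒᵖ ⥤ Dᵒᵖ
  /-- The comparison of the shift with the identity. -/
  δ : sh ⋙ FibDesc.toAug D ⟶ 𝟭 _
  /-- The extra degeneracy. -/
  h : Y ⟶ sh ⋙ FibDesc.toAug D ⋙ Y
  hδ : ∀ i, h.app i ≫ Y.map (δ.app i) = 𝟙 _

variable (s : Split Y)

/-- The shifted augmented space. -/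
abbrev Split.Y' : (WithInitial D)ᵒᵖ ⥤ TopCat.{u} := s.sh ⋙ FibDesc.toAug D ⋙ Y

local notation "F" => FibDesc.topAug Y
local notation "G" => FibDesc.topAug (Split.Y' s)
local notation "TF" => FibDesc.totAug (FibDesc.topAug Y) (FibDesc.topAugTop Y)
local notation "TP" => FibDesc.totPart (FibDesc.topAug Y) (FibDesc.topAugTop Y)
local notation "TG" => FibDesc.totAug (FibDesc.topAug (Split.Y' s)) (FibDesc.topAugTop (Split.Y' s))

lemma map_obj_congr {X Z : TopCat.{u}} {f g : X ⟶ Z} (h : f = g) (U : Opens Z) :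
    (Opens.map f).obj U = (Opens.map g).obj U := by rw [h]

/-- Pulling back along `δ`. -/
noncomputable def Split.dMap : TotMap F G :=
  TotMap.ofId (fun i => Opens.map (Y.map (s.δ.app i))) (fun {i j} m V => eqToHom (by
    show (Opens.map (Y.map (s.δ.app i))).obj ((Opens.map (Y.map m)).obj V) =
      (Opens.map (s.Y'.map m)).obj ((Opens.map (Y.map (s.δ.app j))).obj V)
    exact (map_obj_congr (show Y.map (s.δ.app i) ≫ Y.map m = s.Y'.map m ≫ Y.map (s.δ.app j) by
      have e := congrArg Y.map (s.δ.naturality m)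
      rw [Functor.map_comp, Functor.map_comp] at e
      exact e.symm) V)))

/-- Pulling back along the extra degeneracy. -/
noncomputable def Split.hMap : TotMap G F :=
  TotMap.ofId (fun i => Opens.map (s.h.app i)) (fun {i j} m V => eqToHom
    (map_obj_congr (s.h.naturality m).symm V))

/-- Reindexing along the shift. -/
noncomputable def Split.bMap : TotMap G (FibDesc.part F) where
  ψ := s.sh
  φ i := 𝟭 (Opens (s.Y'.obj i))
  comm _ _ := 𝟙 _

/-- `D`. -/
noncomputable abbrev Split.dF : ∫ᶜ F ⥤ ∫ᶜ G := s.dMap.functor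
/-- `H`. -/
noncomputable abbrev Split.hF : ∫ᶜ G ⥤ ∫ᶜ F := s.hMap.functor
/-- `B₀`. -/
noncomputable abbrev Split.b₀ : ∫ᶜ G ⥤ ∫ᶜ (FibDesc.part F) := s.bMap.functor
/-- `B`. -/
noncomputable abbrev Split.bF : ∫ᶜ G ⥤ ∫ᶜ F := s.b₀ ⋙ FibDesc.incl F

instance : s.dF.IsContinuous TF TG :=
  s.dMap.isContinuous (preFib Y) (preFib s.Y') (fun i => inferInstanceAs
    ((Opens.map (Y.map (s.δ.app i))).IsContinuous (Opens.grothendieckTopology _) (Opens.grothendieckTopology _)))

instance : s.hF.IsContinuous TG TF :=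
  s.hMap.isContinuous (preFib s.Y') (preFib Y) (fun i => inferInstanceAs
    ((Opens.map (s.h.app i)).IsContinuous (Opens.grothendieckTopology _) (Opens.grothendieckTopology _)))

instance : s.b₀.IsContinuous TG TP :=
  s.bMap.isContinuous (preFib s.Y') (preFib_part Y) (fun i =>
    Functor.isContinuous_id (C := Opens (s.Y'.obj i)) (Opens.grothendieckTopology _))

instance : s.b₀.IsCocontinuous TG TP :=
  s.bMap.isCocontinuous (preFib s.Y') (preFib_part Y) (fun i =>
    isCocontinuous_id (C := Opens (s.Y'.obj i)) (Opens.grothendieckTopology _))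

instance : s.bF.IsContinuous TG TF := Functor.isContinuous_comp _ _ TG TP TF

instance : s.bF.IsCocontinuous TG TF := isCocontinuous_comp (J := TG) s.b₀ (FibDesc.incl F) (K := TP) (L := TF)

instance : RepresentablyFlat s.hF :=
  have h : ∀ (φ : ∀ i, (G).obj ⟨op i⟩ ⥤ (F).obj ⟨op i⟩)
      (comm : ∀ {i j : (WithInitial D)ᵒᵖ} (m : i ⟶ j) (V : (G).obj ⟨op j⟩),
        (φ i).obj ((FibSite.invImage G m).obj V) ⟶ (FibSite.invImage F m).obj ((φ j).obj V))
      (_ : ∀ {i j : (WithInitial D)ᵒᵖ} (m : i ⟶ j) (V : (G).obj ⟨op j⟩),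
        (FibSite.invImage F m).obj ((φ j).obj V) ⟶ (φ i).obj ((FibSite.invImage G m).obj V))
      (_ : ∀ i, RepresentablyFlat (φ i)), RepresentablyFlat (TotMap.ofId φ comm).functor :=
    fun φ comm inv hφ => flat_ofId φ comm inv hφ
  h (fun i => Opens.map (s.h.app i)) (fun {i j} m V => eqToHom (map_obj_congr (s.h.naturality m).symm V))
    (fun {i j} m V => eqToHom (map_obj_congr (s.h.naturality m) V))
    (fun i => inferInstanceAs (RepresentablyFlat (Opens.map (s.h.app i))))

/-- `β`. -/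
noncomputable def Split.β : s.dF ⋙ s.bF ⟶ 𝟭 (∫ᶜ F) :=
  natTrans (fun X => s.δ.app X.base) (fun _ => 𝟙 _) (fun f => s.δ.naturality f.base)

/-- `D` followed by `H` is the identity. -/
noncomputable def Split.dh : s.dF ⋙ s.hF ≅ 𝟭 (∫ᶜ F) :=
  NatIso.ofComponents (fun X => fibIso (eqToIso (show (Opens.map (s.h.app X.base)).obj
      ((Opens.map (Y.map (s.δ.app X.base))).obj (X.fiber : Opens (Y.obj X.base))) = (X.fiber : Opens (Y.obj X.base)) by
    exact (map_obj_congr (s.hδ X.base) _))))
    (fun f => hom_ext (by simp [Split.dMap, Split.hMap, TotMap.ofId]))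

/-- `δ` on the index category. -/
noncomputable def Split.δ₀ : FibDesc.toAug D ⋙ s.sh ⟶ 𝟭 (Dᵒᵖ) where
  app i := (FibDesc.toAug D).preimage (s.δ.app ((FibDesc.toAug D).obj i))
  naturality i j m := (FibDesc.toAug D).map_injective (by
    rw [Functor.map_comp, Functor.map_comp, Functor.map_preimage, Functor.map_preimage]
    exact s.δ.naturality ((FibDesc.toAug D).map m))

/-- `β` on the non-augmented part. -/
noncomputable def Split.β₀ : FibDesc.incl F ⋙ s.dF ⋙ s.b₀ ⟶ 𝟭 (∫ᶜ (FibDesc.part F)) :=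
  natTrans (fun X => s.δ₀.app X.base)
    (fun X => eqToHom (by
      show (Opens.map (Y.map (s.δ.app ((FibDesc.toAug D).obj X.base)))).obj
          (X.fiber : Opens (Y.obj ((FibDesc.toAug D).obj X.base))) =
        (Opens.map (Y.map ((FibDesc.toAug D).map (s.δ₀.app X.base)))).obj
          (X.fiber : Opens (Y.obj ((FibDesc.toAug D).obj X.base)))
      rw [show (FibDesc.toAug D).map (s.δ₀.app X.base) = s.δ.app _ from Functor.map_preimage _ _]))
    (fun f => s.δ₀.naturality f.base)

lemma Split.incl_map_β₀ (X : ∫ᶜ (FibDesc.part F)) :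
    (FibDesc.incl F).map (s.β₀.app X) = s.β.app ((FibDesc.incl F).obj X) :=
  hom_ext (show (FibDesc.toAug D).map (s.δ₀.app X.base) = _ from Functor.map_preimage _ _)


/-- `B_* ⋙ H^*`. -/
noncomputable abbrev Split.T' : (Sheaf TF AddCommGrpCat.{u}) ⥤ (Sheaf TF AddCommGrpCat.{u}) :=
  s.bF.sheafPushforwardContinuous AddCommGrpCat.{u} TG TF ⋙ s.hF.sheafPullback AddCommGrpCat.{u} TG TF

/-- `B₀_* ⋙ H^*`. -/
noncomputable abbrev Split.Tplus : (Sheaf TP AddCommGrpCat.{u}) ⥤ (Sheaf TF AddCommGrpCat.{u}) :=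
  s.b₀.sheafPushforwardContinuous AddCommGrpCat.{u} TG TP ⋙ s.hF.sheafPullback AddCommGrpCat.{u} TG TF

/-- The transformation induced by `β`. -/
noncomputable def Split.β' : 𝟭 (Sheaf TF AddCommGrpCat.{u}) ⟶
    s.bF.sheafPushforwardContinuous AddCommGrpCat.{u} TG TF ⋙
      s.dF.sheafPushforwardContinuous AddCommGrpCat.{u} TF TG where
  app M := ⟨Functor.whiskerRight (NatTrans.op s.β) M.obj⟩
  naturality M N f := by
    apply Sheaf.hom_ext
    apply NatTrans.ext
    funext X
    exact (f.hom.naturality _).symm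

/-- The transformation induced by `dh`. -/
noncomputable def Split.e' : s.hF.sheafPushforwardContinuous AddCommGrpCat.{u} TG TF ⋙
      s.dF.sheafPushforwardContinuous AddCommGrpCat.{u} TF TG ⟶ 𝟭 (Sheaf TF AddCommGrpCat.{u}) where
  app M := ⟨Functor.whiskerRight (NatTrans.op s.dh.inv) M.obj⟩
  naturality M N f := by
    apply Sheaf.hom_ext
    apply NatTrans.ext
    funext X
    exact (f.hom.naturality _).symm


/-- The basic transformation `𝟭 ⟶ B_* ⋙ H^*`. -/
noncomputable def Split.ψ : 𝟭 (Sheaf TF AddCommGrpCat.{u}) ⟶ s.T' :=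
  mate (s.hF.sheafAdjunctionContinuous AddCommGrpCat.{u} TG TF) s.β' s.e'

/-- The key transformation from the right adjoint. -/
noncomputable def Split.Φ (W : (Sheaf TF AddCommGrpCat.{u})) :
    (s.bF.sheafPushforwardCocontinuous AddCommGrpCat.{u} TG TF).obj
      ((s.hF.sheafPushforwardContinuous AddCommGrpCat.{u} TG TF).obj W) ⟶ W :=
  s.β'.app _ ≫ (Functor.sheafPushforwardContinuous (Split.dF s) AddCommGrpCat.{u} TF TG).map ((s.bF.sheafAdjunctionCocontinuous AddCommGrpCat.{u} TG TF).counit.app _) ≫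
    s.e'.app W

/-- The universal arrow under an open set of the base. -/
noncomputable def Split.universalArrow (V : Opens (Y.obj (FibDesc.bot D))) :
    StructuredArrow (op ((FibDesc.eps F).obj V)) s.bF.op :=
  StructuredArrow.mk (Y := op (s.dF.obj ((FibDesc.eps F).obj V))) (s.β.app ((FibDesc.eps F).obj V)).op

/-- It is initial. -/
noncomputable def Split.universalArrowInitial (V : Opens (Y.obj (FibDesc.bot D))) :
    IsInitial (s.universalArrow V) := by
  refine IsInitial.ofUniqueHom (fun j => ?_) (fun j m => ?_)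
  · let Z : ∫ᶜ G := j.right.unop
    let b : Z.base ⟶ FibDesc.bot D := botTerminal.from _
    let a : s.bF.obj Z ⟶ (FibDesc.eps F).obj V := j.hom.unop
    refine StructuredArrow.homMk (Quiver.Hom.op (show Z ⟶ s.dF.obj ((FibDesc.eps F).obj V) from
      mkHom b ((a.fiber : (Z.fiber : Opens (s.Y'.obj Z.base)) ⟶ _) ≫ eqToHom ?_))) ?_
    · show (Opens.map (Y.map a.base)).obj V =
        (Opens.map (s.Y'.map b)).obj ((Opens.map (Y.map (s.δ.app (FibDesc.bot D)))).obj V)
      exact map_obj_congr (show Y.map a.base = s.Y'.map b ≫ Y.map (s.δ.app (FibDesc.bot D)) by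
        show _ = Y.map _ ≫ _
        rw [← Y.map_comp]
        exact congrArg Y.map (botTerminal.hom_ext _ _)) V
    · apply Quiver.Hom.unop_inj
      exact hom_ext (botTerminal.hom_ext _ _)
  · ext
    apply Quiver.Hom.unop_inj
    exact hom_ext (botTerminal.hom_ext _ _)

lemma Split.isIso_restr_Φ (W : (Sheaf TF AddCommGrpCat.{u})) : IsIso ((FibSite.restr F (FibDesc.topAugTop Y) AddCommGrpCat.{u} (FibDesc.bot D)).map (s.Φ W)) := by
  suffices IsIso ((sheafToPresheaf _ _).map ((FibSite.restr F (FibDesc.topAugTop Y) AddCommGrpCat.{u} (FibDesc.bot D)).map (s.Φ W))) from isIso_of_reflects_iso _ (sheafToPresheaf _ _)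
  rw [NatTrans.isIso_iff_isIso_app]
  rintro ⟨V⟩
  let W' := ((s.hF.sheafPushforwardContinuous AddCommGrpCat.{u} TG TF).obj W).obj
  have hlim := Functor.isPointwiseRightKanExtensionRanCounit s.bF.op W' (op ((FibDesc.eps F).obj V))
  have hπ : IsIso (((s.bF.op.ran.obj W').map (s.β.app ((FibDesc.eps F).obj V)).op) ≫
      (s.bF.op.ranCounit.app W').app (op (s.dF.obj ((FibDesc.eps F).obj V)))) := by
    have h := limitOfDiagramInitial (s.universalArrowInitial V)
      (StructuredArrow.proj (op ((FibDesc.eps F).obj V)) s.bF.op ⋙ W')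
    have e := hlim.conePointUniqueUpToIso_hom_comp h (s.universalArrow V)
    have hid : (coneOfDiagramInitial (s.universalArrowInitial V)
        (StructuredArrow.proj (op ((FibDesc.eps F).obj V)) s.bF.op ⋙ W')).π.app (s.universalArrow V) = 𝟙 _ := by
      simp [(s.universalArrowInitial V).hom_ext ((s.universalArrowInitial V).to _) (𝟙 _)]
    rw [hid] at e
    erw [Category.comp_id] at e
    exact (congrArg (fun t => IsIso t) e).mp inferInstance
  have he : IsIso (W.obj.map (s.dh.inv.app ((FibDesc.eps F).obj V)).op) := inferInstance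
  have key : ((sheafToPresheaf _ _).map ((FibSite.restr F (FibDesc.topAugTop Y) AddCommGrpCat.{u} (FibDesc.bot D)).map (s.Φ W))).app (op V) =
      (((s.bF.op.ran.obj W').map (s.β.app ((FibDesc.eps F).obj V)).op) ≫
        (s.bF.op.ranCounit.app W').app (op (s.dF.obj ((FibDesc.eps F).obj V)))) ≫
          W.obj.map (s.dh.inv.app ((FibDesc.eps F).obj V)).op := by
    have hc := s.bF.sheafAdjunctionCocontinuous_counit_app_hom AddCommGrpCat.{u} TG TF
      ((s.hF.sheafPushforwardContinuous AddCommGrpCat.{u} TG TF).obj W)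
    rw [Functor.ranAdjunction_counit] at hc
    simp only [Category.assoc]
    rw [← hc]
    rfl
  rw [key]
  exact IsIso.comp_isIso

lemma Split.bijective_comp_Φ (M₀ : FibDesc.BaseSh F (FibDesc.topAugTop Y) AddCommGrpCat.{u}) (W : (Sheaf TF AddCommGrpCat.{u})) :
    Function.Bijective fun x : (FibSite.extend F (FibDesc.topAugTop Y) AddCommGrpCat.{u} (FibDesc.bot D)).obj M₀ ⟶ (s.bF.sheafPushforwardCocontinuous AddCommGrpCat.{u} TG TF).obj
      ((s.hF.sheafPushforwardContinuous AddCommGrpCat.{u} TG TF).obj W) => x ≫ s.Φ W := by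
  let adj := (FibDesc.eps F).sheafAdjunctionContinuous AddCommGrpCat.{u}
    (FibDesc.topAugTop Y (FibDesc.bot D)) TF
  have := s.isIso_restr_Φ W
  rw [← Function.Bijective.of_comp_iff' (adj.homEquiv M₀ W).bijective]
  have e : (adj.homEquiv M₀ W) ∘ (fun x => x ≫ s.Φ W) =
      (fun x => x ≫ (FibSite.restr F (FibDesc.topAugTop Y) AddCommGrpCat.{u} (FibDesc.bot D)).map (s.Φ W)) ∘ (adj.homEquiv M₀ _) := by
    funext x
    exact adj.homEquiv_naturality_right x _
  rw [e]
  refine Function.Bijective.comp ⟨fun x y h => (cancel_mono _).1 h, fun y => ⟨y ≫ inv ((FibSite.restr F (FibDesc.topAugTop Y) AddCommGrpCat.{u} (FibDesc.bot D)).map (s.Φ W)), ?_⟩⟩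
    (adj.homEquiv M₀ _).bijective
  simp

lemma Split.isIso_ψ (M₀ : FibDesc.BaseSh F (FibDesc.topAugTop Y) AddCommGrpCat.{u}) :
    IsIso (s.ψ.app ((FibSite.extend F (FibDesc.topAugTop Y) AddCommGrpCat.{u} (FibDesc.bot D)).obj M₀)) := by
  refine (isIso_iff_coyoneda_map_bijective _).2 fun W => ?_
  let aH := s.hF.sheafAdjunctionContinuous AddCommGrpCat.{u} TG TF
  let aB := s.bF.sheafAdjunctionCocontinuous AddCommGrpCat.{u} TG TF
  have e : (fun g : s.T'.obj ((FibSite.extend F (FibDesc.topAugTop Y) AddCommGrpCat.{u} (FibDesc.bot D)).obj M₀) ⟶ W => s.ψ.app ((FibSite.extend F (FibDesc.topAugTop Y) AddCommGrpCat.{u} (FibDesc.bot D)).obj M₀) ≫ g) =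
      (fun x => x ≫ s.Φ W) ∘ ((aH.homEquiv _ W).trans (aB.homEquiv _ _)) := by
    funext g
    exact mate_comp aH s.β' s.e' aB _ W g
  show Function.Bijective (fun g : s.T'.obj ((FibSite.extend F (FibDesc.topAugTop Y) AddCommGrpCat.{u} (FibDesc.bot D)).obj M₀) ⟶ W => s.ψ.app ((FibSite.extend F (FibDesc.topAugTop Y) AddCommGrpCat.{u} (FibDesc.bot D)).obj M₀) ≫ g)
  rw [e]
  exact (s.bijective_comp_Φ M₀ W).comp (Equiv.bijective _)

/-- The functor back to the base. -/
noncomputable abbrev Split.R : (Sheaf TP AddCommGrpCat.{u}) ⥤ FibDesc.BaseSh F (FibDesc.topAugTop Y) AddCommGrpCat.{u} :=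
  s.Tplus ⋙ (FibSite.restr F (FibDesc.topAugTop Y) AddCommGrpCat.{u} (FibDesc.bot D))

/-- The comparison functor. -/
noncomputable abbrev Split.T : (Sheaf TP AddCommGrpCat.{u}) ⥤ (Sheaf TP AddCommGrpCat.{u}) :=
  s.Tplus ⋙ (FibDesc.incl F).sheafPushforwardContinuous AddCommGrpCat.{u} TP TF


/-- `pull ⋙ R ≅ 𝟭`. -/
noncomputable def Split.c : (FibDesc.pull F (FibDesc.topAugTop Y) AddCommGrpCat.{u}) ⋙ s.R ≅ 𝟭 _ :=
  let adj := (FibDesc.eps F).sheafAdjunctionContinuous AddCommGrpCat.{u}
    (FibDesc.topAugTop Y (FibDesc.bot D)) TF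
  NatIso.ofComponents (fun M₀ =>
    haveI := s.isIso_ψ M₀
    (asIso ((FibSite.restr F (FibDesc.topAugTop Y) AddCommGrpCat.{u} (FibDesc.bot D)).map (s.ψ.app ((FibSite.extend F (FibDesc.topAugTop Y) AddCommGrpCat.{u} (FibDesc.bot D)).obj M₀)))).symm ≪≫ (asIso (adj.unit.app M₀)).symm)
    (fun {M N} f => by
      have := s.isIso_ψ M
      have := s.isIso_ψ N
      dsimp
      rw [Category.assoc, IsIso.eq_inv_comp]
      have h1 := congrArg (FibSite.restr F (FibDesc.topAugTop Y) AddCommGrpCat.{u} (FibDesc.bot D)).map (s.ψ.naturality ((FibSite.extend F (FibDesc.topAugTop Y) AddCommGrpCat.{u} (FibDesc.bot D)).map f))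
      have h2 := adj.unit.naturality f
      simp only [Functor.map_comp, Functor.id_map, Functor.comp_map] at h1 h2
      erw [← reassoc_of% h1]
      simp only [IsIso.hom_inv_id_assoc, IsIso.eq_inv_comp]
      erw [← reassoc_of% h2, IsIso.hom_inv_id, Category.comp_id])

/-- `β` on sheaves on the part. -/
noncomputable def Split.β₀' : 𝟭 (Sheaf TP AddCommGrpCat.{u}) ⟶ s.b₀.sheafPushforwardContinuous AddCommGrpCat.{u} TG TP ⋙
    (Functor.sheafPushforwardContinuous (Split.dF s) AddCommGrpCat.{u} TF TG) ⋙ (FibDesc.incl F).sheafPushforwardContinuous AddCommGrpCat.{u} TP TF where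
  app M := ⟨Functor.whiskerRight (NatTrans.op s.β₀) M.obj⟩
  naturality M N f := by
    apply Sheaf.hom_ext
    apply NatTrans.ext
    funext X
    exact (f.hom.naturality _).symm

/-- `a`. -/
noncomputable def Split.a : 𝟭 (Sheaf TP AddCommGrpCat.{u}) ⟶ s.T :=
  mateThrough (s.hF.sheafAdjunctionContinuous AddCommGrpCat.{u} TG TF) s.e' s.β₀'

lemma Split.a_incl (M : (Sheaf TF AddCommGrpCat.{u})) :
    s.a.app (((FibDesc.incl F).sheafPushforwardContinuous AddCommGrpCat.{u} TP TF).obj M) =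
      ((FibDesc.incl F).sheafPushforwardContinuous AddCommGrpCat.{u} TP TF).map (s.ψ.app M) := by
  have e : s.β₀'.app (((FibDesc.incl F).sheafPushforwardContinuous AddCommGrpCat.{u} TP TF).obj M) =
      ((FibDesc.incl F).sheafPushforwardContinuous AddCommGrpCat.{u} TP TF).map (s.β'.app M) := by
    apply Sheaf.hom_ext
    apply NatTrans.ext
    funext X
    exact congrArg (fun t => M.obj.map (Quiver.Hom.op t)) (s.incl_map_β₀ X.unop)
  show _ ≫ _ = _
  rw [e, ← Functor.map_comp]
  rfl

/-- `b`. -/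
noncomputable def Split.b : s.R ⋙ (FibDesc.pull F (FibDesc.topAugTop Y) AddCommGrpCat.{u}) ⟶ s.T :=
  Functor.whiskerLeft s.Tplus (Functor.whiskerRight
    ((FibDesc.eps F).sheafAdjunctionContinuous AddCommGrpCat.{u} (FibDesc.topAugTop Y (FibDesc.bot D)) TF).counit
    ((FibDesc.incl F).sheafPushforwardContinuous AddCommGrpCat.{u} TP TF))

lemma Split.isIso_a (M₀) : IsIso (s.a.app ((FibDesc.pull F (FibDesc.topAugTop Y) AddCommGrpCat.{u}).obj M₀)) := by
  have := s.isIso_ψ M₀
  rw [show (FibDesc.pull F (FibDesc.topAugTop Y) AddCommGrpCat.{u}).obj M₀ = _ from rfl]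
  erw [s.a_incl ((FibSite.extend F (FibDesc.topAugTop Y) AddCommGrpCat.{u} (FibDesc.bot D)).obj M₀)]
  infer_instance

lemma Split.isIso_b (M₀) : IsIso (s.b.app ((FibDesc.pull F (FibDesc.topAugTop Y) AddCommGrpCat.{u}).obj M₀)) := by
  have := s.isIso_ψ M₀
  let adj := (FibDesc.eps F).sheafAdjunctionContinuous AddCommGrpCat.{u}
    (FibDesc.topAugTop Y (FibDesc.bot D)) TF
  have h0 : IsIso (adj.counit.app ((FibSite.extend F (FibDesc.topAugTop Y) AddCommGrpCat.{u} (FibDesc.bot D)).obj M₀)) := by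
    have := adj.left_triangle_components M₀
    exact IsIso.of_isIso_fac_left this
  have h1 : IsIso (adj.counit.app (s.T'.obj ((FibSite.extend F (FibDesc.topAugTop Y) AddCommGrpCat.{u} (FibDesc.bot D)).obj M₀))) :=
    (NatTrans.isIso_app_iff_of_iso adj.counit (asIso (s.ψ.app ((FibSite.extend F (FibDesc.topAugTop Y) AddCommGrpCat.{u} (FibDesc.bot D)).obj M₀)))).1 h0
  show IsIso (((FibDesc.incl F).sheafPushforwardContinuous AddCommGrpCat.{u} TP TF).map
    (adj.counit.app (s.T'.obj ((FibSite.extend F (FibDesc.topAugTop Y) AddCommGrpCat.{u} (FibDesc.bot D)).obj M₀))))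
  infer_instance

instance : PreservesFiniteLimits (s.hF.sheafPullback AddCommGrpCat.{u} TG TF) :=
  Functor.sheafPullbackConstruction.preservesFiniteLimits.{u, u, u, u + 1, u, u} s.hF AddCommGrpCat.{u} TG TF

section Derived

attribute [local instance] HasDerivedCategory.standard

include s in
/-- A split augmented space is of cohomological descent. -/
theorem Split.isCohDescentTop : FibDesc.IsCohDescentTop Y := by
  have hb : Functor.IsLeftAdjoint (s.b₀.sheafPushforwardContinuous AddCommGrpCat.{u} TG TP) :=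
    (s.b₀.sheafAdjunctionCocontinuous AddCommGrpCat.{u} TG TP).isLeftAdjoint
  have hi : Functor.IsLeftAdjoint ((FibDesc.incl F).sheafPushforwardContinuous AddCommGrpCat.{u} TP TF) :=
    ((FibDesc.incl F).sheafAdjunctionCocontinuous AddCommGrpCat.{u} TP TF).isLeftAdjoint
  have hr : Functor.IsLeftAdjoint (FibSite.restr F (FibDesc.topAugTop Y) AddCommGrpCat.{u} (FibDesc.bot D)) :=
    ((FibDesc.eps F).sheafAdjunctionCocontinuous AddCommGrpCat.{u} (FibDesc.topAugTop Y (FibDesc.bot D)) TF).isLeftAdjoint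
  have hh : Functor.IsLeftAdjoint (s.hF.sheafPullback AddCommGrpCat.{u} TG TF) :=
    (s.hF.sheafAdjunctionContinuous AddCommGrpCat.{u} TG TF).isLeftAdjoint
  have : Functor.IsRightAdjoint (FibSite.restr F (FibDesc.topAugTop Y) AddCommGrpCat.{u} (FibDesc.bot D)) := inferInstance
  have : PreservesFiniteLimits s.Tplus := comp_preservesFiniteLimits _ _
  have : PreservesFiniteColimits s.Tplus := comp_preservesFiniteColimits _ _
  have : PreservesFiniteLimits s.R := comp_preservesFiniteLimits _ _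
  have : PreservesFiniteColimits s.R := comp_preservesFiniteColimits _ _
  have : PreservesFiniteLimits s.T := comp_preservesFiniteLimits _ _
  have : PreservesFiniteColimits s.T := comp_preservesFiniteColimits _ _
  have : s.R.Additive := Functor.additive_of_preserves_binary_products _
  have : s.T.Additive := Functor.additive_of_preserves_binary_products _
  exact isCohDescentTop_of_bijective Y fun K L =>
    DerivedFF.bijective_map (FibDesc.pull F (FibDesc.topAugTop Y) AddCommGrpCat.{u}) s.R s.T s.c s.a s.b s.isIso_a s.isIso_b K.obj L.obj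

end Derived

end Groth.Misc4.FibDescSplit
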