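import Groth.Agent.Misc4.FibSiteSummand
import Mathlib.CategoryTheory.Extensive
import Mathlib.CategoryTheory.Limits.Constructions.LimitsOfProductsAndEqualizers

/-! A cartesian functor inducing a morphism of total sites is a morphism of sites on each fibre. -/

universe v₃ u₃ v₂ u₂ v₁ u₁ w u

open CategoryTheory CategoryTheory.Limits CategoryTheory.Bicategory Opposite Pseudofunctor Pseudofunctor.CoGrothendieck
open scoped CategoryTheory.Pseudofunctor.StrongTrans

namespace Groth.Misc4.FibSiteConverse

open Groth.Misc4.FibSiteTot Groth.Misc4.FibSiteKan Groth.Misc4.FibSiteSummand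

set_option backward.defeqAttrib.useBackward true
set_option backward.isDefEq.respectTransparency false

/-- A functor preserving binary coproducts between extensive categories preserves pullbacks along
the inclusion of a summand. -/
lemma map_isPullback_summand {C : Type*} [Category C] [FinitaryExtensive C] [HasPullbacks C]
    {D : Type*} [Category D] [FinitaryExtensive D] (Φ : C ⥤ D)
    [PreservesColimitsOfShape (Discrete WalkingPair) Φ] {A B K : C} {e : A ⟶ K} {k : B ⟶ K}
    (hc : IsColimit (BinaryCofan.mk e k)) {P X : C} {fst : P ⟶ X} {snd : P ⟶ A} {g : X ⟶ K}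
    (h : IsPullback fst snd g e) : IsPullback (Φ.map fst) (Φ.map snd) (Φ.map g) (Φ.map e) := by
  obtain ⟨htop⟩ := (((BinaryCofan.isVanKampen_iff _).1 (FinitaryExtensive.vanKampen _ hc)) (BinaryCofan.mk fst (pullback.fst g k)) snd (pullback.snd g k) g h.w.symm
    pullback.condition.symm).2 ⟨h, IsPullback.of_hasPullback g k⟩
  have hc' := isColimitMapCoconeBinaryCofanEquiv Φ _ _ (isColimitOfPreserves Φ hc)
  have htop' := isColimitMapCoconeBinaryCofanEquiv Φ _ _ (isColimitOfPreserves Φ htop)
  exact ((((BinaryCofan.isVanKampen_iff _).1 (FinitaryExtensive.vanKampen _ hc')) _ (Φ.map snd) (Φ.map (pullback.snd g k)) (Φ.map g)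
    (by exact (Φ.map_comp _ _).symm.trans ((congrArg _ h.w.symm).trans (Φ.map_comp _ _)))
    (by exact (Φ.map_comp _ _).symm.trans ((congrArg _ pullback.condition.symm).trans (Φ.map_comp _ _)))).1 ⟨htop'⟩).1

variable {𝒮 : Type u} [SmallCategory 𝒮] {F G : Pseudofunctor (LocallyDiscrete 𝒮ᵒᵖ) Cat.{u, u}}

/-- The two composites of left Kan extensions from a fibre of `G` to the total category of `F`. -/
noncomputable def lanCompIso (α : G ⟶ F) (S : 𝒮) :
    (α.app ⟨op S⟩).toFunctor.op.lan ⋙ (ι F S).op.lan (H := Type u) ≅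
      (ι G S).op.lan ⋙ (CoGrothendieck.map α).op.lan :=
  (((α.app ⟨op S⟩).toFunctor.op.lanAdjunction (Type u)).comp ((ι F S).op.lanAdjunction (Type u))).leftAdjointUniq
    ((((ι G S).op.lanAdjunction (Type u)).comp ((CoGrothendieck.map α).op.lanAdjunction (Type u))).ofNatIsoRight
      ((Functor.whiskeringLeft _ _ (Type u)).mapIso (NatIso.op (ιMapIso α S)).symm))

variable {J : FibSite.Topologies F} {K : FibSite.Topologies G}

local notation "Tot" => FibSite.totalTopology

/-- Continuity on the total sites gives continuity on each fibre. -/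
theorem isContinuous_fibre (hF : FibSite.IsPreFibSite F J) (hG : FibSite.IsPreFibSite G K) (α : G ⟶ F)
    (S : 𝒮) [(CoGrothendieck.map α).IsContinuous (Tot G K) (Tot F J)] :
    (α.app ⟨op S⟩).toFunctor.IsContinuous (K S) (J S) where
  op_comp_isSheaf_of_types H := by
    refine Presieve.IsSheaf.comp_of_W_map_of_adjunction _
      ((α.app ⟨op S⟩).toFunctor.op.lanAdjunction (Type u)) (fun X R hR => ?_) _
        ((isSheaf_iff_isSheaf_of_type _ _).1 H.property)
    apply W_of_W_lan_map hF
    have h := Functor.W_map_of_adjunction_of_isContinuous (Tot G K) (Tot F J) (CoGrothendieck.map α) _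
      ((CoGrothendieck.map α).op.lanAdjunction (Type u)) _
      (W_lan_map_of_W hG _ (Sieve.W_shrinkFunctor_ι_of_mem (K S) R hR))
    exact ((Tot F J).W.arrow_mk_iso_iff
      (((Functor.mapArrowFunctor _ _).mapIso (lanCompIso α S)).app (Arrow.mk _))).2 h

variable (α : G ⟶ F) (S : 𝒮)

/-- Left Kan extension along a fibre functor followed by sheafification. -/
noncomputable abbrev Φ (J : FibSite.Topologies F) : ((G.obj ⟨op S⟩)ᵒᵖ ⥤ Type u) ⥤ Sheaf (J S) (Type u) :=
  (α.app ⟨op S⟩).toFunctor.op.lan ⋙ presheafToSheaf (J S) (Type u)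

/-- Restriction of presheaves to a fibre. -/
noncomputable abbrev restrP : ((∫ᶜ G)ᵒᵖ ⥤ Type u) ⥤ (G.obj ⟨op S⟩)ᵒᵖ ⥤ Type u :=
  (Functor.whiskeringLeft _ _ (Type u)).obj (ι G S).op

/-- Extension of presheaves along the total functor, then sheafification. -/
noncomputable def totPullbackIso [(CoGrothendieck.map α).IsContinuous (Tot G K) (Tot F J)] :
    (CoGrothendieck.map α).op.lan ⋙ presheafToSheaf (Tot F J) (Type u) ≅
      presheafToSheaf (Tot G K) (Type u) ⋙
        (CoGrothendieck.map α).sheafPullback (Type u) (Tot G K) (Tot F J) :=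
  (((CoGrothendieck.map α).op.lanAdjunction (Type u)).comp (sheafificationAdjunction _ _)).leftAdjointUniq
    (((sheafificationAdjunction _ _).comp
      ((CoGrothendieck.map α).sheafAdjunctionContinuous (Type u) (Tot G K) (Tot F J))).ofNatIsoRight
        ((CoGrothendieck.map α).sheafPushforwardContinuousCompSheafToPresheafIso (Type u) (Tot G K) (Tot F J)))

theorem preservesFiniteLimits_restrP_Φ (hF : FibSite.IsPreFibSite F J)
    [(CoGrothendieck.map α).IsContinuous (Tot G K) (Tot F J)]
    [PreservesFiniteLimits ((CoGrothendieck.map α).sheafPullback (Type u) (Tot G K) (Tot F J))] :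
    PreservesFiniteLimits (restrP S ⋙ Φ α S J) := by
  have := Groth.Misc4.FibSiteTot.isContinuous_ι hF S
  have : PreservesFiniteLimits ((CoGrothendieck.map α).op.lan ⋙ presheafToSheaf (Tot F J) (Type u)) :=
    have : PreservesFiniteLimits (presheafToSheaf (Tot G K) (Type u) ⋙
        (CoGrothendieck.map α).sheafPullback (Type u) (Tot G K) (Tot F J)) := comp_preservesFiniteLimits _ _
    preservesFiniteLimits_of_natIso (totPullbackIso (K := K) α).symm
  let e : restrP S ⋙ Φ α S J ≅ ((CoGrothendieck.map α).op.lan ⋙ presheafToSheaf (Tot F J) (Type u)) ⋙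
      (ι F S).sheafPushforwardContinuous (Type u) (J S) (Tot F J) :=
    (Functor.associator _ _ _).symm ≪≫ Functor.isoWhiskerRight (lanMapIso α S) _ ≪≫
      Functor.associator _ _ _ ≪≫
      Functor.isoWhiskerLeft _ (Groth.Misc4.FibSiteExact.restrSheafifyIso hF S) ≪≫
      (Functor.associator _ _ _).symm
  have := comp_preservesFiniteLimits ((CoGrothendieck.map α).op.lan ⋙ presheafToSheaf (Tot F J) (Type u))
    ((ι F S).sheafPushforwardContinuous (Type u) (J S) (Tot F J))
  exact preservesFiniteLimits_of_natIso e.symm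

/-- The constant presheaf with value `Hom(S, S)` on a fibre. -/
noncomputable abbrev K₀ : (G.obj ⟨op S⟩)ᵒᵖ ⥤ Type u := (ι G S).op ⋙ baseHom S

/-- The identity section. -/
noncomputable def e₀ : (Functor.const _).obj PUnit.{u + 1} ⟶ K₀ (G := G) S := idSection S _

/-- The other sections. -/
noncomputable def k₀ : (Functor.const _).obj {g : S ⟶ S // g ≠ 𝟙 S} ⟶ K₀ (G := G) S where
  app _ := ↾fun g => (g.1 : S ⟶ S)
  naturality {X Y} a := by ext g; simp [baseHom]

/-- The constant presheaf decomposes. -/
noncomputable def isColimit_K₀ : IsColimit (BinaryCofan.mk (e₀ (G := G) S) (k₀ (G := G) S)) :=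
  evaluationJointlyReflectsColimits _ fun V =>
    (isColimitMapCoconeBinaryCofanEquiv _ _ _).symm (((Types.binaryCofan_isColimit_iff _).2 ⟨
      fun _ _ _ => rfl, fun a b h => Subtype.ext h, by
        refine isCompl_iff.2 ⟨Set.disjoint_left.2 ?_, codisjoint_iff.2 (Set.eq_univ_of_forall fun g => ?_)⟩
        · rintro _ ⟨_, rfl⟩ ⟨g, hg⟩
          exact g.2 hg
        · by_cases hg : (g : S ⟶ S) = 𝟙 S
          · exact Or.inl ⟨PUnit.unit, hg.symm⟩
          · exact Or.inr ⟨⟨g, hg⟩, rfl⟩⟩).some)

/-- The unit identifies a presheaf with a fibre of its extension. -/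
lemma isPullback_η (P : (G.obj ⟨op S⟩)ᵒᵖ ⥤ Type u) :
    IsPullback (η (F := G) S P) ({ app := fun _ => ↾fun _ => PUnit.unit } : P ⟶ (Functor.const _).obj PUnit.{u + 1})
      (Functor.whiskerLeft (ι G S).op (baseMap S P)) (e₀ S) := by
  refine IsPullback.of_forall_isPullback_app fun V => (Types.isPullback_iff _ _ _ _).2
    ⟨?_, fun x y h => η_injective S P V.unop h.1, fun z _ hz => ?_⟩
  · ext p
    exact baseMap_η S P V p
  · obtain ⟨p, hp⟩ := exists_η S P z hz
    exact ⟨p, hp, rfl⟩

/-- The key exactness property. -/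
theorem preservesFiniteLimits_Φ (hF : FibSite.IsPreFibSite F J)
    [(CoGrothendieck.map α).IsContinuous (Tot G K) (Tot F J)]
    [PreservesFiniteLimits ((CoGrothendieck.map α).sheafPullback (Type u) (Tot G K) (Tot F J))] :
    PreservesFiniteLimits (Φ α S J) := by
  have hW := preservesFiniteLimits_restrP_Φ (K := K) α S hF
  have : PreservesColimitsOfSize.{0, 0} (Φ α S J) :=
    (((α.app ⟨op S⟩).toFunctor.op.lanAdjunction (Type u)).comp
      (sheafificationAdjunction (J S) (Type u))).leftAdjoint_preservesColimits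
  have hsum : ∀ {P X : (G.obj ⟨op S⟩)ᵒᵖ ⥤ Type u} {fst : P ⟶ X} {snd : P ⟶ _} {g : X ⟶ K₀ S},
      IsPullback fst snd g (e₀ S) → IsPullback ((Φ α S J).map fst) ((Φ α S J).map snd) ((Φ α S J).map g) ((Φ α S J).map (e₀ S)) :=
    fun h => map_isPullback_summand (Φ α S J) (isColimit_K₀ S) h
  have : PreservesLimitsOfShape (Discrete.{0} PEmpty) (Φ α S J) := by
    have h1 : IsTerminal ((restrP (G := G) S).obj (⊤_ _)) :=
      IsTerminal.isTerminalObj _ _ terminalIsTerminal
    have h2 : IsTerminal ((Φ α S J).obj ((restrP (G := G) S).obj (⊤_ _))) :=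
      IsTerminal.isTerminalObj (restrP S ⋙ Φ α S J) _ terminalIsTerminal
    have := preservesTerminal_of_iso (Φ α S J)
      ((Φ α S J).mapIso (terminalIsTerminal.uniqueUpToIso h1) ≪≫ h2.uniqueUpToIso terminalIsTerminal)
    exact preservesLimitsOfShape_pempty_of_preservesTerminal _
  have : PreservesLimitsOfShape WalkingCospan (Φ α S J) := by
    refine preservesLimitsOfShape_walkingCospan_of_forall_isPullback fun A B C f g _ =>
      ⟨_, _, _, IsPullback.of_hasPullback f g, ?_⟩
    let lan := (ι G S).op.lan (H := Type u)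
    let W := restrP (G := G) S
    let M := pullback (lan.map f) (lan.map g)
    have hM : IsPullback (pullback.fst (lan.map f) (lan.map g)) (pullback.snd _ _) (lan.map f) (lan.map g) :=
      IsPullback.of_hasPullback _ _
    have natη : ∀ {X Y : (G.obj ⟨op S⟩)ᵒᵖ ⥤ Type u} (φ : X ⟶ Y), φ ≫ η S Y = η S X ≫ W.map (lan.map φ) :=
      fun φ => (ι G S).op.lanUnit.naturality φ
    let bm := fun X => Functor.whiskerLeft (ι G S).op (baseMap (F := G) S X)
    have bm_nat : ∀ {X Y : (G.obj ⟨op S⟩)ᵒᵖ ⥤ Type u} (φ : X ⟶ Y), W.map (lan.map φ) ≫ bm Y = bm X :=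
      fun φ => (Functor.whiskerLeft_comp _ _ _).symm.trans (congrArg _ (baseMap_lan_map S φ))
    let pt : ∀ X : (G.obj ⟨op S⟩)ᵒᵖ ⥤ Type u, X ⟶ (Functor.const _).obj PUnit.{u + 1} :=
      fun X => { app := fun _ => ↾fun _ => PUnit.unit }
    have sq : ∀ {X Y : (G.obj ⟨op S⟩)ᵒᵖ ⥤ Type u} (φ : X ⟶ Y),
        IsPullback (η S X) φ (W.map (lan.map φ)) (η S Y) := fun {X Y} φ => by
      refine IsPullback.of_bot (v₂₁ := pt Y) ?_ (natη φ).symm (isPullback_η S Y)
      have e1 : φ ≫ pt Y = pt X := by ext; rfl
      rw [bm_nat φ, e1]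
      exact isPullback_η S X
    let P := pullback f g
    let m : P ⟶ W.obj M := (hM.map W).lift (pullback.fst f g ≫ η S A) (pullback.snd f g ≫ η S B) (by
      rw [Category.assoc, Category.assoc, ← natη, ← natη, pullback.condition_assoc])
    have hmA : IsPullback m (pullback.fst f g) (W.map (pullback.fst (lan.map f) (lan.map g))) (η S A) := by
      have s1 : IsPullback (pullback.snd f g ≫ η S B) (pullback.fst f g)
          (W.map (lan.map g)) (f ≫ η S C) :=
        (IsPullback.of_hasPullback f g).flip.paste_horiz (sq g)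
      refine IsPullback.of_right ?_ ((hM.map W).lift_fst _ _ _) (hM.map W).flip
      rw [← natη f, (hM.map W).lift_snd]
      exact s1
    have hm : IsPullback m (pullback.fst f g ≫ pt A)
        (W.map (pullback.fst (lan.map f) (lan.map g)) ≫ bm A) (e₀ S) :=
      hmA.paste_vert (isPullback_η S A)
    have hm' := hsum hm
    rw [Functor.map_comp, Functor.map_comp] at hm'
    have hA : ∀ {X Y : (G.obj ⟨op S⟩)ᵒᵖ ⥤ Type u} (φ : X ⟶ Y),
        IsPullback ((Φ α S J).map (η S X)) ((Φ α S J).map φ) ((Φ α S J).map (W.map (lan.map φ))) ((Φ α S J).map (η S Y)) := by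
      intro X Y φ
      refine IsPullback.of_bot ?_ ((((Φ α S J).map_comp _ _).symm.trans ((congrArg _ (natη φ).symm).trans ((Φ α S J).map_comp _ _))))
        (hsum (isPullback_η S Y))
      rw [← Functor.map_comp, ← Functor.map_comp, bm_nat φ]
      exact hsum (isPullback_η S X)
    have hmA' : IsPullback ((Φ α S J).map m) ((Φ α S J).map (pullback.fst f g))
        ((Φ α S J).map (W.map (pullback.fst (lan.map f) (lan.map g)))) ((Φ α S J).map (η S A)) :=
      IsPullback.of_bot hm' ((((Φ α S J).map_comp _ _).symm.trans ((congrArg _ hmA.w).trans ((Φ α S J).map_comp _ _))))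
        (hsum (isPullback_η S A))
    have hMΦ : IsPullback ((Φ α S J).map (W.map (pullback.fst (lan.map f) (lan.map g))))
        ((Φ α S J).map (W.map (pullback.snd (lan.map f) (lan.map g))))
        ((Φ α S J).map (W.map (lan.map f))) ((Φ α S J).map (W.map (lan.map g))) :=
      hM.map (W ⋙ Φ α S J)
    have big : IsPullback ((Φ α S J).map (pullback.snd f g ≫ η S B)) ((Φ α S J).map (pullback.fst f g))
        ((Φ α S J).map (W.map (lan.map g))) ((Φ α S J).map (f ≫ η S C)) := by
      have := hmA'.paste_horiz hMΦ.flip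
      rw [← Functor.map_comp, ← Functor.map_comp, ← natη f, (hM.map W).lift_snd] at this
      exact this
    rw [Functor.map_comp, Functor.map_comp] at big
    exact (IsPullback.of_right big (((Φ α S J).map_comp _ _).symm.trans ((congrArg _ pullback.condition.symm).trans ((Φ α S J).map_comp _ _))) (hA g)).flip
  exact preservesFiniteLimits_of_preservesTerminal_and_pullbacks _

/-- A cartesian functor inducing a morphism of total sites is a morphism of sites on each fibre. -/
theorem morphismOfSites_fibre (hF : FibSite.IsPreFibSite F J) (hG : FibSite.IsPreFibSite G K)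
    [(CoGrothendieck.map α).IsContinuous (Tot G K) (Tot F J)]
    [PreservesFiniteLimits ((CoGrothendieck.map α).sheafPullback (Type u) (Tot G K) (Tot F J))] :
    ∃ (_ : (α.app ⟨op S⟩).toFunctor.IsContinuous (K S) (J S))
      (_ : ((α.app ⟨op S⟩).toFunctor.sheafPushforwardContinuous (Type u) (K S) (J S)).IsRightAdjoint),
      PreservesFiniteLimits ((α.app ⟨op S⟩).toFunctor.sheafPullback (Type u) (K S) (J S)) := by
  have hc := isContinuous_fibre hF hG α S
  have := preservesFiniteLimits_Φ (K := K) α S hF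
  have : PreservesFiniteLimits (Functor.sheafPullbackConstruction.sheafPullback (α.app ⟨op S⟩).toFunctor (Type u) (K S) (J S)) :=
    comp_preservesFiniteLimits (sheafToPresheaf (K S) (Type u)) (Φ α S J)
  exact ⟨hc, inferInstance,
    preservesFiniteLimits_of_natIso (Functor.sheafPullbackConstruction.sheafPullbackIso (α.app ⟨op S⟩).toFunctor (Type u) (K S) (J S)).symm⟩

end Groth.Misc4.FibSiteConverse
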