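import Groth.Agent.Misc4.FibSiteKan
import Mathlib.CategoryTheory.Adjunction.FullyFaithful
import Mathlib.CategoryTheory.Adjunction.Triple
import Mathlib.CategoryTheory.Sites.LocallyBijective
import Mathlib.CategoryTheory.Limits.Types.Limits
import Mathlib.CategoryTheory.Limits.Types.Colimits

/-! Exactness properties of functors between total topoi of fibred sites. -/

universe v₃ u₃ v₂ u₂ v₁ u₁ w u

open CategoryTheory CategoryTheory.Limits CategoryTheory.Bicategory Opposite Pseudofunctor Pseudofunctor.CoGrothendieck
open scoped CategoryTheory.Pseudofunctor.StrongTrans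

namespace Groth.Misc4.FibSiteExact

open Groth.Misc4.FibSiteTot Groth.Misc4.FibSiteKan

set_option backward.defeqAttrib.useBackward true
set_option backward.isDefEq.respectTransparency false

/-- Preservation of limits is detected by a jointly conservative family. -/
lemma preservesLimitsOfShape_of_jointly {C : Type*} [Category C] {D : Type*} [Category D] {ι' : Type*}
    {E : ι' → Type*} [∀ j, Category (E j)] {K : Type*} [Category K] (L : C ⥤ D) (R : ∀ j, D ⥤ E j)
    [HasLimitsOfShape K D] [∀ j, PreservesLimitsOfShape K (R j)]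
    [∀ j, PreservesLimitsOfShape K (L ⋙ R j)]
    (hR : ∀ {X Y : D} (f : X ⟶ Y), (∀ j, IsIso ((R j).map f)) → IsIso f) :
    PreservesLimitsOfShape K L where
  preservesLimit {P} := ⟨fun {c} hc => by
    let t := limit.isLimit (P ⋙ L)
    let φ := t.lift (L.mapCone c)
    have : IsIso φ := hR φ fun j => by
      have h1 : IsLimit ((R j).mapCone (L.mapCone c)) := isLimitOfPreserves (L ⋙ R j) hc
      have h2 := isLimitOfPreserves (R j) t
      have e : (R j).map φ = (h1.conePointUniqueUpToIso h2).hom := by
        apply h2.hom_ext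
        intro k
        rw [IsLimit.conePointUniqueUpToIso_hom_comp]
        exact ((R j).map_comp _ _).symm.trans (congrArg _ (t.fac (L.mapCone c) k))
      rw [e]; infer_instance
    exact ⟨t.ofIsoLimit (Cone.ext (asIso φ) (fun k => (t.fac (L.mapCone c) k).symm)).symm⟩⟩

section

variable {𝒮 : Type u} [SmallCategory 𝒮] {F G : Pseudofunctor (LocallyDiscrete 𝒮ᵒᵖ) Cat.{u, u}}
  {J : FibSite.Topologies F} {K : FibSite.Topologies G}

local notation "Tot" => FibSite.totalTopology

/-- Restriction to a fibre commutes with sheafification. -/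
noncomputable def restrSheafifyIso (hF : FibSite.IsPreFibSite F J) (S : 𝒮)
    [(ι F S).IsContinuous (J S) (Tot F J)] :
    (Functor.whiskeringLeft _ _ (Type u)).obj (ι F S).op ⋙ presheafToSheaf (J S) (Type u) ≅
      presheafToSheaf (Tot F J) (Type u) ⋙ (ι F S).sheafPushforwardContinuous (Type u) (J S) (Tot F J) :=
  have := Groth.Misc4.FibSiteTot.isCocontinuous_ι hF S
  (ι F S).pushforwardContinuousSheafificationCompatibility (Type u) (J S) (Tot F J)

/-- The restrictions to the fibres are jointly conservative. -/
lemma isIso_of_restr [∀ S, (ι F S).IsContinuous (J S) (Tot F J)]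
    {P Q : Sheaf (Tot F J) (Type u)} (f : P ⟶ Q)
    (h : ∀ S, IsIso (((ι F S).sheafPushforwardContinuous (Type u) (J S) (Tot F J)).map f)) : IsIso f := by
  have : IsIso ((sheafToPresheaf _ _).map f) := by
    rw [NatTrans.isIso_iff_isIso_app]
    rintro ⟨⟨S, U⟩⟩
    have := h S
    exact (inferInstance : IsIso (((sheafToPresheaf _ _).map
      (((ι F S).sheafPushforwardContinuous (Type u) (J S) (Tot F J)).map f)).app (op U)))
  exact isIso_of_reflects_iso f (sheafToPresheaf _ _)

/-- Restriction to a fibre commutes with inverse images along a cartesian functor. -/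
noncomputable def restrPullbackIso (hF : FibSite.IsPreFibSite F J) (α : G ⟶ F) (S : 𝒮)
    [(CoGrothendieck.map α).IsContinuous (Tot G K) (Tot F J)]
    [(α.app ⟨op S⟩).toFunctor.IsContinuous (K S) (J S)]
    [(ι F S).IsContinuous (J S) (Tot F J)] [(ι G S).IsContinuous (K S) (Tot G K)] :
    (CoGrothendieck.map α).sheafPullback (Type u) (Tot G K) (Tot F J) ⋙
        (ι F S).sheafPushforwardContinuous (Type u) (J S) (Tot F J) ≅
      (ι G S).sheafPushforwardContinuous (Type u) (K S) (Tot G K) ⋙
        (α.app ⟨op S⟩).toFunctor.sheafPullback (Type u) (K S) (J S) :=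
  Functor.isoWhiskerRight (Functor.sheafPullbackConstruction.sheafPullbackIso _ _ _ _) _ ≪≫
    Functor.associator _ _ _ ≪≫
    Functor.isoWhiskerLeft (sheafToPresheaf _ _) (Functor.associator _ _ _ ≪≫
      Functor.isoWhiskerLeft _ (restrSheafifyIso hF S).symm ≪≫ (Functor.associator _ _ _).symm ≪≫
      Functor.isoWhiskerRight (lanMapIso α S).symm _ ≪≫ Functor.associator _ _ _) ≪≫
    (Functor.associator _ _ _).symm ≪≫
    Functor.isoWhiskerRight ((ι G S).sheafPushforwardContinuousCompSheafToPresheafIso (Type u) (K S) (Tot G K)).symm _ ≪≫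
    Functor.associator _ _ _ ≪≫
    Functor.isoWhiskerLeft _ (Functor.sheafPullbackConstruction.sheafPullbackIso _ _ _ _).symm

/-- A morphism of fibred sites induces a morphism of total sites. -/
theorem map_morphismOfSites (hF : FibSite.IsPreFibSite F J) (hG : FibSite.IsPreFibSite G K) (α : G ⟶ F)
    (hα : ∀ S : 𝒮, ∃ (_ : (α.app ⟨op S⟩).toFunctor.IsContinuous (K S) (J S))
      (_ : ((α.app ⟨op S⟩).toFunctor.sheafPushforwardContinuous (Type u) (K S) (J S)).IsRightAdjoint),
      PreservesFiniteLimits ((α.app ⟨op S⟩).toFunctor.sheafPullback (Type u) (K S) (J S))) :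
    ∃ (_ : (CoGrothendieck.map α).IsContinuous (Tot G K) (Tot F J))
      (_ : ((CoGrothendieck.map α).sheafPushforwardContinuous (Type u) (Tot G K) (Tot F J)).IsRightAdjoint),
      PreservesFiniteLimits ((CoGrothendieck.map α).sheafPullback (Type u) (Tot G K) (Tot F J)) := by
  have hιF := fun S => Groth.Misc4.FibSiteTot.isContinuous_ι hF S
  have hιG := fun S => Groth.Misc4.FibSiteTot.isContinuous_ι hG S
  have hc : (CoGrothendieck.map α).IsContinuous (Tot G K) (Tot F J) := by
    rw [isContinuous_total_iff hG]
    intro S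
    have := (hα S).1
    have := Functor.isContinuous_comp (α.app ⟨op S⟩).toFunctor (ι F S) (K S) (J S) (Tot F J)
    exact Functor.isContinuous_of_iso (ιMapIso α S).symm _ _
  refine ⟨hc, inferInstance, ⟨fun Kc _ _ => ?_⟩⟩
  have : ∀ S, PreservesLimitsOfShape Kc
      ((CoGrothendieck.map α).sheafPullback (Type u) (Tot G K) (Tot F J) ⋙
        (ι F S).sheafPushforwardContinuous (Type u) (J S) (Tot F J)) := by
    intro S
    obtain ⟨h1, h2, h3⟩ := hα S
    exact preservesLimitsOfShape_of_natIso (restrPullbackIso hF α S).symm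
  exact preservesLimitsOfShape_of_jointly _
    (fun S => (ι F S).sheafPushforwardContinuous (Type u) (J S) (Tot F J)) (fun f h => isIso_of_restr f h)

variable {i : 𝒮}

/-- Restriction of an extension from the fibre over a terminal object. -/
noncomputable def restrExtendIso (hF : FibSite.IsPreFibSite F J) (hi : IsTerminal i) {R : 𝒮} (f : R ⟶ i)
    [(ι F i).IsContinuous (J i) (Tot F J)] [(ι F R).IsContinuous (J R) (Tot F J)]
    [((ι F i).sheafPushforwardContinuous (Type u) (J i) (Tot F J)).IsRightAdjoint]
    [(FibSite.invImage F f).IsContinuous (J i) (J R)]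
    [((FibSite.invImage F f).sheafPushforwardContinuous (Type u) (J i) (J R)).IsRightAdjoint] :
    FibSite.extend F J (Type u) i ⋙ (ι F R).sheafPushforwardContinuous (Type u) (J R) (Tot F J) ≅
      (FibSite.invImage F f).sheafPullback (Type u) (J i) (J R) :=
  Functor.isoWhiskerRight (Functor.sheafPullbackConstruction.sheafPullbackIso _ _ _ _) _ ≪≫
    Functor.associator _ _ _ ≪≫
    Functor.isoWhiskerLeft (sheafToPresheaf _ _) (Functor.associator _ _ _ ≪≫
      Functor.isoWhiskerLeft _ (restrSheafifyIso hF R).symm ≪≫ (Functor.associator _ _ _).symm ≪≫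
      Functor.isoWhiskerRight (lanTerminalIso hi f).symm _ ≪≫
      Functor.isoWhiskerRight (Functor.isoWhiskerRight (Iso.refl (𝟭 _)) _ ≪≫ Functor.leftUnitor _) _) ≪≫
    (Functor.sheafPullbackConstruction.sheafPullbackIso _ _ _ _).symm

/-- Extension from the fibre over a terminal object preserves finite limits. -/
theorem preservesFiniteLimits_extend (hF : FibSite.IsFibSite F J) (hi : IsTerminal i)
    [(ι F i).IsContinuous (J i) (Tot F J)]
    [((ι F i).sheafPushforwardContinuous (Type u) (J i) (Tot F J)).IsRightAdjoint] :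
    PreservesFiniteLimits (FibSite.extend F J (Type u) i) := by
  have hι := fun S => Groth.Misc4.FibSiteTot.isContinuous_ι hF.isPreFibSite S
  refine ⟨fun Kc _ _ => ?_⟩
  have : ∀ S, PreservesLimitsOfShape Kc
      (FibSite.extend F J (Type u) i ⋙ (ι F S).sheafPushforwardContinuous (Type u) (J S) (Tot F J)) := by
    intro S
    obtain ⟨h1, h2, h3⟩ := hF (hi.from S)
    exact preservesLimitsOfShape_of_natIso (restrExtendIso hF.isPreFibSite hi (hi.from S)).symm
  exact preservesLimitsOfShape_of_jointly _
    (fun S => (ι F S).sheafPushforwardContinuous (Type u) (J S) (Tot F J)) (fun f h => isIso_of_restr f h)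

/-- Extension from the fibre over a terminal object is fully faithful. -/
theorem extend_full_faithful (hF : FibSite.IsPreFibSite F J) (hi : IsTerminal i)
    [(ι F i).IsContinuous (J i) (Tot F J)]
    [((ι F i).sheafPushforwardContinuous (Type u) (J i) (Tot F J)).IsRightAdjoint] :
    (FibSite.extend F J (Type u) i).Full ∧ (FibSite.extend F J (Type u) i).Faithful := by
  let h := fullyFaithful_ι (F := F) hi
  have := h.op.full
  have := h.op.faithful
  let e : FibSite.extend F J (Type u) i ⋙ FibSite.restr F J (Type u) i ≅ 𝟭 _ :=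
    Functor.isoWhiskerRight (Functor.sheafPullbackConstruction.sheafPullbackIso _ _ _ _) _ ≪≫
      Functor.associator _ _ _ ≪≫
      Functor.isoWhiskerLeft (sheafToPresheaf _ _) (Functor.associator _ _ _ ≪≫
        Functor.isoWhiskerLeft _ (restrSheafifyIso hF i).symm ≪≫ (Functor.associator _ _ _).symm ≪≫
        Functor.isoWhiskerRight (asIso ((ι F i).op.lanAdjunction (Type u)).unit).symm _ ≪≫
        Functor.leftUnitor _) ≪≫
      asIso (sheafificationAdjunction (J i) (Type u)).counit
  let adj := (ι F i).sheafAdjunctionContinuous (Type u) (J i) (Tot F J)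
  have : IsIso adj.unit := adj.isIso_unit_of_iso e
  let ff := adj.fullyFaithfulLOfIsIsoUnit
  exact ⟨ff.full, ff.faithful⟩

end

end Groth.Misc4.FibSiteExact
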