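import Groth.Agent.Misc4.FibSiteSummand
import Mathlib.CategoryTheory.Limits.Types.Coproducts
import Mathlib.CategoryTheory.Limits.Types.Products

/-! The restriction to one fibre of an extension from another fibre. -/

universe v₃ u₃ v₂ u₂ v₁ u₁ w u

open CategoryTheory CategoryTheory.Limits CategoryTheory.Bicategory Opposite Pseudofunctor Pseudofunctor.CoGrothendieck

namespace Groth.Misc4.FibSiteFibres

open Groth.Misc4.FibSiteTot Groth.Misc4.FibSiteSummand

set_option backward.defeqAttrib.useBackward true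
set_option backward.isDefEq.respectTransparency false

variable {𝒮 : Type u} [SmallCategory 𝒮] {F : Pseudofunctor (LocallyDiscrete 𝒮ᵒᵖ) Cat.{u, u}} {i j : 𝒮}
  (P : (F.obj ⟨op i⟩)ᵒᵖ ⥤ Type u)

lemma map_map_of_eq {C : Type*} [Category C] (Q : Cᵒᵖ ⥤ Type u) {X Y Z : C} (f : Y ⟶ X) (g : Z ⟶ Y)
    {h : Z ⟶ X} (e : g ≫ f = h) (x : Q.obj (op X)) :
    Q.map g.op (Q.map f.op x) = Q.map h.op x := by
  subst e; simp

/-- Elements of `P` restricted along cartesian morphisms. -/
noncomputable def cartMap (f : j ⟶ i) :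
    P ⟶ (FibSite.invImage F f).op ⋙ (ι F j).op ⋙ (ι F i).op.lan.obj P where
  app U := ↾fun p => ((ι F i).op.lan.obj P).map (cart f U.unop).op ((η i P).app U p)
  naturality {U V} a := by
    ext p
    have e : ((ι F i).op.lan.obj P).map ((ι F i).map a.unop).op ((η i P).app U p) = (η i P).app V (P.map a p) :=
      map_η i a.unop p
    simp only [types_comp_apply, Functor.comp_map, Functor.op_map, TypeCat.hom_ofHom, TypeCat.Fun.coe_mk]
    refine (congrArg _ e).symm.trans ?_
    exact (map_map_of_eq _ _ _ (cart_natural f a.unop).symm _).trans (map_map_of_eq _ _ _ rfl _).symm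

/-- The component of the coproduct decomposition. -/
noncomputable def σ (f : j ⟶ i) :
    (FibSite.invImage F f).op.lan.obj P ⟶ (ι F j).op ⋙ (ι F i).op.lan.obj P :=
  (((FibSite.invImage F f).op.lanAdjunction (Type u)).homEquiv _ _).symm (cartMap P f)

lemma σ_η (f : j ⟶ i) (U : (F.obj ⟨op i⟩)ᵒᵖ) (p : P.obj U) :
    (σ P f).app _ (((FibSite.invImage F f).op.lanUnit.app P).app U p) =
      ((ι F i).op.lan.obj P).map (cart f U.unop).op ((η i P).app U p) := by
  have h : ((FibSite.invImage F f).op.lanAdjunction (Type u)).homEquiv P _ (σ P f) = cartMap P f :=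
    Equiv.apply_symm_apply _ _
  rw [Adjunction.homEquiv_unit] at h
  simpa [cartMap] using congrArg (fun φ => φ.app U p) h

lemma σ_map_η (f : j ⟶ i) {V : F.obj ⟨op j⟩} {U : F.obj ⟨op i⟩} (a : V ⟶ (FibSite.invImage F f).obj U)
    (p : P.obj (op U)) :
    (σ P f).app (op V) (((FibSite.invImage F f).op.lan.obj P).map a.op
        (((FibSite.invImage F f).op.lanUnit.app P).app (op U) p)) =
      ((ι F i).op.lan.obj P).map (mkHom (X := (ι F j).obj V) (Y := (ι F i).obj U) f a).op ((η i P).app (op U) p) := by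
  refine (NatTrans.naturality_apply (σ P f) a.op _).trans ?_
  refine (congrArg _ (σ_η P f (op U) p)).trans ?_
  exact map_map_of_eq _ _ _ (ι_comp_cart f a) _

lemma exists_rep' (f : j ⟶ i) {V : F.obj ⟨op j⟩}
    (z : ((FibSite.invImage F f).op.lan.obj P).obj (op V)) :
    ∃ (U : F.obj ⟨op i⟩) (a : V ⟶ (FibSite.invImage F f).obj U) (p : P.obj (op U)),
      ((FibSite.invImage F f).op.lan.obj P).map a.op (((FibSite.invImage F f).op.lanUnit.app P).app (op U) p) = z := by
  obtain ⟨k, p, rfl⟩ := Types.jointly_surjective _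
    (Functor.isPointwiseLeftKanExtensionOfIsLeftKanExtension _ ((FibSite.invImage F f).op.lanUnit.app P) (op V)) z
  exact ⟨k.left.unop, k.hom.unop, p, rfl⟩

lemma bijective_sigma (V : F.obj ⟨op j⟩) :
    Function.Bijective fun x : Σ f : j ⟶ i, ((FibSite.invImage F f).op.lan.obj P).obj (op V) =>
      (σ P x.1).app (op V) x.2 := by
  let E := Functor.LeftExtension.mk _ (η i P)
  have hE : E.IsPointwiseLeftKanExtensionAt (op ((ι F j).obj V)) :=
    Functor.isPointwiseLeftKanExtensionOfIsLeftKanExtension _ (η i P) _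
  let val : ∀ {U : F.obj ⟨op i⟩} (_ : (ι F j).obj V ⟶ (ι F i).obj U), P.obj (op U) →
      Σ f : j ⟶ i, ((FibSite.invImage F f).op.lan.obj P).obj (op V) :=
    fun {U} g p => ⟨g.base, ((FibSite.invImage F (R := j) (S := i) g.base).op.lan.obj P).map g.fiber.op
      (((FibSite.invImage F (R := j) (S := i) g.base).op.lanUnit.app P).app (op U) p)⟩
  have hval : ∀ {U U' : F.obj ⟨op i⟩} (g : (ι F j).obj V ⟶ (ι F i).obj U) (h : U ⟶ U') (p : P.obj (op U')),
      val (g ≫ (ι F i).map h) p = val g (P.map h.op p) := by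
    rintro U U' ⟨f, a⟩ h p
    have e := comp_ι (X := (ι F j).obj V) (S := i) f a h
    change val (mkHom (X := (ι F j).obj V) (Y := (ι F i).obj U) f a ≫ (ι F i).map h) p = _
    rw [e]
    simp only [val, mkHom]
    congr 1
    rw [op_comp, Functor.map_comp_apply]
    congr 1
    exact (NatTrans.naturality_apply ((FibSite.invImage F f).op.lanUnit.app P) h.op p).symm
  let c : Cocone (CostructuredArrow.proj (ι F i).op (op ((ι F j).obj V)) ⋙ P) :=
    { pt := Σ f : j ⟶ i, ((FibSite.invImage F f).op.lan.obj P).obj (op V)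
      ι :=
        { app := fun k => ↾fun p => val k.hom.unop p
          naturality := fun k l φ => by
            ext p
            change val l.hom.unop (P.map φ.left p) = val k.hom.unop p
            have hw : l.hom.unop ≫ (ι F i).map φ.left.unop = k.hom.unop :=
              congrArg Quiver.Hom.unop (CostructuredArrow.w φ)
            exact ((congrArg (fun g => val g p) hw.symm).trans (hval _ _ p)).symm } }
  have key : ∀ (f : j ⟶ i) (z : ((FibSite.invImage F f).op.lan.obj P).obj (op V)),
      hE.desc c ((σ P f).app (op V) z) = ⟨f, z⟩ := by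
    intro f z
    obtain ⟨U, a, p, rfl⟩ := exists_rep' P f z
    rw [σ_map_η]
    exact congrArg (fun φ => φ p) (hE.fac c (CostructuredArrow.mk (Y := op U)
      (mkHom (X := (ι F j).obj V) (Y := (ι F i).obj U) f a).op))
  refine ⟨fun x y h => ?_, fun z => ?_⟩
  · exact (key x.1 x.2).symm.trans ((congrArg _ h).trans (key y.1 y.2))
  · obtain ⟨U, g, p, rfl⟩ := exists_rep i P (X := (ι F j).obj V) z
    exact ⟨val g p, σ_map_η P g.base g.fiber p⟩

/-- The coproduct decomposition on presheaves. -/
noncomputable def isColimitσ :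
    IsColimit (Cofan.mk ((ι F j).op ⋙ (ι F i).op.lan.obj P) (fun f : j ⟶ i => σ P f)) :=
  evaluationJointlyReflectsColimits _ fun V => by
    refine (isColimitMapCoconeCofanMkEquiv _ _ _).symm ?_
    exact Nonempty.some (CategoryTheory.Limits.Cofan.nonempty_isColimit_iff_bijective_fromSigma _ |>.2 (bijective_sigma P V.unop))

variable {J : FibSite.Topologies F}

local notation "Tot" => FibSite.totalTopology

/-- The restriction to a fibre of an extension from another fibre is a coproduct of inverse images. -/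
theorem restr_extend_iso_sigmaObj (hF : FibSite.IsPreFibSite F J) (i j : 𝒮)
    [∀ S : 𝒮, (ι F S).IsContinuous (J S) (Tot F J)]
    [((ι F i).sheafPushforwardContinuous (Type u) (J i) (Tot F J)).IsRightAdjoint]
    [∀ (R S : 𝒮) (f : R ⟶ S), (FibSite.invImage F f).IsContinuous (J S) (J R)]
    [∀ (R S : 𝒮) (f : R ⟶ S),
      ((FibSite.invImage F f).sheafPushforwardContinuous (Type u) (J S) (J R)).IsRightAdjoint]
    (a : Sheaf (J i) (Type u)) :
    ∃ c : Cofan fun f : j ⟶ i => ((FibSite.invImage F f).sheafPullback (Type u) (J i) (J j)).obj a,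
      Nonempty (IsColimit c) ∧
        Nonempty (c.pt ≅ (FibSite.restr F J (Type u) j).obj ((FibSite.extend F J (Type u) i).obj a)) := by
  let L := presheafToSheaf (J j) (Type u)
  have hc := isColimitMapCoconeCofanMkEquiv L _ _ (isColimitOfPreserves L (isColimitσ (i := i) (j := j) a.obj))
  let e : ∀ f : j ⟶ i, ((FibSite.invImage F f).sheafPullback (Type u) (J i) (J j)).obj a ≅
      L.obj ((FibSite.invImage F f).op.lan.obj a.obj) := fun f =>
    (Functor.sheafPullbackConstruction.sheafPullbackIso (FibSite.invImage F f) (Type u) (J i) (J j)).app a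
  refine ⟨Cofan.mk _ (fun f => (e f).hom ≫ L.map (σ a.obj f)),
    ⟨(IsColimit.precomposeInvEquiv (Discrete.natIso fun f => (e f.as).symm) _).symm hc |>.ofIsoColimit
      (Cocone.ext (Iso.refl _) (fun f => by simp))⟩, ⟨?_⟩⟩
  exact (Groth.Misc4.FibSiteExact.restrSheafifyIso hF j).app _ ≪≫
    ((ι F j).sheafPushforwardContinuous (Type u) (J j) (Tot F J)).mapIso
      ((Functor.sheafPullbackConstruction.sheafPullbackIso (ι F i) (Type u) (J i) (Tot F J)).app a).symm

section Coextend

variable (a : (F.obj ⟨op i⟩)ᵒᵖ ⥤ Type u) [∀ (P : (F.obj ⟨op i⟩)ᵒᵖ ⥤ Type u), (ι F i).op.HasPointwiseRightKanExtension P]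

/-- The component of the product decomposition. -/
noncomputable def π (f : i ⟶ j) :
    (ι F j).op ⋙ (ι F i).op.ran.obj a ⟶ (FibSite.invImage F f).op ⋙ a where
  app V := ↾fun x => ((ι F i).op.ranCounit.app a).app (op ((FibSite.invImage F f).obj V.unop))
    (((ι F i).op.ran.obj a).map (cart f V.unop).op x)
  naturality {V W} b := by
    ext x
    simp only [types_comp_apply, Functor.comp_map, Functor.op_map, TypeCat.hom_ofHom, TypeCat.Fun.coe_mk]
    refine Eq.trans ?_ (NatTrans.naturality_apply ((ι F i).op.ranCounit.app a)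
      ((FibSite.invImage F f).map b.unop).op _)
    show ((ι F i).op.ranCounit.app a).app (op ((FibSite.invImage F f).obj W.unop))
        (((ι F i).op.ran.obj a).map (cart f W.unop).op (((ι F i).op.ran.obj a).map ((ι F j).map b.unop).op x)) =
      ((ι F i).op.ranCounit.app a).app _ _
    refine congrArg _ ?_
    exact (map_map_of_eq ((ι F i).op.ran.obj a) (X := (ι F j).obj V.unop) _ _ (cart_natural f b.unop).symm x).trans
      (map_map_of_eq ((ι F i).op.ran.obj a) _ _ rfl x).symm

lemma bijective_pi (V : F.obj ⟨op j⟩) :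
    Function.Bijective fun (x : ((ι F i).op.ran.obj a).obj (op ((ι F j).obj V))) (f : i ⟶ j) =>
      (π a f).app (op V) x := by
  let E := Functor.RightExtension.mk _ ((ι F i).op.ranCounit.app a)
  have hE : E.IsPointwiseRightKanExtensionAt (op ((ι F j).obj V)) :=
    Functor.isPointwiseRightKanExtensionOfIsRightKanExtension _ ((ι F i).op.ranCounit.app a) _
  obtain hb := (Types.isLimit_iff_bijective_sectionOfCone _).1 ⟨hE⟩
  have hgen : ∀ {U : F.obj ⟨op i⟩} (g : (ι F i).obj U ⟶ (ι F j).obj V)
      (x : ((ι F i).op.ran.obj a).obj (op ((ι F j).obj V))),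
      ((ι F i).op.ranCounit.app a).app (op U) (((ι F i).op.ran.obj a).map g.op x) =
        a.map g.fiber.op ((π a (show i ⟶ j from g.base)).app (op V) x) := by
    rintro U ⟨f, b⟩ x
    refine Eq.trans ?_ (NatTrans.naturality_apply ((ι F i).op.ranCounit.app a) b.op _)
    refine congrArg _ ?_
    exact (map_map_of_eq ((ι F i).op.ran.obj a) _ _ (ι_comp_cart (S := j) f b) x).symm
  constructor
  · intro x y h
    apply hb.1
    apply Subtype.ext
    funext s
    change ((ι F i).op.ranCounit.app a).app s.right (((ι F i).op.ran.obj a).map s.hom x) =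
      ((ι F i).op.ranCounit.app a).app s.right (((ι F i).op.ran.obj a).map s.hom y)
    exact (hgen s.hom.unop x).trans ((congrArg _ (congrFun h _)).trans (hgen s.hom.unop y).symm)
  · intro d
    obtain ⟨x, hx⟩ := hb.2 ⟨fun s => a.map s.hom.unop.fiber.op (d (show i ⟶ j from s.hom.unop.base)), by
      intro s t φ
      have hw : (ι F i).map φ.right.unop ≫ s.hom.unop = t.hom.unop :=
        congrArg Quiver.Hom.unop (StructuredArrow.w φ)
      change a.map φ.right (a.map s.hom.unop.fiber.op _) = a.map t.hom.unop.fiber.op _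
      refine (map_map_of_eq a s.hom.unop.fiber φ.right.unop rfl _).trans ?_
      have e : (ι F i).map φ.right.unop ≫ s.hom.unop =
          mkHom (X := (ι F i).obj t.right.unop) (Y := (ι F j).obj V) s.hom.unop.base (φ.right.unop ≫ s.hom.unop.fiber) :=
        ι_comp (Y := (ι F j).obj V) φ.right.unop _ _
      exact congrArg (fun g : (ι F i).obj t.right.unop ⟶ (ι F j).obj V =>
        a.map g.fiber.op (d (show i ⟶ j from g.base))) (e.symm.trans hw)⟩
    refine ⟨x, funext fun f => ?_⟩
    have := congrArg (fun q => q.1 (StructuredArrow.mk (Y := op ((FibSite.invImage F f).obj V)) (cart f V).op)) hx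
    exact this.trans (by simp)

/-- The product decomposition on presheaves. -/
noncomputable def isLimitπ :
    IsLimit (Fan.mk ((ι F j).op ⋙ (ι F i).op.ran.obj a) (fun f : i ⟶ j => π a f)) :=
  evaluationJointlyReflectsLimits _ fun V => by
    refine (isLimitMapConeFanMkEquiv _ _ _).symm ?_
    refine Nonempty.some ((Types.isLimit_iff_bijective_sectionOfCone _).2 ⟨fun x y h => ?_, fun s => ?_⟩)
    · exact (bijective_pi a V.unop).1 (funext fun f => congrArg (fun q => q.1 ⟨f⟩) h)
    · obtain ⟨x, hx⟩ := (bijective_pi a V.unop).2 fun f => s.1 ⟨f⟩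
      exact ⟨x, Subtype.ext (funext fun f => congrFun hx f.as)⟩

end Coextend

/-- The restriction to a fibre of a coextension from another fibre is a product of direct images. -/
theorem restr_coextend_iso_piObj (i j : 𝒮)
    [∀ S : 𝒮, (ι F S).IsContinuous (J S) (Tot F J)]
    [(ι F i).IsCocontinuous (J i) (Tot F J)]
    [∀ (P : (F.obj ⟨op i⟩)ᵒᵖ ⥤ Type u), (ι F i).op.HasPointwiseRightKanExtension P]
    [∀ (R S : 𝒮) (f : R ⟶ S), (FibSite.invImage F f).IsContinuous (J S) (J R)]
    (a : Sheaf (J i) (Type u)) :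
    ∃ c : Fan fun f : i ⟶ j => ((FibSite.invImage F f).sheafPushforwardContinuous (Type u) (J j) (J i)).obj a,
      Nonempty (IsLimit c) ∧
        Nonempty (c.pt ≅ (FibSite.restr F J (Type u) j).obj ((FibSite.coextend F J (Type u) i).obj a)) := by
  let X := (FibSite.restr F J (Type u) j).obj ((FibSite.coextend F J (Type u) i).obj a)
  let c : Fan fun f : i ⟶ j => ((FibSite.invImage F f).sheafPushforwardContinuous (Type u) (J j) (J i)).obj a :=
    Fan.mk X fun f => (ObjectProperty.homMk (π a.obj f) : X ⟶ ((FibSite.invImage F f).sheafPushforwardContinuous (Type u) (J j) (J i)).obj a)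
  refine ⟨c, ⟨isLimitOfReflects (sheafToPresheaf _ _) ?_⟩, ⟨Iso.refl _⟩⟩
  exact (isLimitMapConeFanMkEquiv (sheafToPresheaf (J j) (Type u))
    (fun f : i ⟶ j => ((FibSite.invImage F f).sheafPushforwardContinuous (Type u) (J j) (J i)).obj a)
    (fun f => (ObjectProperty.homMk (π a.obj f) : X ⟶ ((FibSite.invImage F f).sheafPushforwardContinuous (Type u) (J j) (J i)).obj a))).symm (isLimitπ a.obj)

end Groth.Misc4.FibSiteFibres
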