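import Groth.Agent.Misc4.FibSiteTotal
import Mathlib.CategoryTheory.GuitartExact.Opposite
import Mathlib.CategoryTheory.GuitartExact.KanExtension

/-! Base change of left Kan extensions on the total category of a fibred category. -/

universe w v₃ u₃ v₂ u₂ v₁ u₁ u

open CategoryTheory CategoryTheory.Limits CategoryTheory.Bicategory Opposite Pseudofunctor Pseudofunctor.CoGrothendieck
open scoped CategoryTheory.Pseudofunctor.StrongTrans

namespace Groth.Misc4.FibSiteKan

open Groth.Misc4.FibSiteTot

set_option backward.defeqAttrib.useBackward true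
set_option backward.isDefEq.respectTransparency false

variable {𝒮 : Type u₁} [Category.{v₁} 𝒮] {F G : Pseudofunctor (LocallyDiscrete 𝒮ᵒᵖ) Cat.{v₂, u₂}}

/-- Morphisms out of a fibre factor uniquely through a cartesian morphism with the same base. -/
lemma existsUnique_factor {T : 𝒮} {V U : F.obj ⟨op T⟩} {Y : ∫ᶜ F} (g : (ι F T).obj V ⟶ Y)
    (c : (ι F T).obj U ⟶ Y) [IsIso c.fiber] (hb : c.base = g.base) :
    ∃! h : V ⟶ U, (ι F T).map h ≫ c = g := by
  obtain ⟨f, a⟩ := g
  obtain ⟨f', a'⟩ := c
  obtain rfl : f' = f := hb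
  have : IsIso a' := ‹_›
  refine ⟨a ≫ inv a', ?_, fun h hh => ?_⟩
  · exact (ι_comp (Y := Y) _ f' a').trans
      (Hom.ext _ _ rfl (by simp))
  · have := Hom.congr ((ι_comp (Y := Y) h f' a').symm.trans hh)
    simp only [mkHom, eqToHom_refl, Category.comp_id] at this
    exact (IsIso.eq_comp_inv _).2 this

lemma base_ι_comp {T : 𝒮} {V U : F.obj ⟨op T⟩} {Y : ∫ᶜ F} (h : V ⟶ U) (c : (ι F T).obj U ⟶ Y) :
    ((ι F T).map h ≫ c).base = c.base := by
  simp

variable (α : G ⟶ F)

/-- The two ways from a fibre of `G` to the total category of `F`. -/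
def ιMapIso (S : 𝒮) : ι G S ⋙ CoGrothendieck.map α ≅ (α.app ⟨op S⟩).toFunctor ⋙ ι F S :=
  NatIso.ofComponents (fun _ => Iso.refl _) (fun {a b} φ => by
    simp only [Iso.refl_hom, Category.comp_id, Category.id_comp]
    ext
    · simp
    · simp [StrongTrans.naturality_id_hom_app, ← Functor.map_comp_assoc, ← Cat.Hom₂.comp_app,
        Strict.leftUnitor_eqToIso, Strict.rightUnitor_eqToIso])

/-- The square from a fibre to the total categories. -/
def mapSquare (S : 𝒮) : TwoSquare (α.app ⟨op S⟩).toFunctor (ι G S) (ι F S) (CoGrothendieck.map α) :=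
  (ιMapIso α S).inv

instance isIso_map_cart_fiber {R S : 𝒮} (f : R ⟶ S) (U : G.obj ⟨op S⟩) :
    IsIso ((CoGrothendieck.map α).map (cart f U)).fiber := by
  simp only [CoGrothendieck.map_map_fiber]
  simp
  infer_instance

instance guitartExact_mapSquare (S : 𝒮) : (mapSquare α S).GuitartExact := by
  rw [TwoSquare.guitartExact_iff_isConnected_rightwards]
  intro V X g
  let c : (ι G S).obj ((FibSite.invImage G (show S ⟶ X.base from g.base)).obj X.fiber) ⟶ X :=
    cart (F := G) (show S ⟶ X.base from g.base) X.fiber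
  have hc : IsIso ((CoGrothendieck.map α).map c).fiber := isIso_map_cart_fiber α (R := S) g.base X.fiber
  obtain ⟨a₀, ha₀, -⟩ := existsUnique_factor (F := F) g
    ((CoGrothendieck.map α).map c) rfl
  let j₀ : (mapSquare α S).StructuredArrowRightwards g :=
    .mk (mapSquare α S) g _ a₀ c ((congrArg ((ι F S).map a₀ ≫ ·) (Category.id_comp _)).trans ha₀)
  have : Nonempty ((mapSquare α S).StructuredArrowRightwards g) := ⟨j₀⟩
  apply zigzag_isConnected
  suffices ∀ j, Zigzag j j₀ from fun j₁ j₂ => (this j₁).trans (zigzag_symm.symm _ _ (this j₂))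
  intro j
  obtain ⟨X₁, a, b, comm, rfl⟩ := TwoSquare.StructuredArrowRightwards.mk_surjective j
  replace comm : (ι F S).map a ≫ (CoGrothendieck.map α).map b = g := by
    exact (congrArg ((ι F S).map a ≫ ·) (Category.id_comp _)).symm.trans comm
  have hb : b.base = g.base := by
    rw [← comm, base_ι_comp]
    rfl
  have : IsIso c.fiber := inferInstanceAs (IsIso (𝟙 _))
  obtain ⟨h, hh, -⟩ := existsUnique_factor (F := G) b c hb.symm
  have e : a ≫ (α.app ⟨op S⟩).toFunctor.map h = a₀ := by
    refine (existsUnique_factor (F := F) g ((CoGrothendieck.map α).map c) rfl).unique ?_ ha₀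
    refine Eq.trans ?_ comm
    refine Eq.trans ?_ (congrArg (fun q => (ι F S).map a ≫ (CoGrothendieck.map α).map q) hh)
    beta_reduce
    rw [Functor.map_comp, Category.assoc, Functor.map_comp]
    congr 1
    have := (ιMapIso α S).hom.naturality h
    simp [ιMapIso] at this
    exact congrArg (· ≫ (CoGrothendieck.map α).map c) this.symm
  refine Zigzag.of_hom (StructuredArrow.homMk (CostructuredArrow.homMk h hh) ?_)
  ext
  exact e

section Terminal

variable {i : 𝒮}

/-- The square comparing a fibre with the fibre over a terminal object. -/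
def invImageSquare {R : 𝒮} (f : R ⟶ i) :
    TwoSquare (FibSite.invImage F f) (𝟭 _) (ι F R) (ι F i) :=
  { app := fun U => cart f U
    naturality := fun _ _ r => cart_natural f r }

lemma guitartExact_invImageSquare (hi : IsTerminal i) {R : 𝒮} (f : R ⟶ i) :
    (invImageSquare (F := F) f).GuitartExact := by
  rw [TwoSquare.guitartExact_iff_isConnected_rightwards]
  intro V U g
  have : IsIso (cart f U).fiber := inferInstanceAs (IsIso (𝟙 _))
  obtain ⟨a₀, ha₀, -⟩ := existsUnique_factor (F := F) g (cart f U) (hi.hom_ext _ _)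
  let j₀ : (invImageSquare (F := F) f).StructuredArrowRightwards g :=
    .mk (invImageSquare f) g U a₀ (𝟙 _) (by simpa [invImageSquare] using ha₀)
  have : Nonempty ((invImageSquare (F := F) f).StructuredArrowRightwards g) := ⟨j₀⟩
  apply zigzag_isConnected
  suffices ∀ j, Zigzag j j₀ from fun j₁ j₂ => (this j₁).trans (zigzag_symm.symm _ _ (this j₂))
  intro j
  obtain ⟨X₁, a, b, comm, rfl⟩ := TwoSquare.StructuredArrowRightwards.mk_surjective j
  simp only [invImageSquare] at comm
  refine Zigzag.of_hom (StructuredArrow.homMk (CostructuredArrow.homMk b (Category.comp_id b)) ?_)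
  ext
  refine (existsUnique_factor (F := F) g (cart f U) (hi.hom_ext _ _)).unique ?_ ha₀
  change (ι F R).map (a ≫ (FibSite.invImage F f).map b) ≫ cart f U = g
  rw [Functor.map_comp, Category.assoc, ← comm]
  congr 1
  exact cart_natural f b

/-- The inclusion of the fibre over a terminal object is fully faithful. -/
noncomputable def fullyFaithful_ι (hi : IsTerminal i) : (ι F i).FullyFaithful :=
  have : (ι F i).Full := ⟨fun k => exists_ι_map k (hi.hom_ext _ _)⟩
  have : (ι F i).Faithful := ⟨ι_map_injective⟩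
  .ofFullyFaithful _

end Terminal

section Small

variable {𝒮 : Type u} [SmallCategory 𝒮] {F G : Pseudofunctor (LocallyDiscrete 𝒮ᵒᵖ) Cat.{u, u}}

/-- Base change for the left Kan extension along a cartesian functor. -/
noncomputable def lanMapIso (α : G ⟶ F) (S : 𝒮) :
    (Functor.whiskeringLeft _ _ (Type u)).obj (ι G S).op ⋙ (α.app ⟨op S⟩).toFunctor.op.lan ≅
      (CoGrothendieck.map α).op.lan ⋙ (Functor.whiskeringLeft _ _ (Type u)).obj (ι F S).op :=
  asIso (mapSquare α S).op.lanBaseChange

/-- Base change for the left Kan extension from the fibre over a terminal object. -/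
noncomputable def lanTerminalIso {i : 𝒮} (hi : IsTerminal i) {R : 𝒮} (f : R ⟶ i) :
    (Functor.whiskeringLeft _ _ (Type u)).obj (𝟭 (F.obj ⟨op i⟩)).op ⋙ (FibSite.invImage F f).op.lan ≅
      (ι F i).op.lan ⋙ (Functor.whiskeringLeft _ _ (Type u)).obj (ι F R).op :=
  have := guitartExact_invImageSquare (F := F) hi f
  asIso (invImageSquare (F := F) f).op.lanBaseChange

end Small

end Groth.Misc4.FibSiteKan
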