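import Groth.Agent.Misc4.FibSiteExact

/-! The unit of the left Kan extension along a fibre inclusion is the inclusion of a summand. -/

universe v₃ u₃ v₂ u₂ v₁ u₁ w u

open CategoryTheory CategoryTheory.Limits CategoryTheory.Bicategory Opposite Pseudofunctor Pseudofunctor.CoGrothendieck

namespace Groth.Misc4.FibSiteSummand

open Groth.Misc4.FibSiteTot

set_option backward.defeqAttrib.useBackward true
set_option backward.isDefEq.respectTransparency false

variable {𝒮 : Type u} [SmallCategory 𝒮] {F : Pseudofunctor (LocallyDiscrete 𝒮ᵒᵖ) Cat.{u, u}} (i : 𝒮)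

/-- The presheaf of base morphisms to `i`. -/
def baseHom : (∫ᶜ F)ᵒᵖ ⥤ Type u where
  obj X := X.unop.base ⟶ i
  map f := ↾fun g => f.unop.base ≫ g
  map_id X := by ext g; simp
  map_comp f g := by ext h; simp

/-- The constant section `𝟙`. -/
def idSection (P : (F.obj ⟨op i⟩)ᵒᵖ ⥤ Type u) : P ⟶ (ι F i).op ⋙ baseHom i where
  app _ := ↾fun _ => (𝟙 i : i ⟶ i)
  naturality {X Y} a := by ext p; simp [baseHom]

/-- The base morphism of an element of the left Kan extension. -/
noncomputable def baseMap (P : (F.obj ⟨op i⟩)ᵒᵖ ⥤ Type u) : (ι F i).op.lan.obj P ⟶ baseHom i :=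
  (((ι F i).op.lanAdjunction (Type u)).homEquiv P (baseHom i)).symm (idSection i P)

/-- The unit of the left Kan extension. -/
noncomputable abbrev η (P : (F.obj ⟨op i⟩)ᵒᵖ ⥤ Type u) : P ⟶ (ι F i).op ⋙ (ι F i).op.lan.obj P :=
  (ι F i).op.lanUnit.app P

lemma baseMap_η (P : (F.obj ⟨op i⟩)ᵒᵖ ⥤ Type u) (V : (F.obj ⟨op i⟩)ᵒᵖ) (p : P.obj V) :
    (baseMap i P).app _ ((η i P).app V p) = 𝟙 i := by
  have h : ((ι F i).op.lanAdjunction (Type u)).homEquiv P (baseHom i) (baseMap i P) = idSection i P :=
    Equiv.apply_symm_apply _ _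
  rw [Adjunction.homEquiv_unit] at h
  simpa [η, idSection] using congrArg (fun φ => φ.app V p) h

lemma lan_map_η {P Q : (F.obj ⟨op i⟩)ᵒᵖ ⥤ Type u} (u : P ⟶ Q) (V : (F.obj ⟨op i⟩)ᵒᵖ) (p : P.obj V) :
    ((ι F i).op.lan.map u).app _ ((η i P).app V p) = (η i Q).app V (u.app V p) := by
  have := congrArg (fun φ => φ.app V p) ((ι F i).op.lanUnit.naturality u)
  simpa [η] using this.symm

lemma map_η {P : (F.obj ⟨op i⟩)ᵒᵖ ⥤ Type u} {V W : F.obj ⟨op i⟩} (a : V ⟶ W) (p : P.obj (op W)) :
    ((ι F i).op.lan.obj P).map ((ι F i).map a).op ((η i P).app (op W) p) =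
      (η i P).app (op V) (P.map a.op p) :=
  (NatTrans.naturality_apply (η i P) a.op p).symm

lemma baseMap_lan_map {P Q : (F.obj ⟨op i⟩)ᵒᵖ ⥤ Type u} (u : P ⟶ Q) :
    (ι F i).op.lan.map u ≫ baseMap i Q = baseMap i P := by
  apply ((ι F i).op.lanAdjunction (Type u)).homEquiv _ _ |>.injective
  rw [Adjunction.homEquiv_naturality_left]
  simp only [baseMap, Equiv.apply_symm_apply]
  rfl

lemma baseMap_map (P : (F.obj ⟨op i⟩)ᵒᵖ ⥤ Type u) {X Y : ∫ᶜ F} (g : Y ⟶ X)
    (z : ((ι F i).op.lan.obj P).obj (op X)) :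
    (baseMap i P).app (op Y) (((ι F i).op.lan.obj P).map g.op z) = g.base ≫ (baseMap i P).app (op X) z :=
  NatTrans.naturality_apply (baseMap i P) g.op z

/-- Elements of the left Kan extension come from the fibre. -/
lemma exists_rep (P : (F.obj ⟨op i⟩)ᵒᵖ ⥤ Type u) {X : ∫ᶜ F} (z : ((ι F i).op.lan.obj P).obj (op X)) :
    ∃ (U : F.obj ⟨op i⟩) (g : X ⟶ (ι F i).obj U) (p : P.obj (op U)),
      ((ι F i).op.lan.obj P).map g.op ((η i P).app (op U) p) = z := by
  obtain ⟨j, p, rfl⟩ := Types.jointly_surjective _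
    (Functor.isPointwiseLeftKanExtensionOfIsLeftKanExtension _ (η i P) (op X)) z
  exact ⟨j.left.unop, j.hom.unop, p, rfl⟩

lemma exists_η (P : (F.obj ⟨op i⟩)ᵒᵖ ⥤ Type u) {V : F.obj ⟨op i⟩}
    (z : ((ι F i).op.lan.obj P).obj (op ((ι F i).obj V))) (hz : (baseMap i P).app _ z = 𝟙 i) :
    ∃ p, (η i P).app (op V) p = z := by
  obtain ⟨U, g, p, rfl⟩ := exists_rep i P z
  have hg : g.base = 𝟙 i :=
    ((Category.comp_id g.base).symm.trans (congrArg (g.base ≫ ·) (baseMap_η i P (op U) p)).symm).trans
      ((baseMap_map i P g _).symm.trans hz)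
  obtain ⟨a, rfl⟩ := exists_ι_map g hg
  exact ⟨_, (map_η i a p).symm⟩

lemma η_injective (P : (F.obj ⟨op i⟩)ᵒᵖ ⥤ Type u) (V : F.obj ⟨op i⟩) :
    Function.Injective ((η i P).app (op V)) := by
  classical
  let E := Functor.LeftExtension.mk _ (η i P)
  have hE : E.IsPointwiseLeftKanExtensionAt (op ((ι F i).obj V)) :=
    Functor.isPointwiseLeftKanExtensionOfIsLeftKanExtension _ (η i P) _
  let ret : ∀ j : CostructuredArrow (ι F i).op (op ((ι F i).obj V)), P.obj j.left → Option (P.obj (op V)) :=
    fun j p => if h : j.hom.unop.base = 𝟙 i then some (P.map (exists_ι_map j.hom.unop h).choose.op p) else none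
  let c : Cocone (CostructuredArrow.proj (ι F i).op (op ((ι F i).obj V)) ⋙ P) :=
    { pt := Option (P.obj (op V))
      ι :=
        { app := fun j => ↾ret j
          naturality := fun j k φ => by
            ext p
            change ret k (P.map φ.left p) = ret j p
            have hw : k.hom.unop ≫ (ι F i).map φ.left.unop = j.hom.unop :=
              congrArg Quiver.Hom.unop (CostructuredArrow.w φ)
            have hb : k.hom.unop.base = j.hom.unop.base := by rw [← hw]; simp
            simp only [ret]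
            by_cases h : k.hom.unop.base = 𝟙 i
            · rw [dif_pos h, dif_pos (hb ▸ h)]
              congr 1
              rw [← Functor.map_comp_apply, ← φ.left.op_unop, ← op_comp]
              congr 3
              congr 1
              apply ι_map_injective
              rw [Functor.map_comp, (exists_ι_map k.hom.unop h).choose_spec,
                (exists_ι_map j.hom.unop (hb ▸ h)).choose_spec, hw]
            · rw [dif_neg h, dif_neg (hb ▸ h)] } }
  have key : ∀ p, hE.desc c ((η i P).app (op V) p) = some p := by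
    intro p
    let j : CostructuredArrow (ι F i).op (op ((ι F i).obj V)) := CostructuredArrow.mk (Y := op V) (𝟙 _)
    have h1 := congrArg (fun f => f p) (hE.fac c j)
    have hb : j.hom.unop.base = 𝟙 i := rfl
    have ha : (exists_ι_map j.hom.unop hb).choose = 𝟙 V :=
      ι_map_injective ((exists_ι_map j.hom.unop hb).choose_spec.trans ((ι F i).map_id V).symm)
    simpa [c, ret, j, E, hb, ha, Functor.LeftExtension.coconeAt] using h1
  intro p q h
  exact Option.some_injective _ ((key p).symm.trans ((congrArg _ h).trans (key q)))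

variable {i} {J : FibSite.Topologies F}

/-- Bicovering is reflected by the left Kan extension along a fibre inclusion. -/
theorem W_of_W_lan_map (hF : FibSite.IsPreFibSite F J) {R Q : (F.obj ⟨op i⟩)ᵒᵖ ⥤ Type u} (u : R ⟶ Q)
    (h : (FibSite.totalTopology F J).W ((ι F i).op.lan.map u)) : (J i).W u := by
  rw [GrothendieckTopology.W_iff_isLocallyBijective] at h ⊢
  obtain ⟨h1, h2⟩ := h
  have := Groth.Misc4.FibSiteTot.isCocontinuous_ι hF i
  constructor
  · refine ⟨fun {X} x y e => ?_⟩
    have e' : ((ι F i).op.lan.map u).app _ ((η i R).app X x) = ((ι F i).op.lan.map u).app _ ((η i R).app X y) := by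
      rw [lan_map_η, lan_map_η, e]
    refine (J i).superset_covering (fun V a ha => ?_)
      ((ι F i).cover_lift (J i) _ (Presheaf.equalizerSieve_mem (FibSite.totalTopology F J) _ _ _ e'))
    have ha' : ((ι F i).op.lan.obj R).map ((ι F i).map a).op ((η i R).app X x) =
        ((ι F i).op.lan.obj R).map ((ι F i).map a).op ((η i R).app X y) := ha
    rw [map_η, map_η] at ha'
    exact η_injective i R V ha'
  · refine ⟨fun {U} y => ?_⟩
    refine (J i).superset_covering (fun V a ha => ?_)
      ((ι F i).cover_lift (J i) _ (Presheaf.imageSieve_mem (FibSite.totalTopology F J) ((ι F i).op.lan.map u)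
        ((η i Q).app (op U) y)))
    obtain ⟨z, hz⟩ : ∃ z, ((ι F i).op.lan.map u).app _ z =
        ((ι F i).op.lan.obj Q).map ((ι F i).map a).op ((η i Q).app (op U) y) := ha
    rw [map_η] at hz
    have hb : (baseMap i R).app _ z = 𝟙 i := by
      rw [← baseMap_lan_map i u]
      exact (congrArg _ hz).trans (baseMap_η i Q _ _)
    obtain ⟨p, rfl⟩ := exists_η i R z hb
    exact ⟨p, η_injective i Q V ((lan_map_η i u (op V) p).symm.trans hz)⟩

/-- Bicovering is preserved by the left Kan extension along a fibre inclusion. -/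
theorem W_lan_map_of_W (hF : FibSite.IsPreFibSite F J) {R Q : (F.obj ⟨op i⟩)ᵒᵖ ⥤ Type u} (u : R ⟶ Q)
    (h : (J i).W u) : (FibSite.totalTopology F J).W ((ι F i).op.lan.map u) :=
  have := Groth.Misc4.FibSiteTot.isContinuous_ι hF i
  Functor.W_map_of_adjunction_of_isContinuous (J i) _ (ι F i) _ ((ι F i).op.lanAdjunction (Type u)) u h

end Groth.Misc4.FibSiteSummand
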