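import Groth.Prelude.Def_FibSite
import Mathlib.CategoryTheory.Sites.CoverPreserving
import Mathlib.CategoryTheory.Sites.InducedTopology
import Mathlib.CategoryTheory.Sites.LeftExact
import Mathlib.CategoryTheory.Sites.LocallyInjective

/-! Total topology of a pre-fibred site: covering sieves and sheaves. -/

universe w v₃ u₃ v₂ u₂ v₁ u₁

open CategoryTheory CategoryTheory.Limits CategoryTheory.Bicategory Opposite Pseudofunctor Pseudofunctor.CoGrothendieck

namespace Groth.Misc4.FibSiteTot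

set_option backward.defeqAttrib.useBackward true
set_option backward.isDefEq.respectTransparency false

variable {𝒮 : Type u₁} [Category.{v₁} 𝒮] {F : Pseudofunctor (LocallyDiscrete 𝒮ᵒᵖ) Cat.{v₂, u₂}}

abbrev mkHom {X Y : ∫ᶜ F} (f : X.base ⟶ Y.base) (a : X.fiber ⟶ (FibSite.invImage F f).obj Y.fiber) : X ⟶ Y :=
  ⟨f, a⟩

abbrev cart {R S : 𝒮} (f : R ⟶ S) (U : F.obj ⟨op S⟩) :
    (ι F R).obj ((FibSite.invImage F f).obj U) ⟶ (ι F S).obj U :=
  ⟨f, 𝟙 _⟩

lemma comp_ι {X : ∫ᶜ F} {S : 𝒮} {Z U : F.obj ⟨op S⟩} (f : X.base ⟶ S)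
    (a : X.fiber ⟶ (FibSite.invImage F f).obj Z) (r : Z ⟶ U) :
    (mkHom (Y := (ι F S).obj Z) f a) ≫ (ι F S).map r =
      mkHom f (a ≫ (FibSite.invImage F f).map r) := by
  ext
  · simp
  · simp [F.mapComp_id_left_inv_app, Strict.leftUnitor_eqToIso, ← Functor.map_comp_assoc,
        ← Cat.Hom₂.comp_app, PrelaxFunctor.map₂_eqToHom]

lemma ι_comp {Y : ∫ᶜ F} {T : 𝒮} {W V : F.obj ⟨op T⟩} (w : W ⟶ V) (f : T ⟶ Y.base)
    (a : V ⟶ (FibSite.invImage F f).obj Y.fiber) :
    (ι F T).map w ≫ (mkHom (X := (ι F T).obj V) f a) = mkHom (X := (ι F T).obj W) f (w ≫ a) := by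
  ext
  · simp
  · simp [F.mapComp_id_right_inv_app, Strict.rightUnitor_eqToIso, ← NatTrans.naturality_assoc,
        ← Cat.Hom₂.comp_app, PrelaxFunctor.map₂_eqToHom]

lemma cart_natural {R S : 𝒮} (f : R ⟶ S) {Z U : F.obj ⟨op S⟩} (r : Z ⟶ U) :
    (ι F R).map ((FibSite.invImage F f).map r) ≫ cart f U = cart f Z ≫ (ι F S).map r :=
  ((ι_comp (Y := (ι F S).obj U) ((FibSite.invImage F f).map r) f (𝟙 _)).trans (by simp)).trans
    (comp_ι (X := (ι F R).obj ((FibSite.invImage F f).obj Z)) f (𝟙 _) r).symm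

lemma ι_comp_cart {R S : 𝒮} (f : R ⟶ S) {W : F.obj ⟨op R⟩} {U : F.obj ⟨op S⟩}
    (a : W ⟶ (FibSite.invImage F f).obj U) :
    (ι F R).map a ≫ cart f U = mkHom (X := (ι F R).obj W) (Y := (ι F S).obj U) f a :=
  (ι_comp (Y := (ι F S).obj U) a f (𝟙 _)).trans (by simp)

variable {J : FibSite.Topologies F}

/-- The image of a covering sieve of the fibre, pulled back, contains the image of a covering sieve. -/
lemma pullback_pushforward (hF : FibSite.IsPreFibSite F J) {S : 𝒮} {U : F.obj ⟨op S⟩} {R : Sieve U}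
    (hR : R ∈ J S U) ⦃Y : ∫ᶜ F⦄ (g : Y ⟶ (ι F S).obj U) :
    ∃ R' ∈ J Y.base Y.fiber,
      R'.functorPushforward (ι F Y.base) ≤ (R.functorPushforward (ι F S)).pullback g := by
  have := hF (R := Y.base) (S := S) g.base
  have hc : (R.functorPushforward (FibSite.invImage F g.base)).pullback g.fiber ∈ J Y.base Y.fiber :=
    (J Y.base).pullback_stable _
      ((CoverPreserving.of_isContinuous (FibSite.invImage F g.base) (J S) (J Y.base)).cover_preserve hR)
  refine ⟨_, hc, ?_⟩
  rintro Z h ⟨W, w, k, hw, rfl⟩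
  refine Sieve.downward_closed _ ?_ k
  obtain ⟨Z', r, a, hr, e⟩ := hw
  exact ⟨Z', r, mkHom (X := (ι F Y.base).obj W) (Y := (ι F S).obj Z') g.base a, hr,
    ((ι_comp (Y := (ι F S).obj U) w g.base g.fiber).trans (congrArg _ e)).trans
      (comp_ι (X := (ι F Y.base).obj W) g.base a r).symm⟩

/-- The explicit topology. -/
def explicitTopology (hF : FibSite.IsPreFibSite F J) : GrothendieckTopology (∫ᶜ F) where
  sieves X := {S | ∃ R ∈ J X.base X.fiber, Sieve.functorPushforward (ι F X.base) R ≤ S}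
  top_mem' X := ⟨⊤, (J _).top_mem _, le_top⟩
  pullback_stable' := by
    rintro X Y S g ⟨R, hR, hle⟩
    obtain ⟨R', hR', hle'⟩ := pullback_pushforward hF hR (U := X.fiber) g
    exact ⟨R', hR', hle'.trans (Sieve.pullback_monotone g hle)⟩
  transitive' := by
    rintro X S ⟨R, hR, hle⟩ T hT
    choose R' hR' hle' using fun (Z : F.obj ⟨op X.base⟩) (r : Z ⟶ X.fiber) (hr : R r) =>
      hT (hle _ (Sieve.image_mem_functorPushforward (ι F X.base) R hr))
    refine ⟨Sieve.bind R.arrows (fun Z r hr => R' Z r hr), (J _).bind_covering hR (fun Z r hr => hR' _ r hr), ?_⟩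
    rintro Z h ⟨W, _, k, ⟨Z', v, r, hr, hv, rfl⟩, rfl⟩
    refine Sieve.downward_closed _ ?_ k
    rw [Functor.map_comp]
    exact hle' _ r hr _ (Sieve.image_mem_functorPushforward (ι F X.base) _ hv)

lemma totalTopology_eq (hF : FibSite.IsPreFibSite F J) :
    FibSite.totalTopology F J = explicitTopology hF := by
  refine le_antisymm (FibSite.totalTopology_le fun S U R hR => ⟨R, hR, le_rfl⟩) ?_
  rintro X S ⟨R, hR, hle⟩
  exact GrothendieckTopology.superset_covering _ hle (FibSite.functorPushforward_mem_totalTopology hR)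

lemma mem_totalTopology_iff (hF : FibSite.IsPreFibSite F J) {X : ∫ᶜ F} (S : Sieve X) :
    S ∈ FibSite.totalTopology F J X ↔
      ∃ R ∈ J X.base X.fiber, Sieve.functorPushforward (ι F X.base) R ≤ S := by
  rw [totalTopology_eq hF]; rfl

lemma isCocontinuous_ι (hF : FibSite.IsPreFibSite F J) (S : 𝒮) :
    (ι F S).IsCocontinuous (J S) (FibSite.totalTopology F J) where
  cover_lift {U T} hT := by
    obtain ⟨R, hR, hle⟩ := (mem_totalTopology_iff hF T).1 hT
    exact (J S).superset_covering (fun Z f hf => hle _ (Sieve.image_mem_functorPushforward (ι F S) R hf)) hR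

lemma ι_map_injective {S : 𝒮} {W Z : F.obj ⟨op S⟩} {a b : W ⟶ Z}
    (h : (ι F S).map a = (ι F S).map b) : a = b := by
  have := Hom.congr h
  simpa [cancel_mono, ← Cat.Hom.toNatIso_hom, ← Cat.Hom.toNatIso_inv] using this

lemma exists_ι_map {S : 𝒮} {W Z : F.obj ⟨op S⟩} (k : (ι F S).obj W ⟶ (ι F S).obj Z)
    (hk : k.base = 𝟙 S) : ∃ a : W ⟶ Z, (ι F S).map a = k := by
  refine ⟨k.fiber ≫ eqToHom (by simp [hk]) ≫ (F.mapId ⟨op S⟩).hom.toNatTrans.app Z, ?_⟩
  ext <;> simp [hk, ← Cat.Hom₂.comp_app]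

lemma functorPullback_functorPushforward_ι {S : 𝒮} {U : F.obj ⟨op S⟩} (R : Sieve U) :
    Sieve.functorPullback (ι F S) (R.functorPushforward (ι F S)) ≤ R := by
  rintro W g ⟨Z, r, k, hr, e⟩
  have hk : k.base = 𝟙 S := by
    have := congrArg Hom.base e
    simpa using this.symm
  obtain ⟨a, rfl⟩ := exists_ι_map k hk
  rw [← Functor.map_comp] at e
  rw [ι_map_injective e]
  exact R.downward_closed hr a

section Sheaf

/-- Two morphisms into restrictions of a fibre-compatible family agree when the target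
presheaf is a sheaf on each fibre. -/
lemma compatiblePreserving_aux (hF : FibSite.IsPreFibSite F J) {P : (∫ᶜ F)ᵒᵖ ⥤ Type w} {T : 𝒮}
    (hsep : Presieve.IsSeparated (J T) ((ι F T).op ⋙ P)) {S : 𝒮} {U : F.obj ⟨op S⟩} {R : Sieve U}
    (hR : R ∈ J S U) {y : Presieve.FamilyOfElements ((ι F S).op ⋙ P) R.arrows} (hy : y.Compatible)
    {W : F.obj ⟨op T⟩} {Z₁ Z₂ : F.obj ⟨op S⟩} {r₁ : Z₁ ⟶ U} {r₂ : Z₂ ⟶ U} (h₁ : R r₁) (h₂ : R r₂)
    (f : T ⟶ S) (a₁ : W ⟶ (FibSite.invImage F f).obj Z₁) (a₂ : W ⟶ (FibSite.invImage F f).obj Z₂)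
    (e : a₁ ≫ (FibSite.invImage F f).map r₁ = a₂ ≫ (FibSite.invImage F f).map r₂) :
    P.map (mkHom (X := (ι F T).obj W) (Y := (ι F S).obj Z₁) f a₁).op (y r₁ h₁) =
      P.map (mkHom (X := (ι F T).obj W) (Y := (ι F S).obj Z₂) f a₂).op (y r₂ h₂) := by
  have := hF f
  let Q : (F.obj ⟨op T⟩)ᵒᵖ ⥤ Type (max w u₂ v₂) := ((ι F T).op ⋙ P) ⋙ uliftFunctor.{max u₂ v₂}
  have hQ : Presieve.IsSeparated (J T) Q := by
    intro V S' hS' x t₁ t₂ ht₁ ht₂
    apply ULift.ext
    refine hsep S' hS' (fun V' g hg => (x g hg).down) t₁.down t₂.down ?_ ?_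
    · intro V' g hg; exact congrArg ULift.down (ht₁ g hg)
    · intro V' g hg; exact congrArg ULift.down (ht₂ g hg)
  let η := (J T).toSheafify Q
  have hinj : ∀ V, Function.Injective (η.app (op V)) := by
    intro V
    have h1 : ∀ (X : F.obj ⟨op T⟩), Function.Injective (((J T).toPlus Q).app (op X)) := fun X =>
      GrothendieckTopology.Plus.inj_of_sep Q
        (fun X S x y h => (hQ S.1 S.2).ext fun V g hg => h ⟨V, g, hg⟩) X
    have h2 : ∀ (X : F.obj ⟨op T⟩), Function.Injective (((J T).toPlus ((J T).plusObj Q)).app (op X)) :=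
      fun X => GrothendieckTopology.Plus.inj_of_sep _
        (fun X S x y h => GrothendieckTopology.Plus.sep Q S x y h) X
    intro t₁ t₂ ht
    dsimp [η, GrothendieckTopology.toSheafify] at ht
    rw [GrothendieckTopology.plusMap_toPlus] at ht
    exact h1 V (h2 V ht)
  let G : Sheaf (J T) (Type (max w u₂ v₂)) := ⟨(J T).sheafify Q, (J T).sheafify_isSheaf Q⟩
  have hG : Presieve.IsSheaf (J S) ((FibSite.invImage F f).op ⋙ G.obj) :=
    Functor.op_comp_isSheaf_of_types (FibSite.invImage F f) (J S) (J T) G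
  let η' : ∀ V, P.obj (op ((ι F T).obj V)) → G.obj.obj (op V) :=
    fun V t => η.app (op V) (ULift.up.{max u₂ v₂} t : ULift _)
  let z : Presieve.FamilyOfElements ((FibSite.invImage F f).op ⋙ G.obj) R.arrows :=
    fun Z r hr => η' _ (P.map (cart f Z).op (y r hr))
  have nat : ∀ {V' V : F.obj ⟨op T⟩} (a : V' ⟶ V) (t : P.obj (op ((ι F T).obj V))),
      G.obj.map a.op (η' V t) = η' V' (P.map ((ι F T).map a).op t) :=
    fun a t => (NatTrans.naturality_apply η a.op (ULift.up t : ULift _)).symm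
  have hz : z.Compatible := by
    intro A B Z g₁ g₂ s₁ s₂ hs₁ hs₂ he
    refine (nat _ _).trans (Eq.trans ?_ (nat _ _).symm)
    congr 1
    rw [← Functor.map_comp_apply, ← Functor.map_comp_apply, ← op_comp, ← op_comp, cart_natural,
      cart_natural, op_comp, op_comp, Functor.map_comp_apply, Functor.map_comp_apply]
    exact congrArg _ (hy g₁ g₂ hs₁ hs₂ he)
  have ht := (hG R hR).isAmalgamation hz
  have key : ∀ {Z : F.obj ⟨op S⟩} {r : Z ⟶ U} (hr : R r) (a : W ⟶ (FibSite.invImage F f).obj Z),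
      η' W (P.map (mkHom (X := (ι F T).obj W) (Y := (ι F S).obj Z) f a).op (y r hr)) =
        G.obj.map (a ≫ (FibSite.invImage F f).map r).op ((hG R hR).amalgamate z hz) := by
    intro Z r hr a
    rw [← ι_comp_cart, op_comp, Functor.map_comp_apply, op_comp, Functor.map_comp_apply]
    exact (nat a _).symm.trans (congrArg _ (ht r hr).symm)
  exact congrArg ULift.down (hinj W ((key h₁ a₁).trans (((congrArg (fun q => G.obj.map (Quiver.Hom.op q) _) e)).trans (key h₂ a₂).symm)))

/-- A type valued presheaf is a sheaf for the total topology iff it is so on every fibre. -/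
lemma isSheaf_totalTopology_iff (hF : FibSite.IsPreFibSite F J) (P : (∫ᶜ F)ᵒᵖ ⥤ Type w) :
    Presieve.IsSheaf (FibSite.totalTopology F J) P ↔
      ∀ S : 𝒮, Presieve.IsSheaf (J S) ((ι F S).op ⋙ P) := by
  constructor
  · intro hP S U R hR y hy
    have hpush := hP _ (FibSite.functorPushforward_mem_totalTopology hR)
    have sep : ∀ T, Presieve.IsSeparated (J T) ((ι F T).op ⋙ P) := by
      intro T V R' hR' x t₁ t₂ h₁ h₂
      refine (hP.isSeparated _ (FibSite.functorPushforward_mem_totalTopology hR')).ext ?_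
      rintro Z _ ⟨W, g, k, hg, rfl⟩
      simp only [op_comp, Functor.map_comp_apply]
      exact congrArg _ ((h₁ g hg).trans (h₂ g hg).symm)
    have key : ∀ {X : ∫ᶜ F} {Z₁ Z₂ : F.obj ⟨op S⟩} (k₁ : X ⟶ (ι F S).obj Z₁) (k₂ : X ⟶ (ι F S).obj Z₂)
        {r₁ : Z₁ ⟶ U} {r₂ : Z₂ ⟶ U} (h₁ : R r₁) (h₂ : R r₂),
        k₁ ≫ (ι F S).map r₁ = k₂ ≫ (ι F S).map r₂ →
          P.map k₁.op (y r₁ h₁) = P.map k₂.op (y r₂ h₂) := by
      rintro ⟨T, W⟩ Z₁ Z₂ ⟨f₁, a₁⟩ ⟨f₂, a₂⟩ r₁ r₂ h₁ h₂ e
      obtain rfl : f₁ = f₂ := by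
        have := congrArg Hom.base e
        simpa using this
      change mkHom (Y := (ι F S).obj Z₁) f₁ a₁ ≫ _ = mkHom (Y := (ι F S).obj Z₂) f₁ a₂ ≫ _ at e
      have e' := Hom.congr (((comp_ι (X := ⟨T, W⟩) f₁ a₁ r₁).symm.trans e).trans (comp_ι (X := ⟨T, W⟩) f₁ a₂ r₂))
      exact compatiblePreserving_aux hF (sep T) hR hy h₁ h₂ f₁ a₁ a₂ (by simpa using e')
    let x : Presieve.FamilyOfElements P (R.functorPushforward (ι F S)).arrows :=
      fun X g hg => P.map (Presieve.getFunctorPushforwardStructure hg).lift.op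
        (y (Presieve.getFunctorPushforwardStructure hg).premap (Presieve.getFunctorPushforwardStructure hg).cover)
    have hx : x.Compatible := by
      intro A B X g₁ g₂ s₁ s₂ hs₁ hs₂ he
      simp only [x, ← Functor.map_comp_apply, ← op_comp]
      apply key
      rw [Category.assoc, Category.assoc, ← (Presieve.getFunctorPushforwardStructure hs₁).fac,
        ← (Presieve.getFunctorPushforwardStructure hs₂).fac, he]
    refine ⟨hpush.amalgamate x hx, fun Z r hr => ?_, ?_⟩
    · refine (hpush.isAmalgamation hx _ (Sieve.image_mem_functorPushforward (ι F S) R hr)).trans ?_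
      refine (key _ (𝟙 _) (Presieve.getFunctorPushforwardStructure _).cover hr ?_).trans (by simp)
      rw [← (Presieve.getFunctorPushforwardStructure _).fac, Category.id_comp]
    · intro t ht
      exact (sep S R hR).ext fun Z r hr => (ht r hr).trans (((hpush.isAmalgamation hx _ (Sieve.image_mem_functorPushforward (ι F S) R hr)).trans ((key _ (𝟙 _) (Presieve.getFunctorPushforwardStructure _).cover hr (by rw [← (Presieve.getFunctorPushforwardStructure _).fac, Category.id_comp])).trans (by simp))).symm)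
  · intro h X T hT
    obtain ⟨R, hR, hle⟩ := (mem_totalTopology_iff hF T).1 hT
    have sep : ∀ {Y : ∫ᶜ F} {R' : Sieve Y.fiber}, R' ∈ J Y.base Y.fiber →
        Presieve.IsSeparatedFor P (R'.functorPushforward (ι F Y.base)).arrows := by
      intro Y R' hR' x t₁ t₂ h₁ h₂
      refine ((h Y.base).isSeparated R' hR').ext fun Z g hg => ?_
      exact (h₁ _ (Sieve.image_mem_functorPushforward (ι F Y.base) R' hg)).trans
        (h₂ _ (Sieve.image_mem_functorPushforward (ι F Y.base) R' hg)).symm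
    refine Presieve.isSheafFor_subsieve_aux P (S := R.functorPushforward (ι F X.base))
      (R := T.arrows) hle ?_ ?_
    · intro x hx
      let y : Presieve.FamilyOfElements ((ι F X.base).op ⋙ P) R.arrows :=
        fun Z r hr => x _ (Sieve.image_mem_functorPushforward (ι F X.base) R hr)
      have hy : y.Compatible := by
        intro A B Z g₁ g₂ s₁ s₂ hs₁ hs₂ he
        exact hx _ _ _ _ (((ι F X.base).map_comp g₁ s₁).symm.trans ((congrArg _ he).trans ((ι F X.base).map_comp g₂ s₂)))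
      refine ⟨(h X.base R hR).amalgamate y hy, ?_, ?_⟩
      · rintro Z _ ⟨W, g, k, hg, rfl⟩
        rw [op_comp, Functor.map_comp_apply]
        refine (congrArg _ ((h X.base R hR).isAmalgamation hy g hg)).trans ?_
        exact (Presieve.compatible_iff_sieveCompatible x).1 hx _ k
          (Sieve.image_mem_functorPushforward (ι F X.base) R hg) |>.symm
      · intro t ht
        exact ((h X.base).isSeparated R hR).ext fun Z g hg =>
          (ht _ (Sieve.image_mem_functorPushforward (ι F X.base) R hg)).trans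
            ((h X.base R hR).isAmalgamation hy g hg).symm
    · intro Y g hg
      obtain ⟨R', hR', hle'⟩ := pullback_pushforward hF hR (U := X.fiber) g
      intro x t₁ t₂ h₁ h₂
      exact (sep hR').ext fun Z k hk => (h₁ k (hle' _ hk)).trans (h₂ k (hle' _ hk)).symm

lemma isSheaf_totalTopology_iff' (hF : FibSite.IsPreFibSite F J) {A : Type u₃} [Category.{v₃} A]
    (P : (∫ᶜ F)ᵒᵖ ⥤ A) :
    Presheaf.IsSheaf (FibSite.totalTopology F J) P ↔
      ∀ S : 𝒮, Presheaf.IsSheaf (J S) ((ι F S).op ⋙ P) :=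
  ⟨fun h S E => (isSheaf_totalTopology_iff hF _).1 (h E) S,
    fun h E => (isSheaf_totalTopology_iff hF _).2 fun S => h S E⟩

lemma isContinuous_ι (hF : FibSite.IsPreFibSite F J) (S : 𝒮) :
    (ι F S).IsContinuous (J S) (FibSite.totalTopology F J) where
  op_comp_isSheaf_of_types G :=
    (isSheaf_totalTopology_iff hF G.obj).1 ((isSheaf_iff_isSheaf_of_type _ _).1 G.property) S

lemma inducedTopology_ι (hF : FibSite.IsPreFibSite F J) (S : 𝒮) :
    (ι F S).inducedTopology (FibSite.totalTopology F J) = J S := by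
  refine le_antisymm (fun U R hR => ?_) ?_
  · exact (J S).superset_covering (functorPullback_functorPushforward_ι R)
      ((isCocontinuous_ι hF S).cover_lift
        ((CoverPreserving.of_isContinuous (ι F S) _ _).cover_preserve hR))
  · rw [Functor.le_inducedTopology_iff]
    exact isContinuous_ι hF S

lemma isContinuous_total_iff (hF : FibSite.IsPreFibSite F J) {D : Type u₃} [Category.{v₃} D]
    (K : GrothendieckTopology D) (m : ∫ᶜ F ⥤ D) :
    m.IsContinuous (FibSite.totalTopology F J) K ↔ ∀ S : 𝒮, (ι F S ⋙ m).IsContinuous (J S) K := by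
  constructor
  · intro h S
    have := isContinuous_ι hF S
    exact Functor.isContinuous_comp _ _ (J S) (FibSite.totalTopology F J) K
  · intro h
    refine ⟨fun G => (isSheaf_totalTopology_iff hF _).2 fun S => ?_⟩
    have := h S
    exact (ι F S ⋙ m).op_comp_isSheaf_of_types (J S) K G

end Sheaf

end Groth.Misc4.FibSiteTot
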