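import Groth.Agent.Misc7.FilKInj.Diagram
import Mathlib.Algebra.Homology.Factorizations.CM5a
import Mathlib.Algebra.Homology.Embedding.TruncGEHomology
import Mathlib.CategoryTheory.Abelian.GrothendieckCategory.EnoughInjectives

/-!
# Filtered colimits of complexes and injective resolutions of diagrams of complexes
-/

universe w v u

open CategoryTheory CategoryTheory.Limits

set_option backward.isDefEq.respectTransparency false
set_option backward.defeqAttrib.useBackward true
set_option maxHeartbeats 1000000

namespace Groth.Misc4.FilteredColim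

local notation "up" => ComplexShape.up ℤ

variable {A : Type u} [Category.{v} A] [Abelian A] {J : Type w} [Category J]
  [HasColimitsOfShape J A] [HasExactColimitsOfShape J A]

/-- A diagram of complexes, as a complex of diagrams. -/
@[simps]
noncomputable def flip (F : J ⥤ CochainComplex A ℤ) : CochainComplex (J ⥤ A) ℤ where
  X m := F ⋙ HomologicalComplex.eval A up m
  d p q := { app := fun j => (F.obj j).d p q, naturality := fun _ _ φ => (F.map φ).comm p q }
  shape p q h := by ext j; exact (F.obj j).shape p q h
  d_comp_d' p q r _ _ := by ext j; exact (F.obj j).d_comp_d p q r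

/-- A complex of diagrams, as a diagram of complexes. -/
@[simps]
noncomputable def unflip (K : CochainComplex (J ⥤ A) ℤ) : J ⥤ CochainComplex A ℤ where
  obj j := ((evaluation J A).obj j).mapHomologicalComplex up |>.obj K
  map φ := { f := fun m => (K.X m).map φ, comm' := fun p q _ => ((K.d p q).naturality φ) }

/-- The cohomology of a filtered colimit of complexes. -/
theorem nonempty_isColimit_homology (F : J ⥤ CochainComplex A ℤ) {c : Cocone F} (hc : IsColimit c) (n : ℤ) :
    Nonempty (IsColimit ((HomologicalComplex.homologyFunctor A up n).mapCocone c)) := by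
  let K := flip F
  let κ : ∀ m, c.pt.X m ≅ colimit (K.X m) := fun m =>
    (isColimitOfPreserves (HomologicalComplex.eval A up m) hc).coconePointUniqueUpToIso (colimit.isColimit _)
  have hκ : ∀ m j, (c.ι.app j).f m ≫ (κ m).hom = colimit.ι (K.X m) j := fun m j =>
    (isColimitOfPreserves (HomologicalComplex.eval A up m) hc).comp_coconePointUniqueUpToIso_hom
      (colimit.isColimit (K.X m)) j
  have hd : ∀ p q, (κ p).hom ≫ colimMap (K.d p q) = c.pt.d p q ≫ (κ q).hom := fun p q => by
    refine (isColimitOfPreserves (HomologicalComplex.eval A up p) hc).hom_ext fun j => ?_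
    change (c.ι.app j).f p ≫ _ = (c.ι.app j).f p ≫ _
    exact ((Category.assoc _ _ _).symm.trans (congrArg (· ≫ colimMap (K.d p q)) (hκ p j))).trans
      ((ι_colimMap (K.d p q) j).trans ((congrArg ((F.obj j).d p q ≫ ·) (hκ q j).symm).trans
        ((Category.assoc _ _ _).symm.trans ((congrArg (· ≫ (κ q).hom) ((c.ι.app j).comm p q).symm).trans
          (Category.assoc _ _ _)))))
  let χ : c.pt.sc n ≅ (K.sc n).map colim := ShortComplex.isoMk (κ _) (κ _) (κ _) (hd _ _) (hd _ _)
  let σ : c.pt.homology n ≅ colimit (K.homology n) :=
    ShortComplex.homologyMapIso χ ≪≫ (K.sc n).mapHomologyIso colim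
  let θ : ∀ j, (F.obj j).sc n ≅ (K.sc n).map ((evaluation J A).obj j) := fun j =>
    ShortComplex.isoMk (Iso.refl _) (Iso.refl _) (Iso.refl _)
      ((Category.id_comp _).trans (Category.comp_id _).symm)
      ((Category.id_comp _).trans (Category.comp_id _).symm)
  let e : F ⋙ HomologicalComplex.homologyFunctor A up n ≅ K.homology n :=
    NatIso.ofComponents (fun j =>
      ShortComplex.homologyMapIso (θ j) ≪≫ (K.sc n).mapHomologyIso ((evaluation J A).obj j)) (fun {j k} φ => by
      have h : (HomologicalComplex.shortComplexFunctor A up n).map (F.map φ) ≫ (θ k).hom =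
          (θ j).hom ≫ (K.sc n).mapNatTrans ((evaluation J A).map φ) := by
        ext
        · exact (Category.comp_id _).trans (Category.id_comp _).symm
        · exact (Category.comp_id _).trans (Category.id_comp _).symm
        · exact (Category.comp_id _).trans (Category.id_comp _).symm
      show ShortComplex.homologyMap ((HomologicalComplex.shortComplexFunctor A up n).map (F.map φ)) ≫
        ShortComplex.homologyMap (θ k).hom ≫ _ = (ShortComplex.homologyMap (θ j).hom ≫ _) ≫ (K.homology n).map φ
      rw [← Category.assoc, ← ShortComplex.homologyMap_comp, h, ShortComplex.homologyMap_comp,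
        ShortComplex.homologyMap_mapNatTrans]
      simp only [Category.assoc]
      erw [Iso.inv_hom_id, Category.comp_id]
      rfl)
  have hσ : ∀ j, HomologicalComplex.homologyMap (c.ι.app j) n ≫ σ.hom =
      e.hom.app j ≫ colimit.ι (K.homology n) j := fun j => by
    have h : (HomologicalComplex.shortComplexFunctor A up n).map (c.ι.app j) ≫ χ.hom =
        (θ j).hom ≫ (K.sc n).mapNatTrans (colim.ι (C := A) j) := by
      ext
      · exact (hκ _ j).trans (Category.id_comp _).symm
      · exact (hκ _ j).trans (Category.id_comp _).symm
      · exact (hκ _ j).trans (Category.id_comp _).symm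
    show ShortComplex.homologyMap ((HomologicalComplex.shortComplexFunctor A up n).map (c.ι.app j)) ≫
      ShortComplex.homologyMap χ.hom ≫ _ = (ShortComplex.homologyMap (θ j).hom ≫ _) ≫ _
    rw [← Category.assoc, ← ShortComplex.homologyMap_comp, h, ShortComplex.homologyMap_comp,
      ShortComplex.homologyMap_mapNatTrans]
    simp only [Category.assoc]
    erw [Iso.inv_hom_id, Category.comp_id]
    rfl
  exact ⟨IsColimit.equivOfNatIsoOfIso e.symm (colimit.cocone (K.homology n))
    ((HomologicalComplex.homologyFunctor A up n).mapCocone c)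
    (Cocone.ext σ.symm fun j => by
      show (e.hom.app j ≫ colimit.ι (K.homology n) j) ≫ σ.inv = HomologicalComplex.homologyMap (c.ι.app j) n
      exact (Iso.comp_inv_eq σ).2 (hσ j).symm)
    (colimit.isColimit (K.homology n))⟩

/-- Cohomology commutes with filtered colimits of complexes. -/
theorem preservesColimitsOfShape_homology (n : ℤ) :
    PreservesColimitsOfShape J (HomologicalComplex.homologyFunctor A up n) :=
  ⟨fun {F} => ⟨fun hc => nonempty_isColimit_homology F hc n⟩⟩

/-- A colimit of quasi-isomorphisms is a quasi-isomorphism. -/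
theorem quasiIso_of_isColimit {F G : J ⥤ CochainComplex A ℤ} (α : F ⟶ G) (hα : ∀ j, QuasiIso (α.app j))
    {cF : Cocone F} {cG : Cocone G} (hF : IsColimit cF) (hG : IsColimit cG) (φ : cF.pt ⟶ cG.pt)
    (h : ∀ j, cF.ι.app j ≫ φ = α.app j ≫ cG.ι.app j) : QuasiIso φ := by
  refine (quasiIso_iff _).2 fun n => (quasiIsoAt_iff_isIso_homologyMap _ _).2 ?_
  obtain ⟨a⟩ := nonempty_isColimit_homology F hF n
  obtain ⟨b⟩ := nonempty_isColimit_homology G hG n
  let w : F ⋙ HomologicalComplex.homologyFunctor A up n ≅ G ⋙ HomologicalComplex.homologyFunctor A up n :=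
    NatIso.ofComponents (fun j => haveI := hα j; (asIso (HomologicalComplex.homologyMap (α.app j) n) :))
      (fun {j k} f => by
        exact ((F ⋙ HomologicalComplex.homologyFunctor A up n).map f ≫=
          rfl).trans ((Functor.whiskerRight α (HomologicalComplex.homologyFunctor A up n)).naturality f))
  have : HomologicalComplex.homologyMap φ n = (a.coconePointsIsoOfNatIso b w).hom := by
    refine a.hom_ext fun j => ?_
    refine Eq.trans ?_ (IsColimit.comp_coconePointsIsoOfNatIso_hom a b w j).symm
    show HomologicalComplex.homologyMap (cF.ι.app j) n ≫ _ = HomologicalComplex.homologyMap (α.app j) n ≫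
      HomologicalComplex.homologyMap (cG.ι.app j) n
    rw [← HomologicalComplex.homologyMap_comp, ← HomologicalComplex.homologyMap_comp, h]
  rw [this]
  infer_instance

end Groth.Misc4.FilteredColim

namespace Groth.Misc4.FilteredColim

local notation "up" => ComplexShape.up ℤ

variable {A : Type u} [Category.{v} A] [Abelian A] [IsGrothendieckAbelian.{v} A] {J : Type v} [SmallCategory J]

theorem isGrothendieckAbelian_diagrams : IsGrothendieckAbelian.{v} (J ⥤ A) :=
  IsGrothendieckAbelian.of_equivalence ((opOpEquivalence J).congrLeft (E := A))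

/-- Evaluation of diagrams preserves injectives. -/
theorem injective_eval (F : J ⥤ A) [Injective F] (j : J) : Injective (F.obj j) := by
  haveI : PreservesFiniteLimits (evaluationLeftAdjoint A j) :=
    Groth.SiteCohomology.preservesFiniteLimits_of_adjunction_of_mono (evaluationAdjunctionRight A j)
      fun {X Y} f hf => by
        have : ∀ t, Mono (((evaluationLeftAdjoint A j).map f).app t) := fun t => by
          have e : ((evaluationLeftAdjoint A j).map f).app t = Limits.Sigma.map (fun _ : j ⟶ t => f) := by
            apply Sigma.hom_ext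
            intro g
            simp
          rw [e]
          infer_instance
        exact NatTrans.mono_of_mono_app _
  exact Groth.SiteCohomology.injective_map_of_adjunction (evaluationAdjunctionRight A j) F

/-- Functorial resolutions of uniformly bounded below diagrams of complexes. -/
theorem exists_injective_diagram (C : J ⥤ CochainComplex A ℤ) (n : ℤ) (hC : ∀ j, (C.obj j).IsGE n) :
    ∃ (I : J ⥤ CochainComplex A ℤ) (α : C ⟶ I), (∀ j, QuasiIso (α.app j)) ∧
      (∀ j, (I.obj j).IsStrictlyGE n) ∧ ∀ j m, Injective ((I.obj j).X m) := by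
  haveI := isGrothendieckAbelian_diagrams (A := A) (J := J)
  let e := ComplexShape.embeddingUpIntGE n
  let C' : J ⥤ CochainComplex A ℤ := C ⋙ e.truncGEFunctor A
  haveI : (flip C').IsStrictlyGE n := (CochainComplex.isStrictlyGE_iff _ _).2 fun k hk =>
    Functor.isZero _ fun j => CochainComplex.isZero_of_isStrictlyGE ((C.obj j).truncGE n) n k hk
  obtain ⟨I, i, hi, hinj, hI⟩ :=
    CochainComplex.Plus.modelCategoryQuillen.exists_quasiIso_injective (flip C') n
  let β : C' ⟶ unflip I :=
    { app := fun j => { f := fun m => (i.f m).app j, comm' := fun p q _ => congr_app (i.comm p q) j }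
      naturality := fun j k φ => by ext m; exact (i.f m).naturality φ }
  refine ⟨unflip I, Functor.whiskerLeft C (e.πTruncGENatTrans A) ≫ β, fun j => ?_, fun j => ?_, fun j m => ?_⟩
  · haveI := hC j
    haveI : QuasiIso (β.app j) :=
      inferInstanceAs (QuasiIso ((((evaluation J A).obj j).mapHomologicalComplex up).map i))
    exact inferInstanceAs (QuasiIso ((C.obj j).πTruncGE n ≫ β.app j))
  · exact (CochainComplex.isStrictlyGE_iff _ _).2 fun k hk =>
      ((evaluation J A).obj j).map_isZero (CochainComplex.isZero_of_isStrictlyGE I n k hk)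
  · haveI := hinj m
    exact injective_eval (I.X m) j

end Groth.Misc4.FilteredColim
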