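import Groth.Agent.Misc4.FilteredColim
import Groth.Agent.Misc4.RpushCoprod

/-!
# `Rf_*` and filtered colimits of uniformly bounded below complexes
-/

universe u

open CategoryTheory CategoryTheory.Limits AlgebraicGeometry Opposite TopologicalSpace

attribute [local instance] HasDerivedCategory.standard

set_option backward.isDefEq.respectTransparency false
set_option backward.defeqAttrib.useBackward true
set_option synthInstance.maxHeartbeats 400000
set_option maxHeartbeats 1000000

namespace Groth.Misc4.FilteredPush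

open Groth.CohFin Groth.CohBase Groth.FlatMor2.ColimCoh

local notation "up" => ComplexShape.up ℤ

variable {X S : Scheme.{u}} {J : Type u} [SmallCategory J] [IsFiltered J]

/-- Sections over a compact quasi-separated open of a filtered colimit of modules. -/
theorem commutes_sect_modules {M : J ⥤ X.Modules} {c : Cocone M} (hc : IsColimit c) (U : X.Opens)
    (hU : IsCompact (U : Set X)) (hU' : IsQuasiSeparated (U : Set X)) :
    (∀ x : Γ(c.pt, U), ∃ (j : J) (y : Γ(M.obj j, U)), (c.ι.app j).app U y = x) ∧
    ∀ (j : J) (y : Γ(M.obj j, U)), (c.ι.app j).app U y = 0 →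
      ∃ (k : J) (g : j ⟶ k), (M.map g).app U y = 0 := by
  haveI : PrespectralSpace ↑X.toTopCat := inferInstanceAs (PrespectralSpace X)
  have h := commutes_sect (J := Opens.grothendieckTopology X.toTopCat)
    ((SheafOfModules.toSheaf.{u} X.ringCatSheaf).mapCocone c) (qcqsBasis X.toTopCat)
    ((Groth.CohTwo.preservesColimitsOfShape_toSheaf (X := X) J).preservesColimit.preserves hc).some ⟨hU, hU'⟩
  exact ⟨h.exists_rep, h.exists_eq_zero⟩

/-- Filtered colimits of injective modules have no higher cohomology on compact quasi-separated opens. -/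
theorem hVanish_colimit_injective {M : J ⥤ X.Modules} {c : Cocone M} (hc : IsColimit c) (U : X.Opens)
    (hU : IsCompact (U : Set X)) (hU' : IsQuasiSeparated (U : Set X))
    (hM : ∀ t, Injective (M.obj t)) (j : ℕ) : HVanish (X := X.toTopCat) (abSheaf c.pt) (j + 1) U := by
  haveI : PrespectralSpace ↑X.toTopCat := inferInstanceAs (PrespectralSpace X)
  have hc' := ((Groth.CohTwo.preservesColimitsOfShape_toSheaf (X := X) J).preservesColimit.preserves hc).some
  let H := (Sheaf.cohomologyPresheafFunctor (Opens.grothendieckTopology X.toTopCat) (j + 1)).flip.obj (op U)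
  have hp : PreservesColimit (M ⋙ SheafOfModules.toSheaf.{u} X.ringCatSheaf) H :=
    Groth.FlatMor2.ColimCoh.preservesColimit_HU_space (X := X.toTopCat) U hU hU' (j + 1) _
  have hz : IsZero (H.obj ((SheafOfModules.toSheaf.{u} X.ringCatSheaf).obj c.pt)) :=
    Groth.Misc4.CompactAcyclic.isZero_of_isColimit_zero _ (hp.preserves hc').some fun s => by
      haveI := hM s
      haveI : Subsingleton ↑(H.obj ((SheafOfModules.toSheaf.{u} X.ringCatSheaf).obj (M.obj s))) :=
        hVanish_of_injective_module (M.obj s) U j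
      exact (AddCommGrpCat.isZero_of_subsingleton
        (H.obj ((SheafOfModules.toSheaf.{u} X.ringCatSheaf).obj (M.obj s))) :)
  exact AddCommGrpCat.subsingleton_of_isZero hz

variable (f : X ⟶ S) [QuasiCompact f] [QuasiSeparated f]

/-- Filtered colimits of injective modules are acyclic for `f_*`. -/
theorem rightAcyclic_colimit {M : J ⥤ X.Modules} {c : Cocone M} (hc : IsColimit c)
    (hM : ∀ t, Injective (M.obj t)) : RightAcyclic (Scheme.Modules.pushforward f) c.pt := by
  refine rightAcyclic_of_pushAcyclic f _ fun V y hy => ?_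
  obtain ⟨_, ⟨W, hW, rfl⟩, hyW, hWV⟩ := S.isBasis_affineOpens.exists_subset_of_mem_open hy V.2
  exact ⟨W, hWV, hyW, fun q => hVanish_colimit_injective hc _ (f.isCompact_preimage hW.isCompact)
    (Scheme.Hom.isQuasiSeparated_preimage f hW.isQuasiSeparated) hM q⟩

variable (J) in
/-- Direct images along quasi-compact quasi-separated morphisms commute with filtered colimits. -/
theorem preservesColimitsOfShape_push :
    PreservesColimitsOfShape J (Scheme.Modules.pushforward f) where
  preservesColimit {M} := by
    let G := Scheme.Modules.pushforward f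
    let δ := colimit.desc (M ⋙ G) (G.mapCocone (colimit.cocone M))
    have hδ : ∀ j (V : S.Opens) (y : Γ((M ⋙ G).obj j, V)),
        δ.app V ((colimit.ι (M ⋙ G) j).app V y) = (colimit.ι M j).app (f ⁻¹ᵁ V) y := fun j V y => by
      exact congr(($(colimit.ι_desc (G.mapCocone (colimit.cocone M)) j)).app V y)
    haveI : IsIso δ := by
      refine Groth.QCohMod.isIso_of_affine_bijective _ fun V hV => ?_
      obtain ⟨hs, hz⟩ := commutes_sect_modules (colimit.isColimit (M ⋙ G)) V hV.isCompact hV.isQuasiSeparated
      obtain ⟨hs', hz'⟩ := commutes_sect_modules (colimit.isColimit M) (f ⁻¹ᵁ V) (f.isCompact_preimage hV.isCompact)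
        (Scheme.Hom.isQuasiSeparated_preimage f hV.isQuasiSeparated)
      refine ⟨(injective_iff_map_eq_zero (δ.app V).hom).2 fun x hx => ?_, fun z => ?_⟩
      · obtain ⟨j, y, rfl⟩ := hs x
        obtain ⟨k, g, hg⟩ := hz' j y ((hδ j V y).symm.trans hx)
        show (colimit.ι (M ⋙ G) j).app V y = 0
        rw [← congr(($(colimit.w (M ⋙ G) g)).app V y)]
        exact (congrArg ((colimit.ι (M ⋙ G) k).app V) hg).trans (map_zero _)
      · obtain ⟨j, y, rfl⟩ := hs' z
        exact ⟨_, hδ j V y⟩
    exact preservesColimit_of_preserves_colimit_cocone (colimit.isColimit M)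
      ((colimit.isColimit (M ⋙ G)).ofIsoColimit (Cocone.ext (asIso δ) fun j => colimit.ι_desc _ j))

variable (J) in
theorem preservesColimitsOfShape_pushCx :
    PreservesColimitsOfShape J (Groth.DerivedCoh.KFlat.pushCx f) :=
  ⟨fun {_} => ⟨fun {c} hc => ⟨HomologicalComplex.isColimitOfEval _ _ fun n =>
    haveI := preservesColimitsOfShape_push J f
    isColimitOfPreserves (Scheme.Modules.pushforward f)
      (isColimitOfPreserves (HomologicalComplex.eval X.Modules up n) hc)⟩⟩⟩

open Groth.Misc4.RpushCoprod in
/-- The colimit of a diagram of bounded below complexes of injectives computes `Rf_*`. -/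
theorem isIso_γ_colimit [DCoh.HasRpush f] (I : J ⥤ CochainComplex X.Modules ℤ) (n : ℤ)
    (hn : ∀ j, (I.obj j).IsStrictlyGE n) (hI : ∀ j m, Injective ((I.obj j).X m))
    {c : Cocone I} (hc : IsColimit c) : IsIso ((γ f).app c.pt) := by
  haveI : c.pt.IsStrictlyGE n := (CochainComplex.isStrictlyGE_iff _ _).2 fun k hk =>
    (Groth.Misc4.CompactAcyclic.isZero_of_isColimit_zero _
      (isColimitOfPreserves (HomologicalComplex.eval X.Modules up k) hc)
      fun j => haveI := hn j; (I.obj j).isZero_of_isStrictlyGE n k hk)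
  exact isIso_γ_of_acyclic f c.pt n fun m => rightAcyclic_colimit f
    (isColimitOfPreserves (HomologicalComplex.eval X.Modules up m) hc) fun j => hI j m

open Groth.Misc4.RpushCoprod in
/-- Invertibility of `f_* ⟶ Rf_*` passes to uniformly bounded below filtered colimits. -/
theorem isIso_γ_of_isColimit [DCoh.HasRpush f] (C : J ⥤ CochainComplex X.Modules ℤ) (n : ℤ)
    (hC : ∀ j, (C.obj j).IsGE n) (hac : ∀ j, IsIso ((γ f).app (C.obj j)))
    {c : Cocone C} (hc : IsColimit c) : IsIso ((γ f).app c.pt) := by
  obtain ⟨I, α, hα, hn, hI⟩ := Groth.Misc4.FilteredColim.exists_injective_diagram C n hC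
  let φ := hc.desc ((Cocone.precompose α).obj (colimit.cocone I))
  have hφ : ∀ j, c.ι.app j ≫ φ = α.app j ≫ colimit.ι I j := fun j => hc.fac _ j
  haveI := preservesColimitsOfShape_pushCx J f
  have hq : ∀ j, QuasiIso ((Functor.whiskerRight α (Groth.DerivedCoh.KFlat.pushCx f)).app j) := fun j => by
    haveI := hn j
    haveI := hI j
    haveI : (I.obj j).IsKInjective := CochainComplex.isKInjective_of_injective (I.obj j) n
    haveI := hac j
    haveI := isIso_γ_of_isKInjective f (I.obj j)
    haveI := (DerivedCategory.isIso_Q_map_iff_quasiIso _ (α.app j)).2 (hα j)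
    refine (DerivedCategory.isIso_Q_map_iff_quasiIso _ _).1 ?_
    show IsIso (DerivedCategory.Q.map ((Groth.DerivedCoh.KFlat.pushCx f).map (α.app j)))
    have e := (γ f).naturality (α.app j)
    simp only [Functor.comp_map] at e
    haveI : IsIso (DerivedCategory.Q.map ((Groth.DerivedCoh.KFlat.pushCx f).map (α.app j)) ≫ (γ f).app (I.obj j)) := by
      rw [e]
      exact @IsIso.comp_isIso _ _ _ _ _ _ _ (hac j)
        (inferInstanceAs (IsIso ((DCoh.Rpush f).map (DerivedCategory.Q.map (α.app j)))))
    exact IsIso.of_isIso_comp_right _ ((γ f).app (I.obj j))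
  haveI := Groth.Misc4.FilteredColim.quasiIso_of_isColimit α hα hc (colimit.isColimit I) φ hφ
  haveI : QuasiIso ((Groth.DerivedCoh.KFlat.pushCx f).map φ) :=
    Groth.Misc4.FilteredColim.quasiIso_of_isColimit (Functor.whiskerRight α (Groth.DerivedCoh.KFlat.pushCx f))
      hq (isColimitOfPreserves (Groth.DerivedCoh.KFlat.pushCx f) hc)
      (isColimitOfPreserves (Groth.DerivedCoh.KFlat.pushCx f) (colimit.isColimit I))
      ((Groth.DerivedCoh.KFlat.pushCx f).map φ) fun j =>
        ((Groth.DerivedCoh.KFlat.pushCx f).map_comp _ _).symm.trans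
          ((congrArg _ (hφ j)).trans ((Groth.DerivedCoh.KFlat.pushCx f).map_comp _ _))
  haveI := isIso_γ_colimit f I n hn hI (colimit.isColimit I)
  haveI : IsIso (DerivedCategory.Q.map φ) := (DerivedCategory.isIso_Q_map_iff_quasiIso _ φ).2 inferInstance
  haveI : IsIso (DerivedCategory.Q.map ((Groth.DerivedCoh.KFlat.pushCx f).map φ)) :=
    (DerivedCategory.isIso_Q_map_iff_quasiIso _ _).2 inferInstance
  haveI : IsIso ((γ f).app c.pt ≫ (DCoh.Rpush f).map (DerivedCategory.Q.map φ)) := by
    have e := (γ f).naturality φ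
    simp only [Functor.comp_map] at e
    rw [← e]
    exact @IsIso.comp_isIso _ _ _ _ _ _ _ inferInstance (isIso_γ_colimit f I n hn hI (colimit.isColimit I))
  exact IsIso.of_isIso_comp_right ((γ f).app c.pt) ((DCoh.Rpush f).map (DerivedCategory.Q.map φ))

open Groth.Misc4.RpushCoprod in
/-- `H^i ∘ Rf_*` commutes with uniformly bounded below filtered colimits. -/
theorem nonempty_isColimit [DCoh.HasRpush f] (C : J ⥤ CochainComplex X.Modules ℤ) (n : ℤ)
    (hC : ∀ j, (C.obj j).IsGE n) {c : Cocone C} (hc : IsColimit c) (i : ℤ) :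
    Nonempty (IsColimit ((DerivedCategory.Q ⋙ DCoh.Rpush f ⋙
      DerivedCategory.homologyFunctor S.Modules i).mapCocone c)) := by
  obtain ⟨I, α, hα, hn, hI⟩ := Groth.Misc4.FilteredColim.exists_injective_diagram C n hC
  let φ := hc.desc ((Cocone.precompose α).obj (colimit.cocone I))
  have hφ : ∀ j, c.ι.app j ≫ φ = α.app j ≫ colimit.ι I j := fun j => hc.fac _ j
  haveI := preservesColimitsOfShape_pushCx J f
  haveI := Groth.Misc4.FilteredColim.quasiIso_of_isColimit α hα hc (colimit.isColimit I) φ hφ
  haveI : IsIso (DerivedCategory.Q.map φ) := (DerivedCategory.isIso_Q_map_iff_quasiIso _ φ).2 inferInstance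
  let H := DerivedCategory.homologyFunctor S.Modules i
  let T := DerivedCategory.Q ⋙ DCoh.Rpush f ⋙ H
  let η : Groth.DerivedCoh.KFlat.pushCx f ⋙ HomologicalComplex.homologyFunctor S.Modules up i ⟶ T :=
    Functor.whiskerLeft _ (DerivedCategory.homologyFunctorFactors S.Modules i).inv ≫
      Functor.whiskerRight (γ f) H
  have hη : ∀ L, IsIso ((γ f).app L) → IsIso (η.app L) := fun L hL => by
    exact @IsIso.comp_isIso _ _ _ _ _ _ _ inferInstance
      (inferInstanceAs (IsIso (H.map ((γ f).app L))))
  have hj : ∀ j, IsIso (η.app (I.obj j)) := fun j => hη _ (by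
    haveI := hn j
    haveI := hI j
    haveI : (I.obj j).IsKInjective := CochainComplex.isKInjective_of_injective (I.obj j) n
    exact isIso_γ_of_isKInjective f _)
  haveI := hη _ (isIso_γ_colimit f I n hn hI (colimit.isColimit I))
  haveI := Groth.Misc4.FilteredColim.preservesColimitsOfShape_homology (A := S.Modules) (J := J) i
  let hT : IsColimit (T.mapCocone (colimit.cocone I)) :=
    IsColimit.equivOfNatIsoOfIso (NatIso.ofComponents (fun j => haveI := hj j; (asIso (η.app (I.obj j)) :))
      fun g => η.naturality (I.map g))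
      ((Groth.DerivedCoh.KFlat.pushCx f ⋙ HomologicalComplex.homologyFunctor S.Modules up i).mapCocone
        (colimit.cocone I)) (T.mapCocone (colimit.cocone I))
      (Cocone.ext (asIso (η.app _)) fun j => by
        haveI := hj j
        show (inv (η.app (I.obj j)) ≫ _) ≫ η.app _ = T.map (colimit.ι I j)
        exact (Category.assoc _ _ _).trans ((congrArg (inv (η.app (I.obj j)) ≫ ·)
          (η.naturality (colimit.ι I j))).trans (IsIso.inv_hom_id_assoc _ _)))
      (isColimitOfPreserves (Groth.DerivedCoh.KFlat.pushCx f ⋙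
        HomologicalComplex.homologyFunctor S.Modules up i) (colimit.isColimit I))
  have hαT : ∀ j, IsIso (T.map (α.app j)) := fun j => by
    haveI := (DerivedCategory.isIso_Q_map_iff_quasiIso _ (α.app j)).2 (hα j)
    exact inferInstanceAs (IsIso ((DCoh.Rpush f ⋙ H).map (DerivedCategory.Q.map (α.app j))))
  haveI : IsIso (T.map φ) := inferInstanceAs (IsIso ((DCoh.Rpush f ⋙ H).map (DerivedCategory.Q.map φ)))
  exact ⟨IsColimit.equivOfNatIsoOfIso (NatIso.ofComponents (fun j => haveI := hαT j; (asIso (T.map (α.app j))).symm)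
    fun {j k} g => by
      haveI := hαT j
      haveI := hαT k
      show (I ⋙ T).map g ≫ inv (T.map (α.app k)) = inv (T.map (α.app j)) ≫ (C ⋙ T).map g
      rw [IsIso.comp_inv_eq, Category.assoc, IsIso.eq_inv_comp]
      exact (T.map_comp _ _).symm.trans ((congrArg T.map (α.naturality g)).symm.trans (T.map_comp _ _)))
    (T.mapCocone (colimit.cocone I)) (T.mapCocone c)
    (Cocone.ext (asIso (T.map φ)).symm fun j => by
      show (T.map (α.app j) ≫ T.map (colimit.ι I j)) ≫ inv (T.map φ) = T.map (c.ι.app j)
      rw [IsIso.comp_inv_eq, ← T.map_comp, ← T.map_comp, hφ])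
    hT⟩

end Groth.Misc4.FilteredPush
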