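import Groth.Agent.Misc4.FreeOn
import Groth.Agent.SitesTopoi.Mod.Relations
import Mathlib.Algebra.Category.ModuleCat.Sheaf.Quasicoherent
import Mathlib.CategoryTheory.Sites.CoverLifting

/-! Morphisms from finitely presented modules to flat ones factor locally through finite free modules. -/

universe u

open CategoryTheory CategoryTheory.Limits Opposite

set_option backward.defeqAttrib.useBackward true
set_option backward.isDefEq.respectTransparency false
set_option backward.isDefEq.respectTransparency.types false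
set_option synthInstance.maxHeartbeats 400000
set_option maxHeartbeats 1000000

namespace Groth.Misc4.FlatFactor

open Groth.SitesTopoi.ModH Groth.Misc4.FreeOn

variable {C : Type u} [SmallCategory C] {J : GrothendieckTopology C} {O : Sheaf J CommRingCat.{u}}

/-- Modules over the localised ringed site. -/
abbrev ModOver (O : Sheaf J CommRingCat.{u}) (W : C) : Type (u + 1) := ModSite.Mod (O.over W)

/-- The structure sheaf of the localised site. -/
noncomputable abbrev oU (O : Sheaf J CommRingCat.{u}) (W : C) : ModOver O W := SheafOfModules.unit _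

/-- The final object of the localised site. -/
abbrev top' (W : C) : Over W := Over.mk (𝟙 W)

/-- The unit section. -/
noncomputable def one' (O : Sheaf J CommRingCat.{u}) (W : C) : sc (oU O W).val (top' W) := (1 : rsec (O.over W) (top' W))

/-- The value of a morphism out of the structure sheaf. -/
noncomputable def ev {W : C} {N : ModOver O W} (f : oU O W ⟶ N) : sc N.val (top' W) :=
  apm f.val (top' W) (1 : rsec (O.over W) (top' W))

lemma ev_comp {W : C} {N N' : ModOver O W} (f : oU O W ⟶ N) (h : N ⟶ N') :
    ev (f ≫ h) = apm h.val (top' W) (ev f) := rfl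

lemma ev_ext {W : C} {N : ModOver O W} {f f' : oU O W ⟶ N} (h : ev f = ev f') : f = f' := by
  refine N.unitHomEquiv.injective (Subtype.ext (funext fun V => ?_))
  have e : ∀ k : oU O W ⟶ N, (N.unitHomEquiv k).val V =
      rsm N.val (Over.homMk (U := V.unop) (V := top' W) V.unop.hom (Category.comp_id _)) (ev k) :=
    fun k => ((N.unitHomEquiv k).2 (Over.homMk (U := V.unop) (V := top' W) V.unop.hom (Category.comp_id _)).op).symm
  rw [e, e, h]

lemma ev_add {W : C} {N : ModOver O W} (f f' : oU O W ⟶ N) : ev (f + f') = ev f + ev f' := rfl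

lemma ev_zero {W : C} {N : ModOver O W} : ev (0 : oU O W ⟶ N) = 0 := rfl

lemma ev_sum {W : C} {N : ModOver O W} {ι : Type*} (s : Finset ι) (f : ι → (oU O W ⟶ N)) :
    ev (∑ i ∈ s, f i) = ∑ i ∈ s, ev (f i) :=
  map_sum (AddMonoidHom.mk' (fun k : oU O W ⟶ N => ev k) ev_add) f s

/-- The morphism out of the structure sheaf given by a section. -/
noncomputable def ofElem {W : C} {M : ModSite.Mod O} (x : sc M.val W) : oU O W ⟶ (ModSite.restr O W).obj M :=
  ((ModSite.restr O W).obj M).unitHomEquiv.symm ((sectionsOverEquiv M W).symm x)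

lemma ev_ofElem {W : C} {M : ModSite.Mod O} (x : sc M.val W) : ev (ofElem x) = x :=
  (congrArg (sectionsOverEquiv M W)
    (Equiv.apply_symm_apply ((ModSite.restr O W).obj M).unitHomEquiv ((sectionsOverEquiv M W).symm x))).trans
    (Equiv.apply_symm_apply (sectionsOverEquiv M W) x)

/-- Multiplication by a function. -/
noncomputable def scal {W : C} (r : rsec O W) : oU O W ⟶ oU O W := ofElem (M := ModSite.unit O) r

lemma ev_scal_comp {W : C} {N : ModOver O W} (r : rsec O W) (h : oU O W ⟶ N) :
    ev (scal r ≫ h) = (r : rsec (O.over W) (top' W)) • ev h := by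
  rw [ev_comp, show ev (scal r) = r from ev_ofElem (M := ModSite.unit O) r]
  refine Eq.trans ?_ (map_smul (apm h.val (top' W)) (r : rsec (O.over W) (top' W)) (one' O W))
  exact congrArg _ (mul_one (r : rsec (O.over W) (top' W))).symm

lemma eq_scal {W : C} (f : oU O W ⟶ oU O W) : f = scal (O := O) (W := W) (ev f) :=
  ev_ext (ev_ofElem (M := ModSite.unit O) (ev f)).symm

variable {W Y : C} (g : W ⟶ Y)

/-- Restriction along a morphism of the site. -/
noncomputable def T : ModOver O Y ⥤ ModOver O W := SheafOfModules.overMap (ModSite.ringSh O) g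

instance : (T (O := O) g).Additive where

instance preservesFiniteColimits_T : PreservesFiniteColimits (T (O := O) g) := by
  have hc : ∀ (K : Type) [SmallCategory K] [FinCategory K], PreservesColimitsOfShape K (T (O := O) g) := by
    intro K _ _
    have h₁ : ((Over.map g).sheafPushforwardContinuous AddCommGrpCat.{u} (J.over W) (J.over Y)).IsLeftAdjoint :=
      ((Over.map g).sheafAdjunctionCocontinuous AddCommGrpCat.{u} (J.over W) (J.over Y)).isLeftAdjoint
    have h₂ : PreservesColimitsOfShape K
        ((Over.map g).sheafPushforwardContinuous AddCommGrpCat.{u} (J.over W) (J.over Y)) := inferInstance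
    have h₃ : PreservesColimitsOfShape K (SheafOfModules.toSheaf.{u} (ModSite.ringSh (O.over Y))) :=
      preservesColimitsOfShape_of_equiv (CategoryTheory.Equivalence.refl (C := K)) _
    have h₄ : PreservesColimitsOfShape K (T (O := O) g ⋙ SheafOfModules.toSheaf.{u} (ModSite.ringSh (O.over W))) :=
      inferInstanceAs (PreservesColimitsOfShape K (SheafOfModules.toSheaf.{u} (ModSite.ringSh (O.over Y)) ⋙
        (Over.map g).sheafPushforwardContinuous AddCommGrpCat.{u} (J.over W) (J.over Y)))
    have : ReflectsColimitsOfShape K (SheafOfModules.toSheaf.{u} (ModSite.ringSh (O.over W))) :=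
      reflectsColimitsOfShape_of_reflectsIsomorphisms
    exact preservesColimitsOfShape_of_reflects_of_preserves _ (SheafOfModules.toSheaf.{u} (ModSite.ringSh (O.over W)))
  exact ⟨fun K _ _ => hc K⟩

/-- The structure sheaf restricts to the structure sheaf. -/
noncomputable def η : (T (O := O) g).obj (oU O Y) ≅ oU O W := SheafOfModules.overMapUnitIso g

/-- Restrictions restrict to restrictions. -/
noncomputable def θ : ModSite.restr O Y ⋙ T g ≅ ModSite.restr O W := SheafOfModules.overFunctorMap _ g

lemma ev_T {M : ModSite.Mod O} (f : oU O Y ⟶ (ModSite.restr O Y).obj M) :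
    (ev ((η g).inv ≫ (T g).map f ≫ (θ g).hom.app M) : sc M.val W) = rsm M.val g (ev f : sc M.val Y) :=
  PresheafOfModules.naturality_apply f.val
    (Over.homMk (U := Over.mk (𝟙 W ≫ g)) (V := top' Y) g (by simp)).op
    (1 : rsec (O.over Y) (top' Y)) |>.trans rfl |> fun h => by
      refine Eq.trans ?_ h
      refine congrArg (fun x => (f.val.app (op (Over.mk (𝟙 W ≫ g)))).hom x) ?_
      exact (map_one ((O.obj.map g.op).hom)).symm

lemma ev_T_scal (r : rsec O Y) : (η g).inv ≫ (T g).map (scal r) ≫ (η g).hom = scal (rsR g r) := by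
  refine ev_ext ?_
  refine Eq.trans ?_ (ev_ofElem (M := ModSite.unit O) (rsR g r)).symm
  refine (ev_T g (M := ModSite.unit O) (scal r)).trans ?_
  exact congrArg (rsm (ModSite.unit O).val g) (ev_ofElem (M := ModSite.unit O) r)

section Free

variable (I : Type u) [Fintype I]

/-- The projections of a finite free module. -/
noncomputable def proj (i : I) : (SheafOfModules.free I : ModOver O W) ⟶ oU O W :=
  Cofan.IsColimit.desc (SheafOfModules.isColimitFreeCofan I) fun j => open Classical in if j = i then 𝟙 _ else 0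

lemma ι_proj [DecidableEq I] (i j : I) :
    (SheafOfModules.ιFree j : oU O W ⟶ SheafOfModules.free I) ≫ proj I i = if j = i then 𝟙 _ else 0 :=
  (Cofan.IsColimit.fac (SheafOfModules.isColimitFreeCofan I) _ j).trans (by split_ifs <;> rfl)

lemma sum_proj_ι : ∑ i, proj I i ≫ SheafOfModules.ιFree i = 𝟙 (SheafOfModules.free I : ModOver O W) := by
  classical
  refine Cofan.IsColimit.hom_ext (SheafOfModules.isColimitFreeCofan I) _ _ fun j => ?_
  simp only [SheafOfModules.freeCofan_inj, Preadditive.comp_sum, Category.comp_id, ← Category.assoc, ι_proj,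
    ite_comp, Category.id_comp, zero_comp]
  rw [Finset.sum_ite_eq, if_pos (Finset.mem_univ j)]
  exact (Category.comp_id _).symm

lemma eq_sum {N : ModOver O W} (f : (SheafOfModules.free I : ModOver O W) ⟶ N) :
    f = ∑ i, proj I i ≫ SheafOfModules.ιFree i ≫ f := by
  conv_lhs => rw [← Category.id_comp f, ← sum_proj_ι]
  simp only [Preadditive.sum_comp, Category.assoc]

end Free

/-- A morphism to a flat module factors, after localisation, through a finite free module. -/
theorem exists_factor {F H : ModSite.Mod O} (hH : RelTriv H) (φ : F ⟶ H) {Y : C}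
    (P : SheafOfModules.Presentation ((ModSite.restr O Y).obj F)) [P.IsFinite] :
    ∃ S ∈ J Y, ∀ ⦃W : C⦄ (g : W ⟶ Y), S g → ∃ (n : ℕ)
      (a : (ModSite.restr O W).obj F ⟶ SheafOfModules.free (ULift.{u} (Fin n)))
      (b : SheafOfModules.free (ULift.{u} (Fin n)) ⟶ (ModSite.restr O W).obj H),
        a ≫ b = (ModSite.restr O W).map φ := by
  classical
  have : Finite P.generators.I := SheafOfModules.GeneratingSections.IsFiniteType.finite
  have : Finite P.relations.I := SheafOfModules.GeneratingSections.IsFiniteType.finite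
  cases nonempty_fintype P.generators.I
  cases nonempty_fintype P.relations.I
  let I := P.generators.I
  let π : (SheafOfModules.free I : ModOver O Y) ⟶ (ModSite.restr O Y).obj F := P.generators.π
  let ρ : (SheafOfModules.free P.relations.I : ModOver O Y) ⟶ SheafOfModules.free I :=
    (SheafOfModules.freeHomEquiv _).symm P.relations.s ≫ kernel.ι _
  have hρ : ρ ≫ π = 0 := by simp [ρ, π]
  let v : I → sc H.val Y := fun i => ev (SheafOfModules.ιFree i ≫ π ≫ (ModSite.restr O Y).map φ)
  let c : P.relations.I → I → rsec O Y := fun k i => ev (SheafOfModules.ιFree k ≫ ρ ≫ proj I i)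
  have hc : ∀ k, SheafOfModules.ιFree k ≫ ρ = ∑ i, scal (c k i) ≫ SheafOfModules.ιFree i := fun k => by
    calc SheafOfModules.ιFree k ≫ ρ
        = ∑ i, (SheafOfModules.ιFree k ≫ ρ ≫ proj I i) ≫ SheafOfModules.ιFree i := by
          conv_lhs => rw [← Category.comp_id ρ, ← sum_proj_ι]
          simp only [Preadditive.comp_sum, Category.assoc]
      _ = _ := Finset.sum_congr rfl fun i _ => congrArg (· ≫ _) (eq_scal _)
  have hv : ∀ k, ∑ i, c k i • v i = 0 := fun k => by
    have h0 : (∑ i, scal (c k i) ≫ SheafOfModules.ιFree i ≫ π ≫ (ModSite.restr O Y).map φ) = 0 := by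
      rw [show (∑ i, scal (c k i) ≫ SheafOfModules.ιFree i ≫ π ≫ (ModSite.restr O Y).map φ) =
        (∑ i, scal (c k i) ≫ SheafOfModules.ιFree i) ≫ π ≫ (ModSite.restr O Y).map φ by
          simp only [Preadditive.sum_comp, Category.assoc]]
      rw [← hc, Category.assoc, reassoc_of% hρ, zero_comp, comp_zero]
    have h1 := congrArg (fun f => (ev f : sc H.val Y)) h0
    simp only [ev_sum, ev_scal_comp, ev_zero] at h1
    exact h1
  let e := (Fintype.equivFin I).symm
  obtain ⟨S, hS, h'⟩ := hH.simultaneous (fun j => v (e j))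
    (((Finset.univ : Finset P.relations.I).toList).map fun k j => c k (e j)) (fun r hr => by
      obtain ⟨k, -, rfl⟩ := List.mem_map.1 hr
      exact (Equiv.sum_comp e fun i => c k i • v i).trans (hv k))
  refine ⟨S, hS, fun W g hg => ?_⟩
  obtain ⟨l, t, a', ht, ha'⟩ := h' g hg
  let L := ULift.{u} (Fin l)
  let A : I → (oU O W ⟶ SheafOfModules.free L) := fun i =>
    ∑ k : L, scal (a' (e.symm i) k.down) ≫ SheafOfModules.ιFree k
  let b : (SheafOfModules.free L : ModOver O W) ⟶ (ModSite.restr O W).obj H :=
    Cofan.IsColimit.desc (SheafOfModules.isColimitFreeCofan L) fun k => ofElem (t k.down)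
  let a₀ : (T g).obj (SheafOfModules.free I : ModOver O Y) ⟶ SheafOfModules.free L :=
    ∑ i, (T g).map (proj I i) ≫ (η g).hom ≫ A i
  have hι : ∀ i, (T g).map (SheafOfModules.ιFree i) ≫ a₀ = (η g).hom ≫ A i := fun i => by
    simp only [a₀, Preadditive.comp_sum, ← Functor.map_comp_assoc, ι_proj]
    rw [Finset.sum_eq_single i (fun j _ h => by rw [if_neg (Ne.symm h), Functor.map_zero, zero_comp])
      (fun h => (h (Finset.mem_univ i)).elim)]
    simp
  have hrel : (T g).map ρ ≫ a₀ = 0 := by
    have hk : ∀ k, (T g).map (SheafOfModules.ιFree k ≫ ρ) ≫ a₀ = 0 := fun k => by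
      rw [hc, Functor.map_sum, Preadditive.sum_comp]
      simp only [Functor.map_comp, Category.assoc, hι]
      rw [← cancel_epi (η g).inv, comp_zero, Preadditive.comp_sum]
      have hs : ∀ i, (η g).inv ≫ (T g).map (scal (c k i)) ≫ (η g).hom ≫ A i = scal (rsR g (c k i)) ≫ A i :=
        fun i => by rw [← ev_T_scal]; simp only [Category.assoc]
      rw [Finset.sum_congr rfl fun i _ => hs i]
      simp only [A, Preadditive.comp_sum]
      rw [Finset.sum_comm]
      refine Finset.sum_eq_zero fun m _ => ev_ext ?_
      simp only [ev_sum, ev_zero, ev_scal_comp, smul_smul, ← Finset.sum_smul]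
      have h2 := ha' (fun j => c k (e j)) (List.mem_map.2 ⟨k, Finset.mem_toList.2 (Finset.mem_univ k), rfl⟩) m.down
      refine (congrArg (· • ev (SheafOfModules.ιFree m : oU O W ⟶ SheafOfModules.free L)) (?_ : _ = (0 : rsec O W))).trans
        (zero_smul _ _)
      refine Eq.trans ?_ h2
      refine (Equiv.sum_comp e _).symm.trans (Finset.sum_congr rfl fun j _ => ?_)
      rw [Equiv.symm_apply_apply, mul_comm]
    rw [eq_sum P.relations.I ρ, Functor.map_sum, Preadditive.sum_comp]
    exact Finset.sum_eq_zero fun k _ => by rw [Functor.map_comp, Category.assoc, hk, comp_zero]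
  have hP := isColimitOfPreserves (T g) P.isColimit
  have hepi : Epi ((T g).map π) := (T g).map_epi π
  obtain ⟨a₁, ha₁⟩ : ∃ a₁ : (T g).obj ((ModSite.restr O Y).obj F) ⟶ SheafOfModules.free L, (T g).map π ≫ a₁ = a₀ := by
    let s := Cofork.ofπ (f := (T g).map ρ) (g := (T g).map 0) a₀ (by rw [hrel, Functor.map_zero, zero_comp])
    have hP' := (isColimitMapCoconeCoforkEquiv (T g) _) hP
    exact ⟨hP'.desc s, Cofork.IsColimit.π_desc hP'⟩
  refine ⟨l, (θ g).inv.app F ≫ a₁, b, ?_⟩
  rw [Category.assoc, Iso.app_inv _ F |>.symm, Iso.inv_comp_eq, ← cancel_epi ((T g).map π), reassoc_of% ha₁]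
  have key : ∀ i, A i ≫ b = ofElem (rsm H.val g (v i)) := fun i => ev_ext <| by
    simp only [A, b, Preadditive.sum_comp, Category.assoc, ev_sum, ev_scal_comp]
    refine Eq.trans ?_ (ev_ofElem _).symm
    have h3 := ht (e.symm i)
    rw [Equiv.apply_symm_apply] at h3
    rw [h3]
    refine (Fintype.sum_equiv Equiv.ulift _ _ fun k => ?_)
    exact congrArg _ ((congrArg ev (Cofan.IsColimit.fac _ _ k)).trans (ev_ofElem _))
  calc a₀ ≫ b = ∑ i, (T g).map (proj I i) ≫ (η g).hom ≫ A i ≫ b := by simp [a₀, Preadditive.sum_comp]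
    _ = ∑ i, (T g).map (proj I i) ≫ (T g).map (SheafOfModules.ιFree i ≫ π ≫ (ModSite.restr O Y).map φ) ≫
          (θ g).hom.app H := by
        refine Finset.sum_congr rfl fun i _ => congrArg _ ?_
        rw [← Iso.eq_inv_comp, key]
        exact ev_ext ((ev_ofElem _).trans (ev_T g _).symm)
    _ = (T g).map (π ≫ (ModSite.restr O Y).map φ) ≫ (θ g).hom.app H := by
        conv_rhs => rw [eq_sum I (π ≫ (ModSite.restr O Y).map φ)]
        simp only [Functor.map_sum, Preadditive.sum_comp, Functor.map_comp, Category.assoc]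
    _ = _ := by
        rw [Functor.map_comp, Category.assoc]
        exact congrArg _ ((θ g).hom.naturality φ)

/-- Morphisms from finitely presented to flat modules factor locally through finite free modules. -/
theorem exists_local_factor {F H : ModSite.Mod O} [hF : F.IsFinitePresentation] (hH : ModSite.IsFlat H)
    (φ : F ⟶ H) (X : C) :
    ∃ (ι : Type u) (Y : ι → C) (g : ∀ i, Y i ⟶ X), Sieve.ofArrows Y g ∈ J X ∧
      ∀ i, ∃ (n : ℕ) (a : (ModSite.restr O (Y i)).obj F ⟶ SheafOfModules.free (ULift.{u} (Fin n)))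
        (b : SheafOfModules.free (ULift.{u} (Fin n)) ⟶ (ModSite.restr O (Y i)).obj H),
        a ≫ b = (ModSite.restr O (Y i)).map φ := by
  obtain ⟨σ, hσ⟩ := SheafOfModules.IsFinitePresentation.exists_quasicoherentData F
  have hh := fun i => exists_factor (relTriv_of_isFlat hH) φ (σ.presentation i)
  choose S hS hS' using hh
  let Good : ∀ ⦃W : C⦄, (W ⟶ X) → Prop := fun W _ => ∃ (n : ℕ)
    (a : (ModSite.restr O W).obj F ⟶ SheafOfModules.free (ULift.{u} (Fin n)))
    (b : SheafOfModules.free (ULift.{u} (Fin n)) ⟶ (ModSite.restr O W).obj H),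
      a ≫ b = (ModSite.restr O W).map φ
  let R : Sieve X := Sieve.bind (Sieve.ofObjects σ.X X) fun V f hf => (S hf.choose).pullback hf.choose_spec.some
  have hR : R ∈ J X := J.bind_covering (σ.coversTop X) fun V f hf => J.pullback_stable _ (hS _)
  refine ⟨Σ W : C, {f : W ⟶ X // R f}, fun s => s.1, fun s => s.2.1, ?_, ?_⟩
  · exact J.superset_covering (fun W f hf => Sieve.ofArrows_mk _ _ (⟨W, f, hf⟩ : Σ W : C, {f : W ⟶ X // R f})) hR
  · rintro ⟨W, f, V, k, q, hq, hk, rfl⟩
    exact hS' _ (k ≫ hq.choose_spec.some) hk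

end Groth.Misc4.FlatFactor
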