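import Groth.Agent.DerivedCoh.KFlat.Unbounded
import Groth.Agent.DerivedCoh.KFlat.Basic
import Mathlib.CategoryTheory.Functor.OfSequence
import Mathlib.Algebra.Homology.HomotopyCategory.MappingCone
import Mathlib.Algebra.Homology.GrothendieckAbelian
import Mathlib.CategoryTheory.Abelian.GrothendieckCategory.Basic

/-!
Telescopes of functorial resolutions of truncations: systems of resolutions with termwise split
injective transition maps.
-/

universe v u

set_option backward.defeqAttrib.useBackward true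
set_option backward.isDefEq.respectTransparency false
set_option linter.unusedSectionVars false

namespace Groth.Misc4.Telescope

open CategoryTheory CategoryTheory.Limits HomologicalComplex
open Groth.DerivedCoh Groth.DerivedCoh.KFlat

variable {A : Type u} [Category.{v} A] [Abelian A]

local notation "up" => ComplexShape.up ℤ

/-- the transition between truncations at consecutive levels -/
noncomputable def stepTo (G : CochainComplex A ℤ) {m m' : ℤ} (h : m' = m + 1) :
    G.truncLE m ⟶ G.truncLE m' :=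
  truncStep G m ≫ eqToHom (by rw [h])

lemma stepTo_ι (G : CochainComplex A ℤ) {m m' : ℤ} (h : m' = m + 1) :
    stepTo G h ≫ G.ιTruncLE m' = G.ιTruncLE m := by
  subst h
  simp [stepTo, truncStep_ι]

lemma succ_cast (n : ℕ) : ((n + 1 : ℕ) : ℤ) + 1 = ((n : ℤ) + 1) + 1 := by lia

/-- the sequence of truncations from level one -/
noncomputable def truncs (G : CochainComplex A ℤ) : ℕ ⥤ CochainComplex A ℤ :=
  Functor.ofSequence (X := fun n : ℕ => G.truncLE ((n : ℤ) + 1)) fun n => stepTo G (succ_cast n)

/-- the cocone of truncations -/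
noncomputable def truncsCocone (G : CochainComplex A ℤ) : Cocone (truncs G) where
  pt := G
  ι := NatTrans.ofSequence (fun n : ℕ => G.ιTruncLE ((n : ℤ) + 1)) fun n => by
    simp [truncs]
    exact stepTo_ι G (succ_cast n)

/-- truncations exhaust a complex -/
noncomputable def isColimitTruncs (G : CochainComplex A ℤ) : IsColimit (truncsCocone G) :=
  isColimitOfEval _ _ fun q => isColimitOfEventuallyIso _ q.toNat fun n hn =>
    isIso_ιTruncLE_f G ((n : ℤ) + 1) q (by lia)

variable [∀ J : Type, HasColimitsOfShape (Discrete J) A]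
  [∀ J : Type, HasExactColimitsOfShape (Discrete J) A]
  [HasColimitsOfShape ℕ A] [HasExactColimitsOfShape ℕ A]

variable (V : Cover A) (G : CochainComplex A ℤ)

/-- the resolutions of the truncations -/
noncomputable def R (n : ℕ) : CochainComplex A ℤ := V.res.obj (G.truncLE ((n : ℤ) + 1))

/-- their augmentations -/
noncomputable def aug (n : ℕ) : R V G n ⟶ G.truncLE ((n : ℤ) + 1) := V.resAug.app _

/-- their transition maps -/
noncomputable def r (n : ℕ) : R V G n ⟶ R V G (n + 1) := V.res.map (stepTo G (succ_cast n))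

lemma r_aug (n : ℕ) : r V G n ≫ aug V G (n + 1) = aug V G n ≫ stepTo G (succ_cast n) :=
  V.resAug.naturality _

lemma quasiIso_aug (n : ℕ) : QuasiIso (aug V G n) :=
  V.quasiIso_resAug _ ((n : ℤ) + 1) fun p hp =>
    (G.truncLE ((n : ℤ) + 1)).isZero_of_isStrictlyLE ((n : ℤ) + 1) p hp

lemma epi_aug (n : ℕ) : Epi (aug V G n) := V.epi_resAug _

/-- a term of the telescope with its map to the resolution -/
structure Stage (n : ℕ) where
  /-- the complex -/
  K : CochainComplex A ℤ
  /-- the map to the resolution -/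
  φ : K ⟶ R V G n

/-- the telescope -/
noncomputable def stage : ∀ n : ℕ, Stage V G n
  | 0 => ⟨R V G 0, 𝟙 _⟩
  | n + 1 => ⟨CochainComplex.mappingCone (𝟙 (stage n).K) ⊞ R V G (n + 1), biprod.snd⟩

/-- the transition maps of the telescope -/
noncomputable def step (n : ℕ) : (stage V G n).K ⟶ (stage V G (n + 1)).K :=
  biprod.lift (CochainComplex.mappingCone.inr _) ((stage V G n).φ ≫ r V G n)

lemma step_φ (n : ℕ) : step V G n ≫ (stage V G (n + 1)).φ = (stage V G n).φ ≫ r V G n :=
  biprod.lift_snd _ _

/-- the telescope as a system -/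
noncomputable def system : ℕ ⥤ CochainComplex A ℤ :=
  Functor.ofSequence (X := fun n => (stage V G n).K) (step V G)

/-- the maps to the truncations -/
noncomputable def proj (n : ℕ) : (stage V G n).K ⟶ G.truncLE ((n : ℤ) + 1) :=
  (stage V G n).φ ≫ aug V G n

lemma proj_comm (n : ℕ) : step V G n ≫ proj V G (n + 1) = proj V G n ≫ stepTo G (succ_cast n) := by
  rw [proj, proj, ← Category.assoc, step_φ, Category.assoc, r_aug, Category.assoc]

lemma φ_spec (n : ℕ) : QuasiIso (stage V G n).φ ∧ Epi (stage V G n).φ := by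
  cases n with
  | zero => exact ⟨inferInstanceAs (QuasiIso (𝟙 _)), inferInstanceAs (Epi (𝟙 _))⟩
  | succ m =>
    refine ⟨⟨fun i => ?_⟩, inferInstanceAs (Epi (biprod.snd (X := CochainComplex.mappingCone (𝟙 (stage V G m).K))))⟩
    rw [quasiIsoAt_iff_isIso_homologyMap]
    let I := CochainComplex.mappingCone (𝟙 (stage V G m).K)
    have hI : I.ExactAt i := by
      rw [exactAt_iff_isZero_homology, IsZero.iff_id_eq_zero, ← homologyMap_id,
        (CochainComplex.mappingCone.homotopyToZeroOfId _).homologyMap_eq i, homologyMap_zero]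
    let S := ShortComplex.mk (biprod.inl : I ⟶ I ⊞ R V G (m + 1)) biprod.snd biprod.inl_snd
    have hS : S.ShortExact :=
      (ShortComplex.Splitting.mk biprod.fst biprod.inr (by simp [S]) (by simp [S])
        (by simp [S, biprod.total])).shortExact
    have h : IsIso (homologyMap S.g i) := by
      have hz : ∀ j, S.X₁.ExactAt j := fun j => by
        rw [exactAt_iff_isZero_homology, IsZero.iff_id_eq_zero, ← homologyMap_id,
          (CochainComplex.mappingCone.homotopyToZeroOfId _).homologyMap_eq j, homologyMap_zero]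
      have := quasiIso_g_of_acyclic hS hz
      infer_instance
    exact h

lemma proj_spec (n : ℕ) : QuasiIso (proj V G n) ∧ Epi (proj V G n) := by
  have := φ_spec V G n
  have := this.1
  have := (φ_spec V G n).2
  have := quasiIso_aug V G n
  have := epi_aug V G n
  exact ⟨quasiIso_comp _ _, epi_comp _ _⟩

/-- the natural transformation to the truncations -/
noncomputable def projNat : system V G ⟶ truncs G :=
  NatTrans.ofSequence (proj V G) fun n => by
    simp [system, truncs]
    exact proj_comm V G n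

/-- the colimit maps to the complex by a quasi-isomorphism -/
noncomputable def colimDesc : colimit (system V G) ⟶ G :=
  colim.map (projNat V G) ≫ colimit.desc _ (truncsCocone G)

lemma ι_colimDesc (n : ℕ) :
    colimit.ι (system V G) n ≫ colimDesc V G = proj V G n ≫ G.ιTruncLE ((n : ℤ) + 1) := by
  unfold colimDesc
  erw [ι_colimMap_assoc, colimit.ι_desc]
  rfl

lemma quasiIso_colimDesc : QuasiIso (colimDesc V G) := by
  let φ := projNat V G
  have hφ : ∀ n, QuasiIso (φ.app n) ∧ Epi (φ.app n) := fun n => proj_spec V G n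
  have : ∀ n, Epi (φ.app n) := fun n => (hφ n).2
  have : Epi φ := NatTrans.epi_of_epi_app φ
  let S := ShortComplex.mk _ _ (kernel.condition φ)
  have hS : S.ShortExact := { exact := ShortComplex.exact_of_f_is_kernel _ (kernelIsKernel φ) }
  have hS' := hS.map_of_exact (colim (J := ℕ) (C := CochainComplex A ℤ))
  have hz : ∀ n, ((kernel φ).obj n).Acyclic := fun n i => by
    have := (hφ n).1
    exact (hS.map_of_exact ((evaluation ℕ _).obj n)).exactAt_X₁ i
      (by change Mono (homologyMap (φ.app n) i); infer_instance)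
      (fun j _ => by change Epi (homologyMap (φ.app n) j); infer_instance)
  have : QuasiIso (colim.map φ) := quasiIso_g_of_acyclic hS' (acyclic_colimit ℕ (kernel φ) hz)
  have : IsIso (colimit.desc (truncs G) (truncsCocone G)) :=
    ((colimit.isColimit _).coconePointUniqueUpToIso (isColimitTruncs G)).isIso_hom
  exact quasiIso_comp _ _

/-- the telescope is bounded above -/
lemma isStrictlyLE_stage (n : ℕ) : ∃ b : ℤ, (stage V G n).K.IsStrictlyLE b := by
  have hR : ∀ m : ℕ, (R V G m).IsStrictlyLE ((m : ℤ) + 1) := fun m => by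
    rw [CochainComplex.isStrictlyLE_iff]
    exact V.res_X_zero _ ((m : ℤ) + 1) fun p hp =>
      (G.truncLE ((m : ℤ) + 1)).isZero_of_isStrictlyLE ((m : ℤ) + 1) p hp
  induction n with
  | zero => exact ⟨_, hR 0⟩
  | succ m ih =>
    obtain ⟨b, hb⟩ := ih
    refine ⟨max b ((m : ℤ) + 2), ?_⟩
    rw [CochainComplex.isStrictlyLE_iff]
    intro p hp
    have h1 : ∀ q, b < q → IsZero ((stage V G m).K.X q) := (CochainComplex.isStrictlyLE_iff _ _).1 hb
    have h2 := hR (m + 1)
    have h3 : IsZero ((CochainComplex.mappingCone (𝟙 (stage V G m).K)).X p) := by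
      rw [IsZero.iff_id_eq_zero]
      refine CochainComplex.mappingCone.ext_from _ (p + 1) p rfl ?_ ?_
      · exact (h1 _ (by lia)).eq_of_src _ _
      · exact (h1 _ (by lia)).eq_of_src _ _
    have h4 : IsZero ((R V G (m + 1)).X p) :=
      (R V G (m + 1)).isZero_of_isStrictlyLE (((m + 1 : ℕ) : ℤ) + 1) p (by push_cast; lia)
    exact ((biprod_isZero_iff _ _).2 ⟨h3, h4⟩).of_iso (biprodXIso _ _ p)

variable (Φ : A → Prop) (hP : ∀ Y, Φ (V.P.obj Y)) (hzero : ∀ Y, IsZero Y → Φ Y)
  (hiso : ∀ {Y Y' : A}, (Y ≅ Y') → Φ Y → Φ Y')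
  (hsigma : ∀ (ι : Type) (N : ι → A), (∀ i, Φ (N i)) → Φ (∐ N))
  (hbiprod : ∀ {Y Y' : A}, Φ Y → Φ Y' → Φ (Y ⊞ Y'))

/-- the terms of a cone of the identity -/
noncomputable def coneXIso (K : CochainComplex A ℤ) (p : ℤ) :
    (CochainComplex.mappingCone (𝟙 K)).X p ≅ K.X (p + 1) ⊞ K.X p :=
  homotopyCofiber.XIsoBiprod (𝟙 K) p (p + 1) rfl

include hP hzero hiso hsigma hbiprod in
lemma stage_X_prop (n : ℕ) (p : ℤ) : Φ ((stage V G n).K.X p) := by
  induction n generalizing p with
  | zero => exact V.res_X_prop Φ hP hzero hiso hsigma _ p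
  | succ m ih =>
    exact hiso (biprodXIso _ _ p).symm
      (hbiprod (hiso (coneXIso _ p).symm (hbiprod (ih (p + 1)) (ih p)))
        (V.res_X_prop Φ hP hzero hiso hsigma _ p))

omit [∀ J : Type, HasColimitsOfShape (Discrete J) A]
  [∀ J : Type, HasExactColimitsOfShape (Discrete J) A]
  [HasColimitsOfShape ℕ A] [HasExactColimitsOfShape ℕ A] in
/-- The inclusion of a complex in its cone plus anything is termwise split, with the evident cokernel. -/
lemma lift_inr_spec {K R : CochainComplex A ℤ} (g : K ⟶ R) (p : ℤ) :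
    ∃ ρ : (CochainComplex.mappingCone (𝟙 K) ⊞ R).X p ⟶ K.X p,
      (biprod.lift (CochainComplex.mappingCone.inr (𝟙 K)) g).f p ≫ ρ = 𝟙 _ ∧
      Nonempty (cokernel ((biprod.lift (CochainComplex.mappingCone.inr (𝟙 K)) g).f p) ≅
        K.X (p + 1) ⊞ R.X p) := by
  let S := ShortComplex.mk ((biprod.lift (CochainComplex.mappingCone.inr (𝟙 K)) g).f p)
    (biprod.lift ((biprod.fst : CochainComplex.mappingCone (𝟙 K) ⊞ R ⟶ _).f p ≫
        (CochainComplex.mappingCone.fst (𝟙 K)).1.v p (p + 1) rfl)
      ((biprod.snd : CochainComplex.mappingCone (𝟙 K) ⊞ R ⟶ _).f p -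
        (biprod.fst : CochainComplex.mappingCone (𝟙 K) ⊞ R ⟶ _).f p ≫
          (CochainComplex.mappingCone.snd (𝟙 K)).v p p (add_zero p) ≫ g.f p))
    (by refine biprod.hom_ext _ _ ?_ ?_ <;> simp)
  let σ : S.Splitting :=
    { r := (biprod.fst : CochainComplex.mappingCone (𝟙 K) ⊞ R ⟶ _).f p ≫
        (CochainComplex.mappingCone.snd (𝟙 K)).v p p (add_zero p)
      s := biprod.desc
        ((CochainComplex.mappingCone.inl (𝟙 K)).v (p + 1) p (by lia) ≫
          (biprod.inl : CochainComplex.mappingCone (𝟙 K) ⟶ _ ⊞ R).f p)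
        ((biprod.inr : R ⟶ CochainComplex.mappingCone (𝟙 K) ⊞ R).f p)
      f_r := by simp [S]
      s_g := by
        refine biprod.hom_ext' _ _ (biprod.hom_ext _ _ ?_ ?_) (biprod.hom_ext _ _ ?_ ?_) <;> simp [S]
      id := by
        refine (cancel_mono (biprodXIso (CochainComplex.mappingCone (𝟙 K)) R p).hom).1
          (biprod.hom_ext _ _ ?_ ?_)
        · simp [S]
          rw [add_comm, ← Preadditive.comp_add, CochainComplex.mappingCone.id_X (𝟙 K) p (p + 1) rfl,
            Category.comp_id]
        · simp [S] }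
  exact ⟨σ.r, σ.f_r, ⟨(cokernelIsCokernel _).coconePointUniqueUpToIso σ.shortExact.gIsCokernel⟩⟩

include hP hzero hiso hsigma hbiprod in
lemma step_f_spec (n : ℕ) (p : ℤ) : ∃ ρ : (stage V G (n + 1)).K.X p ⟶ (stage V G n).K.X p,
    (step V G n).f p ≫ ρ = 𝟙 _ ∧ Φ (cokernel ((step V G n).f p)) := by
  obtain ⟨ρ, h, ⟨e⟩⟩ := lift_inr_spec ((stage V G n).φ ≫ r V G n) p
  exact ⟨ρ, h, hiso e.symm (hbiprod (stage_X_prop V G Φ hP hzero hiso hsigma hbiprod n (p + 1))
    (V.res_X_prop Φ hP hzero hiso hsigma _ p))⟩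

end Groth.Misc4.Telescope
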