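import Groth.Agent.Misc4.FreeOn
import Groth.Agent.Misc4.Telescope

/-! The cover of a module on a ringed site by sums of free modules on objects. -/

universe u

open CategoryTheory CategoryTheory.Limits Opposite

set_option backward.defeqAttrib.useBackward true
set_option backward.isDefEq.respectTransparency false

namespace Groth.Misc4.FreeCover

open Groth.SitesTopoi.ModH Groth.Misc4.FreeOn

variable {C : Type u} [SmallCategory C] {J : GrothendieckTopology C} {O : Sheaf J CommRingCat.{u}}

/-- nonzero morphisms from free modules on objects -/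
abbrev Idx (M : ModSite.Mod O) : Type u := {p : Σ U : C, (ModSite.freeOn O U ⟶ M) // p.2 ≠ 0}

/-- the cover -/
noncomputable abbrev coverObj (M : ModSite.Mod O) : ModSite.Mod O :=
  ∐ fun i : Idx M => ModSite.freeOn O i.1.1

open scoped Classical in
/-- the summand of a morphism -/
noncomputable def inj (M : ModSite.Mod O) (U : C) (t : ModSite.freeOn O U ⟶ M) :
    ModSite.freeOn O U ⟶ coverObj M :=
  if h : t = 0 then 0 else Sigma.ι (fun i : Idx M => ModSite.freeOn O i.1.1) ⟨⟨U, t⟩, h⟩

lemma inj_zero (M : ModSite.Mod O) (U : C) : inj M U 0 = 0 := by simp [inj]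

lemma ι_eq_inj (M : ModSite.Mod O) (i : Idx M) :
    Sigma.ι (fun i : Idx M => ModSite.freeOn O i.1.1) i = inj M i.1.1 i.1.2 := by
  simp [inj, i.2]

/-- functoriality -/
noncomputable def coverMap {M M' : ModSite.Mod O} (f : M ⟶ M') : coverObj M ⟶ coverObj M' :=
  Sigma.desc fun i => inj M' i.1.1 (i.1.2 ≫ f)

lemma inj_map {M M' : ModSite.Mod O} (f : M ⟶ M') (U : C) (t : ModSite.freeOn O U ⟶ M) :
    inj M U t ≫ coverMap f = inj M' U (t ≫ f) := by
  by_cases h : t = 0
  · simp [h, inj_zero]
  · simp [inj, h, coverMap]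

/-- the projection -/
noncomputable def coverπ (M : ModSite.Mod O) : coverObj M ⟶ M := Sigma.desc fun i => i.1.2

lemma inj_π (M : ModSite.Mod O) (U : C) (t : ModSite.freeOn O U ⟶ M) : inj M U t ≫ coverπ M = t := by
  by_cases h : t = 0
  · simp [h, inj_zero]
  · simp [inj, h, coverπ]

lemma epi_coverπ (M : ModSite.Mod O) : Epi (coverπ M) :=
  ⟨fun {G} g h e => mod_hom_ext fun U m => by
    have hi := inj M U ((homEquiv U M).symm m) ≫= e
    rw [← Category.assoc, ← Category.assoc, inj_π] at hi
    have := congrArg (homEquiv U G) hi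
    rwa [homEquiv_comp, homEquiv_comp, Equiv.apply_symm_apply] at this⟩

variable (O) in
/-- the cover by sums of free modules -/
noncomputable def cover : Groth.DerivedCoh.KFlat.Cover (ModSite.Mod O) where
  P :=
    { obj := coverObj
      map := coverMap
      map_id := fun M => Sigma.hom_ext _ _ fun i => by
        rw [ι_eq_inj, inj_map, Category.comp_id, Category.comp_id]
      map_comp := fun f g => Sigma.hom_ext _ _ fun i => by
        rw [ι_eq_inj, inj_map, ← Category.assoc, ← Category.assoc, inj_map, inj_map] }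
  π :=
    { app := coverπ
      naturality := fun M M' f => Sigma.hom_ext _ _ fun i => by
        change _ ≫ coverMap f ≫ coverπ M' = _ ≫ coverπ M ≫ f
        rw [ι_eq_inj, ← Category.assoc, inj_map, inj_π, ← Category.assoc, inj_π] }
  epi := epi_coverπ
  preservesZero := ⟨fun M M' => Sigma.hom_ext _ _ fun i => by
    change _ ≫ coverMap 0 = _ ≫ 0
    rw [ι_eq_inj, inj_map, comp_zero, comp_zero, inj_zero]⟩

/-- being a sum of free modules on objects -/
def IsFreeSum (M : ModSite.Mod O) : Prop :=
  ∃ (ι : Type u) (U : ι → C), Nonempty (M ≅ ∐ fun j => ModSite.freeOn O (U j))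

lemma isFreeSum_cover (M : ModSite.Mod O) : IsFreeSum ((cover O).P.obj M) := ⟨_, _, ⟨Iso.refl _⟩⟩

lemma IsFreeSum.of_iso {M M' : ModSite.Mod O} (e : M ≅ M') (h : IsFreeSum M) : IsFreeSum M' := by
  obtain ⟨ι, U, ⟨i⟩⟩ := h
  exact ⟨ι, U, ⟨e.symm ≪≫ i⟩⟩

lemma isFreeSum_sigma {α : Type u} (N : α → ModSite.Mod O) (h : ∀ a, IsFreeSum (N a)) :
    IsFreeSum (∐ N) := by
  choose ι U e using h
  exact ⟨Σ a, ι a, fun p => U p.1 p.2, ⟨Sigma.mapIso (fun a => (e a).some) ≪≫
    sigmaSigmaIso ι fun a j => ModSite.freeOn O (U a j)⟩⟩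

lemma isFreeSum_sigma₀ (α : Type) (N : α → ModSite.Mod O) (h : ∀ a, IsFreeSum (N a)) :
    IsFreeSum (∐ N) :=
  (isFreeSum_sigma (fun i : ULift.{u} α => N i.down) fun i => h i.down).of_iso
    (Limits.Sigma.whiskerEquiv (f := fun i : ULift.{u} α => N i.down) (g := N)
      Equiv.ulift fun _ => Iso.refl _)

lemma isFreeSum_of_isZero {M : ModSite.Mod O} (h : IsZero M) : IsFreeSum M :=
  ⟨PEmpty, fun a => a.elim, ⟨h.iso (IsZero.iff_id_eq_zero _ |>.2 (Sigma.hom_ext _ _ fun a => a.elim))⟩⟩

lemma isFreeSum_biprod {M M' : ModSite.Mod O} (h : IsFreeSum M) (h' : IsFreeSum M') : IsFreeSum (M ⊞ M') :=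
  (isFreeSum_sigma₀ Bool (fun b => cond b M M') (fun b => by cases b <;> assumption)).of_iso
    { hom := Sigma.desc fun b => match b with | true => biprod.inl | false => biprod.inr
      inv := biprod.desc (Sigma.ι (fun b => cond b M M') true) (Sigma.ι (fun b => cond b M M') false)
      hom_inv_id := Sigma.hom_ext _ _ fun b => by cases b <;> simp
      inv_hom_id := biprod.hom_ext' _ _ (by simp) (by simp) }

instance (J : Type) : HasExactColimitsOfShape (Discrete J) (ModSite.Mod O) :=
  have : HasExactColimitsOfShape (Discrete (ULift.{u} J)) (ModSite.Mod O) := inferInstance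
  HasExactColimitsOfShape.of_domain_equivalence _ (Discrete.equivalence Equiv.ulift)

end Groth.Misc4.FreeCover
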