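import Groth.Agent.Misc4.Telescope
import Groth.Agent.Misc4.UnitCountable
import Groth.Agent.DAlg.KFlat
import Mathlib.Algebra.Category.ModuleCat.AB
import Mathlib.Algebra.Category.ModuleCat.Biproducts
import Mathlib.Algebra.Category.ModuleCat.Products
import Mathlib.LinearAlgebra.DirectSum.Finsupp
import Mathlib.Algebra.Category.Ring.Basic
import Mathlib.LinearAlgebra.Basis.Prod
import Mathlib.LinearAlgebra.DirectSum.Basis

/-!
Complexes of free modules built from `R` by degreewise split extensions, direct sums and telescopes resolve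
every complex of modules.
-/

universe v u

open CategoryTheory CategoryTheory.Limits HomologicalComplex

set_option backward.defeqAttrib.useBackward true
set_option backward.isDefEq.respectTransparency false
set_option maxHeartbeats 1000000
set_option autoImplicit false

namespace Groth.Misc4.FreeTelescope

local notation "up" => ComplexShape.up ℤ

section Gen

variable {A : Type u} [Category.{v} A] [Abelian A]

/-- a short complex of complexes which is split in every degree -/
def DSplit (S : ShortComplex (CochainComplex A ℤ)) : Prop :=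
  ∀ n, Nonempty (S.map (eval A up n)).Splitting

variable [HasColimitsOfShape ℕ A] [HasExactColimitsOfShape ℕ A] [HasColimitsOfShape (Discrete ℕ) A]
  [HasExactColimitsOfShape ℕ (CochainComplex A ℤ)]

omit [HasExactColimitsOfShape ℕ A] in
/-- the telescope of a system with termwise split injective transition maps is termwise split -/
theorem exists_telescope (F : ℕ ⥤ CochainComplex A ℤ)
    (hF : ∀ n q, ∃ r, (F.map (homOfLE (Nat.le_add_right n 1))).f q ≫ r = 𝟙 _) :
    ∃ (u : (∐ F.obj) ⟶ ∐ F.obj) (p : (∐ F.obj) ⟶ colimit F) (w : u ≫ p = 0),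
      DSplit (ShortComplex.mk u p w) := by
  obtain ⟨w, hw⟩ := Groth.Misc1.Telescope.telescope_shortExact F
  refine ⟨_, _, w, fun q => ?_⟩
  have hS := hw.map_of_exact (eval A up q)
  choose r hr using fun n => hF n q
  let c : ∀ n, (F.obj n).X q ⟶ (∐ F.obj).X q := fun n => Nat.rec (0 : (F.obj 0).X q ⟶ (∐ F.obj).X q)
    (fun m cm => r m ≫ (cm - (Sigma.ι F.obj m).f q)) n
  let hc := Cofan.isColimitMapCoconeEquiv (eval A up q) _ _
    (isColimitOfPreserves (eval A up q) (coproductIsCoproduct F.obj))
  refine ⟨ShortComplex.Splitting.ofExactOfRetraction _ hS.exact (Cofan.IsColimit.desc hc c) ?_ hS.epi_g⟩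
  refine Cofan.IsColimit.hom_ext hc _ _ fun n => ?_
  change (Sigma.ι F.obj n).f q ≫ (𝟙 (∐ F.obj) - DerLim.shiftMap F.obj _).f q ≫ Cofan.IsColimit.desc hc c =
    (Sigma.ι F.obj n).f q ≫ 𝟙 _
  rw [← Category.assoc, ← comp_f, Preadditive.comp_sub, DerLim.shiftMap, Sigma.ι_desc, Category.comp_id,
    sub_f_apply, comp_f, Preadditive.sub_comp, Category.assoc, Category.comp_id]
  have hd : ∀ m, (Sigma.ι F.obj m).f q ≫ Cofan.IsColimit.desc hc c = c m := fun m =>
    Cofan.IsColimit.fac hc c m
  rw [hd n, hd (n + 1)]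
  change c n - (F.map (homOfLE (Nat.le_add_right n 1))).f q ≫ r n ≫ (c n - (Sigma.ι F.obj n).f q) = _
  rw [reassoc_of% (hr n), sub_sub_cancel]

end Gen

variable {R : CommRingCat.{u}}

/-- complexes of modules -/
abbrev Cx (R : CommRingCat.{u}) := CochainComplex (ModuleCat.{u} R) ℤ

/-- termwise free -/
def TFree (P : (Cx R)) : Prop := ∀ n, Module.Free R (P.X n)

lemma free_of_iso {M N : ModuleCat.{u} R} (e : M ≅ N) (h : Module.Free R M) : Module.Free R N :=
  Module.Free.of_equiv e.toLinearEquiv

lemma free_of_isZero {M : ModuleCat.{u} R} (h : IsZero M) : Module.Free R M :=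
  haveI := ModuleCat.subsingleton_of_isZero h
  Module.Free.of_subsingleton R M

lemma free_sigma {ι : Type u} (N : ι → ModuleCat.{u} R) (h : ∀ i, Module.Free R (N i)) :
    Module.Free R (∐ N : ModuleCat.{u} R) := by
  classical
  have := h
  exact free_of_iso (ModuleCat.coprodIsoDirectSum N).symm (inferInstanceAs (Module.Free R (DirectSum ι fun i => N i)))

lemma free_sigma₀ (ι : Type) (N : ι → ModuleCat.{u} R) (h : ∀ i, Module.Free R (N i)) :
    Module.Free R (∐ N : ModuleCat.{u} R) :=
  free_of_iso (Limits.Sigma.whiskerEquiv (f := fun i : ULift.{u} ι => N i.down) (g := N)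
      Equiv.ulift fun _ => Iso.refl _)
    (free_sigma (fun i : ULift.{u} ι => N i.down) fun i => h i.down)

lemma free_biprod {M N : ModuleCat.{u} R} (hM : Module.Free R M) (hN : Module.Free R N) :
    Module.Free R (M ⊞ N : ModuleCat.{u} R) :=
  free_of_iso (ModuleCat.biprodIsoProd M N).symm (inferInstanceAs (Module.Free R (M × N)))

section Cover

open scoped Classical in
/-- the generator of an element -/
noncomputable def gen (M : ModuleCat.{u} R) (m : M) : {m : M // m ≠ 0} →₀ R :=
  if h : m = 0 then 0 else Finsupp.single ⟨m, h⟩ 1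

/-- the free module on the nonzero elements -/
noncomputable def coverMap {M N : ModuleCat.{u} R} (f : M ⟶ N) :
    ({m : M // m ≠ 0} →₀ R) →ₗ[R] ({m : N // m ≠ 0} →₀ R) :=
  Finsupp.linearCombination R fun m => gen N (f m.1)

lemma coverMap_gen {M N : ModuleCat.{u} R} (f : M ⟶ N) (m : M) : coverMap f (gen M m) = gen N (f m) := by
  by_cases h : m = 0
  · subst h
    simp [gen, map_zero]
  · simp [gen, h, coverMap]

/-- the cover by free modules on the nonzero elements -/
noncomputable def cover (R : CommRingCat.{u}) : Groth.DerivedCoh.KFlat.Cover (ModuleCat.{u} R) where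
  P :=
    { obj := fun M => ModuleCat.of R ({m : M // m ≠ 0} →₀ R)
      map := fun f => ModuleCat.ofHom (coverMap f)
      map_id := fun M => ModuleCat.hom_ext (Finsupp.lhom_ext fun m r => by
        simp [coverMap, gen, m.2])
      map_comp := fun {M N L} f g => ModuleCat.hom_ext (Finsupp.lhom_ext fun m r => by
        show coverMap (f ≫ g) (Finsupp.single m r) = coverMap g (coverMap f (Finsupp.single m r))
        simp only [coverMap, Finsupp.linearCombination_single, map_smul]
        exact congrArg (r • ·) (coverMap_gen g (f m.1)).symm) }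
  π :=
    { app := fun M => ModuleCat.ofHom (Finsupp.linearCombination R fun m : {m : M // m ≠ 0} => m.1)
      naturality := fun M N f => ModuleCat.hom_ext (Finsupp.lhom_ext fun m r => by
        show Finsupp.linearCombination R _ (coverMap f (Finsupp.single m r)) =
          f (Finsupp.linearCombination R (fun m : {m : M // m ≠ 0} => m.1) (Finsupp.single m r))
        simp only [coverMap, Finsupp.linearCombination_single, map_smul]
        by_cases h : f m.1 = 0
        · simp [gen, h]
        · simp [gen, h]) }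
  epi := fun M => (ModuleCat.epi_iff_surjective _).2 fun m => by
    by_cases h : m = 0
    · exact ⟨0, by rw [map_zero, h]⟩
    · exact ⟨Finsupp.single ⟨m, h⟩ (1 : R), by simp⟩
  preservesZero := ⟨fun M N => ModuleCat.hom_ext (Finsupp.lhom_ext fun m r => by simp [coverMap, gen])⟩

lemma free_cover (M : ModuleCat.{u} R) : Module.Free R ((cover R).P.obj M) :=
  inferInstanceAs (Module.Free R ({m : M // m ≠ 0} →₀ R))

end Cover

/-- the complexes built from `R`: closed under degreewise split extensions and cokernels and under direct sums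
of bounded above termwise free complexes -/
structure Closed (Pr : (Cx R) → Prop) : Prop where
  iso : ∀ {P Q : Cx R}, (P ≅ Q) → Pr P → Pr Q
  zero : ∀ P : (Cx R), IsZero P → Pr P
  ext₂ : ∀ S : ShortComplex (Cx R), DSplit S → Pr S.X₁ → Pr S.X₃ → Pr S.X₂
  ext₃ : ∀ S : ShortComplex (Cx R), DSplit S → Pr S.X₁ → Pr S.X₂ → Pr S.X₃
  sum : ∀ {ι : Type u} (P : ι → (Cx R)) [HasCoproduct P],
    (∀ i, TFree (P i) ∧ ∃ b, (P i).IsStrictlyLE b) → (∀ i, Pr (P i)) → Pr (∐ P)
  gen : ∀ n : ℤ, Pr ((single (ModuleCat.{u} R) up n).obj (ModuleCat.of R R))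

variable {Pr : (Cx R) → Prop} (h : Closed Pr)
include h

lemma sum_nat (P : ℕ → (Cx R)) (hf : ∀ i, TFree (P i) ∧ ∃ b, (P i).IsStrictlyLE b) (hP : ∀ i, Pr (P i)) :
    Pr (∐ P) :=
  h.iso (Limits.Sigma.whiskerEquiv (f := fun i : ULift.{u} ℕ => P i.down) (g := P)
      Equiv.ulift fun _ => Iso.refl _)
    (h.sum (fun i : ULift.{u} ℕ => P i.down) (fun i => hf i.down) fun i => hP i.down)

/-- a free module in one degree -/
lemma closed_single (M : ModuleCat.{u} R) (hM : Module.Free R M) (n : ℤ) :
    Pr ((single (ModuleCat.{u} R) up n).obj M) := by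
  let ι := Module.Free.ChooseBasisIndex R M
  let b : Module.Basis ι R M := Module.Free.chooseBasis R M
  let e : (∐ fun _ : ι => ModuleCat.of R R) ≅ M :=
    ModuleCat.coprodIsoDirectSum _ ≪≫
      ((finsuppLEquivDirectSum R R ι).symm ≪≫ₗ b.repr.symm).toModuleIso
  refine h.iso ((PreservesCoproduct.iso (single (ModuleCat.{u} R) up n) _).symm ≪≫
    (single (ModuleCat.{u} R) up n).mapIso e) (h.sum _ (fun _ => ⟨fun k => ?_, n, ?_⟩) fun _ => h.gen n)
  · by_cases hk : k = n
    · subst hk
      exact free_of_iso (singleObjXSelf up k (ModuleCat.of R R)).symm (inferInstanceAs (Module.Free R R))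
    · exact free_of_isZero (isZero_single_obj_X _ _ _ _ hk)
  · exact (CochainComplex.isStrictlyLE_iff _ _).2 fun i hi => isZero_single_obj_X _ _ _ _ (by omega)

/-- a complex concentrated in one degree -/
lemma closed_concentrated (P : (Cx R)) (hP : TFree P) (n : ℤ) (h0 : ∀ i, i ≠ n → IsZero (P.X i)) : Pr P := by
  haveI : P.IsStrictlyGE n := (CochainComplex.isStrictlyGE_iff _ _).2 fun i hi => h0 i (by omega)
  haveI : P.IsStrictlyLE n := (CochainComplex.isStrictlyLE_iff _ _).2 fun i hi => h0 i (by omega)
  obtain ⟨M, ⟨e⟩⟩ := CochainComplex.exists_iso_single P n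
  exact h.iso e.symm (closed_single h M (free_of_iso
    ((HomologicalComplex.eval _ _ n).mapIso e ≪≫ singleObjXSelf up n M) (hP n)) n)

open Groth.Misc4.UnitCountable in
/-- stupid truncations of bounded above complexes -/
lemma closed_σ (P : (Cx R)) (hP : TFree P) (b : ℤ) [P.IsStrictlyLE b] :
    ∀ (k : ℕ), Pr (σ P (b + 1 - k)) := by
  intro k
  induction k with
  | zero =>
    refine h.zero _ ((IsZero.iff_id_eq_zero _).2 (hom_ext _ _ fun i => ?_))
    by_cases hi : b + 1 - ((0 : ℕ) : ℤ) ≤ i
    · haveI := isIso_σι_f P (b + 1 - ((0 : ℕ) : ℤ)) i hi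
      exact ((P.isZero_of_isStrictlyLE b i (by omega)).of_iso (asIso ((σι P _).f i))).eq_of_src _ _
    · exact (isZero_σ_X P _ i (by omega)).eq_of_src _ _
  | succ k ih =>
    let a := b + 1 - (k : ℤ)
    let a' := b + 1 - ((k + 1 : ℕ) : ℤ)
    obtain ⟨t, ht⟩ := exists_step P (show a' ≤ a by omega)
    have hti : ∀ i, a ≤ i → IsIso (t.f i) := fun i hi => by
      haveI := isIso_σι_f P a i hi
      haveI := isIso_σι_f P a' i (by omega)
      haveI : IsIso (t.f i ≫ (σι P a').f i) := by rw [← comp_f, ht]; infer_instance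
      exact IsIso.of_isIso_comp_right _ ((σι P a').f i)
    haveI : ∀ i, Mono (t.f i) := fun i => by
      by_cases hi : a ≤ i
      · have := hti i hi; infer_instance
      · exact ⟨fun u v _ => (isZero_σ_X P a i (by omega)).eq_of_tgt u v⟩
    haveI : Mono t := HomologicalComplex.mono_of_mono_f _ fun i => inferInstance
    let S : ShortComplex (Cx R) := ShortComplex.mk t (cokernel.π t) (cokernel.condition t)
    have hS : S.ShortExact := ShortComplex.ShortExact.mk'
      (ShortComplex.exact_of_g_is_cokernel _ (cokernelIsCokernel t)) inferInstance inferInstance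
    have hX₂ : TFree (σ P a') := fun i => by
      by_cases hi : a' ≤ i
      · haveI := isIso_σι_f P a' i hi
        exact free_of_iso (asIso ((σι P a').f i)).symm (hP i)
      · exact free_of_isZero (isZero_σ_X P a' i (by omega))
    have hz : ∀ i, i ≠ a' → IsZero ((cokernel t).X i) := fun i hi => by
      have hSi := hS.map_of_exact (eval (ModuleCat.{u} R) up i)
      haveI : Epi ((cokernel.π t).f i) := hSi.epi_g
      by_cases hai : a ≤ i
      · haveI := hti i hai
        refine (IsZero.iff_id_eq_zero _).2 ?_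
        rw [← cancel_epi ((cokernel.π t).f i), ← cancel_epi (t.f i), Category.comp_id, comp_zero, comp_zero,
          ← comp_f, cokernel.condition, zero_f]
      · exact IsZero.of_epi ((cokernel.π t).f i) (isZero_σ_X P a' i (by omega))
    haveI : IsIso ((cokernel.π t).f a') :=
      (hS.map_of_exact (eval (ModuleCat.{u} R) up a')).isIso_g_iff.2 (isZero_σ_X P a a' (by omega))
    refine h.ext₂ S (fun i => ?_) ih (closed_concentrated h (cokernel t) (fun i => ?_) a' hz)
    · have hSi := hS.map_of_exact (eval (ModuleCat.{u} R) up i)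
      by_cases hai : a ≤ i
      · haveI : IsIso (S.map (eval (ModuleCat.{u} R) up i)).f := hti i hai
        exact ⟨ShortComplex.Splitting.ofExactOfRetraction _ hSi.exact (inv (S.map (eval (ModuleCat.{u} R) up i)).f)
          (IsIso.hom_inv_id _) hSi.epi_g⟩
      · haveI : IsIso (S.map (eval (ModuleCat.{u} R) up i)).g := hSi.isIso_g_iff.2 (isZero_σ_X P a i (by omega))
        exact ⟨ShortComplex.Splitting.ofExactOfSection _ hSi.exact (inv (S.map (eval (ModuleCat.{u} R) up i)).g)
          (IsIso.inv_hom_id _) hSi.mono_f⟩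
    · by_cases hi : i = a'
      · subst hi
        exact free_of_iso (asIso ((cokernel.π t).f a')) (hX₂ a')
      · exact free_of_isZero (hz i hi)

open Groth.Misc4.UnitCountable in
/-- bounded above complexes of free modules -/
lemma closed_boundedAbove (P : (Cx R)) (hP : TFree P) (b : ℤ) [P.IsStrictlyLE b] : Pr P := by
  obtain ⟨u, p, w, hs⟩ := exists_splitting P
  have hsum : Pr (∐ (σSeq P).obj) := by
    refine sum_nat h _ (fun n => ⟨fun i => ?_, b, (CochainComplex.isStrictlyLE_iff _ _).2 fun i hi => ?_⟩)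
      fun n => ?_
    · change Module.Free R ((σ P (-(n : ℤ))).X i)
      by_cases hi : -(n : ℤ) ≤ i
      · haveI := isIso_σι_f P (-(n : ℤ)) i hi
        exact free_of_iso (asIso ((σι P _).f i)).symm (hP i)
      · exact free_of_isZero (isZero_σ_X P _ i (by omega))
    · change IsZero ((σ P (-(n : ℤ))).X i)
      by_cases hi' : -(n : ℤ) ≤ i
      · haveI := isIso_σι_f P (-(n : ℤ)) i hi'
        exact (P.isZero_of_isStrictlyLE b i hi).of_iso (asIso ((σι P _).f i))
      · exact isZero_σ_X P _ i (by omega)
    · change Pr (σ P (-(n : ℤ)))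
      by_cases hb : -(n : ℤ) ≤ b + 1
      · have := closed_σ h P hP b (b + 1 + n).toNat
        rwa [show b + 1 - ((b + 1 + n).toNat : ℤ) = -(n : ℤ) by omega] at this
      · refine h.zero _ ((IsZero.iff_id_eq_zero _).2 (hom_ext _ _ fun i => ?_))
        by_cases hi : -(n : ℤ) ≤ i
        · haveI := isIso_σι_f P (-(n : ℤ)) i hi
          exact ((P.isZero_of_isStrictlyLE b i (by omega)).of_iso (asIso ((σι P _).f i))).eq_of_src _ _
        · exact (isZero_σ_X P _ i (by omega)).eq_of_src _ _
  exact h.ext₃ (ShortComplex.mk u p w) hs hsum hsum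

/-- Every complex is resolved by a sequential colimit of bounded above complexes of free modules in the
class. -/
theorem exists_resolution (G : (Cx R)) :
    ∃ (F : ℕ ⥤ (Cx R)) (π : colimit F ⟶ G), QuasiIso π ∧ Pr (colimit F) ∧
      (∀ q, ∃ (M : ModuleCat.{u} R) (i : (colimit F).X q ⟶ M) (r : M ⟶ (colimit F).X q),
        Module.Free R M ∧ i ≫ r = 𝟙 _) ∧
      ∀ n, TFree (F.obj n) ∧ ∃ b, (F.obj n).IsStrictlyLE b := by
  let V := cover R
  have hΦ : ∀ n, TFree ((Groth.Misc4.Telescope.stage V G n).K) := fun n p =>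
    Groth.Misc4.Telescope.stage_X_prop V G (fun M : ModuleCat.{u} R => Module.Free R M) free_cover
      (fun _ => free_of_isZero) free_of_iso free_sigma₀ free_biprod n p
  let F := Groth.Misc4.Telescope.system V G
  have hF : ∀ n, TFree (F.obj n) ∧ ∃ b, (F.obj n).IsStrictlyLE b := fun n =>
    ⟨hΦ n, Groth.Misc4.Telescope.isStrictlyLE_stage V G n⟩
  have hsplit : ∀ n q, ∃ r, (F.map (homOfLE (Nat.le_add_right n 1))).f q ≫ r = 𝟙 _ := fun n q => by
    obtain ⟨ρ, hρ, -⟩ := Groth.Misc4.Telescope.step_f_spec V G (fun M : ModuleCat.{u} R => Module.Free R M)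
      free_cover (fun _ => free_of_isZero) free_of_iso free_sigma₀ free_biprod n q
    exact ⟨ρ, by simpa [F, Groth.Misc4.Telescope.system] using hρ⟩
  refine ⟨F, Groth.Misc4.Telescope.colimDesc V G, Groth.Misc4.Telescope.quasiIso_colimDesc V G, ?_, ?_, hF⟩
  have h0 : Pr (∐ F.obj) := sum_nat h _ hF fun n => by
    obtain ⟨b, hb⟩ := (hF n).2
    exact closed_boundedAbove h (F.obj n) (hF n).1 b
  swap
  · intro q
    obtain ⟨u, p, w, hs⟩ := exists_telescope F hsplit
    exact ⟨(∐ F.obj).X q, (hs q).some.s, p.f q, free_of_iso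
      (PreservesCoproduct.iso (eval (ModuleCat.{u} R) up q) F.obj).symm
      (free_sigma₀ ℕ _ fun n => (hF n).1 q), (hs q).some.s_g⟩
  obtain ⟨u, p, w, hs⟩ := exists_telescope F hsplit
  exact h.ext₃ (ShortComplex.mk u p w) hs h0 h0

end Groth.Misc4.FreeTelescope
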