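import Groth.Agent.Misc4.GodTot
import Groth.Agent.SiteCohomology.Godement
import Groth.Prelude.Def_CohCx
import Mathlib.Topology.Sheaves.Abelian
import Mathlib.Algebra.Homology.QuasiIso

/-!
The flasque sheaf of discontinuous sections with the evaluation retractions at stalks, and the
resulting resolution of a bounded below complex by flasque sheaves.
-/

universe u

open CategoryTheory CategoryTheory.Limits Opposite TopologicalSpace

set_option synthInstance.maxHeartbeats 400000
set_option maxHeartbeats 1000000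

namespace Groth.Misc4.GodTop

variable {X : TopCat.{u}}

/-- the stalk functor on abelian sheaves -/
noncomputable abbrev stk (x : X) : CohTop.Ab X ⥤ AddCommGrpCat.{u} :=
  sheafToPresheaf (Opens.grothendieckTopology X) AddCommGrpCat.{u} ⋙
    TopCat.Presheaf.stalkFunctor AddCommGrpCat.{u} x

/-- discontinuous sections as a sheaf on the discrete space -/
noncomputable def disc (F : CohTop.Ab X) : CohTop.Ab (TopCat.discrete.obj X) where
  obj :=
    { obj := fun U => AddCommGrpCat.of (∀ y : U.unop,
        (TopCat.Presheaf.stalk (C := AddCommGrpCat.{u}) F.obj (TopCat.adj₁.counit.app X y.1) : Type u))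
      map := fun i => AddCommGrpCat.ofHom
        (AddMonoidHom.mk' (fun g y => g (i.unop y)) fun _ _ => rfl) }
  property := (TopCat.Presheaf.isSheaf_iff_isSheaf_comp' (forget AddCommGrpCat.{u}) _).2
    (TopCat.Presheaf.toTypes_isSheaf (TopCat.discrete.obj X) fun y =>
      (TopCat.Presheaf.stalk (C := AddCommGrpCat.{u}) F.obj (TopCat.adj₁.counit.app X y) : Type u))

/-- discontinuous sections -/
noncomputable def T (F : CohTop.Ab X) : CohTop.Ab X :=
  (CohTop.push (TopCat.adj₁.counit.app X)).obj (disc F)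

/-- the germs of a section -/
noncomputable def η (F : CohTop.Ab X) : F ⟶ T F :=
  ⟨{ app := fun U => AddCommGrpCat.ofHom (AddMonoidHom.mk'
      (fun s y => TopCat.Presheaf.germ (C := AddCommGrpCat.{u}) F.obj U.unop _ y.2 s)
      fun a b => funext fun y => map_add _ a b)
     naturality := fun U V i => by
      ext s
      funext y
      exact TopCat.Presheaf.germ_res_apply' F.obj i _ y.2 s }⟩

lemma isFlasque_T (F : CohTop.Ab X) : TopCat.Sheaf.IsFlasque (T F) := by
  haveI : DiscreteTopology ((forget TopCat.{u} ⋙ TopCat.discrete).obj X : TopCat.{u}) := ⟨rfl⟩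
  haveI : DiscreteTopology (TopCat.discrete.obj X : TopCat.{u}) := ⟨rfl⟩
  haveI := Groth.SiteCohomology.isFlasque_of_discrete (disc F)
  exact TopCat.Sheaf.IsFlasque.pushforward_isFlasque _ _

/-- evaluation of a section at a point of its domain -/
noncomputable def ev (x : X) (F : CohTop.Ab X) (U : Opens X) (hU : x ∈ U) :
    (T F).obj.obj (op U) ⟶ (stk x).obj F :=
  AddCommGrpCat.ofHom
    (Pi.evalAddMonoidHom
      (fun y : ((Opens.map (TopCat.adj₁.counit.app X)).obj U : Opens (TopCat.discrete.obj X)) =>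
        (TopCat.Presheaf.stalk (C := AddCommGrpCat.{u}) F.obj (TopCat.adj₁.counit.app X y.1) : Type u))
      ⟨x, hU⟩)

/-- evaluation at the point -/
noncomputable def r (x : X) (F : CohTop.Ab X) : (stk x).obj (T F) ⟶ (stk x).obj F :=
  colimit.desc _
    { pt := (stk x).obj F
      ι :=
        { app := fun U => ev x F U.unop.1 U.unop.2
          naturality := fun U V i => by ext s; rfl } }

lemma η_r (x : X) (F : CohTop.Ab X) : (stk x).map (η F) ≫ r x F = 𝟙 _ := by
  refine TopCat.Presheaf.stalk_hom_ext _ fun U hU => ?_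
  change TopCat.Presheaf.germ F.obj U x hU ≫
    (TopCat.Presheaf.stalkFunctor AddCommGrpCat.{u} x).map (η F).hom ≫ r x F = _
  rw [TopCat.Presheaf.stalkFunctor_map_germ_assoc]
  erw [Category.comp_id, colimit.ι_desc]
  ext s
  rfl

lemma isZero_T (F : CohTop.Ab X) (hF : IsZero F) : IsZero (T F) := by
  have h : ∀ U : (Opens X)ᵒᵖ, Subsingleton ((T F).obj.obj U) := fun U => by
    have h' : ∀ x : X,
        Subsingleton (TopCat.Presheaf.stalk (C := AddCommGrpCat.{u}) F.obj x : Type u) :=
      fun x => AddCommGrpCat.subsingleton_of_isZero ((stk x).map_isZero hF)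
    exact ⟨fun a b => funext fun y => (h' _).elim _ _⟩
  rw [IsZero.iff_id_eq_zero]
  ext U s
  exact (h _).elim _ _

instance (x : X) : (stk x).Additive :=
  inferInstanceAs (TopCat.Sheaf.forget AddCommGrpCat.{u} X ⋙
    TopCat.Presheaf.stalkFunctor AddCommGrpCat.{u} x).Additive

instance (x : X) : PreservesFiniteColimits (stk x) :=
  inferInstanceAs (PreservesFiniteColimits (TopCat.Sheaf.forget AddCommGrpCat.{u} X ⋙
    TopCat.Presheaf.stalkFunctor AddCommGrpCat.{u} x))

instance (x : X) : PreservesFiniteLimits (stk x) :=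
  inferInstanceAs (PreservesFiniteLimits (TopCat.Sheaf.forget AddCommGrpCat.{u} X ⋙
    TopCat.Presheaf.stalkFunctor AddCommGrpCat.{u} x))

theorem quasiIso_of_stalk {K L : CochainComplex (CohTop.Ab X) ℤ} (φ : K ⟶ L)
    (h : ∀ x : X, QuasiIso (((stk x).mapHomologicalComplex _).map φ)) : QuasiIso φ := by
  refine ⟨fun i => ?_⟩
  rw [quasiIsoAt_iff_isIso_homologyMap]
  have hiso : ∀ x : X, IsIso ((stk x).map (HomologicalComplex.homologyMap φ i)) := fun x => by
    haveI := h x
    have h1 : IsIso (HomologicalComplex.homologyMap (((stk x).mapHomologicalComplex _).map φ) i) :=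
      (quasiIsoAt_iff_isIso_homologyMap _ i).1 inferInstance
    have e := ShortComplex.mapHomologyIso_hom_naturality
      ((HomologicalComplex.shortComplexFunctor _ _ i).map φ) (stk x)
    haveI h1' : IsIso (ShortComplex.homologyMap ((stk x).mapShortComplex.map
        ((HomologicalComplex.shortComplexFunctor _ _ i).map φ))) := h1
    have h2 := @IsIso.comp_isIso' _ _ _ _ _ _ _ h1'
      (Iso.isIso_hom (((HomologicalComplex.shortComplexFunctor (CohTop.Ab X)
        (ComplexShape.up ℤ) i).obj L).mapHomologyIso (stk x)))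
    have := Eq.mp (congrArg (fun f => IsIso f) e) h2
    exact @IsIso.of_isIso_comp_left _ _ _ _ _ _ _
      (Iso.isIso_hom (((HomologicalComplex.shortComplexFunctor (CohTop.Ab X)
        (ComplexShape.up ℤ) i).obj K).mapHomologyIso (stk x))) this
  exact (TopCat.Presheaf.isIso_iff_stalkFunctor_map_iso _).2 hiso

theorem exists_flasque (F : CochainComplex (CohTop.Ab X) ℤ) (a : ℤ) [F.IsStrictlyGE a] :
    ∃ (G : CochainComplex (CohTop.Ab X) ℤ) (φ : F ⟶ G), G.IsStrictlyGE a ∧ QuasiIso φ ∧
      (∀ n : ℤ, TopCat.Sheaf.IsFlasque (G.X n)) ∧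
      ∀ x : X, ∃ e : HomotopyEquiv ((CohCx.stalkCx x).obj F) ((CohCx.stalkCx x).obj G),
        e.hom = (CohCx.stalkCx x).map φ :=
  ⟨GodTot.G T η F isZero_T a, GodTot.φ T η F isZero_T a,
    GodTot.isStrictlyGE_G T η F isZero_T a,
    quasiIso_of_stalk _ fun x =>
      (GodTot.homotopyEquiv T η F isZero_T a (stk x) (r x) (η_r x)).quasiIso_hom,
    fun _ => isFlasque_T _,
    fun x => ⟨GodTot.homotopyEquiv T η F isZero_T a (stk x) (r x) (η_r x), rfl⟩⟩

end Groth.Misc4.GodTop
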