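import Mathlib.Algebra.Homology.Homotopy
import Mathlib.Algebra.Homology.Embedding.CochainComplex
import Mathlib.CategoryTheory.Abelian.Basic
import Mathlib.CategoryTheory.Limits.Preserves.Shapes.Kernels

/-!
Degreewise construction of a resolution of a bounded below complex from a monomorphism
`η Q : Q ⟶ T Q` chosen for each object, which becomes naturally split after a right exact functor `S`:
the resulting map is a homotopy equivalence after applying `S`.
-/

universe v v' u u'

namespace Groth.Misc4.GodTot

open CategoryTheory CategoryTheory.Limits HomologicalComplex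

variable {A : Type u} [Category.{v} A] [Abelian A] (T : A → A) (η : ∀ Q : A, Q ⟶ T Q)
  (F : CochainComplex A ℤ)

/-- the state in degree `n` -/
structure St (n : ℤ) where
  Q : A
  p : F.X n ⟶ Q
  θ : ∀ m : ℤ, Q ⟶ F.X m
  hp : ∀ m, p ≫ θ m = F.d n m
  hθ : ∀ m l, θ m ≫ F.d m l = 0

variable {F}

/-- the relation cutting out the next state -/
noncomputable def rel {n : ℤ} (s : St F n) (m : ℤ) : s.Q ⟶ F.X m ⊞ T s.Q :=
  biprod.lift (-s.θ m) (η s.Q)

lemma rel_desc {n : ℤ} (s : St F n) (m l : ℤ) :
    rel T η s m ≫ biprod.desc (F.d m l) 0 = 0 := by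
  simp [rel, s.hθ]

/-- the next state -/
noncomputable def next {n : ℤ} (s : St F n) (m : ℤ) : St F m where
  Q := cokernel (rel T η s m)
  p := biprod.inl ≫ cokernel.π _
  θ l := cokernel.desc _ (biprod.desc (F.d m l) 0) (rel_desc T η s m l)
  hp l := by simp
  hθ l k := by
    rw [← cancel_epi (cokernel.π (rel T η s m))]
    simp only [cokernel.π_desc_assoc, comp_zero]
    ext <;> simp

variable (F)

/-- the initial state -/
def init (n : ℤ) : St F n where
  Q := F.X n
  p := 𝟙 _
  θ m := F.d n m
  hp _ := Category.id_comp _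
  hθ m l := F.d_comp_d n m l

/-- all states -/
noncomputable def st (a : ℤ) (n : ℤ) : St F n :=
  if _h : n ≤ a then init F n else next T η (st a (n - 1)) n
termination_by (n - a).toNat
decreasing_by lia

variable {F}

/-- the connection between consecutive states -/
structure Link {n m : ℤ} (s : St F n) (s' : St F m) where
  π : F.X m ⊞ T s.Q ⟶ s'.Q
  w : rel T η s m ≫ π = 0
  hc : IsColimit (CokernelCofork.ofπ π w)
  hp : biprod.inl ≫ π = s'.p
  hθ : ∀ l, π ≫ s'.θ l = biprod.desc (F.d m l) 0

/-- the link to the next state -/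
noncomputable def linkNext {n : ℤ} (s : St F n) (m : ℤ) : Link T η s (next T η s m) where
  π := cokernel.π _
  w := cokernel.condition _
  hc := cokernelIsCokernel _
  hp := rfl
  hθ l := cokernel.π_desc _ _ _

/-- the link between initial states over zero objects -/
noncomputable def linkInit {n : ℤ} (hn : IsZero (F.X n)) (hT : IsZero (T (F.X n))) (m : ℤ) :
    Link T η (init F n) (init F m) where
  π := biprod.fst
  w := hn.eq_of_src _ _
  hc := CokernelCofork.IsColimit.ofπ _ _ (fun g _ => biprod.inl ≫ g)
    (fun {W} g _ => biprod.hom_ext' _ _ (by simp [init]) (hT.eq_of_src _ _))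
    (fun {W} g _ b hb => by subst hb; exact (biprod.inl_fst_assoc _).symm)
  hp := biprod.inl_fst
  hθ l := biprod.hom_ext' _ _ ((biprod.inl_fst_assoc _).trans (biprod.inl_desc _ _).symm)
    (hT.eq_of_src _ _)

variable (hT : ∀ Q : A, IsZero Q → IsZero (T Q)) (a : ℤ) [F.IsStrictlyGE a]

variable (F)

/-- the link in all degrees -/
noncomputable def link (n m : ℤ) (h : n + 1 = m) : Link T η (st T η F a n) (st T η F a m) := by
  by_cases hm : m ≤ a
  · have e : st T η F a n = init F n := by rw [st]; exact dif_pos (by lia)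
    have e' : st T η F a m = init F m := by rw [st]; exact dif_pos hm
    rw [e, e']
    have hn : IsZero (F.X n) := F.isZero_of_isStrictlyGE a n (by lia)
    exact linkInit T η hn (hT _ hn) m
  · have e' : st T η F a m = next T η (st T η F a n) m := by
      obtain rfl : n = m - 1 := by lia
      rw [st]; exact dif_neg hm
    rw [e']
    exact linkNext T η _ m

section

variable {T η a}

lemma isZero_Q [F.IsStrictlyGE a] {n : ℤ} (hn : n < a) : IsZero (st T η F a n).Q := by
  rw [st, dif_pos (by lia : n ≤ a)]
  exact F.isZero_of_isStrictlyGE a n hn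

end

/-- the differential of the resolution -/
noncomputable def dG (i j : ℤ) : T (st T η F a i).Q ⟶ T (st T η F a j).Q :=
  if h : i + 1 = j then biprod.inr ≫ (link T η F hT a i j h).π ≫ η _ else 0

lemma dG_eq (i j : ℤ) (h : i + 1 = j) :
    dG T η F hT a i j = biprod.inr (X := F.X j) ≫ (link T η F hT a i j h).π ≫ η _ :=
  dif_pos h

lemma η_inr_π (n m : ℤ) (h : n + 1 = m) :
    η (st T η F a n).Q ≫ biprod.inr ≫ (link T η F hT a n m h).π =
      (st T η F a n).θ m ≫ biprod.inl ≫ (link T η F hT a n m h).π := by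
  have w := (link T η F hT a n m h).w
  rw [show rel T η (st T η F a n) m =
    (-(st T η F a n).θ m) ≫ biprod.inl + η _ ≫ biprod.inr from by
      rw [rel]; apply biprod.hom_ext <;> simp] at w
  rw [Preadditive.add_comp, Category.assoc, Category.assoc, Preadditive.neg_comp,
    neg_add_eq_zero] at w
  exact w.symm

/-- the resolution -/
noncomputable def G : CochainComplex A ℤ where
  X i := T (st T η F a i).Q
  d i j := dG T η F hT a i j
  shape i j h := dif_neg h
  d_comp_d' i j k hij hjk := by
    rw [dG_eq T η F hT a i j hij, dG_eq T η F hT a j k hjk]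
    simp only [Category.assoc]
    rw [reassoc_of% (η_inr_π T η F hT a j k hjk), reassoc_of% ((link T η F hT a i j hij).hθ k)]
    simp

/-- the comparison map -/
noncomputable def φ : F ⟶ G T η F hT a where
  f i := (st T η F a i).p ≫ η _
  comm' i j hij := by
    change ((st T η F a i).p ≫ η _) ≫ dG T η F hT a i j = _
    rw [dG_eq T η F hT a i j hij]
    simp only [Category.assoc]
    rw [reassoc_of% (η_inr_π T η F hT a i j hij), reassoc_of% ((st T η F a i).hp j),
      reassoc_of% ((link T η F hT a i j hij).hp)]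
    rfl

lemma isStrictlyGE_G : (G T η F hT a).IsStrictlyGE a := by
  rw [CochainComplex.isStrictlyGE_iff]
  intro i hi
  exact hT _ (isZero_Q F hi)

variable {B : Type u'} [Category.{v'} B] [Abelian B] (S : A ⥤ B) [S.Additive]
  [PreservesFiniteColimits S] (r : ∀ Q : A, S.obj (T Q) ⟶ S.obj Q)
  (hr : ∀ Q, S.map (η Q) ≫ r Q = 𝟙 _)

section

variable (n m : ℤ) (h : n + 1 = m)

/-- the idempotent splitting the relation -/
noncomputable def e₀ : S.obj (F.X m ⊞ T (st T η F a n).Q) ⟶ S.obj (F.X m ⊞ T (st T η F a n).Q) :=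
  𝟙 _ - S.map biprod.snd ≫ r _ ≫ S.map (rel T η (st T η F a n) m)

include hr in
lemma rel_e₀ : S.map (rel T η (st T η F a n) m) ≫ e₀ T η F a S r n m = 0 := by
  rw [e₀, Preadditive.comp_sub, Category.comp_id, ← S.map_comp_assoc, rel, biprod.lift_snd,
    reassoc_of% (hr (st T η F a n).Q), sub_self]

/-- the section of the projection after applying `S` -/
noncomputable def sect : S.obj (st T η F a m).Q ⟶ S.obj (F.X m ⊞ T (st T η F a n).Q) :=
  (CokernelCofork.mapIsColimit _ (link T η F hT a n m h).hc S).desc
    (CokernelCofork.ofπ (e₀ T η F a S r n m) (rel_e₀ T η F a S r hr n m))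

@[reassoc]
lemma π_sect : S.map (link T η F hT a n m h).π ≫ sect T η F hT a S r hr n m h = e₀ T η F a S r n m :=
  (CokernelCofork.mapIsColimit _ (link T η F hT a n m h).hc S).fac _ WalkingParallelPair.one

lemma epi_π : Epi (S.map (link T η F hT a n m h).π) := by
  have : Epi (link T η F hT a n m h).π := epi_of_isColimit_cofork (link T η F hT a n m h).hc
  exact S.map_epi _

lemma sect_π : sect T η F hT a S r hr n m h ≫ S.map (link T η F hT a n m h).π = 𝟙 _ := by
  haveI := epi_π T η F hT a S n m h
  rw [← cancel_epi (S.map (link T η F hT a n m h).π), π_sect_assoc, e₀, Preadditive.sub_comp,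
    Category.id_comp, Category.comp_id, Category.assoc, Category.assoc, ← S.map_comp,
    (link T η F hT a n m h).w]
  simp

/-- the `F`-part of the section -/
noncomputable def σ' : S.obj (st T η F a m).Q ⟶ S.obj (F.X m) :=
  sect T η F hT a S r hr n m h ≫ S.map biprod.fst

/-- the `T`-part of the section -/
noncomputable def τ' : S.obj (st T η F a m).Q ⟶ S.obj (T (st T η F a n).Q) :=
  sect T η F hT a S r hr n m h ≫ S.map biprod.snd

lemma p_σ' : S.map (st T η F a m).p ≫ σ' T η F hT a S r hr n m h = 𝟙 _ := by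
  rw [σ', ← (link T η F hT a n m h).hp, S.map_comp, Category.assoc, π_sect_assoc, e₀,
    Preadditive.sub_comp, Preadditive.comp_sub, Category.id_comp, Category.assoc,
    ← S.map_comp, biprod.inl_fst, S.map_id, ← S.map_comp_assoc biprod.inl, biprod.inl_snd]
  simp

lemma inr_π_σ' : S.map (biprod.inr ≫ (link T η F hT a n m h).π) ≫ σ' T η F hT a S r hr n m h =
    r _ ≫ S.map ((st T η F a n).θ m) := by
  rw [σ', S.map_comp, Category.assoc, π_sect_assoc, e₀,
    Preadditive.sub_comp, Preadditive.comp_sub, Category.id_comp, Category.assoc, Category.assoc,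
    ← S.map_comp, biprod.inr_fst, ← S.map_comp_assoc biprod.inr, biprod.inr_snd, S.map_id,
    Category.id_comp, ← S.map_comp, rel, biprod.lift_fst]
  simp

lemma inr_π_τ' : S.map (biprod.inr ≫ (link T η F hT a n m h).π) ≫ τ' T η F hT a S r hr n m h =
    𝟙 _ - r _ ≫ S.map (η _) := by
  rw [τ', S.map_comp, Category.assoc, π_sect_assoc, e₀,
    Preadditive.sub_comp, Preadditive.comp_sub, Category.id_comp, Category.assoc, Category.assoc,
    ← S.map_comp, biprod.inr_snd, ← S.map_comp_assoc biprod.inr, biprod.inr_snd, S.map_id,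
    Category.id_comp, ← S.map_comp, rel, biprod.lift_snd]

lemma σ'_d (l : ℤ) : σ' T η F hT a S r hr n m h ≫ S.map (F.d m l) = S.map ((st T η F a m).θ l) := by
  haveI := epi_π T η F hT a S n m h
  rw [← cancel_epi (S.map (link T η F hT a n m h).π), σ', Category.assoc, π_sect_assoc, e₀,
    Preadditive.sub_comp, Category.id_comp, Category.assoc, Category.assoc, ← S.map_comp,
    ← S.map_comp, ← S.map_comp, (link T η F hT a n m h).hθ, biprod.desc_eq, rel,
    biprod.lift_fst_assoc]
  simp [(st T η F a n).hθ]

lemma τ'_σ' : τ' T η F hT a S r hr n m h ≫ S.map (biprod.inr ≫ (link T η F hT a n m h).π) +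
    σ' T η F hT a S r hr n m h ≫ S.map (st T η F a m).p = 𝟙 _ := by
  rw [← (link T η F hT a n m h).hp, σ', τ', Category.assoc, Category.assoc, ← S.map_comp,
    ← S.map_comp, ← Preadditive.comp_add, ← S.map_add, ← Category.assoc, ← Category.assoc,
    ← Preadditive.add_comp, add_comm, biprod.total, Category.id_comp, sect_π]

end

/-- the retraction onto `F` in degree `m`, before composing with `r` -/
noncomputable def σ (m : ℤ) : S.obj (st T η F a m).Q ⟶ S.obj (F.X m) :=
  σ' T η F hT a S r hr (m - 1) m (by lia)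

lemma σ_eq (n m : ℤ) (h : n + 1 = m) : σ T η F hT a S r hr m = σ' T η F hT a S r hr n m h := by
  obtain rfl : n = m - 1 := by lia
  rfl

/-- the homotopy inverse -/
noncomputable def ψ :
    (S.mapHomologicalComplex _).obj (G T η F hT a) ⟶ (S.mapHomologicalComplex _).obj F where
  f m := r _ ≫ σ T η F hT a S r hr m
  comm' i j hij := by
    change (r _ ≫ σ T η F hT a S r hr i) ≫ S.map (F.d i j) =
      S.map (dG T η F hT a i j) ≫ r _ ≫ σ T η F hT a S r hr j
    rw [σ_eq T η F hT a S r hr (i - 1) i (by lia), σ_eq T η F hT a S r hr i j hij,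
      dG_eq T η F hT a i j hij, Category.assoc, σ'_d, ← Category.assoc biprod.inr, S.map_comp,
      Category.assoc, reassoc_of% (hr (st T η F a j).Q)]
    exact (inr_π_σ' T η F hT a S r hr i j hij).symm

lemma φ_ψ : (S.mapHomologicalComplex _).map (φ T η F hT a) ≫ ψ T η F hT a S r hr = 𝟙 _ := by
  ext m
  change S.map ((st T η F a m).p ≫ η _) ≫ r _ ≫ σ T η F hT a S r hr m = 𝟙 _
  rw [S.map_comp, Category.assoc, reassoc_of% (hr (st T η F a m).Q),
    σ_eq T η F hT a S r hr (m - 1) m (by lia), p_σ']

/-- the null homotopy components -/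
noncomputable def hom (i j : ℤ) :
    S.obj (T (st T η F a i).Q) ⟶ S.obj (T (st T η F a j).Q) :=
  if h : j + 1 = i then -(r _ ≫ τ' T η F hT a S r hr j i h) else 0

/-- `ψ ≫ φ` is homotopic to the identity -/
noncomputable def ψφHomotopy :
    Homotopy (ψ T η F hT a S r hr ≫ (S.mapHomologicalComplex _).map (φ T η F hT a)) (𝟙 _) where
  hom i j := hom T η F hT a S r hr i j
  zero i j h := dif_neg h
  comm m := by
    refine Eq.trans ?_ (congrArg (· + _) (congrArg₂ (· + ·)
      (dNext_eq _ (show (ComplexShape.up ℤ).Rel m (m + 1) from rfl))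
      (prevD_eq _ (show (ComplexShape.up ℤ).Rel (m - 1) m from sub_add_cancel m 1)))).symm
    change (r _ ≫ σ T η F hT a S r hr m) ≫ S.map ((st T η F a m).p ≫ η _) =
      S.map (dG T η F hT a m (m + 1)) ≫ hom T η F hT a S r hr (m + 1) m +
        hom T η F hT a S r hr m (m - 1) ≫ S.map (dG T η F hT a (m - 1) m) +
          𝟙 (S.obj (T (st T η F a m).Q))
    rw [dG_eq T η F hT a m (m + 1) rfl, dG_eq T η F hT a (m - 1) m (by lia), hom, dif_pos rfl, hom,
      dif_pos (by lia), σ_eq T η F hT a S r hr (m - 1) m (by lia)]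
    have e1 : S.map (biprod.inr ≫ (link T η F hT a m (m + 1) rfl).π ≫ η _) ≫
        r _ ≫ τ' T η F hT a S r hr m (m + 1) rfl = 𝟙 _ - r _ ≫ S.map (η _) := by
      rw [← Category.assoc biprod.inr, S.map_comp, Category.assoc,
        reassoc_of% (hr (st T η F a (m + 1)).Q), inr_π_τ']
    have e2 : τ' T η F hT a S r hr (m - 1) m (by lia) ≫
        S.map (biprod.inr ≫ (link T η F hT a (m - 1) m (by lia)).π ≫ η _) +
        σ' T η F hT a S r hr (m - 1) m (by lia) ≫ S.map ((st T η F a m).p ≫ η _) = S.map (η _) := by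
      rw [← Category.assoc biprod.inr, S.map_comp, S.map_comp (st T η F a m).p, ← Category.assoc,
        ← Category.assoc, ← Preadditive.add_comp, τ'_σ', Category.id_comp]
    have e3 : S.map ((st T η F a m).p ≫ η _) = S.map (st T η F a m).p ≫ S.map (η _) := S.map_comp _ _
    rw [Preadditive.comp_neg, e1, Preadditive.neg_comp, Category.assoc, Category.assoc]
    rw [← eq_sub_iff_add_eq] at e2
    rw [e2, Preadditive.comp_sub]
    abel

/-- the homotopy equivalence after applying `S` -/
noncomputable def homotopyEquiv :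
    HomotopyEquiv ((S.mapHomologicalComplex _).obj F) ((S.mapHomologicalComplex _).obj (G T η F hT a)) where
  hom := (S.mapHomologicalComplex _).map (φ T η F hT a)
  inv := ψ T η F hT a S r hr
  homotopyHomInvId := Homotopy.ofEq (φ_ψ T η F hT a S r hr)
  homotopyInvHomId := ψφHomotopy T η F hT a S r hr

end Groth.Misc4.GodTot
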