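import Groth.Agent.Misc4.PerfectEnvelope
import Groth.Prelude.Def_DerLim

/-!
# Maps from perfect objects into homotopy colimits of objects with quasi-coherent cohomology
-/

universe u

open CategoryTheory CategoryTheory.Limits Pretriangulated AlgebraicGeometry
open Groth.KTheory.Perf

attribute [local instance] HasDerivedCategory.standard

set_option backward.isDefEq.respectTransparency false
set_option synthInstance.maxHeartbeats 400000
set_option maxHeartbeats 1000000

namespace Groth.Misc4.HocolimHom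

variable {X : Scheme.{u}} (E : ℕ → DCoh.D X) (f : ∀ n, E n ⟶ E (n + 1))

/-- composite transition maps -/
noncomputable def tr {n m : ℕ} (h : n ≤ m) : E n ⟶ E m := (Functor.ofSequence f).map (homOfLE h)

lemma tr_self (n : ℕ) (h : n ≤ n) : tr E f h = 𝟙 _ :=
  (congrArg (Functor.ofSequence f).map (Subsingleton.elim _ (𝟙 n))).trans ((Functor.ofSequence f).map_id n)

lemma tr_succ (n : ℕ) : tr E f (Nat.le_succ n) = f n := Functor.ofSequence_map_homOfLE_succ f n

lemma tr_comp {a b c : ℕ} (h : a ≤ b) (h' : b ≤ c) : tr E f h ≫ tr E f h' = tr E f (h.trans h') :=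
  ((Functor.ofSequence f).map_comp _ _).symm

variable [HasCoproduct E]

/-- coproducts indexed by `ℕ` as coproducts indexed by `ULift ℕ` -/
noncomputable def liftCofan : IsColimit (Cofan.mk (∐ E) fun i : ULift.{u} ℕ => Sigma.ι E i.down) :=
  Cofan.IsColimit.mk _ (fun s => Sigma.desc fun n => s.inj ⟨n⟩)
    (fun s i => (Sigma.ι_desc (f := E) (fun n => s.inj ⟨n⟩) i.down : _))
    (fun s m hm => Sigma.hom_ext (f := E) _ _ fun n =>
      (hm ⟨n⟩).trans (Sigma.ι_desc (f := E) (fun n => s.inj ⟨n⟩) n).symm)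

theorem isQCohD_sigma_nat (hE : ∀ n, DCoh.IsQCohD (E n)) : DCoh.IsQCohD (∐ E) := by
  haveI : HasCoproducts.{u} (DCoh.D X) := Groth.DerivedCoh.KInjRes.hasCoproducts
  exact Groth.Misc4.QCohDPerf.isQCohD_of_iso
    ((coproductIsCoproduct fun i : ULift.{u} ℕ => E i.down).coconePointUniqueUpToIso (liftCofan E))
    (Groth.Misc4.QCohDSum.isQCohD_sigma X (fun i : ULift.{u} ℕ => E i.down) fun i => hE i.down)

/-- projections -/
noncomputable def pr (N : ℕ) : ∐ E ⟶ E N :=
  Sigma.desc fun n => if h : n = N then eqToHom (congrArg E h) else 0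

lemma ι_pr_self (N : ℕ) : Sigma.ι E N ≫ pr E N = 𝟙 _ := by simp [pr]

lemma ι_pr_ne {n N : ℕ} (h : n ≠ N) : Sigma.ι E n ≫ pr E N = 0 := by simp [pr, h]

variable [CompactSpace X] [QuasiSeparatedSpace X]

/-- maps out of perfect objects into countable sums are finite sums -/
theorem exists_sum_nat (hE : ∀ n, DCoh.IsQCohD (E n)) {C : DCoh.D X} (hC : DCoh.IsPerfect C) (z : C ⟶ ∐ E) :
    ∃ (S : Finset ℕ) (x : ∀ n, C ⟶ E n), z = ∑ n ∈ S, x n ≫ Sigma.ι E n := by
  classical
  haveI : HasCoproducts.{u} (DCoh.D X) := Groth.DerivedCoh.KInjRes.hasCoproducts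
  let φ : (∐ fun i : ULift.{u} ℕ => E i.down) ≅ ∐ E :=
    (coproductIsCoproduct fun i : ULift.{u} ℕ => E i.down).coconePointUniqueUpToIso (liftCofan E)
  have hφ : ∀ i, Sigma.ι (fun i : ULift.{u} ℕ => E i.down) i ≫ φ.hom = Sigma.ι E i.down := fun i =>
    (coproductIsCoproduct fun i : ULift.{u} ℕ => E i.down).comp_coconePointUniqueUpToIso_hom (liftCofan E) ⟨i⟩
  obtain ⟨y, hy⟩ := (Groth.Misc4.PerfectCompactQCoh.bijective C hC (fun i : ULift.{u} ℕ => E i.down)
    fun i => hE i.down).2 (z ≫ φ.inv)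
  refine ⟨(DFinsupp.support y).map ⟨ULift.down, ULift.down_injective⟩, fun n => y ⟨n⟩, ?_⟩
  rw [Finset.sum_map]
  conv_lhs => rw [← Category.comp_id z, ← φ.inv_hom_id, ← Category.assoc, ← hy, ← DirectSum.sum_support_of y,
    map_sum, Preadditive.sum_comp]
  refine Finset.sum_congr rfl fun i _ => ?_
  rw [Groth.Misc4.PerfectCompactQCoh.homSum_of, Category.assoc, hφ]
  rfl

lemma shiftMap_pr_succ (N : ℕ) : DerLim.shiftMap E f ≫ pr E (N + 1) = pr E N ≫ f N := by
  refine Sigma.hom_ext _ _ fun n => ?_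
  simp only [DerLim.shiftMap, Sigma.ι_desc_assoc, Category.assoc]
  by_cases h : n = N
  · subst h
    rw [ι_pr_self, Category.comp_id, reassoc_of% ι_pr_self E n]
  · rw [reassoc_of% ι_pr_ne E h, zero_comp, ι_pr_ne E (by omega), comp_zero]

lemma shiftMap_pr_zero : DerLim.shiftMap E f ≫ pr E 0 = 0 :=
  Sigma.hom_ext _ _ fun n => by
    simp only [DerLim.shiftMap, Sigma.ι_desc_assoc, Category.assoc, comp_zero]
    rw [ι_pr_ne E (by omega), comp_zero]

/-- `1 - shift` is injective on maps out of perfect objects -/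
theorem eq_zero_of_comp (hE : ∀ n, DCoh.IsQCohD (E n)) {C : DCoh.D X} (hC : DCoh.IsPerfect C) (a : C ⟶ ∐ E)
    (ha : a ≫ (𝟙 (∐ E) - DerLim.shiftMap E f) = 0) : a = 0 := by
  rw [Preadditive.comp_sub, Category.comp_id, sub_eq_zero] at ha
  have h0 : ∀ N, a ≫ pr E N = 0 := fun N => by
    induction N with
    | zero => rw [ha, Category.assoc, shiftMap_pr_zero, comp_zero]
    | succ N ih => rw [ha, Category.assoc, shiftMap_pr_succ, reassoc_of% ih, zero_comp]
  obtain ⟨S, x, rfl⟩ := exists_sum_nat E hE hC a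
  refine Finset.sum_eq_zero fun n hn => ?_
  have h := h0 n
  rw [Preadditive.sum_comp, Finset.sum_eq_single n
    (fun k _ hk => by rw [Category.assoc, ι_pr_ne E hk, comp_zero]) (fun h => absurd hn h),
    Category.assoc, ι_pr_self, Category.comp_id] at h
  rw [h, zero_comp]

/-- maps from perfect objects into a homotopy colimit factor through a stage and die at a finite stage -/
theorem factor_and_kill (hE : ∀ n, DCoh.IsQCohD (E n)) {L : DCoh.D X} {i : ∀ n, E n ⟶ L}
    (hL : DerLim.IsHocolim E f L i) {C : DCoh.D X} (hC : DCoh.IsPerfect C) :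
    (∀ x : C ⟶ L, ∃ (n : ℕ) (y : C ⟶ E n), y ≫ i n = x) ∧
      (∀ (n : ℕ) (y : C ⟶ E n), y ≫ i n = 0 → ∃ (m : ℕ) (h : n ≤ m), y ≫ tr E f h = 0) := by
  classical
  obtain ⟨c, hT⟩ := hL
  have hfi : ∀ n, f n ≫ i (n + 1) = i n := fun n => by
    have h : (Sigma.ι E n ≫ (𝟙 (∐ E) - DerLim.shiftMap E f)) ≫ Sigma.desc i = 0 :=
      (Category.assoc _ _ _).trans ((congrArg (Sigma.ι E n ≫ ·) (comp_distTriang_mor_zero₁₂ _ hT)).trans comp_zero)
    simp only [Preadditive.sub_comp, Category.id_comp, Preadditive.comp_sub, DerLim.shiftMap,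
      Sigma.ι_desc, Category.assoc, Category.comp_id, sub_eq_zero] at h
    exact h.symm
  have htri : ∀ n m (h : n ≤ m), tr E f h ≫ i m = i n := fun n m h => by
    induction m, h using Nat.le_induction with
    | base => rw [tr_self, Category.id_comp]
    | succ m h ih => rw [← tr_comp E f h m.le_succ, tr_succ, Category.assoc, hfi, ih]
  constructor
  · intro x
    have hc : x ≫ c = 0 := by
      let e : (C⟦(-1 : ℤ)⟧)⟦(1 : ℤ)⟧ ≅ C := (shiftFunctorCompIsoId (DCoh.D X) (-1 : ℤ) 1 (by omega)).app C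
      obtain ⟨a, ha⟩ := (shiftFunctor (DCoh.D X) (1 : ℤ)).map_surjective (e.hom ≫ x ≫ c)
      have h3 : c ≫ (𝟙 (∐ E) - DerLim.shiftMap E f)⟦(1 : ℤ)⟧' = 0 := comp_distTriang_mor_zero₃₁ _ hT
      have ha0 : a = 0 := eq_zero_of_comp E f hE (isPerfect_shift hC _) a
        ((shiftFunctor (DCoh.D X) (1 : ℤ)).map_injective (by
          rw [Functor.map_comp, Functor.map_zero, ha, Category.assoc, Category.assoc, h3, comp_zero, comp_zero]))
      rw [← cancel_epi e.hom, comp_zero, ← ha, ha0, Functor.map_zero]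
    obtain ⟨a, ha⟩ := Triangle.coyoneda_exact₃ _ hT x hc
    obtain ⟨S, y, rfl⟩ := exists_sum_nat E hE hC a
    refine ⟨S.sup id, ∑ n ∈ S.attach, y n.1 ≫ tr E f (Finset.le_sup (f := id) n.2), ?_⟩
    rw [Preadditive.sum_comp, ha]
    show _ = (∑ n ∈ S, y n ≫ Sigma.ι E n) ≫ Sigma.desc i
    rw [Preadditive.sum_comp, ← Finset.sum_attach S]
    refine Finset.sum_congr rfl fun n _ => ?_
    rw [Category.assoc, htri, Category.assoc, Sigma.ι_desc]
  · intro n y hy
    obtain ⟨b, hb⟩ := Triangle.coyoneda_exact₂ _ hT (y ≫ Sigma.ι E n) (by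
      show (y ≫ Sigma.ι E n) ≫ Sigma.desc i = 0
      rw [Category.assoc, Sigma.ι_desc, hy])
    replace hb : y ≫ Sigma.ι E n = b ≫ (𝟙 (∐ E) - DerLim.shiftMap E f) := hb
    obtain ⟨S, x, rfl⟩ := exists_sum_nat E hE hC b
    let N := n + S.sup (fun k => k + 1)
    refine ⟨N, Nat.le_add_right _ _, ?_⟩
    let q : ∐ E ⟶ E N := Sigma.desc fun k => if h : k ≤ N then tr E f h else 0
    have hq : ∀ k (h : k ≤ N), Sigma.ι E k ≫ q = tr E f h := fun k h => by simp [q, h]
    have key : ∀ k, k < N → Sigma.ι E k ≫ (𝟙 (∐ E) - DerLim.shiftMap E f) ≫ q = 0 := fun k hk => by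
      simp only [Preadditive.sub_comp, Category.id_comp, Preadditive.comp_sub, DerLim.shiftMap,
        Sigma.ι_desc_assoc, Category.assoc]
      rw [hq k hk.le, hq (k + 1) hk, ← tr_succ E f k, tr_comp, sub_self]
    have h := congrArg (· ≫ q) hb
    simp only [Category.assoc] at h
    rw [hq n (Nat.le_add_right _ _)] at h
    rw [h, Preadditive.sum_comp]
    refine Finset.sum_eq_zero fun k hk => ?_
    rw [Category.assoc, key k (by
      have := Finset.le_sup (f := fun k => k + 1) hk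
      omega), comp_zero]

end Groth.Misc4.HocolimHom
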