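import Groth.Agent.Misc4.CountableSections
import Groth.Agent.Misc4.HocolimHom
import Groth.Agent.Misc4.PerfectGenerator

/-!
# Objects with countable sections are countable homotopy colimits of perfect objects
-/

universe u

open CategoryTheory CategoryTheory.Limits Pretriangulated AlgebraicGeometry Opposite
open Groth.KTheory.Perf Groth.Misc4.CountableHom Groth.Misc4.HocolimHom
open scoped ZeroObject

attribute [local instance] HasDerivedCategory.standard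

set_option backward.isDefEq.respectTransparency false
set_option synthInstance.maxHeartbeats 400000
set_option maxHeartbeats 1000000

namespace Groth.Misc4.HocolimCountable

variable {X : Scheme.{u}} (G K : DCoh.D X)

/-- maps out of shifts of `G` killed in `K` -/
abbrev Task {E : DCoh.D X} (i : E ⟶ K) : Type (u + 1) :=
  {p : Σ m : ℤ, (G⟦m⟧ ⟶ E) // p.2 ≫ i = 0}

/-- a stage of the construction -/
structure St where
  /-- the perfect object -/
  E : DCoh.D X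
  /-- its map to the target -/
  i : E ⟶ K
  hE : DCoh.IsPerfect E
  /-- the pending kernel elements -/
  P : ℕ → ℕ → Task G K i

/-- transport of tasks -/
noncomputable def push {E E' : DCoh.D X} {i : E ⟶ K} {i' : E' ⟶ K} (f : E ⟶ E') (hf : f ≫ i' = i) (p : Task G K i) :
    Task G K i' :=
  ⟨⟨p.1.1, p.1.2 ≫ f⟩, by rw [Category.assoc, hf]; exact p.2⟩

variable {G K}

/-- surjective enumeration of tasks -/
lemma exists_enum [CompactSpace X] [QuasiSeparatedSpace X] (hG : DCoh.IsPerfect G)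
    (hX : ∀ U : X.Opens, IsAffineOpen U → Countable (X.presheaf.obj (op U)))
    {E : DCoh.D X} (hE : DCoh.IsPerfect E) (i : E ⟶ K) : ∃ g : ℕ → Task G K i, Function.Surjective g := by
  haveI : ∀ m : ℤ, Countable (G⟦m⟧ ⟶ E) := fun m =>
    cnt X _ _ (isPerfect_shift hG m) (Groth.Misc4.Thomason.isQCohD_of_isPerfect hE)
      (Groth.Misc4.CountableSections.cs_of_perfect hX hE)
  haveI : Nonempty (Task G K i) := ⟨⟨⟨0, 0⟩, zero_comp⟩⟩
  exact exists_surjective_nat _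

/-- one step of the construction -/
lemma exists_step [CompactSpace X] [QuasiSeparatedSpace X] (hG : DCoh.IsPerfect G)
    (hX : ∀ U : X.Opens, IsAffineOpen U → Countable (X.presheaf.obj (op U)))
    (n : ℕ) (s : St G K) (φ : Σ m : ℤ, (G⟦m⟧ ⟶ K)) :
    ∃ (s' : St G K) (f : s.E ⟶ s'.E) (hf : f ≫ s'.i = s.i),
      (∃ y : G⟦φ.1⟧ ⟶ s'.E, y ≫ s'.i = φ.2) ∧ (s.P n.unpair.1 n.unpair.2).1.2 ≫ f = 0 ∧
      (∀ j k, j ≠ n + 1 → s'.P j k = push G K f hf (s.P j k)) ∧ Function.Surjective (s'.P (n + 1)) := by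
  let p := s.P n.unpair.1 n.unpair.2
  let ψ : G⟦p.1.1⟧ ⟶ s.E ⊞ G⟦φ.1⟧ := p.1.2 ≫ biprod.inl
  obtain ⟨C, g, δ, hT⟩ := distinguished_cocone_triangle ψ
  obtain ⟨i', hi'⟩ := Triangle.yoneda_exact₂ _ hT (biprod.desc s.i φ.2)
    ((Category.assoc _ _ _).trans ((congrArg (p.1.2 ≫ ·) (biprod.inl_desc _ _)).trans p.2))
  have hi : g ≫ i' = biprod.desc s.i φ.2 := hi'.symm
  have hB : DCoh.IsPerfect (s.E ⊞ G⟦φ.1⟧) :=
    isPerfect_obj₂ _ (binaryBiproductTriangle_distinguished s.E (G⟦φ.1⟧)) s.hE (isPerfect_shift hG _)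
  have hC : DCoh.IsPerfect C := isPerfect_obj₂ _ (rot_of_distTriang _ hT) hB
    (isPerfect_shift (isPerfect_shift hG _) 1)
  have hf : (biprod.inl ≫ g) ≫ i' = s.i := by rw [Category.assoc, hi, biprod.inl_desc]
  obtain ⟨e, he⟩ := exists_enum hG hX hC i'
  refine ⟨⟨C, i', hC, fun j k => if j = n + 1 then e k else push G K (biprod.inl ≫ g) hf (s.P j k)⟩,
    biprod.inl ≫ g, hf, ⟨biprod.inr ≫ g, by rw [Category.assoc, hi, biprod.inr_desc]⟩,
    (Category.assoc _ _ _).symm.trans (comp_distTriang_mor_zero₁₂ _ hT), fun j k h => if_neg h, ?_⟩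
  intro t
  obtain ⟨k, hk⟩ := he t
  exact ⟨k, (if_pos rfl).trans hk⟩

/-- objects with countable sections are homotopy colimits of sequences of perfect objects -/
theorem exists_hocolim [CompactSpace X] [QuasiSeparatedSpace X] [HasColimitsOfShape (Discrete ℕ) (DCoh.D X)]
    (hX : ∀ U : X.Opens, IsAffineOpen U → Countable (X.presheaf.obj (op U)))
    (K : DCoh.D X) (hK : DCoh.IsQCohD K) (hKc : CS K) :
    ∃ (E : ℕ → DCoh.D X) (f : ∀ n, E n ⟶ E (n + 1)) (i : ∀ n, E n ⟶ K),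
      (∀ n, DCoh.IsPerfect (E n)) ∧ DerLim.IsHocolim E f K i := by
  obtain ⟨G, hG, -, hgen⟩ := Groth.Misc4.PerfectGenerator.gen X Set.univ isClosed_univ (fun _ _ _ => by simp)
  haveI : ∀ m : ℤ, Countable (G⟦m⟧ ⟶ K) := fun m => cnt X _ _ (isPerfect_shift hG m) hK hKc
  haveI : Nonempty (Σ m : ℤ, (G⟦m⟧ ⟶ K)) := ⟨⟨0, 0⟩⟩
  obtain ⟨φ, hφ⟩ := exists_surjective_nat (Σ m : ℤ, (G⟦m⟧ ⟶ K))
  obtain ⟨e₀, he₀⟩ := exists_enum (K := K) hG hX (E := 0) (isPerfect_of_isZero (isZero_zero _)) 0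
  choose next f hf hy hkill hP henum using fun n s => exists_step (K := K) hG hX n s (φ n)
  let s : ℕ → St G K := fun n => Nat.rec (⟨0, 0, isPerfect_of_isZero (isZero_zero _), fun _ => e₀⟩ : St G K) next n
  let E := fun n => (s n).E
  let F : ∀ n, E n ⟶ E (n + 1) := fun n => f n (s n)
  let i : ∀ n, E n ⟶ K := fun n => (s n).i
  have hFi : ∀ n, F n ≫ i (n + 1) = i n := fun n => hf n (s n)
  have hsurj : ∀ n, Function.Surjective ((s n).P n) := fun n => match n with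
    | 0 => he₀
    | n + 1 => henum n (s n)
  have hprop : ∀ n k N (h : n ≤ N), ((s N).P n k).1 =
      ⟨((s n).P n k).1.1, ((s n).P n k).1.2 ≫ tr E F h⟩ := fun n k N h => by
    induction N, h using Nat.le_induction with
    | base => rw [tr_self, Category.comp_id]
    | succ N h ih =>
      have h1 : (s (N + 1)).P n k = push G K (F N) (hFi N) ((s N).P n k) := hP N (s N) n k (by omega)
      rw [h1, ← tr_comp E F h N.le_succ, tr_succ, ← Category.assoc]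
      exact congrArg (fun q : Σ m : ℤ, (G⟦m⟧ ⟶ E N) => (⟨q.1, q.2 ≫ F N⟩ : Σ m : ℤ, (G⟦m⟧ ⟶ E (N + 1)))) ih
  have hker : ∀ (m : ℤ) (n : ℕ) (ψ : G⟦m⟧ ⟶ E n), ψ ≫ i n = 0 → ∃ (N : ℕ) (h : n ≤ N), ψ ≫ tr E F h = 0 := by
    intro m n ψ hψ
    obtain ⟨k, hk⟩ := hsurj n ⟨⟨m, ψ⟩, hψ⟩
    let N := Nat.pair n k
    have hN : n ≤ N := Nat.left_le_pair n k
    refine ⟨N + 1, hN.trans N.le_succ, ?_⟩
    have h1 : ((s N).P n k).1.2 ≫ F N = 0 := by
      have := hkill N (s N)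
      rwa [Nat.unpair_pair] at this
    have h2 : ((s N).P n k).1 = ⟨m, ψ ≫ tr E F hN⟩ := by rw [hprop n k N hN, hk]
    rw [← tr_comp E F hN N.le_succ, tr_succ, ← Category.assoc]
    exact (congrArg (fun q : Σ m : ℤ, (G⟦m⟧ ⟶ E N) => q.2 ≫ F N = 0) h2).mp h1
  have hfac : ∀ (m : ℤ) (x : G⟦m⟧ ⟶ K), ∃ (n : ℕ) (y : G⟦m⟧ ⟶ E n), y ≫ i n = x := by
    intro m x
    obtain ⟨n, hn⟩ := hφ ⟨m, x⟩
    obtain ⟨y, hy'⟩ : ∃ y : G⟦(φ n).1⟧ ⟶ E (n + 1), y ≫ i (n + 1) = (φ n).2 := hy n (s n)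
    have key : ∀ p : Σ m : ℤ, (G⟦m⟧ ⟶ K), p = ⟨m, x⟩ → ∀ (y : G⟦p.1⟧ ⟶ E (n + 1)), y ≫ i (n + 1) = p.2 →
        ∃ z : G⟦m⟧ ⟶ E (n + 1), z ≫ i (n + 1) = x := by
      rintro _ rfl y hy
      exact ⟨y, hy⟩
    exact ⟨n + 1, key _ hn y hy'⟩
  refine ⟨E, F, i, fun n => (s n).hE, ?_⟩
  have hEq : ∀ n, DCoh.IsQCohD (E n) := fun n => Groth.Misc4.Thomason.isQCohD_of_isPerfect (s n).hE
  have h0 : (𝟙 (∐ E) - DerLim.shiftMap E F) ≫ Sigma.desc i = 0 := by
    refine Sigma.hom_ext _ _ fun n => ?_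
    simp [Preadditive.sub_comp, Preadditive.comp_sub, DerLim.shiftMap, hFi]
  obtain ⟨L, j, c, hL⟩ := distinguished_cocone_triangle (𝟙 (∐ E) - DerLim.shiftMap E F)
  obtain ⟨θ, hθ⟩ := Triangle.yoneda_exact₂ _ hL (Sigma.desc i) h0
  replace hθ : Sigma.desc i = j ≫ θ := hθ
  have hLq : DCoh.IsQCohD L := Groth.Misc4.QCohDPerf.isQCohD_obj₂ _ (rot_of_distTriang _ hL)
    (isQCohD_sigma_nat E hEq) (Groth.Misc4.QCohDPerf.isQCohD_shift (isQCohD_sigma_nat E hEq) 1)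
  have hhoco : DerLim.IsHocolim E F L fun n => Sigma.ι E n ≫ j := ⟨c, by
    rwa [show (Sigma.desc fun n => Sigma.ι E n ≫ j) = j from Sigma.hom_ext _ _ fun n => by simp]⟩
  have hiθ : ∀ n, (Sigma.ι E n ≫ j) ≫ θ = i n := fun n => by rw [Category.assoc, ← hθ, Sigma.ι_desc]
  have hinj : ∀ (m : ℤ) (a : G⟦m⟧ ⟶ L), a ≫ θ = 0 → a = 0 := fun m a ha => by
    obtain ⟨n, y, rfl⟩ := (factor_and_kill E F hEq hhoco (isPerfect_shift hG m)).1 a
    rw [Category.assoc, hiθ] at ha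
    obtain ⟨N, hN, hz⟩ := hker m n y ha
    have htr : ∀ N (h : n ≤ N), tr E F h ≫ Sigma.ι E N ≫ j = Sigma.ι E n ≫ j := fun N h => by
      induction N, h using Nat.le_induction with
      | base => rw [tr_self, Category.id_comp]
      | succ N h ih =>
        rw [← tr_comp E F h N.le_succ, tr_succ, Category.assoc]
        have h1 : (Sigma.ι E N ≫ (𝟙 (∐ E) - DerLim.shiftMap E F)) ≫ j = 0 :=
          (Category.assoc _ _ _).trans ((congrArg (Sigma.ι E N ≫ ·) (comp_distTriang_mor_zero₁₂ _ hL)).trans comp_zero)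
        simp only [Preadditive.sub_comp, Category.id_comp, Preadditive.comp_sub, DerLim.shiftMap,
          Sigma.ι_desc, Category.assoc, Category.comp_id, sub_eq_zero] at h1
        rw [← h1, ih]
    rw [← htr N hN, reassoc_of% hz, zero_comp]
  obtain ⟨Z, g, δ, hT⟩ := distinguished_cocone_triangle θ
  have hZq : DCoh.IsQCohD Z := Groth.Misc4.QCohDPerf.isQCohD_obj₂ _ (rot_of_distTriang _ hT) hK
    (Groth.Misc4.QCohDPerf.isQCohD_shift hLq 1)
  have hZ : IsZero Z := hgen Z hZq (fun _ => Set.subset_univ _) fun m x => by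
    have hδ : x ≫ δ = 0 := by
      let e : (G⟦m - 1⟧)⟦(1 : ℤ)⟧ ≅ G⟦m⟧ := ((shiftFunctorAdd' (DCoh.D X) (m - 1) 1 m (by omega)).app G).symm
      obtain ⟨a, ha⟩ := (shiftFunctor (DCoh.D X) (1 : ℤ)).map_surjective (e.hom ≫ x ≫ δ)
      have h3 : δ ≫ θ⟦(1 : ℤ)⟧' = 0 := comp_distTriang_mor_zero₃₁ _ hT
      have ha0 : a = 0 := hinj _ a ((shiftFunctor (DCoh.D X) (1 : ℤ)).map_injective (by
        rw [Functor.map_comp, Functor.map_zero, ha, Category.assoc, Category.assoc, h3, comp_zero, comp_zero]))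
      rw [← cancel_epi e.hom, comp_zero, ← ha, ha0, Functor.map_zero]
    obtain ⟨y, hy'⟩ := Triangle.coyoneda_exact₃ _ hT x hδ
    obtain ⟨n, w, hw⟩ := hfac m y
    rw [hy', ← hw, ← hiθ n]
    show (w ≫ (Sigma.ι E n ≫ j) ≫ θ) ≫ g = 0
    rw [Category.assoc, Category.assoc, show θ ≫ g = 0 from comp_distTriang_mor_zero₁₂ _ hT, comp_zero, comp_zero]
  haveI : IsIso θ := (Triangle.isZero₃_iff_isIso₁ _ hT).1 hZ
  exact ⟨inv θ ≫ c, isomorphic_distinguished _ hL _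
    (Triangle.isoMk _ _ (Iso.refl _) (Iso.refl _) (asIso θ).symm (by simp) (by simp [hθ]) (by simp))⟩

end Groth.Misc4.HocolimCountable
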