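import Groth.Agent.Misc4.ApproxQcqs
import Groth.Agent.Misc4.PerfVanishQcqs
import Groth.Agent.Misc4.KoszulTrunc
import Groth.Agent.Misc1.Telescope2
import Groth.Agent.AdicLinTop.HomologyCoprod
import Groth.Agent.DerivedCoh.RelPerfectBC
import Groth.Agent.DerivedCoh.PerfFP.RelPerfect
import Groth.Prelude.Def_DerLim
import Mathlib.CategoryTheory.Limits.Constructions.EventuallyConstant

/-!
# Pseudo-coherent objects as homotopy colimits of perfect objects
-/

universe u

open CategoryTheory CategoryTheory.Limits Pretriangulated AlgebraicGeometry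
open Groth.DerivedCoh.PCoh

attribute [local instance] HasDerivedCategory.standard

set_option backward.isDefEq.respectTransparency false
set_option synthInstance.maxHeartbeats 400000
set_option maxHeartbeats 1000000

namespace Groth.Misc4.HocolimPerfect

variable {X : Scheme.{u}}

/-- perfect objects supported on `T` mapping to `K`, increasingly close to an isomorphism -/
def IsStage (T : Set X) (K : DCoh.D X) (m : ℤ) (p : Σ P : DCoh.D X, P ⟶ K) : Prop :=
  DCoh.IsPerfect p.1 ∧ (∀ i : ℤ, CohB1.support (DCoh.HD p.1 i) ⊆ T) ∧ Near m p.2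

/-- a sequence of approximations compatible with transition maps -/
theorem exists_seq [CompactSpace X] [QuasiSeparatedSpace X] {T : Set X} (hT : IsClosed T)
    (hTc : IsRetrocompact Tᶜ) (K : DCoh.D X) (hpc : ∀ m : ℤ, DCoh.IsPseudoCoherentD m K)
    (hK : ∀ i : ℤ, CohB1.support (DCoh.HD K i) ⊆ T) :
    ∃ (E : ℕ → DCoh.D X) (f : ∀ n, E n ⟶ E (n + 1)) (i : ∀ n, E n ⟶ K),
      (∀ n : ℕ, IsStage T K (-(n : ℤ) - 1) ⟨E n, i n⟩) ∧ ∀ n, f n ≫ i (n + 1) = i n := by
  have hqc : DCoh.IsQCohD K := Groth.DerivedCoh.RelPerfectBC.isQCohD_of_pc hpc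
  obtain ⟨r, hr⟩ := Groth.Misc4.ApproxQcqs.holds X T hT hTc
  have app : ∀ m : ℤ, ∃ p, IsStage T K m p := fun m => by
    obtain ⟨P, α, h1, h2, h3, h4⟩ := hr m K hqc (hpc _) fun i _ => hK i
    exact ⟨⟨P, α⟩, h1, h2, h3, h4⟩
  have step : ∀ (n : ℕ) (p : {p // IsStage T K (-(n : ℤ) - 1) p}),
      ∃ (q : {q // IsStage T K (-((n + 1 : ℕ) : ℤ) - 1) q}) (f : p.1.1 ⟶ q.1.1), f ≫ q.1.2 = p.1.2 := by
    intro n p
    obtain ⟨c, hc⟩ := Groth.Misc4.PerfVanishQcqs.van X p.1.1 p.2.1
    obtain ⟨⟨Q, α⟩, hQ, hQT, hα⟩ := app (min (-((n + 1 : ℕ) : ℤ) - 1) c)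
    obtain ⟨C, g, δ, hd⟩ := distinguished_cocone_triangle α
    have hCq : DCoh.IsQCohD C := Groth.Misc4.QCohDPerf.isQCohD_obj₂ (Triangle.mk α g δ).rotate
      (rot_of_distTriang _ hd) hqc
      (Groth.Misc4.QCohDPerf.isQCohD_shift (Groth.Misc4.Thomason.isQCohD_of_isPerfect hQ) 1)
    have hC : C.IsLE c := (DerivedCategory.isLE_iff _ _).2 fun i hi =>
      below_of_near _ hd hα i (by omega)
    obtain ⟨f, hf⟩ := Triangle.coyoneda_exact₂ _ hd p.1.2 (hc C hCq hC _)
    exact ⟨⟨⟨Q, α⟩, hQ, hQT, hα.mono (min_le_left _ _)⟩, f, hf.symm⟩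
  choose q f hf using step
  choose p hp using app
  let s : ∀ n : ℕ, {p // IsStage T K (-(n : ℤ) - 1) p} := fun n =>
    Nat.rec (motive := fun n => {p // IsStage T K (-(n : ℤ) - 1) p}) ⟨p _, hp _⟩ (fun n a => q n a) n
  exact ⟨fun n => (s n).1.1, fun n => f n (s n), fun n => (s n).1.2, fun n => (s n).2,
    fun n => hf n (s n)⟩

/-- a compatible sequence of approximations exhibits a homotopy colimit -/
theorem isHocolim_of_near [HasColimitsOfShape (Discrete ℕ) (DCoh.D X)] (K : DCoh.D X)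
    (E : ℕ → DCoh.D X) (f : ∀ n, E n ⟶ E (n + 1)) (i : ∀ n, E n ⟶ K)
    (hf : ∀ n, f n ≫ i (n + 1) = i n) (hi : ∀ n : ℕ, Near (-(n : ℤ) - 1) (i n)) :
    DerLim.IsHocolim E f K i := by
  have h0 : (𝟙 (∐ E) - DerLim.shiftMap E f) ≫ Sigma.desc i = 0 := by
    refine Sigma.hom_ext _ _ fun n => ?_
    simp [Preadditive.sub_comp, Preadditive.comp_sub, DerLim.shiftMap, hf]
  obtain ⟨L, j, c, hL⟩ := distinguished_cocone_triangle (𝟙 (∐ E) - DerLim.shiftMap E f)
  obtain ⟨φ, hφ⟩ := Triangle.yoneda_exact₂ _ hL (Sigma.desc i) h0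
  replace hφ : Sigma.desc i = j ≫ φ := hφ
  have hhoco : DerLim.IsHocolim E f L fun n => Sigma.ι E n ≫ j := ⟨c, by
    rwa [show (Sigma.desc fun n => Sigma.ι E n ≫ j) = j from Sigma.hom_ext _ _ fun n => by simp]⟩
  haveI : IsIso φ := (DerivedCategory.isIso_iff _ _).2 fun d => by
    haveI := Groth.AdicLinTop.HomologyCoprod.preservesColimitsOfShape_homologyFunctor (A := X.Modules) (ULift.{u} ℕ) d
    haveI : PreservesColimitsOfShape (Discrete ℕ) (DerivedCategory.homologyFunctor X.Modules d) :=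
      preservesColimitsOfShape_of_equiv (Discrete.equivalence (Equiv.ulift.{u} (α := ℕ))) _
    obtain ⟨e, he⟩ := Groth.Misc1.Telescope.colimit_iso_of_isHocolim
      (DerivedCategory.homologyFunctor X.Modules d) E f L (fun n => Sigma.ι E n ≫ j) hhoco
    have hH : ∀ n : ℕ, (-d).toNat ≤ n → IsIso ((DerivedCategory.homologyFunctor X.Modules d).map (i n)) :=
      fun n hn => (hi n).1 d (by omega)
    let F := Functor.ofSequence fun n => (DerivedCategory.homologyFunctor X.Modules d).map (f n)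
    have hstep : ∀ n, (-d).toNat ≤ n → IsIso (F.map (homOfLE n.le_succ)) := fun n hn => by
      rw [Functor.ofSequence_map_homOfLE_succ]
      haveI := hH n hn
      haveI := hH (n + 1) (by omega)
      exact IsIso.of_isIso_fac_right (show _ ≫ (DerivedCategory.homologyFunctor X.Modules d).map (i (n + 1)) =
        (DerivedCategory.homologyFunctor X.Modules d).map (i n) by rw [← Functor.map_comp, hf])
    have hev : F.IsEventuallyConstantFrom (-d).toNat := by
      intro n g
      have hn := leOfHom g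
      obtain rfl : g = homOfLE hn := rfl
      induction n, hn using Nat.le_induction with
      | base =>
        rw [Subsingleton.elim (homOfLE _) (𝟙 (-d).toNat), F.map_id]
        infer_instance
      | succ n hn ih =>
        rw [← homOfLE_comp hn n.le_succ, F.map_comp]
        haveI := hstep n hn
        haveI := ih
        infer_instance
    haveI : IsIso (colimit.ι F (-d).toNat) := hev.isIso_ι_of_isColimit (colimit.isColimit F)
    haveI : IsIso ((DerivedCategory.homologyFunctor X.Modules d).map (Sigma.ι E (-d).toNat ≫ j)) := by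
      rw [← he]
      exact IsIso.comp_isIso' inferInstance inferInstance
    haveI := hH (-d).toNat le_rfl
    exact IsIso.of_isIso_fac_left (show
      (DerivedCategory.homologyFunctor X.Modules d).map (Sigma.ι E (-d).toNat ≫ j) ≫
        (DerivedCategory.homologyFunctor X.Modules d).map φ =
      (DerivedCategory.homologyFunctor X.Modules d).map (i (-d).toNat) by
        rw [← Functor.map_comp, Category.assoc, ← hφ, Sigma.ι_desc])
  exact ⟨inv φ ≫ c, isomorphic_distinguished _ hL _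
    (Triangle.isoMk _ _ (Iso.refl _) (Iso.refl _) (asIso φ).symm (by simp)
      (by simp [hφ]) (by simp))⟩

/-- perfect approximations in all degrees force pseudo-coherence -/
theorem isPseudoCoherentD_of_seq {K : DCoh.D X} (E : ℕ → DCoh.D X) (i : ∀ n, E n ⟶ K)
    (hE : ∀ n, DCoh.IsPerfect (E n))
    (hi : ∀ n : ℕ, IsIso ((Groth.Misc4.KoszulTrunc.t X).truncGE (-(n : ℤ)) |>.map (i n))) (m : ℤ) :
    DCoh.IsPseudoCoherentD m K := by
  let n := (-m).toNat
  have h := (Groth.Misc4.KoszulTrunc.isIso_truncGE_map_iff (i n) (-(n : ℤ))).1 (hi n)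
  have hnear : Near m (i n) := by
    refine ⟨fun k hk => h k (by omega), ?_⟩
    haveI := h m (by omega)
    infer_instance
  obtain ⟨C, g, δ, hd⟩ := distinguished_cocone_triangle (i n)
  exact isPseudoCoherentD_obj₂ _ hd (isPseudoCoherentD_of_isPerfect (hE n) m)
    (Groth.DerivedCoh.PerfFP.isPseudoCoherentD_of_below (below_of_near _ hd hnear))

/-- pseudo-coherent objects are exactly the homotopy colimits of perfect approximations -/
theorem iff_hocolim [CompactSpace X] [QuasiSeparatedSpace X] [HasColimitsOfShape (Discrete ℕ) (DCoh.D X)]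
    {T : Set X} (hT : IsClosed T) (hTc : IsCompact Tᶜ) (K : DCoh.D X)
    (hK : ∀ i : ℤ, CohB1.support (DCoh.HD K i) ⊆ T) :
    (∀ m : ℤ, DCoh.IsPseudoCoherentD m K) ↔
    ∃ (E : ℕ → DCoh.D X) (f : ∀ n, E n ⟶ E (n + 1)) (i : ∀ n, E n ⟶ K),
      (∀ n, DCoh.IsPerfect (E n)) ∧ (∀ (n : ℕ) (j : ℤ), CohB1.support (DCoh.HD (E n) j) ⊆ T) ∧
      DerLim.IsHocolim E f K i ∧
      ∀ n : ℕ, IsIso (((DerivedCategory.TStructure.t :
        CategoryTheory.Triangulated.TStructure (DCoh.D X)).truncGE (-(n : ℤ))).map (i n)) := by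
  refine ⟨fun h => ?_, fun ⟨E, f, i, hE, _, _, hi⟩ m => isPseudoCoherentD_of_seq E i hE hi m⟩
  have hTr : IsRetrocompact Tᶜ := fun U hU hUo => QuasiSeparatedSpace.inter_isCompact _ _ hT.isOpen_compl hTc hUo hU
  obtain ⟨E, f, i, hs, hf⟩ := exists_seq hT hTr K h hK
  exact ⟨E, f, i, fun n => (hs n).1, fun n => (hs n).2.1,
    isHocolim_of_near K E f i hf fun n => (hs n).2.2,
    fun n => (Groth.Misc4.KoszulTrunc.isIso_truncGE_map_iff (i n) _).2 fun q hq => (hs n).2.2.1 q (by omega)⟩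

end Groth.Misc4.HocolimPerfect
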