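import Groth.Agent.Misc4.KoszulFactor
import Groth.Agent.KoszulLCI.Perfect
import Groth.Agent.Calg1.PseudoCoherentBasic
import Groth.Agent.DerivedCoh.PCoh.Near

/-!
# Approximation by perfect complexes with torsion cohomology over a ring

A pseudo-coherent object whose top cohomology modules are power-torsion with respect to finitely
many elements receives a near isomorphism from a perfect object with torsion cohomology.
-/

universe u

open CategoryTheory CategoryTheory.Limits Pretriangulated DerivedCategory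
open scoped ZeroObject
open Groth.DAlg Groth.PCohPunctual
open Groth.DerivedCoh.PCoh (Near Below hShiftIso)

attribute [local instance] HasDerivedCategory.standard

set_option backward.isDefEq.respectTransparency false
set_option synthInstance.maxHeartbeats 400000

namespace Groth.Misc4.KoszulOrth

variable {A : Type u} [CommRing A] (fs : List A)

/-- Power torsion of the cohomology in degrees `≥ c`. -/
def TorsionIn (c : ℤ) (M : DerivedCategory (ModuleCat.{u} A)) : Prop :=
  ∀ f ∈ fs, ∀ q : ℤ, c ≤ q → ∀ x : (homologyFunctor (ModuleCat.{u} A) q).obj M, ∃ N : ℕ, f ^ N • x = 0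

/-- Perfect with power torsion cohomology. -/
def PerfTors (P : DerivedCategory (ModuleCat.{u} A)) : Prop :=
  DRing.IsPerfect A P ∧ ∀ f ∈ fs, IsTorsion f P

/-- There is a near isomorphism from a perfect object with torsion cohomology. -/
def Appr (m : ℤ) (M : DerivedCategory (ModuleCat.{u} A)) : Prop :=
  ∃ (P : DerivedCategory (ModuleCat.{u} A)) (α : P ⟶ M), PerfTors fs P ∧ Near m α

variable {fs}

lemma torsion_of_iso {f : A} {X Y : ModuleCat.{u} A} (e : X ≅ Y)
    (h : ∀ x : X, ∃ N : ℕ, f ^ N • x = 0) (y : Y) : ∃ N : ℕ, f ^ N • y = 0 := by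
  obtain ⟨N, hN⟩ := h (e.inv.hom y)
  refine ⟨N, e.symm.toLinearEquiv.injective ?_⟩
  rw [map_zero, map_smul]
  exact hN

lemma torsion_mid {f : A} {S : ShortComplex (ModuleCat.{u} A)} (hS : S.Exact)
    (h1 : ∀ x : S.X₁, ∃ N : ℕ, f ^ N • x = 0) (h3 : ∀ x : S.X₃, ∃ N : ℕ, f ^ N • x = 0) (x : S.X₂) :
    ∃ N : ℕ, f ^ N • x = 0 := by
  obtain ⟨N, hN⟩ := h3 (S.g.hom x)
  obtain ⟨y, hy⟩ := S.moduleCat_exact_iff.1 hS (f ^ N • x) ((map_smul S.g.hom (f ^ N) x).trans hN)
  obtain ⟨N', hN'⟩ := h1 y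
  refine ⟨N' + N, ?_⟩
  rw [pow_add, mul_smul, ← hy]
  exact (map_smul S.f.hom (f ^ N') y).symm.trans ((congrArg S.f.hom hN').trans (map_zero _))

lemma isTorsion_shift {f : A} {M : DerivedCategory (ModuleCat.{u} A)} (h : IsTorsion f M) (n : ℤ) :
    IsTorsion f (M⟦n⟧) :=
  fun q => torsion_of_iso ((hShiftIso n q (n + q) rfl).app M).symm (h (n + q))

lemma TorsionIn.shift {c c' : ℤ} {M : DerivedCategory (ModuleCat.{u} A)} (h : TorsionIn fs c M) (n : ℤ)
    (hc : c ≤ c' + n) : TorsionIn fs c' (M⟦n⟧) :=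
  fun f hf q hq => torsion_of_iso ((hShiftIso n q (n + q) rfl).app M).symm (h f hf (n + q) (by omega))

lemma PerfTors.of_iso {P P' : DerivedCategory (ModuleCat.{u} A)} (h : PerfTors fs P) (e : P ≅ P') :
    PerfTors fs P' :=
  ⟨IsPerfect.of_iso h.1 e, fun f hf q => torsion_of_iso ((homologyFunctor _ q).mapIso e) (h.2 f hf q)⟩

lemma PerfTors.shift {P : DerivedCategory (ModuleCat.{u} A)} (h : PerfTors fs P) (n : ℤ) :
    PerfTors fs (P⟦n⟧) :=
  ⟨IsPerfect.shift h.1 n, fun f hf => isTorsion_shift (h.2 f hf) n⟩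

lemma PerfTors.ext {T : Triangle (DerivedCategory (ModuleCat.{u} A))} (hT : T ∈ distTriang _)
    (h₁ : PerfTors fs T.obj₁) (h₃ : PerfTors fs T.obj₃) : PerfTors fs T.obj₂ :=
  ⟨IsPerfect.ext hT h₁.1 h₃.1,
    fun f hf q => torsion_mid (HomologySequence.exact₂ T hT q) (h₁.2 f hf q) (h₃.2 f hf q)⟩

lemma PerfTors.of_isZero {P : DerivedCategory (ModuleCat.{u} A)} (h : IsZero P) : PerfTors fs P :=
  ⟨IsPerfect.of_isZero h, fun _ _ q x =>
    haveI := ModuleCat.subsingleton_of_isZero ((homologyFunctor (ModuleCat.{u} A) q).map_isZero h)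
    ⟨0, Subsingleton.elim _ _⟩⟩

lemma perfTors_K (e : ℕ) : PerfTors fs (K A (fs.map (· ^ e))) := by
  refine ⟨(Groth.KoszulLCI.perfect_koszul _).1, fun f hf q x => ?_⟩
  obtain ⟨N, hN⟩ := isTorsion_K (f ^ e) _ (List.mem_map.2 ⟨f, hf, rfl⟩) q x
  exact ⟨e * N, by rwa [pow_mul]⟩

lemma isZero_homology_K : ∀ (l : List A) (i : ℤ), 0 < i →
    IsZero ((homologyFunctor (ModuleCat.{u} A) i).obj (K A l))
  | [], i, hi => (DerivedCategory.isZero_of_isLE ((singleFunctor (ModuleCat.{u} A) 0).obj (ModuleCat.of A A)) 0 i hi).of_iso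
      ((homologyFunctor _ i).mapIso ((singleFunctorIsoCompQ (ModuleCat.{u} A) 0).app (ModuleCat.of A A))).symm
  | f :: l, i, hi =>
      (HomologySequence.exact₃ _ (tri_distinguished f l) i (i + 1) rfl).isZero_of_both_zeros
        ((isZero_homology_K l i hi).eq_of_src _ _) ((isZero_homology_K l (i + 1) (by omega)).eq_of_tgt _ _)

/-- A class in the top degree zero comes from a perfect object with torsion cohomology. -/
theorem exists_hit {M : DerivedCategory (ModuleCat.{u} A)}
    (ht : TorsionIn fs (-(fs.length : ℤ) + 1) M) (x : (homologyFunctor (ModuleCat.{u} A) 0).obj M) :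
    ∃ (Q : DerivedCategory (ModuleCat.{u} A)) (β : Q ⟶ M), PerfTors fs Q ∧
      (∀ i : ℤ, 0 < i → IsZero ((homologyFunctor (ModuleCat.{u} A) i).obj Q)) ∧
      ∃ y, ((homologyFunctor (ModuleCat.{u} A) 0).map β).hom y = x := by
  let ι := (singleFunctorIsoCompQ (ModuleCat.{u} A) 0).app (ModuleCat.of A A)
  obtain ⟨s, hs⟩ := (Groth.DerComplete.toHomH0_bijective (ModuleCat.of A A) M).2
    (ModuleCat.ofHom (LinearMap.toSpanSingleton A _ x))
  obtain ⟨e, ψ, hψ⟩ := exists_factor_bot fs (fun f hf q h h' z => ht f hf q (by omega) z) (ι.inv ≫ s)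
  refine ⟨_, ψ, perfTors_K e, fun i hi => isZero_homology_K _ i hi,
    ((singleFunctorCompHomologyFunctorIso (ModuleCat.{u} A) 0).inv.app (ModuleCat.of A A) ≫
      (homologyFunctor _ 0).map (ι.hom ≫ bot _)).hom (1 : A), ?_⟩
  have h : Groth.DerComplete.toHomH0 (ModuleCat.of A A) M ((ι.hom ≫ bot _) ≫ ψ) =
      ModuleCat.ofHom (LinearMap.toSpanSingleton A _ x) := by
    rw [Category.assoc, hψ, Iso.hom_inv_id_assoc, hs]
  have h' := congr(($h).hom (1 : A))
  simp only [ModuleCat.hom_ofHom, LinearMap.toSpanSingleton_apply, one_smul] at h'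
  refine Eq.trans ?_ h'
  show _ = ((singleFunctorCompHomologyFunctorIso (ModuleCat.{u} A) 0).inv.app (ModuleCat.of A A) ≫
      (homologyFunctor _ 0).map ((ι.hom ≫ bot _) ≫ ψ)).hom (1 : A)
  rw [Functor.map_comp _ (ι.hom ≫ bot _) ψ, ← Category.assoc]
  rfl

lemma Appr.of_iso {m : ℤ} {M M' : DerivedCategory (ModuleCat.{u} A)} (h : Appr fs m M) (e : M ≅ M') :
    Appr fs m M' := by
  obtain ⟨P, α, hP, hα⟩ := h
  exact ⟨P, α ≫ e.hom, hP, hα.comp (Groth.DerivedCoh.PCoh.near_of_isIso e.hom)⟩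

lemma Appr.shift {m m' : ℤ} {M : DerivedCategory (ModuleCat.{u} A)} (h : Appr fs m M) (n : ℤ)
    (hm : m = m' + n) : Appr fs m' (M⟦n⟧) := by
  obtain ⟨P, α, hP, hα⟩ := h
  exact ⟨P⟦n⟧, α⟦n⟧', hP.shift n, (hα.shift n).mono (by omega)⟩

/-- Approximation of a cone lifts. -/
theorem Appr.of_cone {m : ℤ} {Q M M' : DerivedCategory (ModuleCat.{u} A)} {β : Q ⟶ M} {v : M ⟶ M'}
    {w : M' ⟶ Q⟦(1 : ℤ)⟧} (hT : Triangle.mk β v w ∈ distTriang _) (hQ : PerfTors fs Q)
    (h : Appr fs m M') : Appr fs m M := by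
  obtain ⟨P', α', hP', hα'⟩ := h
  obtain ⟨C, p, d, hC⟩ := distinguished_cocone_triangle α'
  obtain ⟨Z, a, b, hZ⟩ := distinguished_cocone_triangle (v ≫ p)
  let o := Triangulated.someOctahedron (rfl : v ≫ p = v ≫ p) (rot_of_distTriang _ hT)
    (rot_of_distTriang _ hC) hZ
  have hZP : PerfTors fs Z := PerfTors.ext o.mem (hQ.shift 1) (hP'.shift 1)
  exact ⟨Z⟦(-1 : ℤ)⟧, (Triangle.mk (v ≫ p) a b).invRotate.mor₁, hZP.shift (-1),
    Groth.DerivedCoh.PCoh.near_of_below _ (inv_rot_of_distTriang _ hZ)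
      (Groth.DerivedCoh.PCoh.below_of_near (Triangle.mk α' p d) hC hα')⟩

/-- Killing generators of the cohomology in degree zero. -/
theorem appr_step {m : ℤ} (hm : m ≤ 0) (H : ∀ M : DerivedCategory (ModuleCat.{u} A), PCn (finFree A) m M →
      TorsionIn fs (m - fs.length + 1) M →
      (∀ i : ℤ, 0 ≤ i → IsZero ((homologyFunctor (ModuleCat.{u} A) i).obj M)) → Appr fs m M) :
    ∀ (k : ℕ) (M : DerivedCategory (ModuleCat.{u} A)), PCn (finFree A) m M →
      TorsionIn fs (m - fs.length + 1) M →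
      (∀ i : ℤ, 0 < i → IsZero ((homologyFunctor (ModuleCat.{u} A) i).obj M)) →
      ∀ g : Fin k → (homologyFunctor (ModuleCat.{u} A) 0).obj M,
        Submodule.span A (Set.range g) = ⊤ → Appr fs m M := by
  intro k
  induction k with
  | zero =>
    intro M hpc ht hz g hg
    refine H M hpc ht fun i hi => ?_
    rcases hi.eq_or_lt with rfl | hi
    · rw [Set.range_eq_empty, Submodule.span_empty] at hg
      exact @ModuleCat.isZero_of_subsingleton A _ _
        ((Submodule.subsingleton_iff A).1 (subsingleton_of_bot_eq_top hg))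
    · exact hz i hi
  | succ k ih =>
    intro M hpc ht hz g hg
    obtain ⟨Q, β, hQ, hQz, y, hy⟩ := exists_hit (fun f hf q hq => ht f hf q (by omega)) (g 0)
    obtain ⟨M', v, w, hT⟩ := distinguished_cocone_triangle β
    have hsurj : Function.Surjective ((homologyFunctor (ModuleCat.{u} A) 0).map v).hom :=
      (ModuleCat.epi_iff_surjective _).1 ((HomologySequence.epi_homologyMap_mor₁_iff _
        (rot_of_distTriang _ hT) 0).2 ((((hQz 1 one_pos).of_iso
          ((hShiftIso 1 0 1 rfl).app Q))).eq_of_tgt _ _))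
    refine Appr.of_cone hT hQ (ih M' ?_ ?_ (fun i hi => ?_)
      (fun j => ((homologyFunctor (ModuleCat.{u} A) 0).map v).hom (g j.succ)) ?_)
    · exact PCn.cone (isAdditiveSub_finFree A) (isQuasiStable_finFree A) (isQuasiLiftable_finFree A) hT
        ((isPseudoCoherent_iff.1 ((isPseudoCoherent'_iff_forall.1 (IsPerfect.isPseudoCoherent' hQ.1)) (m + 1)))) hpc
    · intro f hf q hq
      exact torsion_mid (HomologySequence.exact₃ _ hT q (q + 1) rfl) (ht f hf q hq) (hQ.2 f hf (q + 1))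
    · exact (HomologySequence.exact₃ _ hT i (i + 1) rfl).isZero_of_both_zeros ((hz i hi).eq_of_src _ _)
        ((hQz (i + 1) (by omega)).eq_of_tgt _ _)
    · have hv0 : ((homologyFunctor (ModuleCat.{u} A) 0).map v).hom (g 0) = 0 := by
        rw [← hy]
        have h0 : (homologyFunctor (ModuleCat.{u} A) 0).map β ≫ (homologyFunctor (ModuleCat.{u} A) 0).map v = 0 :=
          (Functor.map_comp _ _ _).symm.trans ((congrArg (homologyFunctor (ModuleCat.{u} A) 0).map
            (comp_distTriang_mor_zero₁₂ _ hT)).trans (Functor.map_zero _ _ _))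
        exact ((ConcreteCategory.comp_apply _ _ y).symm.trans (congr_arg (fun t => t.hom y) h0) :)
      rw [eq_top_iff, ← Submodule.map_top ((homologyFunctor (ModuleCat.{u} A) 0).map v).hom |>.trans
        (LinearMap.range_eq_top.2 hsurj), ← hg, Submodule.map_span, Submodule.span_le]
      rintro _ ⟨_, ⟨j, rfl⟩, rfl⟩
      rcases Fin.eq_zero_or_eq_succ j with rfl | ⟨j, rfl⟩
      · rw [hv0]; exact zero_mem _
      · exact Submodule.subset_span ⟨j, rfl⟩

/-- Approximation for objects with vanishing cohomology in degrees `≥ 0`. -/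
theorem appr_aux : ∀ (n : ℕ) (M : DerivedCategory (ModuleCat.{u} A)), PCn (finFree A) (-(n : ℤ)) M →
    TorsionIn fs (-(n : ℤ) - fs.length + 1) M →
    (∀ i : ℤ, 0 ≤ i → IsZero ((homologyFunctor (ModuleCat.{u} A) i).obj M)) →
    Appr fs (-(n : ℤ)) M := by
  intro n
  induction n with
  | zero =>
    intro M _ _ hz
    exact ⟨0, 0, PerfTors.of_isZero (isZero_zero _), fun i hi => isIso_of_source_target_iso_zero _
      ((homologyFunctor _ i).map_isZero (isZero_zero _)).isoZero (hz i (by omega)).isoZero,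
      ⟨fun a b _ => (hz _ (by simp)).eq_of_src a b⟩⟩
  | succ n ih =>
    intro M hpc ht hz
    have hN : Appr fs (-(n : ℤ)) (M⟦(-1 : ℤ)⟧) := by
      have hz' : ∀ i : ℤ, 0 < i → IsZero ((homologyFunctor (ModuleCat.{u} A) i).obj (M⟦(-1 : ℤ)⟧)) :=
        fun i hi => (hz (-1 + i) (by omega)).of_iso ((hShiftIso (-1) i (-1 + i) rfl).app M)
      have hpc' : PCn (finFree A) (-(n : ℤ)) (M⟦(-1 : ℤ)⟧) := (hpc.shift (-1)).mono (by push_cast; omega)
      haveI : Module.Finite A ((homologyFunctor (ModuleCat.{u} A) 0).obj (M⟦(-1 : ℤ)⟧)) :=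
        Groth.Calg1.finite_top _ 0 (isPseudoCoherent_iff.2 (hpc'.mono (by omega))) hz'
      obtain ⟨k, g, hg⟩ := Module.Finite.exists_fin (R := A)
        (M := (homologyFunctor (ModuleCat.{u} A) 0).obj (M⟦(-1 : ℤ)⟧))
      exact appr_step (by omega) ih k _ hpc' (ht.shift (-1) (by push_cast; omega)) hz' g hg
    exact (hN.shift 1 (by push_cast; omega)).of_iso ((shiftFunctorCompIsoId _ (-1 : ℤ) 1 (by omega)).app M)

/-- Approximation by perfect objects with torsion cohomology. -/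
theorem appr {m : ℤ} {M : DerivedCategory (ModuleCat.{u} A)} (hpc : DRing.IsPseudoCoherent A m M)
    (ht : TorsionIn fs (m - fs.length + 1) M) : Appr fs m M := by
  have hp := isPseudoCoherent_iff.1 hpc
  obtain ⟨b, hb⟩ := hp.bddAbove
  obtain ⟨n, hn⟩ : ∃ n : ℕ, b < m + n := ⟨(b - m).toNat + 1, by omega⟩
  have h := appr_aux (fs := fs) n (M⟦m + n⟧) ((hp.shift (m + n)).mono (by omega))
    (ht.shift (m + n) (by omega))
    (fun i hi => (hb (m + n + i) (by omega)).of_iso ((hShiftIso (m + n) i (m + n + i) rfl).app M))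
  exact (h.shift (-(m + n)) (by omega)).of_iso ((shiftFunctorCompIsoId _ (m + n) (-(m + n)) (by omega)).app M)

end Groth.Misc4.KoszulOrth
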