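import Groth.Agent.Misc4.KoszulApprox
import Groth.Agent.Misc4.ApproxAffine

/-!
# Extending maps and cones across a quasi-compact open of an affine scheme
-/

universe u

open CategoryTheory CategoryTheory.Limits Pretriangulated DerivedCategory AlgebraicGeometry
open Groth.DAlg
open Groth.DerivedCoh.PCoh (Near Below hShiftIso)

attribute [local instance] HasDerivedCategory.standard

set_option backward.isDefEq.respectTransparency false
set_option backward.defeqAttrib.useBackward true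
set_option synthInstance.maxHeartbeats 400000
set_option maxHeartbeats 1000000

namespace Groth.Misc4.KoszulOrth

variable {A : Type u} [CommRing A]

/-- Maps from perfect objects into torsion objects are torsion. -/
theorem exists_pow_smul_perfect (f : A) {M : DerivedCategory (ModuleCat.{u} A)} (hM : IsTorsion f M)
    {P : DerivedCategory (ModuleCat.{u} A)} (hP : DRing.IsPerfect A P) (φ : P ⟶ M) :
    ∃ N : ℕ, f ^ N • φ = 0 := by
  obtain ⟨E, a, b, hE, hF, ⟨e⟩⟩ := hP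
  suffices key : ∀ (n : ℤ) (ψ : DerivedCategory.Q.obj E ⟶ M⟦n⟧), ∃ N : ℕ, f ^ N • ψ = 0 by
    obtain ⟨N, hN⟩ := key 0 (e.hom ≫ φ ≫ (shiftFunctorZero _ ℤ).inv.app M)
    refine ⟨N, (cancel_epi e.hom).1 ((cancel_mono ((shiftFunctorZero _ ℤ).inv.app M)).1 ?_)⟩
    rw [comp_zero, zero_comp, Linear.comp_smul, Linear.smul_comp, Category.assoc]
    exact hN
  refine bounded_induction (C := ModuleCat.{u} A) (fun X => ∀ (n : ℤ) (ψ : X ⟶ M⟦n⟧), ∃ N : ℕ, f ^ N • ψ = 0)
    (fun X Y i h n ψ => ?_) (fun T hT h₁ h₃ n ψ => ?_)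
    (fun X hX n ψ => ⟨0, hX.eq_of_src _ _⟩) E a b hE fun i n ψ => ?_
  · obtain ⟨N, hN⟩ := h n (i.hom ≫ ψ)
    exact ⟨N, (cancel_epi i.hom).1 (by rw [comp_zero, Linear.comp_smul]; exact hN)⟩
  · obtain ⟨N, hN⟩ := h₁ n (T.mor₁ ≫ ψ)
    obtain ⟨χ, hχ⟩ := Triangle.yoneda_exact₂ T hT (f ^ N • ψ) (by rw [Linear.comp_smul]; exact hN)
    obtain ⟨N', hN'⟩ := h₃ n χ
    refine ⟨N' + N, ?_⟩
    rw [pow_add, mul_smul, hχ, ← Linear.comp_smul, hN', comp_zero]
  · haveI := (hF i).1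
    haveI := (hF i).2
    haveI : Projective (E.X i) := (E.X i).projective_of_categoryTheory_projective
    let σ : (singleFunctor (ModuleCat.{u} A) i).obj (E.X i) ≅
        ((singleFunctor (ModuleCat.{u} A) 0).obj (E.X i))⟦-i⟧ := (singleShift (E.X i) i).symm
    obtain ⟨φ₀, hφ₀⟩ := (shiftFunctor (DerivedCategory (ModuleCat.{u} A)) (-i)).map_surjective
      (σ.inv ≫ ψ ≫ (shiftFunctorAdd' _ (n + i) (-i) n (by omega)).hom.app M)
    let h := Groth.DerComplete.toHomH0 (E.X i) (M⟦n + i⟧) φ₀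
    have ht := torsion_of_iso (f := f) ((hShiftIso (n + i) 0 (n + i) (by omega)).app M).symm (hM (n + i))
    obtain ⟨s, hs⟩ := (inferInstance : Module.Finite A (E.X i)).fg_top
    choose N₀ hN₀ using fun x : E.X i => ht (h.hom x)
    let N := s.sup N₀
    have hh : f ^ N • h = 0 := by
      refine ModuleCat.hom_ext (LinearMap.ext_on hs fun x hx => ?_)
      show f ^ N • h.hom x = 0
      rw [show N = (N - N₀ x) + N₀ x from (Nat.sub_add_cancel (Finset.le_sup hx)).symm, pow_add, mul_smul,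
        hN₀ x, smul_zero]
    have h0 : f ^ N • φ₀ = 0 := by
      refine (Groth.DerComplete.toHomH0_bijective (E.X i) (M⟦n + i⟧)).1 ?_
      rw [map_zero, ← hh]
      have h1 : f ^ N • φ₀ = (singleFunctor (ModuleCat.{u} A) 0).map (f ^ N • 𝟙 (E.X i)) ≫ φ₀ := by
        rw [Functor.map_smul, CategoryTheory.Functor.map_id, Linear.smul_comp, Category.id_comp]
      rw [h1, Groth.DerComplete.toHomH0_precomp, Linear.smul_comp, Category.id_comp]
    refine ⟨N, (cancel_epi σ.inv).1 ((cancel_mono ((shiftFunctorAdd' _ (n + i) (-i) n (by omega)).hom.app M)).1 ?_)⟩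
    rw [comp_zero, zero_comp, Linear.comp_smul, Linear.smul_comp, Category.assoc, ← hφ₀, ← Functor.map_smul, h0,
      Functor.map_zero]

/-- An object annihilated by a power of `f` is `f`-torsion. -/
theorem isTorsion_of_pow_smul_id (g : A) {M : DerivedCategory (ModuleCat.{u} A)} {N : ℕ}
    (hN : g ^ N • 𝟙 M = 0) : IsTorsion g M := by
  intro q x
  obtain ⟨φ, hφ⟩ := (evalNil_injective M q).2 (ModuleCat.ofHom (LinearMap.toSpanSingleton A _ x))
  refine ⟨N, ?_⟩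
  have h0 : g ^ N • φ = 0 := by
    have hz : g ^ N • 𝟙 (M⟦q⟧) = 0 := by
      rw [← CategoryTheory.Functor.map_id, ← Functor.map_smul, hN, Functor.map_zero]
    exact ((congrArg (g ^ N • ·) (Category.comp_id φ)).symm.trans
      (Linear.comp_smul _ _ _ φ _ _).symm).trans ((congrArg (φ ≫ ·) hz).trans comp_zero)
  have h := evalNil_smul M q (g ^ N) φ
  rw [h0, map_zero, hφ] at h
  have h1 : (g ^ N • ModuleCat.ofHom (LinearMap.toSpanSingleton A _ x)).hom (1 : A) = 0 :=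
    congr(($h).hom (1 : A)).symm
  simp only [ModuleCat.hom_smul, ModuleCat.hom_ofHom, LinearMap.smul_apply, LinearMap.toSpanSingleton_apply, one_smul] at h1
  exact h1

/-- The cone of a power of `f` is `f`-torsion. -/
theorem isTorsion_cone_smul (f : A) (N : ℕ) {M M' : DerivedCategory (ModuleCat.{u} A)} {v : M ⟶ M'}
    {w : M' ⟶ M⟦(1 : ℤ)⟧} (hT : Triangle.mk (f ^ N • 𝟙 M) v w ∈ distTriang _) : IsTorsion f M' := by
  have hv : f ^ N • v = 0 := by
    have h := comp_distTriang_mor_zero₁₂ _ hT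
    exact ((congrArg (f ^ N • ·) (Category.id_comp v)).symm.trans (Linear.smul_comp _ _ _ _ _ _).symm).trans h
  have hw : f ^ N • w = 0 := by
    have h := comp_distTriang_mor_zero₃₁ _ hT
    refine Eq.trans ?_ h
    show f ^ N • w = w ≫ (f ^ N • 𝟙 M)⟦(1 : ℤ)⟧'
    rw [Functor.map_smul, CategoryTheory.Functor.map_id, Linear.comp_smul, Category.comp_id]
  obtain ⟨h, hh⟩ := Triangle.coyoneda_exact₃ _ hT (f ^ N • 𝟙 M')
    ((Linear.smul_comp _ _ _ _ _ _).trans ((congrArg (f ^ N • ·) (Category.id_comp w)).trans hw))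
  refine isTorsion_of_pow_smul_id f (N := N + N) ?_
  rw [pow_add, mul_smul]
  exact (congrArg (f ^ N • ·) hh).trans ((Linear.comp_smul _ _ _ h _ v).symm.trans
    ((congrArg (h ≫ ·) hv).trans comp_zero))

/-- A map from a perfect object into a torsion object factors through a perfect torsion object. -/
theorem exists_factor_tors {C : DerivedCategory (ModuleCat.{u} A)} : ∀ (l : List A), (∀ f ∈ l, IsTorsion f C) →
    ∀ {M : DerivedCategory (ModuleCat.{u} A)}, DRing.IsPerfect A M → ∀ φ : M ⟶ C,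
      ∃ (M' : DerivedCategory (ModuleCat.{u} A)) (b : M ⟶ M') (ψ : M' ⟶ C), DRing.IsPerfect A M' ∧ b ≫ ψ = φ ∧
        (∀ f ∈ l, IsTorsion f M') ∧ ∀ g, IsTorsion g M → IsTorsion g M' := by
  intro l
  induction l with
  | nil => exact fun _ M hM φ => ⟨M, 𝟙 M, φ, hM, Category.id_comp φ, by simp, fun _ h => h⟩
  | cons f l ih =>
    intro hC M hM φ
    obtain ⟨M₁, b, ψ, hM₁, hb, ht, hg⟩ := ih (fun g hg => hC g (List.mem_cons_of_mem _ hg)) hM φ
    obtain ⟨N, hN⟩ := exists_pow_smul_perfect f (hC f List.mem_cons_self) hM₁ ψ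
    obtain ⟨M₂, v, w, hT⟩ := distinguished_cocone_triangle (f ^ N • 𝟙 M₁)
    obtain ⟨χ, hχ⟩ := Triangle.yoneda_exact₂ _ hT ψ
      ((Linear.smul_comp _ _ _ (f ^ N) (𝟙 M₁) ψ).trans ((congrArg (f ^ N • ·) (Category.id_comp ψ)).trans hN))
    have hgen : ∀ g, IsTorsion g M₁ → IsTorsion g M₂ := fun g h q =>
      torsion_mid (HomologySequence.exact₃ _ hT q (q + 1) rfl) (h q) (h (q + 1))
    refine ⟨M₂, b ≫ v, χ, IsPerfect.cone hT hM₁ hM₁, ?_, fun g h => ?_, fun g h => hgen g (hg g h)⟩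
    · rw [Category.assoc, ← hb]
      exact congrArg (b ≫ ·) hχ.symm
    · rcases List.mem_cons.1 h with rfl | h
      · exact isTorsion_cone_smul g N hT
      · exact hgen g (ht g h)

end Groth.Misc4.KoszulOrth

namespace Groth.Misc4.Thomason

section Cone

variable {C : Type*} [Category C] [Preadditive C] [HasZeroObject C] [HasShift C ℤ]
  [∀ n : ℤ, (shiftFunctor C n).Additive] [Pretriangulated C] [IsTriangulated C] [HasBinaryBiproducts C]

/-- The cone of `Y ⊞ X ⟶ X ⟶ X ⊞ Z`. -/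
theorem nonempty_cone_snd_inl {X Y Z : C} {W : C} {b : X ⊞ Z ⟶ W} {c : W ⟶ (Y ⊞ X)⟦(1 : ℤ)⟧}
    (hT : Triangle.mk ((biprod.snd : Y ⊞ X ⟶ X) ≫ biprod.inl) b c ∈ distTriang C) :
    Nonempty (W ≅ Y⟦(1 : ℤ)⟧ ⊞ Z) := by
  let o := Triangulated.someOctahedron (rfl : (biprod.snd : Y ⊞ X ⟶ X) ≫ (biprod.inl : X ⟶ X ⊞ Z) = _)
    (rot_of_distTriang _ (binaryBiproductTriangle_distinguished Y X))
    (binaryBiproductTriangle_distinguished X Z) hT
  obtain ⟨e, -, -⟩ := exists_iso_binaryBiproduct_of_distTriang o.triangle o.mem (by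
    show (binaryBiproductTriangle X Z).mor₃ ≫ _ = 0
    simp)
  exact ⟨e⟩

end Cone

open Groth.Misc4.KoszulOrth Groth.Misc4.KoszulUnit Groth.KTheory.Perf

variable {A : Type u} [CommRing A] [PreservesFiniteLimits (tilde.functor (CommRingCat.of A))] (ts gs : List A)
  [PreservesFiniteLimits (Scheme.Modules.restrictFunctor (U gs).ι)]

/-- Tilde followed by restriction to the open. -/
noncomputable abbrev Φ : DerivedCategory (ModuleCat.{u} A) ⥤ DCoh.D ((U gs : (Spec (CommRingCat.of A)).Opens) : Scheme.{u}) :=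
  DCoh.tildeD (CommRingCat.of A) ⋙ DCoh.restrictD (U gs).ι

/-- Restrictions of perfect objects with torsion cohomology. -/
def Lift (F : DCoh.D ((U gs : (Spec (CommRingCat.of A)).Opens) : Scheme.{u})) : Prop :=
  ∃ G : DerivedCategory (ModuleCat.{u} A), PerfTors ts G ∧ Nonempty ((Φ gs).obj G ≅ F)

variable {ts gs}

/-- Maps on the open extend after modifying the source away from it. -/
theorem exists_extend {M : DerivedCategory (ModuleCat.{u} A)} (hM : PerfTors ts M)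
    {E' : DCoh.D (Spec (CommRingCat.of A))} (hE' : DCoh.IsQCohD E')
    (α : (Φ gs).obj M ⟶ (DCoh.restrictD (U gs).ι).obj E') :
    ∃ (E₁ : DerivedCategory (ModuleCat.{u} A)) (β : E₁ ⟶ M) (γ : (DCoh.tildeD (CommRingCat.of A)).obj E₁ ⟶ E'),
      PerfTors ts E₁ ∧ IsIso ((Φ gs).map β) ∧ (Φ gs).map β ≫ α = (DCoh.restrictD (U gs).ι).map γ := by
  haveI : PreservesFiniteColimits (Scheme.Modules.restrictFunctor (U gs).ι) :=
    haveI := (Scheme.Modules.restrictAdjunction (U gs).ι).leftAdjoint_preservesColimits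
    inferInstance
  haveI : DCoh.HasRpush (U gs).ι := Groth.Misc4.PushRestrict.hasRightDerived _
  let adj : DCoh.restrictD (U gs).ι ⊣ DCoh.Rpush (U gs).ι :=
    Groth.DerivedAdj.derivedAdj (Scheme.Modules.restrictAdjunction (U gs).ι)
      (Groth.DerivedCoh.KFlat.enoughKInj ((U gs : (Spec (CommRingCat.of A)).Opens) : Scheme.{u}))
  obtain ⟨C, p, d, hT⟩ := distinguished_cocone_triangle (adj.unit.app E')
  haveI := isIso_counit gs adj
  haveI : IsIso ((DCoh.restrictD (U gs).ι).map (adj.unit.app E')) := by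
    have e := adj.left_triangle_components E'
    haveI : IsIso ((DCoh.restrictD (U gs).ι).map (adj.unit.app E') ≫
        adj.counit.app ((DCoh.restrictD (U gs).ι).obj E')) :=
      ⟨𝟙 _, (congrArg (· ≫ 𝟙 _) e).trans (Category.comp_id _), (congrArg (𝟙 _ ≫ ·) e).trans (Category.comp_id _)⟩
    exact IsIso.of_isIso_comp_right _ (adj.counit.app ((DCoh.restrictD (U gs).ι).obj E'))
  have hC0 : IsZero ((DCoh.restrictD (U gs).ι).obj C) :=
    Triangle.isZero₃_of_isIso₁ _ ((DCoh.restrictD (U gs).ι).map_distinguished _ hT)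
      (inferInstanceAs (IsIso ((DCoh.restrictD (U gs).ι).map (adj.unit.app E'))))
  have hCq : DCoh.IsQCohD C := Groth.Misc4.QCohDPerf.isQCohD_obj₂ (Triangle.mk (adj.unit.app E') p d).rotate
    (rot_of_distTriang _ hT) (isQCohD_Rpush_restrict gs hE') (Groth.Misc4.QCohDPerf.isQCohD_shift hE' 1)
  obtain ⟨Cm, ⟨e⟩⟩ := (Groth.Misc4.QCohTildeD.isQCohD_iff (R := CommRingCat.of A) C).1 hCq
  have ht : ∀ f ∈ gs, IsTorsion f Cm :=
    (isZero_restrictD_iff gs Cm).1 (hC0.of_iso ((DCoh.restrictD (U gs).ι).mapIso e))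
  let α' := adj.homEquiv _ _ α
  obtain ⟨φ, hφ⟩ := (Groth.Misc4.QCohTildeD.bijective_map (R := CommRingCat.of A) M Cm).2 (α' ≫ p ≫ e.inv)
  obtain ⟨M', b, ψ, hM', hb, hgs, hts⟩ := exists_factor_tors gs ht hM.1 φ
  obtain ⟨E₁, β, w, hT'⟩ := distinguished_cocone_triangle₁ b
  have hz : IsZero ((Φ gs).obj M') := (isZero_restrictD_iff gs M').2 hgs
  have hβ : IsIso ((Φ gs).map β) :=
    (Triangle.isZero₃_iff_isIso₁ _ ((Φ gs).map_distinguished _ hT')).1 hz
  have h0 : ((DCoh.tildeD (CommRingCat.of A)).map β ≫ α') ≫ p = 0 := by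
    rw [Category.assoc, show α' ≫ p = (DCoh.tildeD (CommRingCat.of A)).map φ ≫ e.hom by
      rw [show (DCoh.tildeD (CommRingCat.of A)).map φ = α' ≫ p ≫ e.inv from hφ, Category.assoc, Category.assoc, Iso.inv_hom_id, Category.comp_id],
      ← Functor.map_comp_assoc, ← hb, ← Category.assoc,
      show β ≫ b = 0 from comp_distTriang_mor_zero₁₂ _ hT', zero_comp, Functor.map_zero, zero_comp]
  obtain ⟨γ, hγ⟩ := Triangle.coyoneda_exact₂ _ hT _ h0
  refine ⟨E₁, β, γ, ⟨IsPerfect.fiber hT' hM.1 hM', fun f hf q => ?_⟩, hβ, ?_⟩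
  · have h1 := HomologySequence.exact₁ _ hT' (q - 1) q (by omega)
    exact torsion_mid h1 (hts f (hM.2 f hf) (q - 1)) (hM.2 f hf q)
  · have h := congrArg (adj.homEquiv _ _).symm hγ
    simp only [Adjunction.homEquiv_counit, Functor.map_comp, Category.assoc, α', Adjunction.homEquiv_unit,
      Adjunction.counit_naturality, Adjunction.left_triangle_components, Category.comp_id] at h
    refine Eq.trans ?_ (h.trans ?_)
    · simp
    · simp

lemma Lift.of_iso {F F' : DCoh.D ((U gs : (Spec (CommRingCat.of A)).Opens) : Scheme.{u})} (h : Lift ts gs F)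
    (e : F ≅ F') : Lift ts gs F' := by
  obtain ⟨G, hG, ⟨i⟩⟩ := h
  exact ⟨G, hG, ⟨i ≪≫ e⟩⟩

/-- Cones of maps between liftable objects are liftable. -/
theorem lift_cone {T : Triangle (DCoh.D ((U gs : (Spec (CommRingCat.of A)).Opens) : Scheme.{u}))}
    (hT : T ∈ distTriang _) (h₁ : Lift ts gs T.obj₁) (h₂ : Lift ts gs T.obj₂) : Lift ts gs T.obj₃ := by
  obtain ⟨G₁, hG₁, ⟨i₁⟩⟩ := h₁
  obtain ⟨G₂, hG₂, ⟨i₂⟩⟩ := h₂
  obtain ⟨G, β, γ, hG, hβ, hγ⟩ := exists_extend hG₁ (E' := (DCoh.tildeD (CommRingCat.of A)).obj G₂)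
    ((Groth.Misc4.QCohTildeD.isQCohD_iff (R := CommRingCat.of A) _).2 ⟨G₂, ⟨Iso.refl _⟩⟩)
    (i₁.hom ≫ T.mor₁ ≫ i₂.inv)
  obtain ⟨γ', hγ'⟩ := (Groth.Misc4.QCohTildeD.bijective_map (R := CommRingCat.of A) G G₂).2 γ
  obtain ⟨N, v, w, hN⟩ := distinguished_cocone_triangle γ'
  haveI := hβ
  refine ⟨N, ⟨IsPerfect.cone hN hG.1 hG₂.1, fun f hf q =>
    torsion_mid (HomologySequence.exact₃ _ hN q (q + 1) rfl) (hG₂.2 f hf q) (hG.2 f hf (q + 1))⟩,
    ⟨Triangle.π₃.mapIso (isoTriangleOfIso₁₂ _ _ ((Φ gs).map_distinguished _ hN) hT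
      (asIso ((Φ gs).map β) ≪≫ i₁) i₂ ?_)⟩⟩
  show (DCoh.restrictD (U gs).ι).map ((DCoh.tildeD (CommRingCat.of A)).map γ') ≫ i₂.hom =
    ((Φ gs).map β ≫ i₁.hom) ≫ T.mor₁
  rw [show (DCoh.tildeD (CommRingCat.of A)).map γ' = γ from hγ', ← hγ]
  simp

lemma lift_shift {F : DCoh.D ((U gs : (Spec (CommRingCat.of A)).Opens) : Scheme.{u})} (h : Lift ts gs F) (n : ℤ) :
    Lift ts gs (F⟦n⟧) := by
  obtain ⟨G, hG, ⟨i⟩⟩ := h
  exact ⟨G⟦n⟧, hG.shift n, ⟨((Φ gs).commShiftIso n).app G ≪≫ (shiftFunctor _ n).mapIso i⟩⟩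

/-- Retracts of liftable objects lift after adding an odd shift. -/
theorem lift_sum_shift {F Q : DCoh.D ((U gs : (Spec (CommRingCat.of A)).Opens) : Scheme.{u})}
    (hQ : Lift ts gs Q) (s : F ⟶ Q) (p : Q ⟶ F) (hsp : s ≫ p = 𝟙 F) :
    ∀ k : ℕ, Lift ts gs (F⟦((2 * k + 1 : ℕ) : ℤ)⟧ ⊞ F) := by
  obtain ⟨G, g, δ, hT⟩ := distinguished_cocone_triangle₁ p
  haveI : IsSplitEpi p := IsSplitEpi.mk' ⟨s, hsp⟩
  have hδ : δ = 0 := (cancel_epi p).1 ((comp_distTriang_mor_zero₂₃ _ hT).trans comp_zero.symm)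
  obtain ⟨e, -, -⟩ := exists_iso_binaryBiproduct_of_distTriang (Triangle.mk g p δ) hT hδ
  have hGF : Lift ts gs (G ⊞ F) := hQ.of_iso e
  have hFG : Lift ts gs (F ⊞ G) := hGF.of_iso (biprod.braiding G F)
  have base : Lift ts gs (F⟦(1 : ℤ)⟧ ⊞ F) := by
    obtain ⟨W, b, c, hW⟩ := distinguished_cocone_triangle ((biprod.snd : F ⊞ G ⟶ G) ≫ (biprod.inl : G ⟶ G ⊞ F))
    exact (lift_cone hW hFG hGF).of_iso (nonempty_cone_snd_inl hW).some
  intro k
  induction k with
  | zero => exact base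
  | succ k ih =>
    let c := ((2 * k + 1 : ℕ) : ℤ)
    haveI := preservesBinaryBiproducts_of_preservesBiproducts
      (shiftFunctor (DCoh.D ((U gs : (Spec (CommRingCat.of A)).Opens) : Scheme.{u})) c)
    have h₁ : Lift ts gs (F⟦c + 1⟧ ⊞ F⟦c⟧) := (lift_shift base c).of_iso
      ((shiftFunctor _ c).mapBiprod (F⟦(1 : ℤ)⟧) F ≪≫
        biprod.mapIso (((shiftFunctorAdd' _ (1 : ℤ) c (c + 1) (by omega)).app F).symm) (Iso.refl _))
    obtain ⟨W, b, d, hW⟩ := distinguished_cocone_triangle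
      ((biprod.snd : F⟦c + 1⟧ ⊞ F⟦c⟧ ⟶ F⟦c⟧) ≫ (biprod.inl : F⟦c⟧ ⟶ F⟦c⟧ ⊞ F))
    exact (lift_cone hW h₁ ih).of_iso ((nonempty_cone_snd_inl hW).some ≪≫
      biprod.mapIso ((shiftFunctorAdd' _ (c + 1) (1 : ℤ) ((2 * (k + 1) + 1 : ℕ) : ℤ) (by
        simp only [c]; push_cast; omega)).app F).symm (Iso.refl _))

end Groth.Misc4.Thomason
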