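import Groth.Agent.Misc4.KoszulUnit

/-!
# Sections factor through powers of Koszul complexes
-/

universe u

open CategoryTheory CategoryTheory.Limits Pretriangulated DerivedCategory AlgebraicGeometry

attribute [local instance] HasDerivedCategory.standard

set_option backward.isDefEq.respectTransparency false
set_option backward.defeqAttrib.useBackward true
set_option synthInstance.maxHeartbeats 400000
set_option maxHeartbeats 1000000

namespace Groth.Misc4.KoszulOrth

variable {A : Type u} [CommRing A]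

/-- Morphisms into an object with torsion cohomology in a range of degrees are torsion. -/
theorem exists_pow_smul_of (f : A) {M : DerivedCategory (ModuleCat.{u} A)} :
    ∀ (l : List A) (n : ℤ), (∀ (q : ℤ), n - (l.length : ℤ) ≤ q → q ≤ n →
        ∀ x : (homologyFunctor (ModuleCat.{u} A) q).obj M, ∃ N : ℕ, f ^ N • x = 0) →
      ∀ φ : K A l ⟶ M⟦n⟧, ∃ N : ℕ, f ^ N • φ = 0 := by
  intro l
  induction l with
  | nil =>
    intro n hM φ
    obtain ⟨N, hN⟩ := hM n (by simp) le_rfl ((evalNil M n φ).hom (1 : A))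
    refine ⟨N, (evalNil_injective M n).1 ?_⟩
    rw [evalNil_smul, map_zero]
    exact ModuleCat.hom_ext (LinearMap.ext_ring hN)
  | cons g l ih =>
    intro n hM φ
    simp only [List.length_cons, Nat.cast_add, Nat.cast_one] at hM
    obtain ⟨N, hN⟩ := ih n (fun q h h' => hM q (by omega) h') ((tri g l).mor₂ ≫ φ)
    obtain ⟨ψ, hψ⟩ := exists_factor g l n (f ^ N • φ) ((Linear.comp_smul _ _ _ _ _ φ).trans hN)
    obtain ⟨N', hN'⟩ := ih (n - 1) (fun q h h' => hM q (by omega) (by omega)) ψ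
    refine ⟨N' + N, ?_⟩
    rw [pow_add, mul_smul, hψ]
    refine (Linear.comp_smul _ _ _ _ _ _).symm.trans ?_
    rw [← Linear.smul_comp, ← Functor.map_smul, hN', Functor.map_zero, zero_comp, comp_zero]

/-- The bottom inclusion `A ⟶ K(l)`. -/
noncomputable def bot : ∀ l : List A, K A [] ⟶ K A l
  | [] => 𝟙 _
  | f :: l => bot l ≫ (tri f l).mor₂

/-- Transition maps between Koszul objects of powers. -/
theorem exists_trans (l : List A) {e e' : ℕ} (h : e' ≤ e) :
    ∃ c : K A (l.map (· ^ e)) ⟶ K A (l.map (· ^ e')), bot (l.map (· ^ e)) ≫ c = bot (l.map (· ^ e')) := by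
  induction l with
  | nil => exact ⟨𝟙 _, Category.comp_id _⟩
  | cons f l ih =>
    obtain ⟨c, hc⟩ := ih
    obtain ⟨d, hd, -⟩ := complete_distinguished_triangle_morphism _ _
      (tri_distinguished (f ^ e) (l.map (· ^ e))) (tri_distinguished (f ^ e') (l.map (· ^ e')))
      (f ^ (e - e') • c) c (by
        refine (mor₁_comp _ _ c).trans ?_
        rw [tri_mor₁]
        exact ((Linear.comp_smul _ _ _ _ _ _).trans ((congrArg (f ^ e' • ·) (Category.comp_id _)).trans
          (by rw [← mul_smul, ← pow_add, Nat.add_sub_cancel' h]))).symm)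
    refine ⟨d, ?_⟩
    show (bot (l.map (· ^ e)) ≫ (tri (f ^ e) (l.map (· ^ e))).mor₂) ≫ d = _
    exact (Category.assoc _ _ _).trans ((congrArg (bot (l.map (· ^ e)) ≫ ·) hd).trans
      ((Category.assoc _ _ _).symm.trans (congrArg (· ≫ (tri (f ^ e') (l.map (· ^ e'))).mor₂) hc)))

/-- Sections factor through powers of Koszul complexes. -/
theorem exists_factor_bot {M : DerivedCategory (ModuleCat.{u} A)} :
    ∀ (l : List A), (∀ f ∈ l, ∀ q : ℤ, -(l.length : ℤ) < q → q ≤ 0 →
        ∀ x : (homologyFunctor (ModuleCat.{u} A) q).obj M, ∃ N : ℕ, f ^ N • x = 0) →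
      ∀ s : K A [] ⟶ M, ∃ (e : ℕ) (ψ : K A (l.map (· ^ e)) ⟶ M), bot (l.map (· ^ e)) ≫ ψ = s := by
  intro l
  induction l with
  | nil => exact fun _ s => ⟨0, s, Category.id_comp s⟩
  | cons f l ih =>
    intro hM s
    simp only [List.length_cons, Nat.cast_add, Nat.cast_one] at hM
    obtain ⟨e₀, ψ₀, hψ₀⟩ := ih (fun g hg q h h' => hM g (List.mem_cons_of_mem _ hg) q (by omega) h') s
    obtain ⟨N, hN⟩ := exists_pow_smul_of f (M := M) (l.map (· ^ e₀)) 0
      (fun q h h' => hM f List.mem_cons_self q (by rw [List.length_map] at h; omega) h')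
      (ψ₀ ≫ (shiftFunctorZero _ ℤ).inv.app M)
    have hN' : f ^ N • ψ₀ = 0 := by
      rw [Linear.smul_comp _ _ _ _ ψ₀ _ |>.symm] at hN
      exact (cancel_mono ((shiftFunctorZero _ ℤ).inv.app M)).1 (hN.trans zero_comp.symm)
    let e := max e₀ N
    obtain ⟨c, hc⟩ := exists_trans l (le_max_left e₀ N : e₀ ≤ e)
    obtain ⟨ψ, hψ⟩ := Triangle.yoneda_exact₂ _ (tri_distinguished (f ^ e) (l.map (· ^ e))) (c ≫ ψ₀) (by
      refine (mor₁_comp _ _ (c ≫ ψ₀)).trans ((Linear.comp_smul _ _ _ c _ ψ₀).symm.trans ?_)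
      rw [show f ^ e • ψ₀ = 0 by
        rw [show e = (e - N) + N from (Nat.sub_add_cancel (le_max_right e₀ N)).symm, pow_add, mul_smul, hN', smul_zero]]
      exact comp_zero)
    refine ⟨e, ψ, ?_⟩
    show (bot (l.map (· ^ e)) ≫ (tri (f ^ e) (l.map (· ^ e))).mor₂) ≫ ψ = s
    exact (Category.assoc _ _ _).trans ((congrArg (bot (l.map (· ^ e)) ≫ ·) hψ.symm).trans
      ((Category.assoc _ _ _).symm.trans ((congrArg (· ≫ ψ₀) hc).trans hψ₀)))

end Groth.Misc4.KoszulOrth

namespace Groth.Misc4.KoszulUnit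

variable {A : Type u} [CommRing A] [PreservesFiniteLimits (tilde.functor (CommRingCat.of A))]

theorem nonempty_tildeD_single {R : CommRingCat.{u}} [PreservesFiniteLimits (tilde.functor R)] :
    Nonempty ((DCoh.tildeD R).obj ((DerivedCategory.singleFunctor (ModuleCat.{u} R) 0).obj (ModuleCat.of R R)) ≅
      DCoh.inD (Spec R) (Coh.structureModule (Spec R))) :=
  ⟨((tilde.functor R).mapDerivedCategorySingleFunctor 0).app (ModuleCat.of R R) ≪≫
    (DerivedCategory.singleFunctor (Spec R).Modules 0).mapIso tildeSelf⟩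

/-- The structure sheaf as a Koszul object. -/
theorem nonempty_K_nil_iso : Nonempty ((DCoh.tildeD (CommRingCat.of A)).obj (Groth.Misc4.KoszulOrth.K A []) ≅
    DCoh.inD (Spec (CommRingCat.of A)) (Coh.structureModule (Spec (CommRingCat.of A)))) :=
  ⟨(DCoh.tildeD (CommRingCat.of A)).mapIso
      ((DerivedCategory.singleFunctorIsoCompQ (ModuleCat.{u} A) 0).symm.app (ModuleCat.of A A)) ≪≫
    (nonempty_tildeD_single (R := CommRingCat.of A)).some⟩

/-- A morphism from the structure sheaf factors through a Koszul complex of powers. -/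
theorem exists_factor_inD (fs : List A) (E : DCoh.D (Spec (CommRingCat.of A))) (hE : DCoh.IsQCohD E)
    (hU : ∀ i : ℤ, -(fs.length : ℤ) < i → i ≤ 0 → IsZero ((DCoh.HD E i).restrict (U fs).ι))
    (s : DCoh.inD (Spec (CommRingCat.of A)) (Coh.structureModule (Spec (CommRingCat.of A))) ⟶ E) :
    ∃ (e : ℕ) (ψ : (DCoh.tildeD (CommRingCat.of A)).obj (Groth.Misc4.KoszulOrth.K A (fs.map (fun a => a ^ e))) ⟶ E)
      (t : DCoh.inD (Spec (CommRingCat.of A)) (Coh.structureModule (Spec (CommRingCat.of A))) ⟶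
        (DCoh.tildeD (CommRingCat.of A)).obj (Groth.Misc4.KoszulOrth.K A (fs.map (fun a => a ^ e)))),
      t ≫ ψ = s := by
  obtain ⟨M, ⟨eM⟩⟩ := (Groth.Misc4.QCohTildeD.isQCohD_iff (R := CommRingCat.of A) E).1 hE
  obtain ⟨ι⟩ := nonempty_K_nil_iso (A := A)
  obtain ⟨s', hs'⟩ := (Groth.Misc4.QCohTildeD.bijective_map (R := CommRingCat.of A)
    (Groth.Misc4.KoszulOrth.K A []) M).2 (ι.hom ≫ s ≫ eM.inv)
  obtain ⟨e, ψ, hψ⟩ := Groth.Misc4.KoszulOrth.exists_factor_bot (M := M) fs (fun f hf q h h' x => by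
    obtain ⟨d⟩ := nonempty_hd_tildeD M q
    exact (isZero_restrict_tilde_iff fs _).1 ((hU q h h').of_iso
      ((Scheme.Modules.restrictFunctor (U fs).ι).mapIso (d.symm ≪≫
        (DerivedCategory.homologyFunctor _ q).mapIso eM))) f hf x) s'
  refine ⟨e, (DCoh.tildeD (CommRingCat.of A)).map ψ ≫ eM.hom,
    ι.inv ≫ (DCoh.tildeD (CommRingCat.of A)).map (Groth.Misc4.KoszulOrth.bot _), ?_⟩
  have h := (congrArg (DCoh.tildeD (CommRingCat.of A)).map hψ).trans hs'
  rw [Functor.map_comp] at h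
  rw [Category.assoc, reassoc_of% h, Iso.inv_hom_id, Category.comp_id, Iso.inv_hom_id_assoc]

end Groth.Misc4.KoszulUnit
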