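import Groth.Prelude.Def_Koszul
import Groth.Agent.DerComplete.SingleProj
import Mathlib.Algebra.Homology.DerivedCategory.Linear
import Mathlib.Algebra.Category.ModuleCat.Projective
import Mathlib.Algebra.Category.ModuleCat.Algebra

/-!
# Morphisms out of Koszul complexes in the derived category of modules
-/

universe u

open CategoryTheory CategoryTheory.Limits Pretriangulated DerivedCategory

attribute [local instance] HasDerivedCategory.standard

set_option backward.isDefEq.respectTransparency false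

namespace Groth.Misc4.KoszulOrth

variable (A : Type u) [CommRing A]

/-- The Koszul object of a list. -/
noncomputable abbrev K (l : List A) : DerivedCategory (ModuleCat.{u} A) :=
  DerivedCategory.Q.obj (Koszul.koszul A l)

variable {A}

/-- The cone triangle of a Koszul object. -/
noncomputable def tri (f : A) (l : List A) : Triangle (DerivedCategory (ModuleCat.{u} A)) :=
  DerivedCategory.Q.mapTriangle.obj (CochainComplex.mappingCone.triangle (f • 𝟙 (Koszul.koszul A l)))

lemma tri_distinguished (f : A) (l : List A) : tri f l ∈ distTriang _ :=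
  DerivedCategory.mappingCone_triangle_distinguished (f • 𝟙 (Koszul.koszul A l))

lemma tri_mor₁ (f : A) (l : List A) : (tri f l).mor₁ = f • 𝟙 (K A l) := by
  show DerivedCategory.Q.map (f • 𝟙 (Koszul.koszul A l)) = _
  rw [Functor.map_smul]
  exact congrArg (f • ·) (DerivedCategory.Q.map_id _)

lemma mor₁_comp (f : A) (l : List A) {Z : DerivedCategory (ModuleCat.{u} A)} (φ : K A l ⟶ Z) :
    (tri f l).mor₁ ≫ φ = f • φ := by
  rw [tri_mor₁]
  exact (Linear.smul_comp _ _ _ f (𝟙 _) φ).trans (congrArg (f • ·) (Category.id_comp φ))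

/-- Splitting a morphism out of a longer Koszul object. -/
lemma exists_factor (f : A) (l : List A) {M : DerivedCategory (ModuleCat.{u} A)} (n : ℤ)
    (φ : K A (f :: l) ⟶ M⟦n⟧) (h : (tri f l).mor₂ ≫ φ = 0) :
    ∃ g : K A l ⟶ M⟦n - 1⟧,
      φ = (tri f l).mor₃ ≫ g⟦(1 : ℤ)⟧' ≫ (shiftFunctorAdd' _ (n - 1) 1 n (by omega)).inv.app M := by
  obtain ⟨g, hg⟩ := Triangle.yoneda_exact₃ _ (tri_distinguished f l) φ h
  obtain ⟨g', hg'⟩ := (shiftFunctor (DerivedCategory (ModuleCat.{u} A)) (1 : ℤ)).map_surjective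
    (g ≫ (shiftFunctorAdd' _ (n - 1) 1 n (by omega)).hom.app M)
  refine ⟨g', hg.trans ?_⟩
  rw [hg', Category.assoc, Iso.hom_inv_id_app]
  exact congrArg ((tri f l).mor₃ ≫ ·) (Category.comp_id g).symm

/-- The case of the empty list. -/
noncomputable def evalNil (M : DerivedCategory (ModuleCat.{u} A)) (n : ℤ) :
    (K A [] ⟶ M⟦n⟧) →+ (ModuleCat.of A A ⟶ (homologyFunctor (ModuleCat.{u} A) n).obj M) where
  toFun φ := Groth.DerComplete.toHomH0 (ModuleCat.of A A) (M⟦n⟧)
      ((singleFunctorIsoCompQ (ModuleCat.{u} A) 0).hom.app _ ≫ φ) ≫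
    ((homologyFunctor (ModuleCat.{u} A) 0).shiftIso n 0 n (add_zero n)).hom.app M
  map_zero' := by simp
  map_add' φ φ' := by simp

lemma evalNil_injective (M : DerivedCategory (ModuleCat.{u} A)) (n : ℤ) :
    Function.Bijective (evalNil M n) := by
  let e : (Groth.DerComplete.toHomH0 (ModuleCat.of A A) (M⟦n⟧)) ∘
      (fun φ : K A [] ⟶ M⟦n⟧ => (singleFunctorIsoCompQ (ModuleCat.{u} A) 0).hom.app _ ≫ φ) = _ := rfl
  have h1 := (Groth.DerComplete.toHomH0_bijective (ModuleCat.of A A) (M⟦n⟧)).comp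
    (Iso.homFromEquiv (α := (singleFunctorIsoCompQ (ModuleCat.{u} A) 0).symm.app (ModuleCat.of A A))
      (Z := M⟦n⟧)).bijective
  exact (Iso.homToEquiv (((homologyFunctor (ModuleCat.{u} A) 0).shiftIso n 0 n (add_zero n)).app M)).bijective.comp h1

lemma evalNil_smul (M : DerivedCategory (ModuleCat.{u} A)) (n : ℤ) (r : A) (φ : K A [] ⟶ M⟦n⟧) :
    evalNil M n (r • φ) = r • evalNil M n φ := by
  let ι := (singleFunctorIsoCompQ (ModuleCat.{u} A) 0).hom.app (ModuleCat.of A A)
  have h : ι ≫ (r • φ) = (singleFunctor (ModuleCat.{u} A) 0).map (r • 𝟙 (ModuleCat.of A A)) ≫ ι ≫ φ := by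
    rw [Functor.map_smul, CategoryTheory.Functor.map_id, Linear.smul_comp, Category.id_comp]
    exact Linear.comp_smul _ _ _ ι r φ
  show Groth.DerComplete.toHomH0 _ _ (ι ≫ (r • φ)) ≫ _ = r • (Groth.DerComplete.toHomH0 _ _ (ι ≫ φ) ≫ _)
  rw [h, Groth.DerComplete.toHomH0_precomp, Linear.smul_comp, Linear.smul_comp, Category.id_comp]

/-- `f`-power torsion. -/
def IsTorsion (f : A) (M : DerivedCategory (ModuleCat.{u} A)) : Prop :=
  ∀ (q : ℤ) (x : (homologyFunctor (ModuleCat.{u} A) q).obj M), ∃ N : ℕ, f ^ N • x = 0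

/-- Morphisms into torsion objects are torsion. -/
theorem exists_pow_smul (f : A) {M : DerivedCategory (ModuleCat.{u} A)} (hM : IsTorsion f M) :
    ∀ (l : List A) (n : ℤ) (φ : K A l ⟶ M⟦n⟧), ∃ N : ℕ, f ^ N • φ = 0 := by
  intro l
  induction l with
  | nil =>
    intro n φ
    obtain ⟨N, hN⟩ := hM n ((evalNil M n φ).hom (1 : A))
    refine ⟨N, (evalNil_injective M n).1 ?_⟩
    rw [evalNil_smul, map_zero]
    refine ModuleCat.hom_ext (LinearMap.ext_ring ?_)
    exact hN
  | cons g l ih =>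
    intro n φ
    obtain ⟨N, hN⟩ := ih n ((tri g l).mor₂ ≫ φ)
    obtain ⟨ψ, hψ⟩ := exists_factor g l n (f ^ N • φ) ((Linear.comp_smul _ _ _ _ _ φ).trans hN)
    obtain ⟨N', hN'⟩ := ih (n - 1) ψ
    refine ⟨N' + N, ?_⟩
    rw [pow_add, mul_smul, hψ]
    refine (Linear.comp_smul _ _ _ _ _ _).symm.trans ?_
    rw [← Linear.smul_comp, ← Functor.map_smul, hN', Functor.map_zero, zero_comp, comp_zero]

/-- Orthogonality to a Koszul object detects the cohomology of torsion objects. -/
theorem isZero_of_orth {M : DerivedCategory (ModuleCat.{u} A)} :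
    ∀ (l : List A), (∀ f ∈ l, IsTorsion f M) → ∀ n : ℤ, (∀ φ : K A l ⟶ M⟦n⟧, φ = 0) →
      IsZero ((homologyFunctor (ModuleCat.{u} A) n).obj M) := by
  intro l
  induction l with
  | nil =>
    intro _ n h
    refine @ModuleCat.isZero_of_subsingleton A _ _ ⟨fun x y => ?_⟩
    have hz : ∀ z : (homologyFunctor (ModuleCat.{u} A) n).obj M, z = 0 := fun z => by
      obtain ⟨φ, hφ⟩ := (evalNil_injective M n).2
        (ModuleCat.ofHom (LinearMap.toSpanSingleton A _ z))
      rw [h φ, map_zero] at hφ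
      have := congr(($hφ).hom (1 : A))
      simpa using this.symm
    rw [hz x, hz y]
  | cons f l ih =>
    intro ht n h
    refine ih (fun g hg => ht g (List.mem_cons_of_mem _ hg)) n fun φ => ?_
    have inj : ∀ χ : K A l ⟶ M⟦n⟧, f • χ = 0 → χ = 0 := fun χ hχ => by
      obtain ⟨ψ, hψ⟩ := Triangle.yoneda_exact₂ _ (tri_distinguished f l) χ ((mor₁_comp f l χ).trans hχ)
      rw [hψ, h ψ, comp_zero]
    obtain ⟨N, hN⟩ := exists_pow_smul f (ht f List.mem_cons_self) l n φ
    induction N with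
    | zero => simpa using hN
    | succ N ihN => exact ihN (inj _ (by rw [← mul_smul, ← pow_succ']; exact hN))

/-- Vanishing above. -/
theorem eq_zero_of_isLE {M : DerivedCategory (ModuleCat.{u} A)} (c : ℤ) [M.IsLE c] :
    ∀ (l : List A) (n : ℤ), c + (l.length : ℤ) < n → ∀ φ : K A l ⟶ M⟦n⟧, φ = 0 := by
  intro l
  induction l with
  | nil =>
    intro n hn φ
    refine (evalNil_injective M n).1 ?_
    exact (DerivedCategory.isZero_of_isLE M c n (by simpa using hn)).eq_of_tgt _ _
  | cons f l ih =>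
    intro n hn φ
    simp only [List.length_cons, Nat.cast_add, Nat.cast_one] at hn
    obtain ⟨g, hg⟩ := exists_factor f l n φ (ih n (by omega) _)
    rw [hg, ih (n - 1) (by omega) g, Functor.map_zero, zero_comp, comp_zero]

/-- Vanishing below. -/
theorem eq_zero_of_isGE {M : DerivedCategory (ModuleCat.{u} A)} (c : ℤ) [M.IsGE c] :
    ∀ (l : List A) (n : ℤ), n < c → ∀ φ : K A l ⟶ M⟦n⟧, φ = 0 := by
  intro l
  induction l with
  | nil =>
    intro n hn φ
    refine (evalNil_injective M n).1 ?_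
    exact (DerivedCategory.isZero_of_isGE M c n hn).eq_of_tgt _ _
  | cons f l ih =>
    intro n hn φ
    obtain ⟨g, hg⟩ := exists_factor f l n φ (ih n hn _)
    rw [hg, ih (n - 1) (by omega) g, Functor.map_zero, zero_comp, comp_zero]

end Groth.Misc4.KoszulOrth
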