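import Groth.Prelude.Def_Wider
import Groth.Agent.Misc4.KoszulOrth
import Groth.Agent.Misc4.QCohTildeD
import Groth.Agent.Misc4.QCohRpushD
import Groth.Agent.DerivedCoh.ExtZero.Basic
import Groth.Agent.QCohMod.Stalk
import Groth.Agent.FlatMorOne.FTIdeal

/-!
# Koszul complexes and the unit `E ⟶ Rj_* j^* E` for the complement of `V(f₁, …, f_r)`
-/

universe u

open CategoryTheory CategoryTheory.Limits AlgebraicGeometry Pretriangulated DerivedCategory TopologicalSpace

attribute [local instance] HasDerivedCategory.standard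

set_option backward.isDefEq.respectTransparency false
set_option backward.defeqAttrib.useBackward true
set_option synthInstance.maxHeartbeats 400000
set_option maxHeartbeats 1000000

namespace Groth.Misc4.KoszulOrth

variable {A : Type u} [CommRing A]

theorem pow_smul_id (g : A) : ∀ (l : List A), g ∈ l → ∃ N : ℕ, g ^ N • 𝟙 (K A l) = 0 := by
  intro l
  induction l with
  | nil => exact fun h => absurd h (by simp)
  | cons f l ih =>
    intro hg
    obtain ⟨N, hN, hN'⟩ : ∃ N : ℕ, (tri f l).mor₂ ≫ (g ^ N • 𝟙 (K A (f :: l))) = 0 ∧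
        g ^ N • (tri f l).mor₃ = 0 := by
      rcases List.mem_cons.1 hg with rfl | hg
      · refine ⟨1, ?_, ?_⟩
        · rw [pow_one]
          exact (Linear.comp_smul _ _ _ _ g _).trans ((congrArg (g • ·) (Category.comp_id (tri g l).mor₂)).trans
            ((mor₁_comp g l _).symm.trans (comp_distTriang_mor_zero₁₂ _ (tri_distinguished g l))))
        · have h := comp_distTriang_mor_zero₃₁ _ (tri_distinguished g l)
          have hm : ((tri g l).mor₁)⟦(1 : ℤ)⟧' = g • 𝟙 ((K A l)⟦(1 : ℤ)⟧) := by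
            exact (congrArg (fun t => (shiftFunctor (DerivedCategory (ModuleCat.{u} A)) (1 : ℤ)).map t) (tri_mor₁ g l)).trans
              (((shiftFunctor (DerivedCategory (ModuleCat.{u} A)) (1 : ℤ)).map_smul g (𝟙 (K A l))).trans
                (congrArg (g • ·) ((shiftFunctor (DerivedCategory (ModuleCat.{u} A)) (1 : ℤ)).map_id (K A l))))
          rw [hm] at h
          rw [pow_one]
          exact ((congrArg (g • ·) (Category.comp_id (tri g l).mor₃)).symm.trans
            (Linear.comp_smul _ _ _ (tri g l).mor₃ g _).symm).trans h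
      · obtain ⟨N, hN⟩ := ih hg
        refine ⟨N, ?_, ?_⟩
        · exact (Linear.comp_smul _ _ _ _ _ _).trans ((congrArg (g ^ N • ·) (Category.comp_id (tri f l).mor₂)).trans
            (((congrArg (g ^ N • ·) (Category.id_comp (tri f l).mor₂)).symm.trans
              (Linear.smul_comp _ _ _ (g ^ N) (𝟙 (K A l)) (tri f l).mor₂).symm).trans
              ((congrArg (· ≫ (tri f l).mor₂) hN).trans zero_comp)))
        · have : g ^ N • 𝟙 ((K A l)⟦(1 : ℤ)⟧) = 0 := by
            rw [← CategoryTheory.Functor.map_id, ← Functor.map_smul, hN, Functor.map_zero]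
          exact ((congrArg (g ^ N • ·) (Category.comp_id (tri f l).mor₃)).symm.trans
            (Linear.comp_smul _ _ _ (tri f l).mor₃ _ _).symm).trans
              ((congrArg ((tri f l).mor₃ ≫ ·) this).trans comp_zero)
    refine ⟨N + N, ?_⟩
    obtain ⟨h, hh⟩ := Triangle.yoneda_exact₃ _ (tri_distinguished f l) _ hN
    rw [pow_add, mul_smul]
    refine (congrArg (g ^ N • ·) hh).trans ?_
    exact (Linear.smul_comp _ _ _ (g ^ N) (tri f l).mor₃ h).symm.trans
      ((congrArg (· ≫ h) hN').trans zero_comp)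

/-- The cohomology of a Koszul object is killed by powers of the elements. -/
theorem isTorsion_K (g : A) (l : List A) (hg : g ∈ l) : IsTorsion g (K A l) := by
  obtain ⟨N, hN⟩ := pow_smul_id g l hg
  intro q x
  obtain ⟨φ, hφ⟩ := (evalNil_injective (K A l) q).2 (ModuleCat.ofHom (LinearMap.toSpanSingleton A _ x))
  refine ⟨N, ?_⟩
  have h0 : g ^ N • φ = 0 := by
    have hz : g ^ N • 𝟙 ((K A l)⟦q⟧) = 0 := by
      rw [← CategoryTheory.Functor.map_id, ← Functor.map_smul, hN, Functor.map_zero]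
    exact ((congrArg (g ^ N • ·) (Category.comp_id φ)).symm.trans
      (Linear.comp_smul _ _ _ φ _ _).symm).trans ((congrArg (φ ≫ ·) hz).trans comp_zero)
  have := evalNil_smul (K A l) q (g ^ N) φ
  rw [h0, map_zero, hφ] at this
  have h1 : (g ^ N • ModuleCat.ofHom (LinearMap.toSpanSingleton A _ x)).hom (1 : A) = 0 :=
    congr(($this).hom (1 : A)).symm
  simp only [ModuleCat.hom_smul, ModuleCat.hom_ofHom, LinearMap.smul_apply, LinearMap.toSpanSingleton_apply, one_smul] at h1
  exact h1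

end Groth.Misc4.KoszulOrth

namespace Groth.Misc4.KoszulUnit

open Groth.Misc4.KoszulOrth Groth.KTheory.Perf

variable {A : Type u} [CommRing A] (fs : List A)


/-- The complement of `V(f₁, …, f_r)`. -/
noncomputable abbrev U : (Spec (CommRingCat.of A)).Opens := LocCoh.puncturedOpen A (Ideal.span {a | a ∈ fs})

lemma mem_U (x : Spec (CommRingCat.of A)) : x ∈ U fs ↔ ∃ f ∈ fs, f ∉ x.asIdeal := by
  show x ∉ PrimeSpectrum.zeroLocus _ ↔ _
  rw [PrimeSpectrum.zeroLocus_span, PrimeSpectrum.mem_zeroLocus, Set.not_subset]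
  rfl

lemma quasiCompact_ι : QuasiCompact (U fs).ι := by
  refine Groth.FlatMorOne.quasiCompact_ι ?_
  classical
  exact (PrimeSpectrum.isCompact_isOpen_iff.2 ⟨fs.toFinset, by
    simp [LocCoh.puncturedOpen, PrimeSpectrum.zeroLocus_span]⟩).1

variable {R : CommRingCat.{u}}

/-- A tilde module vanishes on an open iff every element dies in the stalks there. -/
theorem isZero_restrict_tilde_iff_stalk (W : (Spec R).Opens) (H : ModuleCat.{u} R) :
    IsZero ((Scheme.Modules.restrictFunctor W.ι).obj ((tilde.functor R).obj H)) ↔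
      ∀ p : Spec R, p ∈ W → ∀ x : H, ∃ s : R, s ∉ p.asIdeal ∧ s • x = 0 := by
  rw [Groth.QCohMod.isZero_iff_stalk]
  refine ⟨fun h p hp x => ?_, fun h y => ?_⟩
  · haveI : Subsingleton ((tilde (R := R) H).presheaf.stalk p) :=
      AddCommGrpCat.subsingleton_of_isZero ((h ⟨p, hp⟩).of_iso
        ((Scheme.Modules.restrictStalkNatIso W.ι ⟨p, hp⟩).app (tilde (R := R) H)).symm)
    obtain ⟨⟨s, hs⟩, hsx⟩ := (IsLocalizedModule.eq_zero_iff p.asIdeal.primeCompl
      (tilde.toStalk (R := R) H p).hom).1 (Subsingleton.elim ((tilde.toStalk (R := R) H p).hom x) 0)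
    exact ⟨s, hs, hsx⟩
  · refine IsZero.of_iso ?_ ((Scheme.Modules.restrictStalkNatIso W.ι y).app (tilde (R := R) H))
    let p : PrimeSpectrum.Top R := W.ι y
    have hz : ∀ t : (tilde (R := R) H).presheaf.stalk p, t = 0 := fun t => by
      obtain ⟨⟨x, s⟩, hs⟩ := IsLocalizedModule.surj p.asIdeal.primeCompl
        (tilde.toStalk (R := R) H p).hom t
      refine IsLocalizedModule.smul_injective (tilde.toStalk (R := R) H p).hom s ?_
      simp only [smul_zero]
      obtain ⟨r, hr, hrx⟩ := h p y.2 x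
      exact hs.trans ((IsLocalizedModule.eq_zero_iff p.asIdeal.primeCompl _).2 ⟨⟨r, hr⟩, hrx⟩)
    exact @AddCommGrpCat.isZero_of_subsingleton _ ⟨fun a b => (hz a).trans (hz b).symm⟩

/-- A tilde module vanishes on `U` iff it is torsion. -/
theorem isZero_restrict_tilde_iff (H : ModuleCat.{u} A) :
    IsZero ((Scheme.Modules.restrictFunctor (U fs).ι).obj ((tilde.functor (CommRingCat.of A)).obj H)) ↔
      ∀ f ∈ fs, ∀ x : H, ∃ N : ℕ, f ^ N • x = 0 := by
  refine (isZero_restrict_tilde_iff_stalk (R := CommRingCat.of A) (U fs) H).trans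
    ⟨fun h f hf x => ?_, fun h p hp x => ?_⟩
  · let I : Ideal A :=
      { carrier := {r | r • x = 0}
        add_mem' := fun {a b} (ha : a • x = 0) (hb : b • x = 0) => by
          show (a + b) • x = 0
          rw [add_smul, ha, hb, add_zero]
        zero_mem' := zero_smul _ x
        smul_mem' := fun c r (hr : r • x = 0) => by
          show (c * r) • x = 0
          rw [mul_smul, hr, smul_zero] }
    suffices hf' : f ∈ I.radical from hf'
    rw [Ideal.radical_eq_sInf, Submodule.mem_sInf]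
    intro p ⟨hIp, hp⟩
    by_contra hfp
    obtain ⟨s, hs, hsx⟩ := h ⟨p, hp⟩ ((mem_U fs _).2 ⟨f, hf, hfp⟩) x
    exact hs (hIp hsx)
  · obtain ⟨f, hf, hfp⟩ := (mem_U fs p).1 hp
    obtain ⟨N, hN⟩ := h f hf x
    exact ⟨f ^ N, fun hm => hfp (p.isPrime.mem_of_pow_mem N hm), hN⟩

variable [PreservesFiniteLimits (tilde.functor (CommRingCat.of A))]

/-- Cohomology of a tilde complex. -/
theorem nonempty_hd_tildeD' {R : CommRingCat.{u}} [PreservesFiniteLimits (tilde.functor R)]
    (M : DerivedCategory (ModuleCat.{u} R)) (q : ℤ) :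
    Nonempty (DCoh.HD ((DCoh.tildeD R).obj M) q ≅
      (tilde.functor R).obj ((homologyFunctor (ModuleCat.{u} R) q).obj M)) := by
  let L := DerivedCategory.Q.objPreimage M
  exact ⟨(homologyFunctor (Spec R).Modules q).mapIso
      ((DCoh.tildeD R).mapIso (DerivedCategory.Q.objObjPreimageIso M).symm ≪≫
        (tilde.functor R).mapDerivedCategoryFactors.app L) ≪≫
      (homologyFunctorFactors (Spec R).Modules q).app _ ≪≫ (L.sc q).mapHomologyIso (tilde.functor R) ≪≫
      (tilde.functor R).mapIso (((homologyFunctorFactors (ModuleCat.{u} R) q).app L).symm ≪≫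
        (homologyFunctor (ModuleCat.{u} R) q).mapIso (DerivedCategory.Q.objObjPreimageIso M))⟩

theorem nonempty_hd_tildeD (M : DerivedCategory (ModuleCat.{u} A)) (q : ℤ) :
    Nonempty (DCoh.HD ((DCoh.tildeD (CommRingCat.of A)).obj M) q ≅
      (tilde.functor (CommRingCat.of A)).obj ((homologyFunctor (ModuleCat.{u} A) q).obj M)) :=
  nonempty_hd_tildeD' (R := CommRingCat.of A) M q

lemma isZero_of_isZero_tilde {R : CommRingCat.{u}} (H : ModuleCat.{u} R)
    (h : IsZero ((tilde.functor R).obj H)) : IsZero H :=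
  (IsZero.iff_id_eq_zero _).2 ((tilde.functor R).map_injective
    ((h.eq_of_src _ _).trans ((tilde.functor R).map_zero _ _).symm))

variable [PreservesFiniteLimits (Scheme.Modules.restrictFunctor (U fs).ι)]

theorem isZero_restrictD_iff (M : DerivedCategory (ModuleCat.{u} A)) :
    IsZero ((DCoh.restrictD (U fs).ι).obj ((DCoh.tildeD (CommRingCat.of A)).obj M)) ↔ ∀ f ∈ fs, IsTorsion f M := by
  have h0 : ∀ q, IsZero (DCoh.HD ((DCoh.restrictD (U fs).ι).obj ((DCoh.tildeD (CommRingCat.of A)).obj M)) q) ↔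
      ∀ f ∈ fs, ∀ x : (homologyFunctor (ModuleCat.{u} A) q).obj M, ∃ N : ℕ, f ^ N • x = 0 := fun q => by
    obtain ⟨c⟩ := nonempty_hdRd (U fs).ι ((DCoh.tildeD (CommRingCat.of A)).obj M) q
    obtain ⟨d⟩ := nonempty_hd_tildeD M q
    rw [← isZero_restrict_tilde_iff]
    let e := c ≪≫ (Scheme.Modules.restrictFunctor (U fs).ι).mapIso d
    exact ⟨fun h => h.of_iso e.symm, fun h => h.of_iso e⟩
  constructor
  · intro h f hf q
    exact (h0 q).1 ((homologyFunctor _ q).map_isZero h) f hf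
  · intro h
    rw [IsZero.iff_id_eq_zero]
    haveI : IsIso (0 : (DCoh.restrictD (U fs).ι).obj ((DCoh.tildeD (CommRingCat.of A)).obj M) ⟶
        (DCoh.restrictD (U fs).ι).obj ((DCoh.tildeD (CommRingCat.of A)).obj M)) := by
      refine (DerivedCategory.isIso_iff _ _).2 fun q => ?_
      exact isIso_of_source_target_iso_zero _ ((h0 q).2 fun f hf => h f hf q).isoZero
        ((h0 q).2 fun f hf => h f hf q).isoZero
    rw [← IsIso.hom_inv_id (0 : (DCoh.restrictD (U fs).ι).obj ((DCoh.tildeD (CommRingCat.of A)).obj M) ⟶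
        (DCoh.restrictD (U fs).ι).obj ((DCoh.tildeD (CommRingCat.of A)).obj M)), zero_comp]

variable [DCoh.HasRpush (U fs).ι] (adj : DCoh.restrictD (U fs).ι ⊣ DCoh.Rpush (U fs).ι)

theorem isIso_counit : IsIso adj.counit := by
  haveI : PreservesFiniteLimits (CxOX.extZero (U fs).ι) := inferInstance
  let T : Adjunction.Triple (CxOX.extZeroD (U fs).ι) (DCoh.restrictD (U fs).ι) (DCoh.Rpush (U fs).ι) :=
    ⟨Groth.DerivedCoh.ExtZero.extZeroDAdj (U fs).ι, adj⟩
  haveI : IsIso T.adj₁.unit := by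
    haveI : ∀ Z, IsIso (T.adj₁.unit.app Z) := fun Z => by
      suffices ∀ L, IsIso (T.adj₁.unit.app (DerivedCategory.Q.obj L)) by
        have := this (DerivedCategory.Q.objPreimage Z)
        exact (NatTrans.isIso_app_iff_of_iso T.adj₁.unit (DerivedCategory.Q.objObjPreimageIso Z)).1 this
      intro L
      dsimp only [T, Groth.DerivedCoh.ExtZero.extZeroDAdj, Groth.DerivedCoh.ExtZero.derAdj]
      rw [Adjunction.localization_unit_app]
      haveI : IsIso (((Groth.DerivedCoh.ExtZero.cxAdj (CxOX.extZeroAdj (U fs).ι)).unit).app L) :=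
        haveI : ∀ i, IsIso ((((Groth.DerivedCoh.ExtZero.cxAdj (CxOX.extZeroAdj (U fs).ι)).unit).app L).f i) :=
          fun i => Groth.DerivedCoh.ExtZero.isIso_unit _ _
        HomologicalComplex.Hom.isIso_of_components _
      infer_instance
    exact NatIso.isIso_of_isIso_app _
  exact T.isIso_unit_iff_isIso_counit.1 inferInstance

include adj in
/-- Orthogonality to `U`. -/
lemma eq_zero_to_Rpush {P : DCoh.D (Spec (CommRingCat.of A))} (hP : IsZero ((DCoh.restrictD (U fs).ι).obj P))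
    (Z : DCoh.D ((U fs : (Spec (CommRingCat.of A)).Opens) : Scheme.{u})) (φ : P ⟶ (DCoh.Rpush (U fs).ι).obj Z) : φ = 0 := by
  apply (adj.homEquiv P Z).symm.injective
  exact hP.eq_of_src _ _

/-- The Koszul object on `Spec A`. -/
noncomputable abbrev KS : DCoh.D (Spec (CommRingCat.of A)) := (DCoh.tildeD (CommRingCat.of A)).obj (K A fs)

lemma isZero_restrictD_KS (n : ℤ) : IsZero ((DCoh.restrictD (U fs).ι).obj ((KS fs)⟦n⟧)) :=
  IsZero.of_iso ((shiftFunctor (DCoh.D ((U fs : (Spec (CommRingCat.of A)).Opens) : Scheme.{u})) n).map_isZero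
    ((isZero_restrictD_iff fs (K A fs)).2 fun f hf => isTorsion_K f fs hf))
    (((DCoh.restrictD (U fs).ι).commShiftIso n).app (KS fs))

lemma orth_iff (M : DerivedCategory (ModuleCat.{u} A)) (n : ℤ) :
    (∀ φ : (KS fs)⟦-n⟧ ⟶ (DCoh.tildeD (CommRingCat.of A)).obj M, φ = 0) ↔ ∀ φ : K A fs ⟶ M⟦n⟧, φ = 0 := by
  let P := DCoh.tildeD (CommRingCat.of A)
  let e := (shiftEquiv (DerivedCategory (ModuleCat.{u} A)) n).symm.toAdjunction.homEquiv (K A fs) M
  let c := ((P.commShiftIso (-n)).app (K A fs))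
  constructor
  · intro h φ
    have h1 : P.map (e.symm φ) = 0 := (cancel_epi c.inv).1 ((h _).trans comp_zero.symm)
    have h2 : e.symm φ = 0 := (Groth.Misc4.QCohTildeD.bijective_map (R := (CommRingCat.of A)) _ _).1
      (h1.trans (P.map_zero _ _).symm)
    rw [← e.apply_symm_apply φ, h2]
    simp [e, Adjunction.homEquiv_unit]
  · intro h φ
    obtain ⟨ψ, hψ⟩ := (Groth.Misc4.QCohTildeD.bijective_map (R := (CommRingCat.of A)) ((K A fs)⟦-n⟧) M).2 (c.hom ≫ φ)
    have h2 : ψ = 0 := e.injective ((h (e ψ)).trans (by simp [e, Adjunction.homEquiv_unit]))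
    refine (cancel_epi c.hom).1 (hψ.symm.trans ?_)
    rw [h2]
    simp

/-- Maps out of `K[-n]` into objects without cohomology in degrees `> c`. -/
theorem eq_zero_KS_of_isLE {G : DCoh.D (Spec (CommRingCat.of A))} (hG : DCoh.IsQCohD G) (c : ℤ) [G.IsLE c] (n : ℤ)
    (hn : c + (fs.length : ℤ) < n) (φ : (KS fs)⟦-n⟧ ⟶ G) : φ = 0 := by
  obtain ⟨M, ⟨e⟩⟩ := (Groth.Misc4.QCohTildeD.isQCohD_iff (R := (CommRingCat.of A)) G).1 hG
  haveI : M.IsLE c := (DerivedCategory.isLE_iff _ _).2 fun q hq => by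
    obtain ⟨d⟩ := nonempty_hd_tildeD M q
    have h : IsZero ((tilde.functor (CommRingCat.of A)).obj ((homologyFunctor (ModuleCat.{u} A) q).obj M)) :=
      (DerivedCategory.isZero_of_isLE G c q hq).of_iso (d.symm ≪≫ (homologyFunctor _ q).mapIso e)
    exact isZero_of_isZero_tilde (R := CommRingCat.of A) _ h
  have := (orth_iff fs M n).2 (eq_zero_of_isLE c fs n hn) (φ ≫ e.inv)
  exact (cancel_mono e.inv).1 (this.trans zero_comp.symm)

/-- Maps out of `K[-n]` into objects without cohomology in degrees `< c`. -/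
theorem eq_zero_KS_of_isGE {G : DCoh.D (Spec (CommRingCat.of A))} (hG : DCoh.IsQCohD G) (c : ℤ) [G.IsGE c] (n : ℤ)
    (hn : n < c) (φ : (KS fs)⟦-n⟧ ⟶ G) : φ = 0 := by
  obtain ⟨M, ⟨e⟩⟩ := (Groth.Misc4.QCohTildeD.isQCohD_iff (R := (CommRingCat.of A)) G).1 hG
  haveI : M.IsGE c := (DerivedCategory.isGE_iff _ _).2 fun q hq => by
    obtain ⟨d⟩ := nonempty_hd_tildeD M q
    have h : IsZero ((tilde.functor (CommRingCat.of A)).obj ((homologyFunctor (ModuleCat.{u} A) q).obj M)) :=
      (DerivedCategory.isZero_of_isGE G c q hq).of_iso (d.symm ≪≫ (homologyFunctor _ q).mapIso e)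
    exact isZero_of_isZero_tilde (R := CommRingCat.of A) _ h
  have := (orth_iff fs M n).2 (eq_zero_of_isGE c fs n hn) (φ ≫ e.inv)
  exact (cancel_mono e.inv).1 (this.trans zero_comp.symm)

/-- `Rj_* j^*` preserves quasi-coherence. -/
theorem isQCohD_Rpush_restrict {E : DCoh.D (Spec (CommRingCat.of A))} (hE : DCoh.IsQCohD E) :
    DCoh.IsQCohD ((DCoh.Rpush (U fs).ι).obj ((DCoh.restrictD (U fs).ι).obj E)) := by
  haveI := quasiCompact_ι fs
  exact Groth.Misc4.QCohRpushD.isQCohD (U fs).ι _ (Groth.Misc4.QCohDPerf.isQCohD_restrict (U fs).ι hE)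

/-- The cohomology of the fibre of the unit, tested by Koszul orthogonality. -/
theorem exists_fibre (E : DCoh.D (Spec (CommRingCat.of A))) (hE : DCoh.IsQCohD E) :
    ∃ (C : DCoh.D (Spec (CommRingCat.of A))) (p : (DCoh.Rpush (U fs).ι).obj ((DCoh.restrictD (U fs).ι).obj E) ⟶ C)
      (d : C ⟶ E⟦(1 : ℤ)⟧), Triangle.mk (adj.unit.app E) p d ∈ distTriang _ ∧
        ∀ n : ℤ, (∀ φ : (KS fs)⟦-n⟧ ⟶ E, φ = 0) → IsZero (DCoh.HD C (n - 1)) := by
  obtain ⟨C, p, d, hT⟩ := distinguished_cocone_triangle (adj.unit.app E)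
  refine ⟨C, p, d, hT, fun n hn => ?_⟩
  show IsZero (DCoh.HD C (n - 1))
  haveI := isIso_counit fs adj
  haveI : IsIso ((DCoh.restrictD (U fs).ι).map (adj.unit.app E)) :=
    haveI : IsIso (adj.counit.app ((DCoh.restrictD (U fs).ι).obj E)) := inferInstance
    have e := adj.left_triangle_components E
    haveI : IsIso ((DCoh.restrictD (U fs).ι).map (adj.unit.app E) ≫ adj.counit.app ((DCoh.restrictD (U fs).ι).obj E)) :=
      ⟨𝟙 _, (congrArg (· ≫ 𝟙 _) e).trans (Category.comp_id _), (congrArg (𝟙 _ ≫ ·) e).trans (Category.comp_id _)⟩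
    IsIso.of_isIso_comp_right _ (adj.counit.app ((DCoh.restrictD (U fs).ι).obj E))
  have hC0 : IsZero ((DCoh.restrictD (U fs).ι).obj C) :=
    Triangle.isZero₃_of_isIso₁ _ ((DCoh.restrictD (U fs).ι).map_distinguished _ hT)
      (inferInstanceAs (IsIso ((DCoh.restrictD (U fs).ι).map (adj.unit.app E))))
  have hCq : DCoh.IsQCohD C := Groth.Misc4.QCohDPerf.isQCohD_obj₂ (Triangle.mk (adj.unit.app E) p d).rotate
    (rot_of_distTriang _ hT) (isQCohD_Rpush_restrict fs hE) (Groth.Misc4.QCohDPerf.isQCohD_shift hE 1)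
  obtain ⟨M, ⟨e⟩⟩ := (Groth.Misc4.QCohTildeD.isQCohD_iff (R := (CommRingCat.of A)) (C⟦(-1 : ℤ)⟧)).1
    (Groth.Misc4.QCohDPerf.isQCohD_shift hCq (-1))
  have ht : ∀ f ∈ fs, IsTorsion f M := (isZero_restrictD_iff fs M).1
    (((shiftFunctor _ (-1 : ℤ)).map_isZero hC0).of_iso
      ((DCoh.restrictD (U fs).ι).mapIso e ≪≫ ((DCoh.restrictD (U fs).ι).commShiftIso (-1 : ℤ)).app C))
  have hz := isZero_of_orth fs ht n ((orth_iff fs M n).1 fun φ => by
    have hT' := inv_rot_of_distTriang _ hT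
    have h1 : (φ ≫ e.hom) ≫ (Triangle.mk (adj.unit.app E) p d).invRotate.mor₁ = 0 := hn _
    obtain ⟨g, hg⟩ := Triangle.coyoneda_exact₂ _ (inv_rot_of_distTriang _ hT') (φ ≫ e.hom) h1
    have hg0 : g = 0 := by
      let Z := (DCoh.Rpush (U fs).ι).obj ((DCoh.restrictD (U fs).ι).obj E)
      let c : (Z⟦(-1 : ℤ)⟧)⟦(1 : ℤ)⟧ ≅ Z := (shiftFunctorCompIsoId _ (-1 : ℤ) 1 (by norm_num)).app Z
      refine (shiftFunctor (DCoh.D (Spec (CommRingCat.of A))) (1 : ℤ)).map_injective ((cancel_mono c.hom).1 ?_)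
      rw [Functor.map_zero, zero_comp]
      exact eq_zero_to_Rpush fs adj (IsZero.of_iso ((shiftFunctor _ (1 : ℤ)).map_isZero (isZero_restrictD_KS fs (-n)))
        (((DCoh.restrictD (U fs).ι).commShiftIso (1 : ℤ)).app _)) _ (g⟦(1 : ℤ)⟧' ≫ c.hom)
    rw [hg0, zero_comp] at hg
    exact (cancel_mono e.hom).1 (hg.trans zero_comp.symm))
  obtain ⟨d'⟩ := nonempty_hd_tildeD M n
  exact ((tilde.functor (CommRingCat.of A)).map_isZero hz).of_iso
    ((((DerivedCategory.homologyFunctor (Spec (CommRingCat.of A)).Modules 0).shiftIso (-1) n (n - 1) (by omega)).app C).symm ≪≫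
      (DerivedCategory.homologyFunctor (Spec (CommRingCat.of A)).Modules n).mapIso e.symm ≪≫ d')

end Groth.Misc4.KoszulUnit
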