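import Groth.Agent.Misc4.PushRestrict
import Groth.Agent.CohTwo.Glue
import Groth.Agent.QCohMod.Stalk
import Groth.Agent.SiteCohomology.Flasque
import Groth.Agent.CohBase.SecComplex
import Mathlib.Algebra.Homology.DerivedCategory.ShortExact
import Mathlib.Algebra.Homology.HomologicalComplexBiprod

/-!
Mayer–Vietoris distinguished triangles for two opens covering a scheme.
-/

universe u w v v'

open CategoryTheory CategoryTheory.Limits AlgebraicGeometry HomologicalComplex Opposite TopologicalSpace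

namespace Groth.Misc4.MVTriangle

open Groth.DerivedCoh.KFlat Groth.Misc4.PushRestrict

attribute [local instance] HasDerivedCategory.standard

set_option maxHeartbeats 1000000

local notation "up" => ComplexShape.up ℤ

lemma cancel_tail {C : Type*} [Category* C] {P Q R S : C} (x : P ⟶ Q) (f : Q ⟶ R) (y : R ≅ S) :
    (x ≫ f ≫ y.hom) ≫ y.inv = x ≫ f := by
  simp

section Gen

variable {A : Type*} [Category* A] [Abelian A]
  {B : Type v} [Category.{v'} B] [Abelian B] [HasDerivedCategory.{w} B]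
  {F₀ F₁ F₂ F₃ : A ⥤ B} [F₀.Additive] [F₁.Additive] [F₂.Additive] [F₃.Additive]
  (a : F₀ ⟶ F₁) (b : F₀ ⟶ F₂) (c : F₁ ⟶ F₃) (d : F₂ ⟶ F₃)

/-- the short complex at an object -/
noncomputable def sc (w : a ≫ c = b ≫ d) (M : A) : ShortComplex B :=
  ShortComplex.mk (biprod.lift (a.app M) (b.app M)) (biprod.desc (c.app M) (-(d.app M)))
    (by
      have h := NatTrans.congr_app w M
      simp only [NatTrans.comp_app] at h
      simp [h])

variable (K : CochainComplex A ℤ)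

theorem exists_triangle (w : a ≫ c = b ≫ d) (h : ∀ n, (sc a b c d w (K.X n)).ShortExact)
    {T₀ T₁ T₂ T₃ : DerivedCategory B}
    (e₀ : T₀ ≅ (LB B).obj ((F₀.mapHomologicalComplex up).obj K))
    (e₁ : T₁ ≅ (LB B).obj ((F₁.mapHomologicalComplex up).obj K))
    (e₂ : T₂ ≅ (LB B).obj ((F₂.mapHomologicalComplex up).obj K))
    (e₃ : T₃ ≅ (LB B).obj ((F₃.mapHomologicalComplex up).obj K)) :
    ∃ (f : T₀ ⟶ T₁ ⊞ T₂) (g : T₁ ⊞ T₂ ⟶ T₃) (δ : T₃ ⟶ T₀⟦(1 : ℤ)⟧),
      Pretriangulated.Triangle.mk f g δ ∈ Pretriangulated.distinguishedTriangles := by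
  let α := (NatTrans.mapHomologicalComplex a up).app K
  let β := (NatTrans.mapHomologicalComplex b up).app K
  let γ := (NatTrans.mapHomologicalComplex c up).app K
  let ε := (NatTrans.mapHomologicalComplex d up).app K
  have hw : α ≫ γ = β ≫ ε := by
    ext n
    exact NatTrans.congr_app w (K.X n)
  let S : ShortComplex (CochainComplex B ℤ) :=
    ShortComplex.mk (biprod.lift α β) (biprod.desc γ (-ε)) (by simp [hw])
  have hS : S.ShortExact := HomologicalComplex.shortExact_of_degreewise_shortExact S fun n => by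
    refine ShortComplex.shortExact_of_iso (S₁ := sc a b c d w (K.X n))
      (ShortComplex.isoMk (Iso.refl _) (HomologicalComplex.biprodXIso
        ((F₁.mapHomologicalComplex up).obj K) ((F₂.mapHomologicalComplex up).obj K) n).symm (Iso.refl _) ?_ ?_)
      (h n)
    · change 𝟙 _ ≫ (biprod.lift α β).f n = biprod.lift (α.f n) (β.f n) ≫
        (HomologicalComplex.biprodXIso ((F₁.mapHomologicalComplex up).obj K)
          ((F₂.mapHomologicalComplex up).obj K) n).inv
      rw [Category.id_comp, Iso.eq_comp_inv]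
      apply biprod.hom_ext <;> simp
    · change (HomologicalComplex.biprodXIso ((F₁.mapHomologicalComplex up).obj K)
          ((F₂.mapHomologicalComplex up).obj K) n).inv ≫ (biprod.desc γ (-ε)).f n =
        biprod.desc (γ.f n) (-(ε.f n)) ≫ 𝟙 _
      rw [Category.comp_id]
      apply biprod.hom_ext' <;> simp
  let ι : LB B ≅ DerivedCategory.Q := DerivedCategory.quotientCompQhIso B
  haveI := preservesBinaryBiproducts_of_preservesBiproducts (DerivedCategory.Q (C := B))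
  let m : DerivedCategory.Q.obj S.X₂ ≅ T₁ ⊞ T₂ :=
    DerivedCategory.Q.mapBiprod _ _ ≪≫
      biprod.mapIso ((ι.app _).symm ≪≫ e₁.symm) ((ι.app _).symm ≪≫ e₂.symm)
  let l : DerivedCategory.Q.obj S.X₁ ≅ T₀ := (ι.app _).symm ≪≫ e₀.symm
  let r : DerivedCategory.Q.obj S.X₃ ≅ T₃ := (ι.app _).symm ≪≫ e₃.symm
  refine ⟨l.inv ≫ DerivedCategory.Q.map S.f ≫ m.hom, m.inv ≫ DerivedCategory.Q.map S.g ≫ r.hom,
    r.inv ≫ DerivedCategory.triangleOfSESδ hS ≫ l.hom⟦(1 : ℤ)⟧', ?_⟩
  refine Pretriangulated.isomorphic_distinguished _ (DerivedCategory.triangleOfSES_distinguished hS)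
    _ (Pretriangulated.Triangle.isoMk _ _ l.symm m.symm r.symm ?_ ?_ ?_)
  · exact cancel_tail l.inv (DerivedCategory.Q.map S.f) m
  · exact cancel_tail m.inv (DerivedCategory.Q.map S.g) r
  · exact cancel_tail r.inv (DerivedCategory.triangleOfSESδ hS)
      ((shiftFunctor (DerivedCategory B) (1 : ℤ)).mapIso l)

end Gen

variable {X Y : Scheme.{u}}

/-- sections on an open -/
noncomputable def secF (O : X.Opens) : X.Modules ⥤ AddCommGrpCat.{u} :=
  Scheme.Modules.toPresheaf X ⋙ (evaluation _ _).obj (op O)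

instance (O : X.Opens) : (secF O).Additive where
  map_add := by intros; rfl

/-- exactness on all sections of a square of modules -/
structure SecExact {M₀ M₁ M₂ M₃ : X.Modules} (a : M₀ ⟶ M₁) (b : M₀ ⟶ M₂) (c : M₁ ⟶ M₃) (d : M₂ ⟶ M₃) :
    Prop where
  inj : ∀ (O : X.Opens) (s : Γ(M₀, O)), a.app O s = 0 → b.app O s = 0 → s = 0
  mid : ∀ (O : X.Opens) (s : Γ(M₁, O)) (t : Γ(M₂, O)), c.app O s = d.app O t →
    ∃ r, a.app O r = s ∧ b.app O r = t
  surj : ∀ (O : X.Opens) (v : Γ(M₃, O)), ∃ s, c.app O s = v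

lemma app_comp_apply {M N P : X.Modules} (f : M ⟶ N) (g : N ⟶ P) (O : X.Opens) (s : Γ(M, O)) :
    (f ≫ g).app O s = g.app O (f.app O s) := rfl

lemma biprod_app_ext {M N : X.Modules} (O : X.Opens) (x y : Γ((M ⊞ N : X.Modules), O))
    (h₁ : (biprod.fst : M ⊞ N ⟶ M).app O x = (biprod.fst : M ⊞ N ⟶ M).app O y)
    (h₂ : (biprod.snd : M ⊞ N ⟶ N).app O x = (biprod.snd : M ⊞ N ⟶ N).app O y) : x = y := by
  have e : ∀ z : Γ((M ⊞ N : X.Modules), O),
      (biprod.inl : M ⟶ M ⊞ N).app O ((biprod.fst : M ⊞ N ⟶ M).app O z) +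
        (biprod.inr : N ⟶ M ⊞ N).app O ((biprod.snd : M ⊞ N ⟶ N).app O z) = z := fun z =>
    congr($(congrArg (fun φ : M ⊞ N ⟶ M ⊞ N => φ.app O) biprod.total) z)
  rw [← e x, ← e y, h₁, h₂]

theorem shortExact_of_secExact {M₀ M₁ M₂ M₃ : X.Modules} {a : M₀ ⟶ M₁} {b : M₀ ⟶ M₂} {c : M₁ ⟶ M₃}
    {d : M₂ ⟶ M₃} (h : SecExact a b c d) (w : biprod.lift a b ≫ biprod.desc c (-d) = 0) :
    (ShortComplex.mk (biprod.lift a b) (biprod.desc c (-d)) w).ShortExact := by
  have hl : ∀ O (s : Γ(M₀, O)),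
      (biprod.fst : M₁ ⊞ M₂ ⟶ M₁).app O ((biprod.lift a b).app O s) = a.app O s ∧
      (biprod.snd : M₁ ⊞ M₂ ⟶ M₂).app O ((biprod.lift a b).app O s) = b.app O s := fun O s =>
    ⟨congr($(congrArg (fun φ : M₀ ⟶ M₁ => φ.app O) (biprod.lift_fst a b)) s),
      congr($(congrArg (fun φ : M₀ ⟶ M₂ => φ.app O) (biprod.lift_snd a b)) s)⟩
  have hg : ∀ O (z : Γ((M₁ ⊞ M₂ : X.Modules), O)), (biprod.desc c (-d)).app O z =
      c.app O ((biprod.fst : M₁ ⊞ M₂ ⟶ M₁).app O z) - d.app O ((biprod.snd : M₁ ⊞ M₂ ⟶ M₂).app O z) := by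
    intro O z
    have e : biprod.desc c (-d) = biprod.fst ≫ c - biprod.snd ≫ d := by
      apply biprod.hom_ext' <;> simp
    rw [e]
    rfl
  refine ShortComplex.ShortExact.mk' ?_ ?_ ?_
  · rw [Groth.QCohMod.exact_iff_stalk]
    intro x
    rw [ShortComplex.ab_exact_iff]
    intro t ht
    obtain ⟨O, hO, z, rfl⟩ := Groth.QCohMod.exists_germ _ x t
    have ht' : Groth.QCohMod.germ M₃ x hO ((biprod.desc c (-d)).app O z) =
        Groth.QCohMod.germ M₃ x hO 0 := by
      refine Eq.trans ?_ (map_zero _).symm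
      refine Eq.trans ?_ ht
      exact (TopCat.Presheaf.stalkFunctor_map_germ_apply O x hO
        (biprod.desc c (-d)).mapPresheaf z).symm
    obtain ⟨V, hV, h₁, h₂, e⟩ := Groth.QCohMod.exists_res_eq_of_germ_eq x hO hO _ _ ht'
    have e : (biprod.desc c (-d)).app V (Groth.QCohMod.res _ h₁ z) = 0 :=
      (Groth.QCohMod.res_app _ h₁ z).symm.trans (e.trans (map_zero _))
    rw [hg, sub_eq_zero] at e
    obtain ⟨r, hr₁, hr₂⟩ := h.mid V _ _ e
    have hr : (biprod.lift a b).app V r = Groth.QCohMod.res _ h₁ z :=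
      biprod_app_ext V _ _ ((hl V r).1.trans hr₁) ((hl V r).2.trans hr₂)
    refine ⟨Groth.QCohMod.germ M₀ x hV r, ?_⟩
    refine (TopCat.Presheaf.stalkFunctor_map_germ_apply V x hV
      (biprod.lift a b).mapPresheaf r).trans ?_
    refine Eq.trans ?_ (Groth.QCohMod.germ_res _ h₁ x hV z)
    exact congrArg _ hr
  · rw [Groth.CohTwo.mono_iff_app_injective]
    intro O
    refine (injective_iff_map_eq_zero ((biprod.lift a b).app O).hom).2 fun s hs => h.inj O s ?_ ?_
    · rw [← (hl O s).1, show (biprod.lift a b).app O s = 0 from hs, map_zero]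
    · rw [← (hl O s).2, show (biprod.lift a b).app O s = 0 from hs, map_zero]
  · refine Groth.QCohMod.epi_of_affine_surjective _ fun O _ v => ?_
    obtain ⟨s, hs⟩ := h.surj O v
    refine ⟨(biprod.inl : M₁ ⟶ M₁ ⊞ M₂).app O s, ?_⟩
    rw [← hs, ← app_comp_apply, biprod.inl_desc]

theorem shortExact_gamma {M₀ M₁ M₂ M₃ : X.Modules} {a : M₀ ⟶ M₁} {b : M₀ ⟶ M₂} {c : M₁ ⟶ M₃}
    {d : M₂ ⟶ M₃} (h : SecExact a b c d) (O : X.Opens)
    (w : biprod.lift ((secF O).map a) ((secF O).map b) ≫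
      biprod.desc ((secF O).map c) (-(secF O).map d) = 0) :
    (ShortComplex.mk (biprod.lift ((secF O).map a) ((secF O).map b))
      (biprod.desc ((secF O).map c) (-(secF O).map d)) w).ShortExact := by
  let P₁ := (secF O).obj M₁
  let P₂ := (secF O).obj M₂
  have tot : ∀ z : (P₁ ⊞ P₂ : AddCommGrpCat.{u}),
      (biprod.inl : P₁ ⟶ P₁ ⊞ P₂) ((biprod.fst : P₁ ⊞ P₂ ⟶ P₁) z) +
        (biprod.inr : P₂ ⟶ P₁ ⊞ P₂) ((biprod.snd : P₁ ⊞ P₂ ⟶ P₂) z) = z := fun z =>
    congr($(biprod.total (X := P₁) (Y := P₂)) z)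
  have hl : ∀ s, (biprod.fst : P₁ ⊞ P₂ ⟶ P₁) (biprod.lift ((secF O).map a) ((secF O).map b) s) =
        a.app O s ∧
      (biprod.snd : P₁ ⊞ P₂ ⟶ P₂) (biprod.lift ((secF O).map a) ((secF O).map b) s) = b.app O s :=
    fun s => ⟨congr($(biprod.lift_fst ((secF O).map a) ((secF O).map b)) s),
      congr($(biprod.lift_snd ((secF O).map a) ((secF O).map b)) s)⟩
  refine ShortComplex.ShortExact.mk' ?_ ?_ ?_
  · rw [ShortComplex.ab_exact_iff]
    intro z hz
    have hz' : c.app O ((biprod.fst : P₁ ⊞ P₂ ⟶ P₁) z) =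
        d.app O ((biprod.snd : P₁ ⊞ P₂ ⟶ P₂) z) := by
      have e : biprod.desc ((secF O).map c) (-(secF O).map d) =
          biprod.fst ≫ (secF O).map c - biprod.snd ≫ (secF O).map d := by
        apply biprod.hom_ext' <;> simp
      rw [← sub_eq_zero]
      exact (congr($e z)).symm.trans hz
    obtain ⟨r, hr₁, hr₂⟩ := h.mid O _ _ hz'
    refine ⟨r, ?_⟩
    change biprod.lift ((secF O).map a) ((secF O).map b) r = z
    rw [← tot z, ← tot (biprod.lift ((secF O).map a) ((secF O).map b) r), (hl r).1, (hl r).2]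
    exact congrArg₂ (· + ·) (congrArg _ hr₁) (congrArg _ hr₂)
  · rw [AddCommGrpCat.mono_iff_injective]
    refine (injective_iff_map_eq_zero _).2 fun s hs => h.inj O s ?_ ?_
    · rw [← (hl s).1]
      exact (congrArg _ hs).trans (map_zero _)
    · rw [← (hl s).2]
      exact (congrArg _ hs).trans (map_zero _)
  · rw [AddCommGrpCat.epi_iff_surjective]
    intro v
    obtain ⟨s, hs⟩ := h.surj O v
    refine ⟨(biprod.inl : P₁ ⟶ P₁ ⊞ P₂) s, ?_⟩
    refine Eq.trans ?_ hs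
    exact congr($(biprod.inl_desc ((secF O).map c) (-(secF O).map d)) s)

/-- the direct image of an exact square -/
theorem SecExact.push {M₀ M₁ M₂ M₃ : X.Modules} {a : M₀ ⟶ M₁} {b : M₀ ⟶ M₂} {c : M₁ ⟶ M₃}
    {d : M₂ ⟶ M₃} (h : SecExact a b c d) (f : X ⟶ Y) :
    SecExact ((Scheme.Modules.pushforward f).map a) ((Scheme.Modules.pushforward f).map b)
      ((Scheme.Modules.pushforward f).map c) ((Scheme.Modules.pushforward f).map d) where
  inj O := h.inj (f ⁻¹ᵁ O)
  mid O := h.mid (f ⁻¹ᵁ O)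
  surj O := h.surj (f ⁻¹ᵁ O)

section Cover

variable (U W : X.Opens)

/-- `j_* j^*` -/
noncomputable abbrev P : X.Modules ⥤ X.Modules :=
  Scheme.Modules.restrictFunctor U.ι ⋙ Scheme.Modules.pushforward U.ι

/-- the unit `M → j_* j^* M` -/
noncomputable abbrev unit : 𝟭 X.Modules ⟶ P U := (Scheme.Modules.restrictAdjunction U.ι).unit

variable {U W}

lemma isIso_P_map_unit (h : W ≤ U) (M : X.Modules) : IsIso ((P W).map ((unit U).app M)) := by
  haveI : IsIso ((Scheme.Modules.restrictFunctor W.ι).map ((unit U).app M)) :=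
    Groth.CohTwo.isIso_of_app_bijective _ fun O => by
      have h1 : W.ι ''ᵁ O ≤ U.ι ''ᵁ (U.ι ⁻¹ᵁ (W.ι ''ᵁ O)) := by
        rw [Scheme.Hom.image_preimage_eq_opensRange_inf, Scheme.Opens.opensRange_ι]
        exact le_inf ((W.ι_image_le O).trans h) le_rfl
      exact Groth.CohFin.res_bijective M (U.ι.image_preimage_le _) h1
  exact (Scheme.Modules.pushforward W.ι).map_isIso _

/-- the restriction `j_* j^* → i_* i^*` for a smaller open -/
noncomputable def r (h : W ≤ U) : P U ⟶ P W :=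
  haveI : ∀ M, IsIso ((Functor.whiskerRight (unit U) (P W)).app M) := isIso_P_map_unit h
  haveI := NatIso.isIso_of_isIso_app (Functor.whiskerRight (unit U) (P W))
  Functor.whiskerLeft (P U) (unit W) ≫ inv (Functor.whiskerRight (unit U) (P W))

lemma unit_r (h : W ≤ U) : unit U ≫ r h = unit W := by
  haveI : ∀ M, IsIso ((Functor.whiskerRight (unit U) (P W)).app M) := isIso_P_map_unit h
  haveI := NatIso.isIso_of_isIso_app (Functor.whiskerRight (unit U) (P W))
  rw [r, ← Category.assoc, IsIso.comp_inv_eq]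
  ext1
  ext1 M
  exact (unit W).naturality ((unit U).app M)

/-- the sections are flasque -/
def Flabby (M : X.Modules) : Prop :=
  ∀ (A B : X.Opens) (h : B ≤ A), Function.Surjective (Groth.CohTwo.res M h)

lemma flabby_of_injective (I : X.Modules) [Injective I] : Flabby I := fun A B h =>
  haveI : Injective (C := SheafOfModules X.ringCatSheaf) I := ‹Injective I›
  haveI : Mono (homOfLE h) := ⟨fun _ _ _ => Subsingleton.elim _ _⟩
  Groth.SiteCohomology.surjective_map_of_injective_module X.ringCatSheaf I (homOfLE h)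

lemma unit_app_surjective {M : X.Modules} (hM : Flabby M) (O : X.Opens) :
    Function.Surjective (((unit U).app M).app O) :=
  hM _ _ (U.ι.image_preimage_le O)

end Cover

theorem secExact_cover (U V : X.Opens) (hUV : U ⊔ V = ⊤) {M : X.Modules} (hM : Flabby M) :
    SecExact ((unit U).app M) ((unit V).app M) ((r (inf_le_left : U ⊓ V ≤ U)).app M)
      ((r (inf_le_right : U ⊓ V ≤ V)).app M) := by
  have hcU : ∀ O (t : Γ(M, O)), ((r (inf_le_left : U ⊓ V ≤ U)).app M).app O (((unit U).app M).app O t) =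
      ((unit (U ⊓ V)).app M).app O t := fun O t =>
    congr($(congrArg (fun φ : (𝟭 X.Modules).obj M ⟶ (P (U ⊓ V)).obj M => φ.app O)
      (NatTrans.congr_app (unit_r (inf_le_left : U ⊓ V ≤ U)) M)) t)
  have hcV : ∀ O (t : Γ(M, O)), ((r (inf_le_right : U ⊓ V ≤ V)).app M).app O (((unit V).app M).app O t) =
      ((unit (U ⊓ V)).app M).app O t := fun O t =>
    congr($(congrArg (fun φ : (𝟭 X.Modules).obj M ⟶ (P (U ⊓ V)).obj M => φ.app O)
      (NatTrans.congr_app (unit_r (inf_le_right : U ⊓ V ≤ V)) M)) t)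
  have him : ∀ (A O : X.Opens), A.ι ''ᵁ (A.ι ⁻¹ᵁ O) = A ⊓ O := fun A O => by
    rw [Scheme.Hom.image_preimage_eq_opensRange_inf, Scheme.Opens.opensRange_ι]
  have hmem : ∀ x, x ∈ U ∨ x ∈ V := fun x => by
    have : x ∈ U ⊔ V := hUV ▸ trivial
    exact this
  refine ⟨fun O s hU hV => ?_, fun O s t hst => ?_, fun O v => ?_⟩
  · refine Groth.CohTwo.eq_of_local M s 0 fun x hx => ?_
    rcases hmem x with hxU | hxV
    · exact ⟨_, U.ι.image_preimage_le O, (him U O).symm ▸ ⟨hxU, hx⟩, hU.trans (map_zero _).symm⟩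
    · exact ⟨_, V.ι.image_preimage_le O, (him V O).symm ▸ ⟨hxV, hx⟩, hV.trans (map_zero _).symm⟩
  · obtain ⟨s', rfl⟩ := unit_app_surjective (U := U) hM O s
    obtain ⟨t', rfl⟩ := unit_app_surjective (U := V) hM O t
    rw [hcU, hcV] at hst
    let C : ULift.{u} Bool → X.Opens := fun i =>
      cond i.down (U.ι ''ᵁ (U.ι ⁻¹ᵁ O)) (V.ι ''ᵁ (V.ι ⁻¹ᵁ O))
    let sf : ∀ i, Γ(M, C i) := fun i => match i with
      | ⟨true⟩ => ((unit U).app M).app O s'
      | ⟨false⟩ => ((unit V).app M).app O t'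
    have hc : ∀ i j, Groth.CohTwo.res M (inf_le_left : C i ⊓ C j ≤ C i) (sf i) =
        Groth.CohTwo.res M inf_le_right (sf j) := by
      have key : ∀ (A : X.Opens) (hA : A ≤ O) (hA' : A ≤ (U ⊓ V).ι ''ᵁ ((U ⊓ V).ι ⁻¹ᵁ O)),
          Groth.CohTwo.res M hA s' = Groth.CohTwo.res M hA t' := fun A hA hA' => by
        rw [← Groth.CohTwo.res_res M hA' ((U ⊓ V).ι.image_preimage_le O) s',
          ← Groth.CohTwo.res_res M hA' ((U ⊓ V).ι.image_preimage_le O) t']
        exact congrArg _ hst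
      rintro ⟨_ | _⟩ ⟨_ | _⟩
      · rfl
      · refine (Groth.CohTwo.res_res M _ (V.ι.image_preimage_le O) t').trans (Eq.trans ?_
          (Groth.CohTwo.res_res M _ (U.ι.image_preimage_le O) s').symm)
        refine (key _ _ ?_).symm
        simp only [C, him, cond_true, cond_false]
        exact le_inf (le_inf (inf_le_right.trans inf_le_left) (inf_le_left.trans inf_le_left))
          (inf_le_left.trans inf_le_right)
      · refine (Groth.CohTwo.res_res M _ (U.ι.image_preimage_le O) s').trans (Eq.trans ?_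
          (Groth.CohTwo.res_res M _ (V.ι.image_preimage_le O) t').symm)
        refine key _ _ ?_
        simp only [C, him, cond_true, cond_false]
        exact le_inf (le_inf (inf_le_left.trans inf_le_left) (inf_le_right.trans inf_le_left))
          (inf_le_left.trans inf_le_right)
      · rfl
    obtain ⟨z, hz⟩ := Groth.CohTwo.exists_glue M (W := O) C
      (fun i => by
        obtain ⟨_ | _⟩ := i
        · exact V.ι.image_preimage_le O
        · exact U.ι.image_preimage_le O)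
      (fun x hx => (hmem x).elim
        (fun h => ⟨⟨true⟩, show x ∈ U.ι ''ᵁ (U.ι ⁻¹ᵁ O) from (him U O).symm ▸ ⟨h, hx⟩⟩)
        (fun h => ⟨⟨false⟩, show x ∈ V.ι ''ᵁ (V.ι ⁻¹ᵁ O) from (him V O).symm ▸ ⟨h, hx⟩⟩)) sf hc
    exact ⟨z, hz ⟨true⟩, hz ⟨false⟩⟩
  · obtain ⟨t, rfl⟩ := unit_app_surjective (U := U ⊓ V) hM O v
    exact ⟨((unit U).app M).app O t, hcU O t⟩

section Obj

variable {Z : Scheme.{u}} (j : Z ⟶ X) [IsOpenImmersion j]
  {B : Type v} [Category.{v'} B] [Abelian B] [HasDerivedCategory.{w} B]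
  (G : Z.Modules ⥤ B) [G.Additive]
  [(G.mapHomotopyCategory up ⋙ DerivedCategory.Qh (C := B)).HasRightDerivedFunctor
    (HomotopyCategory.quasiIso Z.Modules up)]
  [PreservesFiniteLimits (Scheme.Modules.restrictFunctor j)]

/-- a derived functor of a restriction, computed by a K-injective complex -/
noncomputable def restrictObjIso {E : DCoh.D X} (J : CochainComplex X.Modules ℤ) [J.IsKInjective]
    (e : E ≅ (L₀ X).obj J) :
    (Groth.DerivedAdj.totalR G).obj ((DCoh.restrictD j).obj E) ≅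
      (LB B).obj ((G.mapHomologicalComplex up).obj ((resCx j).obj J)) :=
  haveI := isKInjective_resCx j J
  haveI := isIso_unit_app G ((resCx j).obj J)
  (Groth.DerivedAdj.totalR G).mapIso ((DCoh.restrictD j).mapIso e ≪≫ (restrictDIso j).app J) ≪≫
    (asIso (((G.mapHomotopyCategory up ⋙ DerivedCategory.Qh (C := B)).totalRightDerivedUnit
      DerivedCategory.Qh (HomotopyCategory.quasiIso Z.Modules up)).app
        ((HomotopyCategory.quotient Z.Modules up).obj ((resCx j).obj J)))).symm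

end Obj

/-- every object is a K-injective complex with injective terms -/
theorem exists_good (E : DCoh.D X) : ∃ J : CochainComplex X.Modules ℤ, J.IsKInjective ∧
    (∀ n, Flabby (J.X n)) ∧ Nonempty (E ≅ (L₀ X).obj J) := by
  haveI := Localization.essSurj (L₀ X) (HomologicalComplex.quasiIso X.Modules up)
  let K := (L₀ X).objPreimage E
  haveI := isIso_L₀_map ((kresAug X).app K)
  refine ⟨(kres X).obj K, inferInstance, fun n => ?_,
    ⟨((L₀ X).objObjPreimageIso E).symm ≪≫ asIso ((L₀ X).map ((kresAug X).app K))⟩⟩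
  haveI := (kresAug_spec K).2.2.2 n
  exact flabby_of_injective _

variable (f : X ⟶ Y) (U V : X.Opens)

lemma unit_comm : unit U ≫ r (inf_le_left : U ⊓ V ≤ U) = unit V ≫ r (inf_le_right : U ⊓ V ≤ V) := by
  rw [unit_r, unit_r]

/-- `f_* j_* j^* ≅ (f j)_* j^*` on complexes -/
noncomputable def pushPIso (A : X.Opens) (J : CochainComplex X.Modules ℤ) :
    (LB Y.Modules).obj (((Scheme.Modules.pushforward (A.ι ≫ f)).mapHomologicalComplex up).obj
      ((resCx A.ι).obj J)) ≅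
      (LB Y.Modules).obj (((P A ⋙ Scheme.Modules.pushforward f).mapHomologicalComplex up).obj J) :=
  (LB Y.Modules).mapIso
    ((NatIso.mapHomologicalComplex (Scheme.Modules.pushforwardComp A.ι f).symm up).app
      ((resCx A.ι).obj J))

theorem exists_triangle_push (hUV : U ⊔ V = ⊤) [DCoh.HasRpush f] [DCoh.HasRpush (U.ι ≫ f)]
    [DCoh.HasRpush (V.ι ≫ f)] [DCoh.HasRpush ((U ⊓ V).ι ≫ f)]
    [PreservesFiniteLimits (Scheme.Modules.restrictFunctor U.ι)]
    [PreservesFiniteLimits (Scheme.Modules.restrictFunctor V.ι)]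
    [PreservesFiniteLimits (Scheme.Modules.restrictFunctor (U ⊓ V).ι)] (E : DCoh.D X) :
    ∃ (a : (DCoh.Rpush f).obj E ⟶ ((DCoh.Rpush (U.ι ≫ f)).obj ((DCoh.restrictD U.ι).obj E) ⊞ (DCoh.Rpush (V.ι ≫ f)).obj ((DCoh.restrictD V.ι).obj E))) (b : ((DCoh.Rpush (U.ι ≫ f)).obj ((DCoh.restrictD U.ι).obj E) ⊞ (DCoh.Rpush (V.ι ≫ f)).obj ((DCoh.restrictD V.ι).obj E)) ⟶ (DCoh.Rpush ((U ⊓ V).ι ≫ f)).obj ((DCoh.restrictD (U ⊓ V).ι).obj E)) (c : (DCoh.Rpush ((U ⊓ V).ι ≫ f)).obj ((DCoh.restrictD (U ⊓ V).ι).obj E) ⟶ ((DCoh.Rpush f).obj E)⟦(1 : ℤ)⟧),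
      Pretriangulated.Triangle.mk a b c ∈ Pretriangulated.distinguishedTriangles := by
  obtain ⟨J, hJ, hflab, ⟨e⟩⟩ := exists_good E
  let F := Scheme.Modules.pushforward f
  haveI := isIso_pushUnit_app f J
  refine exists_triangle (F₀ := F) (F₁ := P U ⋙ F) (F₂ := P V ⋙ F) (F₃ := P (U ⊓ V) ⋙ F)
    (Functor.whiskerRight (unit U) F) (Functor.whiskerRight (unit V) F)
    (Functor.whiskerRight (r (inf_le_left : U ⊓ V ≤ U)) F)
    (Functor.whiskerRight (r (inf_le_right : U ⊓ V ≤ V)) F) J ?_ ?_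
    ((DCoh.Rpush f).mapIso e ≪≫ (asIso (((DCoh.pushKh f).totalRightDerivedUnit DerivedCategory.Qh
      (HomotopyCategory.quasiIso X.Modules up)).app ((HomotopyCategory.quotient X.Modules up).obj J))).symm)
    (restrictObjIso U.ι (Scheme.Modules.pushforward (U.ι ≫ f)) J e ≪≫ pushPIso f U J)
    (restrictObjIso V.ι (Scheme.Modules.pushforward (V.ι ≫ f)) J e ≪≫ pushPIso f V J)
    (restrictObjIso (U ⊓ V).ι (Scheme.Modules.pushforward ((U ⊓ V).ι ≫ f)) J e ≪≫
      pushPIso f (U ⊓ V) J)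
  · rw [← Functor.whiskerRight_comp, ← Functor.whiskerRight_comp, unit_comm]
  · intro n
    exact shortExact_of_secExact ((secExact_cover U V hUV (hflab n)).push f) _

theorem exists_triangle_RΓ (hUV : U ⊔ V = ⊤) [DCoh.HasRΓ X] [DCoh.HasRΓ (U : Scheme.{u})]
    [DCoh.HasRΓ (V : Scheme.{u})] [DCoh.HasRΓ (U ⊓ V : X.Opens)]
    [PreservesFiniteLimits (Scheme.Modules.restrictFunctor U.ι)]
    [PreservesFiniteLimits (Scheme.Modules.restrictFunctor V.ι)]
    [PreservesFiniteLimits (Scheme.Modules.restrictFunctor (U ⊓ V).ι)] (E : DCoh.D X) :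
    ∃ (a : (DCoh.RΓ X).obj E ⟶ ((DCoh.RΓ (U : Scheme.{u})).obj ((DCoh.restrictD U.ι).obj E) ⊞ (DCoh.RΓ (V : Scheme.{u})).obj ((DCoh.restrictD V.ι).obj E))) (b : ((DCoh.RΓ (U : Scheme.{u})).obj ((DCoh.restrictD U.ι).obj E) ⊞ (DCoh.RΓ (V : Scheme.{u})).obj ((DCoh.restrictD V.ι).obj E)) ⟶ (DCoh.RΓ (U ⊓ V : X.Opens)).obj ((DCoh.restrictD (U ⊓ V).ι).obj E)) (c : (DCoh.RΓ (U ⊓ V : X.Opens)).obj ((DCoh.restrictD (U ⊓ V).ι).obj E) ⟶ ((DCoh.RΓ X).obj E)⟦(1 : ℤ)⟧),
      Pretriangulated.Triangle.mk a b c ∈ Pretriangulated.distinguishedTriangles := by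
  obtain ⟨J, hJ, hflab, ⟨e⟩⟩ := exists_good E
  let F := DCoh.gammaAb X
  haveI := isIso_unit_app F J
  let q : ∀ A : X.Opens, (LB AddCommGrpCat.{u}).obj (((DCoh.gammaAb (A : Scheme.{u})).mapHomologicalComplex up).obj
      ((resCx A.ι).obj J)) ≅
      (LB AddCommGrpCat.{u}).obj (((P A ⋙ F).mapHomologicalComplex up).obj J) := fun A =>
    (LB AddCommGrpCat.{u}).mapIso ((NatIso.mapHomologicalComplex
      (NatIso.ofComponents (fun _ => Iso.refl _) :
        DCoh.gammaAb (A : Scheme.{u}) ≅ Scheme.Modules.pushforward A.ι ⋙ F) up).app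
      ((resCx A.ι).obj J))
  refine exists_triangle (F₀ := F) (F₁ := P U ⋙ F) (F₂ := P V ⋙ F) (F₃ := P (U ⊓ V) ⋙ F)
    (Functor.whiskerRight (unit U) F) (Functor.whiskerRight (unit V) F)
    (Functor.whiskerRight (r (inf_le_left : U ⊓ V ≤ U)) F)
    (Functor.whiskerRight (r (inf_le_right : U ⊓ V ≤ V)) F) J ?_ ?_
    ((DCoh.RΓ X).mapIso e ≪≫ (asIso (((DCoh.gammaKh X).totalRightDerivedUnit DerivedCategory.Qh
      (HomotopyCategory.quasiIso X.Modules up)).app ((HomotopyCategory.quotient X.Modules up).obj J))).symm)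
    (restrictObjIso U.ι (DCoh.gammaAb (U : Scheme.{u})) J e ≪≫ q U)
    (restrictObjIso V.ι (DCoh.gammaAb (V : Scheme.{u})) J e ≪≫ q V)
    (restrictObjIso (U ⊓ V).ι (DCoh.gammaAb (U ⊓ V : X.Opens)) J e ≪≫ q (U ⊓ V))
  · rw [← Functor.whiskerRight_comp, ← Functor.whiskerRight_comp, unit_comm]
  · intro n
    exact shortExact_gamma (secExact_cover U V hUV (hflab n)) ⊤ _

theorem exists_triangle_open (hUV : U ⊔ V = ⊤)
    [DCoh.HasRpush U.ι] [DCoh.HasRpush V.ι] [DCoh.HasRpush (U ⊓ V).ι]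
    [PreservesFiniteLimits (Scheme.Modules.restrictFunctor U.ι)]
    [PreservesFiniteLimits (Scheme.Modules.restrictFunctor V.ι)]
    [PreservesFiniteLimits (Scheme.Modules.restrictFunctor (U ⊓ V).ι)] (E : DCoh.D X) :
    ∃ (a : E ⟶ ((DCoh.Rpush U.ι).obj ((DCoh.restrictD U.ι).obj E) ⊞ (DCoh.Rpush V.ι).obj ((DCoh.restrictD V.ι).obj E))) (b : ((DCoh.Rpush U.ι).obj ((DCoh.restrictD U.ι).obj E) ⊞ (DCoh.Rpush V.ι).obj ((DCoh.restrictD V.ι).obj E)) ⟶ (DCoh.Rpush (U ⊓ V).ι).obj ((DCoh.restrictD (U ⊓ V).ι).obj E)) (c : (DCoh.Rpush (U ⊓ V).ι).obj ((DCoh.restrictD (U ⊓ V).ι).obj E) ⟶ (E)⟦(1 : ℤ)⟧),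
      Pretriangulated.Triangle.mk a b c ∈ Pretriangulated.distinguishedTriangles := by
  obtain ⟨J, hJ, hflab, ⟨e⟩⟩ := exists_good E
  let e₀ : E ≅ (LB X.Modules).obj (((𝟭 X.Modules).mapHomologicalComplex up).obj J) :=
    e ≪≫ (LB X.Modules).mapIso ((Functor.mapHomologicalComplexIdIso X.Modules up).symm.app J)
  refine exists_triangle (F₀ := 𝟭 X.Modules) (F₁ := P U) (F₂ := P V) (F₃ := P (U ⊓ V))
    (unit U) (unit V) (r inf_le_left) (r inf_le_right) J (unit_comm U V) ?_ e₀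
    (restrictObjIso U.ι (Scheme.Modules.pushforward U.ι) J e)
    (restrictObjIso V.ι (Scheme.Modules.pushforward V.ι) J e)
    (restrictObjIso (U ⊓ V).ι (Scheme.Modules.pushforward (U ⊓ V).ι) J e)
  intro n
  exact shortExact_of_secExact (secExact_cover U V hUV (hflab n)) _

end Groth.Misc4.MVTriangle
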