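import Groth.Agent.Misc4.PerfectCompactQCoh
import Mathlib.CategoryTheory.Triangulated.Generators

/-!
# Perfect objects lie in the thick subcategory of a perfect generator
-/

universe u

open CategoryTheory CategoryTheory.Limits Pretriangulated AlgebraicGeometry
open Groth.KTheory.Perf
open scoped ZeroObject

attribute [local instance] HasDerivedCategory.standard

set_option backward.isDefEq.respectTransparency false
set_option synthInstance.maxHeartbeats 400000
set_option maxHeartbeats 1000000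

namespace Groth.Misc4.PerfectEnvelope

variable {X : Scheme.{u}}

lemma isPerfect_obj₁ {T : Triangle (DCoh.D X)} (hT : T ∈ distTriang _) (h₂ : DCoh.IsPerfect T.obj₂)
    (h₃ : DCoh.IsPerfect T.obj₃) : DCoh.IsPerfect T.obj₁ :=
  isPerfect_obj₂ _ (inv_rot_of_distTriang _ hT) (isPerfect_shift h₃ (-1)) h₂

/-- All maps out of shifts of `P` form a set of size `u`. -/
lemma exists_cover (P L : DCoh.D X) :
    ∃ (J : Type u) (m : J → ℤ) (g : ∀ j, P⟦m j⟧ ⟶ L),
      ∀ (Z : DCoh.D X) (h : L ⟶ Z), (∀ j, g j ≫ h = 0) → ∀ (n : ℤ) (φ : P⟦n⟧ ⟶ L), φ ≫ h = 0 := by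
  obtain ⟨I, hI, ⟨e⟩⟩ := Groth.DerivedCoh.KInjRes.exists_kInjective_iso L
  haveI := hI
  let C : ℤ → CochainComplex X.Modules ℤ := fun n => DerivedCategory.Q.objPreimage (P⟦n⟧)
  let ε : ∀ n, DerivedCategory.Q.obj (C n) ≅ P⟦n⟧ := fun n => DerivedCategory.Q.objObjPreimageIso (P⟦n⟧)
  refine ⟨Σ n : ULift.{u} ℤ, C n.down ⟶ I, fun j => j.1.down,
    fun j => (ε j.1.down).inv ≫ DerivedCategory.Q.map j.2 ≫ e.hom, fun Z h hz n φ => ?_⟩
  obtain ⟨γ, hγ⟩ := Groth.DerivedCoh.KInjRes.Q_map_surjective (C n) I ((ε n).hom ≫ φ ≫ e.inv)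
  have := hz ⟨⟨n⟩, γ⟩
  change ((ε n).inv ≫ DerivedCategory.Q.map γ ≫ e.hom) ≫ h = 0 at this
  rw [hγ] at this
  simpa using this

variable [CompactSpace X] [QuasiSeparatedSpace X] (P : DCoh.D X) (hP : DCoh.IsPerfect P)

include hP in
/-- A map from a perfect object into a sum of shifts of `P` is killed up to an error in the envelope of `P`. -/
lemma exists_kill [HasCoproducts.{u} (DCoh.D X)] {C : DCoh.D X} (hC : DCoh.IsPerfect C) {J : Type u}
    (m : J → ℤ) (g : C ⟶ ∐ fun j => P⟦m j⟧) :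
    ∃ (C' W : DCoh.D X) (u : C' ⟶ C) (v : C ⟶ W) (w : W ⟶ C'⟦(1 : ℤ)⟧),
      Triangle.mk u v w ∈ distTriang (DCoh.D X) ∧ DCoh.IsPerfect C' ∧
        ObjectProperty.triangEnvelope (fun Y : DCoh.D X => Y = P) W ∧ u ≫ g = 0 := by
  classical
  haveI : ObjectProperty.Nonempty (fun Y : DCoh.D X => Y = P) := ObjectProperty.nonempty_of_prop (X := P) rfl
  let E := ObjectProperty.triangEnvelope (fun Y : DCoh.D X => Y = P)
  have hEP : ∀ n : ℤ, E (P⟦n⟧) := fun n => E.le_shift n _ (ObjectProperty.le_triangEnvelope _ _ rfl)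
  obtain ⟨x, rfl⟩ := (Groth.Misc4.PerfectCompactQCoh.bijective C hC (fun j => P⟦m j⟧)
    fun j => Groth.Misc4.Thomason.isQCohD_of_isPerfect (isPerfect_shift hP (m j))).2 g
  rw [← DirectSum.sum_support_of x, map_sum]
  suffices ∀ S : Finset J, ∃ (C' W : DCoh.D X) (u : C' ⟶ C) (v : C ⟶ W) (w : W ⟶ C'⟦(1 : ℤ)⟧),
      Triangle.mk u v w ∈ distTriang (DCoh.D X) ∧ DCoh.IsPerfect C' ∧ E W ∧ ∀ i ∈ S, u ≫ x i = 0 by
    obtain ⟨C', W, u, v, w, hu, hC', hW, h⟩ := this (DFinsupp.support x)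
    refine ⟨C', W, u, v, w, hu, hC', hW, ?_⟩
    rw [Preadditive.comp_sum]
    refine Finset.sum_eq_zero fun i hi => ?_
    rw [Groth.Misc4.PerfectCompactQCoh.homSum_of, reassoc_of% h i hi, zero_comp]
  intro S
  induction S using Finset.induction_on with
  | empty =>
    obtain ⟨Z, hZ, hEZ⟩ := E.exists_prop_of_containsZero
    exact ⟨C, 0, 𝟙 C, 0, 0, contractible_distinguished C, hC, E.prop_of_iso (hZ.iso (isZero_zero _)) hEZ, by simp⟩
  | @insert j S hj ih =>
    obtain ⟨C', W, u, v, w, hu, hC', hW, h⟩ := ih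
    obtain ⟨C'', u', d, hu'⟩ := distinguished_cocone_triangle₁ (u ≫ x j)
    obtain ⟨V, b, e, hV⟩ := distinguished_cocone_triangle (u' ≫ u)
    refine ⟨C'', V, u' ≫ u, b, e, hV, isPerfect_obj₁ hu' hC' (isPerfect_shift hP _),
      E.ext_of_isTriangulatedClosed₂ _ (Triangulated.someOctahedron rfl hu' hu hV).mem (hEP _) hW, fun i hi => ?_⟩
    rcases Finset.mem_insert.1 hi with rfl | hi
    · exact (Category.assoc _ _ _).trans (comp_distTriang_mor_zero₁₂ _ hu')
    · rw [Category.assoc, h i hi, comp_zero]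

include hP in
/-- Perfect objects lie in the thick subcategory generated by a perfect generator. -/
theorem mem_envelope (hgen : ∀ E : DCoh.D X, DCoh.IsQCohD E → (∀ (n : ℤ) (φ : P⟦n⟧ ⟶ E), φ = 0) → IsZero E)
    (K : DCoh.D X) (hK : DCoh.IsPerfect K) :
    ObjectProperty.triangEnvelope (fun Y : DCoh.D X => Y = P) K := by
  classical
  haveI : HasCoproducts.{u} (DCoh.D X) := Groth.DerivedCoh.KInjRes.hasCoproducts
  haveI : ObjectProperty.Nonempty (fun Y : DCoh.D X => Y = P) := ObjectProperty.nonempty_of_prop (X := P) rfl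
  let E := ObjectProperty.triangEnvelope (fun Y : DCoh.D X => Y = P)
  -- the tower killing all maps out of shifts of `P`
  have hPq : ∀ n : ℤ, DCoh.IsQCohD (P⟦n⟧) := fun n =>
    Groth.Misc4.Thomason.isQCohD_of_isPerfect (isPerfect_shift hP n)
  choose J m g hg using fun L : DCoh.D X => exists_cover P L
  choose cn fn zn hcn using fun L : DCoh.D X => distinguished_cocone_triangle (Limits.Sigma.desc (g L))
  let L : ℕ → DCoh.D X := Nat.rec (motive := fun _ => DCoh.D X) K (fun _ C => cn C)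
  let f : ∀ n, L n ⟶ L (n + 1) := fun n => fn (L n)
  have hf : ∀ n, Triangle.mk (Limits.Sigma.desc (g (L n))) (f n) (zn (L n)) ∈ distTriang (DCoh.D X) :=
    fun n => hcn (L n)
  have hLq : ∀ n, DCoh.IsQCohD (L n) := fun n => by
    induction n with
    | zero => exact Groth.Misc4.Thomason.isQCohD_of_isPerfect hK
    | succ n ih =>
      exact Groth.Misc4.QCohDPerf.isQCohD_obj₂ _ (rot_of_distTriang _ (hf n)) ih
        (Groth.Misc4.QCohDPerf.isQCohD_shift (Groth.Misc4.QCohDSum.isQCohD_sigma X _ fun j => hPq _) 1)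
  have hkill : ∀ (k : ℕ) (n : ℤ) (φ : P⟦n⟧ ⟶ L k), φ ≫ f k = 0 := fun k n φ =>
    hg (L k) _ (f k) (fun j => by
      rw [← Limits.Sigma.ι_desc (g (L k)) j, Category.assoc,
        show Limits.Sigma.desc (g (L k)) ≫ f k = 0 from comp_distTriang_mor_zero₁₂ _ (hf k), comp_zero]) n φ
  -- the homotopy colimit
  let L' : ULift.{u} ℕ → DCoh.D X := fun n => L n.down
  let s : ∐ L' ⟶ ∐ L' := Limits.Sigma.desc fun n => f n.down ≫ Limits.Sigma.ι L' ⟨n.down + 1⟩
  obtain ⟨H, π, c, hH⟩ := distinguished_cocone_triangle (𝟙 (∐ L') - s)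
  have hHq : DCoh.IsQCohD H :=
    Groth.Misc4.QCohDPerf.isQCohD_obj₂ _ (rot_of_distTriang _ hH)
      (Groth.Misc4.QCohDSum.isQCohD_sigma X L' fun n => hLq n.down)
      (Groth.Misc4.QCohDPerf.isQCohD_shift (Groth.Misc4.QCohDSum.isQCohD_sigma X L' fun n => hLq n.down) 1)
  let pr : ∀ N : ℕ, ∐ L' ⟶ L N := fun N =>
    Limits.Sigma.desc (f := L') fun (n : ULift.{u} ℕ) => if h : n.down = N then eqToHom (congrArg L h) else (0 : L n.down ⟶ L N)
  have hpr : ∀ (n N : ℕ), n ≠ N → Limits.Sigma.ι L' ⟨n⟩ ≫ pr N = 0 := fun n N h => by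
    simp [pr, h]
  have hpr' : ∀ N : ℕ, Limits.Sigma.ι L' ⟨N⟩ ≫ pr N = 𝟙 _ := fun N => by simp [pr, L']
  have hspr : ∀ N : ℕ, s ≫ pr (N + 1) = pr N ≫ f N := fun N => by
    refine Limits.Sigma.hom_ext _ _ fun ⟨n⟩ => ?_
    simp only [s, Limits.Sigma.ι_desc_assoc, Category.assoc]
    by_cases h : n = N
    · subst h
      rw [hpr', Category.comp_id, reassoc_of% hpr' n]
    · rw [reassoc_of% hpr n N h, zero_comp]
      exact (congrArg (f n ≫ ·) (hpr _ _ (by omega))).trans comp_zero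
  have hspr0 : s ≫ pr 0 = 0 := by
    refine Limits.Sigma.hom_ext _ _ fun ⟨n⟩ => ?_
    simp only [s, Limits.Sigma.ι_desc_assoc, Category.assoc, comp_zero]
    exact (congrArg (f n ≫ ·) (hpr _ _ (Nat.succ_ne_zero n))).trans comp_zero
  have hinj : ∀ C : DCoh.D X, DCoh.IsPerfect C → ∀ a : C ⟶ ∐ L', a ≫ (𝟙 (∐ L') - s) = 0 → a = 0 := by
    intro C hC a ha
    rw [Preadditive.comp_sub, Category.comp_id, sub_eq_zero] at ha
    have h0 : ∀ N, a ≫ pr N = 0 := fun N => by
      induction N with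
      | zero => rw [ha, Category.assoc, hspr0, comp_zero]
      | succ N ih => rw [ha, Category.assoc, hspr, reassoc_of% ih, zero_comp]
    obtain ⟨x, rfl⟩ := (Groth.Misc4.PerfectCompactQCoh.bijective C hC L' fun n => hLq n.down).2 a
    have hx : ∀ y (n : ULift.{u} ℕ), PerfAux.homSumToHomCoprod C L' y ≫ pr n.down = y n := fun y n => by
      induction y using DirectSum.induction_on with
      | zero => simp
      | of j b =>
        rw [Groth.Misc4.PerfectCompactQCoh.homSum_of, Category.assoc]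
        obtain ⟨j⟩ := j
        obtain ⟨n⟩ := n
        by_cases h : j = n
        · subst h
          rw [hpr', Category.comp_id, DirectSum.of_eq_same]
        · rw [hpr _ _ h, comp_zero, DirectSum.of_eq_of_ne _ _ _ (fun e => h (congrArg ULift.down e).symm)]
      | add y y' hy hy' => rw [map_add, Preadditive.add_comp, hy, hy']; rfl
    have hx0 : x = 0 := DFinsupp.ext fun n => by rw [← hx x n, h0 n.down]; rfl
    rw [hx0, map_zero]
  have hzero : ∀ (n : ℤ) (φ : P⟦n⟧ ⟶ H), φ = 0 := by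
    intro n φ
    have hc : φ ≫ c = 0 := by
      let e : (P⟦n - 1⟧)⟦(1 : ℤ)⟧ ≅ P⟦n⟧ := ((shiftFunctorAdd' (DCoh.D X) (n - 1) 1 n (by omega)).app P).symm
      obtain ⟨a, ha⟩ := (shiftFunctor (DCoh.D X) (1 : ℤ)).map_surjective (e.hom ≫ φ ≫ c)
      have h3 : c ≫ (𝟙 (∐ L') - s)⟦(1 : ℤ)⟧' = 0 := comp_distTriang_mor_zero₃₁ _ hH
      have ha0 : a = 0 := hinj _ (isPerfect_shift hP _) a ((shiftFunctor (DCoh.D X) (1 : ℤ)).map_injective (by
        rw [Functor.map_comp, Functor.map_zero, ha, Category.assoc, Category.assoc, h3, comp_zero, comp_zero]))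
      rw [← cancel_epi e.hom, comp_zero, ← ha, ha0, Functor.map_zero]
    obtain ⟨a, ha⟩ := Triangle.coyoneda_exact₃ _ hH φ hc
    rw [ha]
    obtain ⟨x, rfl⟩ := (Groth.Misc4.PerfectCompactQCoh.bijective _ (isPerfect_shift hP n) L' fun k => hLq k.down).2 a
    have hπ : ∀ k : ℕ, Limits.Sigma.ι L' ⟨k⟩ ≫ π = f k ≫ Limits.Sigma.ι L' ⟨k + 1⟩ ≫ π := fun k => by
      have h := congrArg (Limits.Sigma.ι L' ⟨k⟩ ≫ ·) (comp_distTriang_mor_zero₁₂ _ hH)
      simp only [Triangle.mk_mor₁, Triangle.mk_mor₂, Preadditive.sub_comp, Category.id_comp, Preadditive.comp_sub,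
        comp_zero, s, Limits.Sigma.ι_desc_assoc, Category.assoc, sub_eq_zero] at h
      exact (congrArg (Limits.Sigma.ι L' ⟨k⟩ ≫ ·) (Category.id_comp π).symm).trans h
    show PerfAux.homSumToHomCoprod _ L' x ≫ π = 0
    rw [← DirectSum.sum_support_of x, map_sum, Preadditive.sum_comp]
    refine Finset.sum_eq_zero fun k _ => ?_
    rw [Groth.Misc4.PerfectCompactQCoh.homSum_of, Category.assoc]
    obtain ⟨k⟩ := k
    rw [hπ k, reassoc_of% hkill k n (x ⟨k⟩), zero_comp]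
  haveI : IsIso (𝟙 (∐ L') - s) := (Triangle.isZero₃_iff_isIso₁ _ hH).1 (hgen H hHq hzero)
  -- `K ⟶ L N` vanishes for some `N`
  let tr : ∀ N : ℕ, K ⟶ L N := fun N => Nat.rec (𝟙 K) (fun N t => t ≫ f N) N
  let q : ∀ N : ℕ, ∐ L' ⟶ L N := fun N => Nat.rec (pr 0) (fun N t => t ≫ f N + pr (N + 1)) N
  have hq : ∀ N, (𝟙 (∐ L') - s) ≫ q N = pr N := fun N => by
    induction N with
    | zero =>
      show (𝟙 (∐ L') - s) ≫ pr 0 = _
      rw [Preadditive.sub_comp, hspr0, sub_zero, Category.id_comp]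
    | succ N ih =>
      show (𝟙 (∐ L') - s) ≫ (q N ≫ f N + pr (N + 1)) = _
      rw [Preadditive.comp_add, reassoc_of% ih, Preadditive.sub_comp, hspr, Category.id_comp]
      abel
  have hq0 : ∀ N, Limits.Sigma.ι L' ⟨0⟩ ≫ q N = tr N := fun N => by
    induction N with
    | zero => exact hpr' 0
    | succ N ih =>
      show Limits.Sigma.ι L' ⟨0⟩ ≫ (q N ≫ f N + pr (N + 1)) = tr N ≫ f N
      rw [Preadditive.comp_add, reassoc_of% ih, hpr _ _ (by omega), add_zero]
  obtain ⟨x, hx⟩ := (Groth.Misc4.PerfectCompactQCoh.bijective K hK L' fun n => hLq n.down).2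
    (Limits.Sigma.ι L' ⟨0⟩ ≫ inv (𝟙 (∐ L') - s))
  obtain ⟨N, hN⟩ : ∃ N : ℕ, ∀ k ∈ DFinsupp.support x, k.down ≠ N :=
    ⟨(DFinsupp.support x).sup (fun k => k.down + 1), fun k hk => by
      have := Finset.le_sup (f := fun k : ULift.{u} ℕ => k.down + 1) hk
      omega⟩
  have htr : tr N = 0 := by
    rw [← hq0, ← (IsIso.eq_comp_inv (𝟙 (∐ L') - s)).1 hx, Category.assoc, hq,
      ← DirectSum.sum_support_of x, map_sum, Preadditive.sum_comp]
    refine Finset.sum_eq_zero fun k hk => ?_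
    rw [Groth.Misc4.PerfectCompactQCoh.homSum_of, Category.assoc]
    obtain ⟨k⟩ := k
    rw [hpr _ _ (hN _ hk), comp_zero]
  -- descend along the tower
  have key : ∀ k, k ≤ N → ∃ (C' W : DCoh.D X) (u : C' ⟶ K) (v : K ⟶ W) (w : W ⟶ C'⟦(1 : ℤ)⟧),
      Triangle.mk u v w ∈ distTriang (DCoh.D X) ∧ DCoh.IsPerfect C' ∧ E W ∧ u ≫ tr k = 0 := by
    intro k hk
    induction hk using Nat.decreasingInduction with
    | self =>
      obtain ⟨Z, hZ, hEZ⟩ := E.exists_prop_of_containsZero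
      exact ⟨K, 0, 𝟙 K, 0, 0, contractible_distinguished K, hK, E.prop_of_iso (hZ.iso (isZero_zero _)) hEZ,
        by rw [htr, comp_zero]⟩
    | of_succ k _ ih =>
      obtain ⟨C', W, u, v, w, hu, hC', hW, h⟩ := ih
      obtain ⟨y, hy⟩ := Triangle.coyoneda_exact₂ _ (hf k) (u ≫ tr k) ((Category.assoc _ _ _).trans h)
      obtain ⟨C'', W', u', v', w', hu', hC'', hW', h'⟩ := exists_kill P hP hC' (m (L k)) y
      obtain ⟨V, b, e, hV⟩ := distinguished_cocone_triangle (u' ≫ u)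
      refine ⟨C'', V, u' ≫ u, b, e, hV, hC'',
        E.ext_of_isTriangulatedClosed₂ _ (Triangulated.someOctahedron rfl hu' hu hV).mem hW' hW, ?_⟩
      rw [Category.assoc, hy, reassoc_of% h']
      exact zero_comp
  obtain ⟨C', W, u, v, w, hu, -, hW, h⟩ := key 0 (Nat.zero_le N)
  have hu0 : u = 0 := (Category.comp_id u).symm.trans h
  obtain ⟨e, he, -⟩ := exists_iso_binaryBiproduct_of_distTriang _ (rot_of_distTriang _ hu) (by
    show -u⟦(1 : ℤ)⟧' = 0
    rw [hu0, Functor.map_zero, neg_zero])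
  exact E.prop_of_retract {
    i := v
    r := e.hom ≫ biprod.fst
    retract := by
      rw [← Category.assoc]
      exact (congrArg (· ≫ biprod.fst) he).trans biprod.inl_fst } hW

end Groth.Misc4.PerfectEnvelope
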