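import Groth.Agent.Misc4.ProjPerfect
import Groth.Agent.Misc6.DevissageSupp
import Groth.Agent.Misc7.ClosedImm.Modules

/-!
The projection formula for a closed immersion, for all modules and all K-flat complexes.
-/

universe u

open CategoryTheory CategoryTheory.Limits AlgebraicGeometry HomologicalComplex

namespace Groth.Misc4.ProjClosed

open Groth.PicAux
open Groth.ProjFormula (downSec)
open Groth.DerivedCoh.KFlat (T IsKFlat tot pushCx pullCx kres kresAug pullTensor pullTensor_pullSec
  tensorMap_left_tmulSec)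
open Groth.DerivedCoh.Duality (inc)
open Groth.Misc4.ProjMap (pR pR_tmul)
open Groth.Misc4.ProjCx (psi psiX inc_psiX)

attribute [local instance] HasDerivedCategory.standard

set_option maxHeartbeats 1000000

local notation "up" => ComplexShape.up ℤ

variable {X Y : Scheme.{u}} (f : X ⟶ Y)

/-- the projection map is the adjunct of `f^*(f_* M ⊗ N) = f^* f_* M ⊗ f^* N ⟶ M ⊗ f^* N` -/
lemma pR_eq (M : X.Modules) (N : Y.Modules) :
    pR f M N = (Scheme.Modules.pullbackPushforwardAdjunction f).unit.app _ ≫
      (Scheme.Modules.pushforward f).map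
        ((pullTensor f ((Scheme.Modules.pushforward f).obj M) N).hom ≫
          ((T X).map ((Scheme.Modules.pullbackPushforwardAdjunction f).counit.app M)).app
            ((Scheme.Modules.pullback f).obj N)) := by
  refine tensor_hom_ext fun W g a => (pR_tmul f M N W g a).trans ?_
  let ε := (Scheme.Modules.pullbackPushforwardAdjunction f).counit.app M
  have hε : ε.app (f ⁻¹ᵁ W) (pullSec f _ g) = downSec f M g :=
    congr(($((Scheme.Modules.pullbackPushforwardAdjunction f).right_triangle_components M)).app W g)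
  show _ = (((T X).map ε).app ((Scheme.Modules.pullback f).obj N)).app (f ⁻¹ᵁ W)
    ((pullTensor f ((Scheme.Modules.pushforward f).obj M) N).hom.app (f ⁻¹ᵁ W)
      (pullSec f _ (tmulSec g a : Γ(CohB1.tensorMod ((Scheme.Modules.pushforward f).obj M) N, W))))
  rw [pullTensor_pullSec, tensorMap_left_tmulSec, hε]

variable [IsClosedImmersion f]

/-- the projection map of a closed immersion is invertible -/
theorem isIso_pR (M : X.Modules) (N : Y.Modules) : IsIso (pR f M N) := by
  let M' := (Scheme.Modules.pushforward f).obj M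
  have h₁ : IsIso ((Scheme.Modules.pullbackPushforwardAdjunction f).unit.app (((T Y).obj M').obj N)) :=
    Groth.Misc7.ClosedImm.isIso_unit f
      ((Groth.Misc7.ClosedImm.killed_tensor f M N).of_iso (exists_braiding M' N).choose.symm)
  have h₂ : IsIso (((T X).map ((Scheme.Modules.pullbackPushforwardAdjunction f).counit.app M)).app
      ((Scheme.Modules.pullback f).obj N)) := inferInstance
  have h₃ := @IsIso.comp_isIso _ _ _ _ _ (pullTensor f M' N).hom _ (Iso.isIso_hom _) h₂
  exact (pR_eq f M N).symm ▸ @IsIso.comp_isIso _ _ _ _ _ _ _ h₁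
    (@Functor.map_isIso _ _ _ _ _ _ (Scheme.Modules.pushforward f) _ h₃)

/-- direct images along closed immersions commute with countable coproducts -/
theorem preservesDiscrete_push (J : Type) :
    PreservesColimitsOfShape (Discrete J) (Scheme.Modules.pushforward f) :=
  preservesColimitsOfShape_of_equiv (Discrete.equivalence (Equiv.ulift.{u} : ULift.{u} J ≃ J)) _

variable (C : CochainComplex X.Modules ℤ) (P : CochainComplex Y.Modules ℤ)

/-- the projection map of complexes of a closed immersion is invertible -/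
theorem isIso_psi : IsIso (psi f C P) := by
  haveI : ∀ M N, IsIso (pR f M N) := isIso_pR f
  haveI := preservesDiscrete_push f
  haveI : ∀ n, IsIso ((psi f C P).f n) := fun n => by
    let B := ((Functor.mapBifunctorHomologicalComplex (T X) up up).obj C).obj ((pullCx f).obj P)
    let K := HomologicalComplex₂.toGradedObject B
    let hB : IsColimit (Cofan.mk _ fun j => (Scheme.Modules.pushforward f).map
        ((K.cofanMapObj (ComplexShape.π up up up) n).inj j)) :=
      Cofan.isColimitMapCoconeEquiv (Scheme.Modules.pushforward f) _ _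
        (isColimitOfPreserves _ (K.isColimitCofanMapObj (ComplexShape.π up up up) n))
    refine ⟨Cofan.IsColimit.desc hB fun j => @inv _ _ _ _ (pR f (C.X j.1.1) (P.X j.1.2)) (isIso_pR f _ _) ≫
      inc ((pushCx f).obj C) P j.1.1 j.1.2 n j.2, ?_, ?_⟩
    · refine Groth.DerivedCoh.Duality.tot_ext _ _ fun p q h => ?_
      refine (Category.assoc _ _ _).symm.trans ?_
      refine (congrArg (· ≫ _) (inc_psiX f C P p q n h)).trans ((Category.assoc _ _ _).trans ?_)
      refine (congrArg (pR f (C.X p) (P.X q) ≫ ·) (Cofan.IsColimit.fac hB _ ⟨(p, q), h⟩)).trans ?_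
      exact (IsIso.hom_inv_id_assoc _ _).trans (Category.comp_id _).symm
    · refine Cofan.IsColimit.hom_ext hB _ _ fun ⟨⟨p, q⟩, h⟩ => ?_
      refine (Category.assoc _ _ _).symm.trans ?_
      refine (congrArg (· ≫ _) (Cofan.IsColimit.fac hB _ ⟨(p, q), h⟩)).trans ((Category.assoc _ _ _).trans ?_)
      refine (congrArg (@inv _ _ _ _ (pR f (C.X p) (P.X q)) (isIso_pR f _ _) ≫ ·) (inc_psiX f C P p q n h)).trans ?_
      exact (IsIso.inv_hom_id_assoc _ _).trans (Category.comp_id _).symm
  exact HomologicalComplex.Hom.isIso_of_components _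

/-- derived direct images of a closed immersion are termwise -/
theorem nonempty_rpushIso [DCoh.HasRpush f] :
    Nonempty ((DCoh.Rpush f).obj (DCoh.toD X C) ≅ DCoh.toD Y ((pushCx f).obj C)) := by
  haveI := Groth.Misc6.DevissageSupp.preservesFiniteLimits_push f
  haveI := Groth.Misc6.DevissageSupp.preservesFiniteColimits_push f
  haveI : QuasiIso ((pushCx f).map ((kresAug X).app C)) := inferInstance
  haveI := (DerivedCategory.isIso_Q_map_iff_quasiIso _ ((kresAug X).app C)).2 inferInstance
  haveI := (DerivedCategory.isIso_Q_map_iff_quasiIso _ ((pushCx f).map ((kresAug X).app C))).2 inferInstance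
  exact ⟨(DCoh.Rpush f).mapIso (asIso (DerivedCategory.Q.map ((kresAug X).app C)) ≪≫
      (Groth.DerivedCoh.KFlat.L₀Q X).symm.app ((kres X).obj C)) ≪≫
    (@asIso _ _ _ _ _ (Groth.DerivedCoh.KFlat.isIso_pushUnit_app f ((kres X).obj C))).symm ≪≫
    (Groth.DerivedCoh.KFlat.L₀Q Y).app _ ≪≫
    (asIso (DerivedCategory.Q.map ((pushCx f).map ((kresAug X).app C)))).symm⟩

/-- the projection formula for a closed immersion -/
theorem nonempty_projection (hP : IsKFlat (T Y) P) [DCoh.HasRpush f] [DCoh.HasLTensorCx P]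
    [DCoh.HasLTensorCx ((pullCx f).obj P)] (E : DCoh.D X) :
    Nonempty ((DCoh.LTensorCx P).obj ((DCoh.Rpush f).obj E) ≅
      (DCoh.Rpush f).obj ((DCoh.LTensorCx ((pullCx f).obj P)).obj E)) := by
  obtain ⟨F, ⟨e⟩⟩ := Groth.KTheory.Perf.exists_rep E
  obtain ⟨p₁⟩ := nonempty_rpushIso f F
  obtain ⟨p₂⟩ := nonempty_rpushIso f (tot (T X) F ((pullCx f).obj P))
  haveI := isIso_psi f F P
  exact ⟨(DCoh.LTensorCx P).mapIso ((DCoh.Rpush f).mapIso e.symm ≪≫ p₁) ≪≫
    Groth.DerivedCoh.KFlat.ltcxIso P hP _ ≪≫ DerivedCategory.Q.mapIso (asIso (psi f F P)) ≪≫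
    p₂.symm ≪≫ (DCoh.Rpush f).mapIso
      ((Groth.DerivedCoh.KFlat.ltcxIso _ (Groth.DerivedCoh.KFlat.isKFlat_pullCx f P hP) F).symm ≪≫
        (DCoh.LTensorCx ((pullCx f).obj P)).mapIso e)⟩

end Groth.Misc4.ProjClosed
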