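import Groth.Agent.Misc4.ProjMap
import Groth.Agent.Misc4.PushRestrict
import Groth.Agent.Misc4.QCohDPerf
import Groth.Agent.CohTwo.LocFreeExt
import Groth.Agent.ProjFormula.Derived
import Mathlib.Algebra.Homology.HomotopyCategory.DegreewiseSplit

/-!
The projection map on complexes; tensor products of K-injective complexes with strictly perfect complexes.
-/

universe u

open CategoryTheory CategoryTheory.Limits AlgebraicGeometry HomologicalComplex Pretriangulated

namespace Groth.Misc4.ProjCx

open Groth.DerivedCoh.KFlat (T IsKFlat tot totL totR pushCx pullCx)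
open Groth.DerivedCoh.Duality (inc inc_d proj inc_proj_self inc_proj_self_assoc inc_proj_ne inc_proj_ne_assoc)
open Groth.Misc4.ProjMap (pR pR_left pR_right isIso_restrict_pR)

attribute [local instance] HasDerivedCategory.standard

set_option maxHeartbeats 1000000

local notation "up" => ComplexShape.up ℤ

variable {X Y : Scheme.{u}}

/-- decomposition of a total tensor product with a bounded complex -/
lemma sum_proj (M C : CochainComplex X.Modules ℤ) (a b : ℤ)
    (hC : ∀ q, q < a ∨ b < q → IsZero (C.X q)) (n : ℤ) :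
    ∑ m ∈ Finset.Icc a b, proj M C n (n - m) m (by omega) ≫ inc M C (n - m) m n (by omega) = 𝟙 _ := by
  refine Groth.DerivedCoh.Duality.tot_ext M C fun p q hpq => ?_
  by_cases hq : q ∈ Finset.Icc a b
  · obtain rfl : p = n - q := by omega
    rw [Preadditive.comp_sum, Finset.sum_eq_single q]
    · rw [inc_proj_self_assoc, Category.comp_id]
    · intro m _ hm
      rw [inc_proj_ne_assoc _ _ _ _ _ _ _ _ _ (by omega), zero_comp]
    · intro h
      exact absurd hq h
  · refine ((((T X).obj (M.X p)).map_isZero (hC q ?_))).eq_of_src _ _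
    rw [Finset.mem_Icc] at hq
    omega

variable (f : X ⟶ Y) (I : CochainComplex X.Modules ℤ)

/-- a component of the projection map -/
noncomputable def psiX (P : CochainComplex Y.Modules ℤ) (n : ℤ) :
    (tot (T Y) ((pushCx f).obj I) P).X n ⟶ ((pushCx f).obj (tot (T X) I ((pullCx f).obj P))).X n :=
  mapBifunctorDesc fun p q h => pR f (I.X p) (P.X q) ≫
    (Scheme.Modules.pushforward f).map (inc I ((pullCx f).obj P) p q n h)

@[reassoc]
lemma inc_psiX (P : CochainComplex Y.Modules ℤ) (p q n : ℤ) (h : p + q = n) :
    inc ((pushCx f).obj I) P p q n h ≫ psiX f I P n =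
      pR f (I.X p) (P.X q) ≫ (Scheme.Modules.pushforward f).map (inc I ((pullCx f).obj P) p q n h) :=
  ι_mapBifunctorDesc _ p q h

/-- the projection map of complexes -/
noncomputable def psi (P : CochainComplex Y.Modules ℤ) :
    tot (T Y) ((pushCx f).obj I) P ⟶ (pushCx f).obj (tot (T X) I ((pullCx f).obj P)) where
  f := psiX f I P
  comm' i j hij := by
    obtain rfl : i + 1 = j := hij
    refine Groth.DerivedCoh.Duality.tot_ext _ _ fun p q h => ?_
    have e₁ := inc_d ((pushCx f).obj I) P p q i h
    have e₂ := congrArg (Scheme.Modules.pushforward f).map (inc_d I ((pullCx f).obj P) p q i h)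
    simp only [Functor.map_comp, Functor.map_add, Functor.map_units_smul] at e₂
    refine (Category.assoc _ _ _).symm.trans ?_
    refine Eq.trans ?_ (Category.assoc _ _ _)
    refine (congrArg (· ≫ _) (inc_psiX f I P p q i h)).trans ?_
    refine Eq.trans ?_ (congrArg (· ≫ psiX f I P (i + 1)) e₁).symm
    refine (Category.assoc _ _ _).trans ((congrArg (pR f (I.X p) (P.X q) ≫ ·) e₂).trans ?_)
    refine (Preadditive.comp_add _ _ _ _ _ _).trans (Eq.trans ?_ (Preadditive.add_comp _ _ _ _ _ _).symm)
    refine congrArg₂ (· + ·) ?_ ((Linear.comp_units_smul _ _ _).trans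
      (Eq.trans (congrArg (p.negOnePow • ·) ?_) (Linear.units_smul_comp _ _ _).symm))
    · refine Eq.trans ?_ (Category.assoc _ _ _).symm
      refine Eq.trans ?_ (congrArg (_ ≫ ·) (inc_psiX f I P (p + 1) q (i + 1) (by omega))).symm
      refine Eq.trans ?_ (Category.assoc _ _ _)
      refine Eq.trans ?_ (congrArg (· ≫ _) (pR_left f (I.d p (p + 1)) (P.X q))).symm
      exact (Category.assoc _ _ _).symm
    · refine Eq.trans ?_ (Category.assoc _ _ _).symm
      refine Eq.trans ?_ (congrArg (_ ≫ ·) (inc_psiX f I P p (q + 1) (i + 1) (by omega))).symm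
      refine Eq.trans ?_ (Category.assoc _ _ _)
      refine Eq.trans ?_ (congrArg (· ≫ _) (pR_right f (I.X p) (P.d q (q + 1)))).symm
      exact (Category.assoc _ _ _).symm

lemma psi_natural {P P' : CochainComplex Y.Modules ℤ} (α : P ⟶ P') :
    (totR (T Y) ((pushCx f).obj I)).map α ≫ psi f I P' =
      psi f I P ≫ (pushCx f).map ((totR (T X) I).map ((pullCx f).map α)) := by
  refine HomologicalComplex.hom_ext _ _ fun n => Groth.DerivedCoh.Duality.tot_ext _ _ fun p q h => ?_
  refine (Category.assoc _ _ _).symm.trans ((congrArg (· ≫ _)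
    (Groth.DerivedCoh.Duality.inc_totR_map ((pushCx f).obj I) α p q n h)).trans ?_)
  refine (Category.assoc _ _ _).trans ((congrArg (_ ≫ ·) (inc_psiX f I P' p q n h)).trans ?_)
  refine (Category.assoc _ _ _).symm.trans ((congrArg (· ≫ _) (pR_right f (I.X p) (α.f q))).trans ?_)
  refine Eq.trans ?_ ((Category.assoc _ _ _).symm.trans ((congrArg (· ≫ _) (inc_psiX f I P p q n h)).trans
    (Category.assoc _ _ _))).symm
  refine (Category.assoc _ _ _).trans (congrArg (pR f (I.X p) (P.X q) ≫ ·) ?_)
  refine ((Scheme.Modules.pushforward f).map_comp _ _).symm.trans ((congrArg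
    (Scheme.Modules.pushforward f).map ?_).trans ((Scheme.Modules.pushforward f).map_comp _ _))
  exact (Groth.DerivedCoh.Duality.inc_totR_map I ((pullCx f).map α) p q n h).symm

/-- the projection map is invertible over an open on which a bounded complex is finite locally free -/
theorem isIso_restrict_psi (P : CochainComplex Y.Modules ℤ) (V : Y.Opens) (a b : ℤ)
    (hP : ∀ q, q < a ∨ b < q → IsZero (P.X q))
    (hfl : ∀ q, FlatMod.IsFinLocFree ((P.X q).restrict V.ι)) :
    IsIso (((Scheme.Modules.restrictFunctor V.ι).mapHomologicalComplex up).map (psi f I P)) := by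
  let R := Scheme.Modules.restrictFunctor V.ι
  let F := Scheme.Modules.pushforward f
  suffices h : ∀ n, IsIso (((R.mapHomologicalComplex up).map (psi f I P)).f n) by
    haveI := h
    exact HomologicalComplex.Hom.isIso_of_components _
  intro n
  let Q := (pullCx f).obj P
  let J := (pushCx f).obj I
  have hQ : ∀ q, q < a ∨ b < q → IsZero (Q.X q) := fun q hq =>
    (Scheme.Modules.pullback f).map_isZero (hP q hq)
  let Φ := fun q => pR f (I.X (n - q)) (P.X q)
  let e := fun q => @asIso _ _ _ _ (R.map (Φ q)) (isIso_restrict_pR f (hfl q) (I.X (n - q)))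
  have key : ∀ q, psiX f I P n ≫ F.map (proj I Q n (n - q) q (by omega)) =
      proj J P n (n - q) q (by omega) ≫ Φ q := fun q => by
    refine Groth.DerivedCoh.Duality.tot_ext _ _ fun p r h => ?_
    refine (Category.assoc _ _ _).symm.trans ((congrArg (· ≫ _) (inc_psiX f I P p r n h)).trans ?_)
    refine (Category.assoc _ _ _).trans ((congrArg (_ ≫ ·) (F.map_comp _ _).symm).trans ?_)
    by_cases e : p = n - q
    · subst e
      obtain rfl : r = q := by omega
      refine (congrArg (fun z => pR f (I.X (n - r)) (P.X r) ≫ F.map z) (inc_proj_self I Q n (n - r) r (by omega))).trans ?_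
      refine Eq.trans ?_ ((congrArg (· ≫ Φ r) (inc_proj_self J P n (n - r) r (by omega))).symm.trans
        (Category.assoc _ _ _))
      exact (congrArg (_ ≫ ·) (F.map_id _)).trans ((Category.comp_id _).trans (Category.id_comp _).symm)
    · refine (congrArg (fun z => pR f (I.X p) (P.X r) ≫ F.map z) (inc_proj_ne I Q n p r (n - q) q h (by omega) e)).trans ?_
      refine Eq.trans ?_ ((congrArg (· ≫ Φ q) (inc_proj_ne J P n p r (n - q) q h (by omega) e)).symm.trans
        (Category.assoc _ _ _))
      exact (congrArg (_ ≫ ·) (F.map_zero _ _)).trans (comp_zero.trans zero_comp.symm)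
  refine ⟨∑ q ∈ Finset.Icc a b, R.map (F.map (proj I Q n (n - q) q (by omega))) ≫ (e q).inv ≫
    R.map (inc J P (n - q) q n (by omega)), ?_, ?_⟩
  · change R.map (psiX f I P n) ≫ _ = _
    refine (Preadditive.comp_sum _ _ _ ).trans ?_
    refine Eq.trans (Finset.sum_congr rfl fun q _ => ?_) (b := ∑ q ∈ Finset.Icc a b,
      R.map (proj J P n (n - q) q (by omega) ≫ inc J P (n - q) q n (by omega))) ?_
    · refine (Category.assoc _ _ _).symm.trans ?_
      refine (congrArg (· ≫ _) ((R.map_comp _ _).symm.trans ((congrArg R.map (key q)).trans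
        (R.map_comp _ _)))).trans ?_
      refine (Category.assoc _ _ _).trans ((congrArg (_ ≫ ·) ((e q).hom_inv_id_assoc _)).trans ?_)
      exact (R.map_comp _ _).symm
    · exact (R.map_sum _ _).symm.trans ((congrArg R.map (sum_proj J P a b hP n)).trans (R.map_id _))
  · change _ ≫ R.map (psiX f I P n) = _
    refine (Preadditive.sum_comp _ _ _ ).trans ?_
    refine Eq.trans (Finset.sum_congr rfl fun q _ => ?_) (b := ∑ q ∈ Finset.Icc a b,
      R.map (F.map (proj I Q n (n - q) q (by omega) ≫ inc I Q (n - q) q n (by omega)))) ?_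
    · refine (Category.assoc _ _ _).trans ((congrArg (_ ≫ ·) ((Category.assoc _ _ _).trans
        (congrArg ((e q).inv ≫ ·) ((R.map_comp _ _).symm.trans
          ((congrArg R.map (inc_psiX f I P (n - q) q n (by omega))).trans (R.map_comp _ _)))))).trans ?_)
      refine (congrArg (_ ≫ ·) ((e q).inv_hom_id_assoc _)).trans ?_
      exact (R.map_comp _ _).symm.trans (congrArg R.map (F.map_comp _ _).symm)
    · refine (R.map_sum _ _).symm.trans ((congrArg R.map ((F.map_sum _ _).symm.trans
        ((congrArg F.map (sum_proj I Q a b hQ n)).trans (F.map_id _)))).trans (R.map_id _))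

/-- K-injective complexes are closed under degreewise split extensions -/
theorem isKInjective_of_split (S : ShortComplex (CochainComplex X.Modules ℤ))
    (σ : ∀ n, (S.map (eval X.Modules up n)).Splitting)
    (h₁ : S.X₁.IsKInjective) (h₃ : S.X₃.IsKInjective) : S.X₂.IsKInjective := by
  rw [CochainComplex.isKInjective_iff_rightOrthogonal] at h₁ h₃ ⊢
  intro K φ hK
  have hT : CochainComplex.trianglehOfDegreewiseSplit S σ ∈
      distTriang (HomotopyCategory X.Modules up) :=
    (HomotopyCategory.distinguished_iff_iso_trianglehOfDegreewiseSplit _).2 ⟨S, σ, ⟨Iso.refl _⟩⟩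
  obtain ⟨g, hg⟩ := Triangle.coyoneda_exact₂ _ hT φ (h₃ _ hK)
  rw [hg, h₁ g hK]
  exact zero_comp

/-- `I ⊗ M` for a finite locally free module -/
theorem isKInjective_tot_single (hI : I.IsKInjective) {M : X.Modules} (hM : FlatMod.IsFinLocFree M) :
    (tot (T X) I ((single X.Modules up 0).obj M)).IsKInjective := by
  haveI := Groth.ProjFormula.isIso_bidualMap hM
  have hD : FlatMod.IsFinLocFree (Groth.CohTwo.LocFreeDual.dual M) :=
    LocFree.isFinLocFree_homSh hM (LocFree.isFinLocFree_unit X)
  haveI := Groth.CohTwo.LocFreeExt.hasSheafHom (Groth.CohTwo.LocFreeDual.dual M)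
  haveI := (Groth.ProjFormula.preservesFinite_tF hD).1
  let e : Groth.CohTwo.SheafHomIso.tF (Groth.CohTwo.LocFreeDual.dual (Groth.CohTwo.LocFreeDual.dual M)) ≅
      (T X).flip.obj M :=
    ((DCoh.tensorBi (X := X)).mapIso (asIso (RefHull.bidualMap M))).symm ≪≫
      (Groth.CohTwo.LocFreeExt.flipIso M).symm
  haveI := Groth.SiteCohomology.isKInjective_map_of_adjunction
    ((Groth.CohTwo.LocFreeDual.dualAdj hD).ofNatIsoRight e) I hI
  exact CochainComplex.isKInjective_of_iso
    ((mapBifunctorFlipIso I ((single X.Modules up 0).obj M) (T X) up).symm ≪≫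
      Groth.DerivedCoh.KFlat.totSingleIso (T X).flip M I).symm

/-- `I ⊗ C` for a strictly perfect complex -/
theorem isKInjective_tot (hI : I.IsKInjective) :
    ∀ (k : ℕ) (a : ℤ) (C : CochainComplex X.Modules ℤ), (∀ q, FlatMod.IsFinLocFree (C.X q)) →
      (∀ i, i < a ∨ a + k ≤ i → IsZero (C.X i)) → (tot (T X) I C).IsKInjective := by
  have conc : ∀ (C : CochainComplex X.Modules ℤ) (n : ℤ), (∀ q, FlatMod.IsFinLocFree (C.X q)) →
      (∀ i, i ≠ n → IsZero (C.X i)) → (tot (T X) I C).IsKInjective := fun C n hfl h => by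
    haveI : C.IsStrictlyGE n := (CochainComplex.isStrictlyGE_iff _ _).2 fun i hi => h i (by omega)
    haveI : C.IsStrictlyLE n := (CochainComplex.isStrictlyLE_iff _ _).2 fun i hi => h i (by omega)
    obtain ⟨M, ⟨e⟩⟩ := CochainComplex.exists_iso_single C n
    have hM : FlatMod.IsFinLocFree M := Groth.KTheory.LocFree.isFinLocFree_of_iso
      ((HomologicalComplex.eval _ _ n).mapIso e ≪≫ singleObjXSelf up n M) (hfl n)
    let e' : C ≅ ((single X.Modules up 0).obj M)⟦(-n)⟧ :=
      e ≪≫ ((CochainComplex.singleFunctors X.Modules).shiftIso (-n) n 0 (by omega)).symm.app M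
    haveI := isKInjective_tot_single I hI hM
    exact CochainComplex.isKInjective_of_iso
      ((CochainComplex.mapBifunctorShift₂Iso I ((single X.Modules up 0).obj M) (T X) (-n)).symm ≪≫
        (totR (T X) I).mapIso e'.symm)
  intro k
  induction k with
  | zero => exact fun a C hfl h => conc C a hfl fun i _ => h i (by omega)
  | succ k ih =>
    intro a C hfl h
    let E := HomologicalComplex.stupidTrunc C (ComplexShape.embeddingUpIntGE (a + 1))
    let ι : E ⟶ C := Groth.DerivedCoh.PCoh.stupidι C (a + 1)
    have h0 : ∀ i, i < a + 1 → IsZero (E.X i) := fun i hi =>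
      HomologicalComplex.isZero_stupidTrunc_X C _ i fun m => by simp; lia
    have hi : ∀ i, a + 1 ≤ i → IsIso (ι.f i) := Groth.DerivedCoh.PCoh.isIso_stupidι_f C (a + 1)
    haveI : ∀ i, Mono (ι.f i) := fun i => by
      by_cases hai : a + 1 ≤ i
      · have := hi i hai; infer_instance
      · exact ⟨fun u v _ => (h0 i (by omega)).eq_of_tgt u v⟩
    haveI : Mono ι := HomologicalComplex.mono_of_mono_f _ fun i => inferInstance
    let S : ShortComplex (CochainComplex X.Modules ℤ) :=
      ShortComplex.mk ι (cokernel.π ι) (cokernel.condition ι)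
    have hS : S.ShortExact :=
      ShortComplex.ShortExact.mk' (ShortComplex.exact_of_g_is_cokernel _ (cokernelIsCokernel ι))
        inferInstance inferInstance
    have hne : ∀ i, i ≠ a → IsZero ((cokernel ι).X i) := fun i hia => by
      have hSi := hS.map_of_exact (eval X.Modules up i)
      haveI : Epi ((cokernel.π ι).f i) := hSi.epi_g
      by_cases hai : a + 1 ≤ i
      · haveI := hi i hai
        refine (IsZero.iff_id_eq_zero _).2 ?_
        rw [← cancel_epi ((cokernel.π ι).f i), ← cancel_epi (ι.f i), Category.comp_id, comp_zero, comp_zero,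
          ← comp_f, cokernel.condition, zero_f]
      · exact IsZero.of_epi ((cokernel.π ι).f i) (h i (by omega))
    have hCa : IsIso ((cokernel.π ι).f a) :=
      (hS.map_of_exact (eval X.Modules up a)).isIso_g_iff.2 (h0 a (by omega))
    have hsp : ∀ q, Nonempty (S.map (eval X.Modules up q)).Splitting := fun q => by
      have hSq := hS.map_of_exact (eval X.Modules up q)
      by_cases hai : a + 1 ≤ q
      · haveI : IsIso (S.map (eval X.Modules up q)).f := hi q hai
        exact ⟨ShortComplex.Splitting.ofExactOfRetraction _ hSq.exact (inv (S.map (eval X.Modules up q)).f)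
          (IsIso.hom_inv_id _) hSq.epi_g⟩
      · haveI : IsIso (S.map (eval X.Modules up q)).g := hSq.isIso_g_iff.2 (h0 q (by omega))
        exact ⟨ShortComplex.Splitting.ofExactOfSection _ hSq.exact (inv (S.map (eval X.Modules up q)).g)
          (IsIso.inv_hom_id _) hSq.mono_f⟩
    have hS' : ∀ n, Nonempty ((S.map (totR (T X) I)).map (eval X.Modules up n)).Splitting := fun n => by
      have hT := (Groth.DerivedCoh.KFlat.shortExact_totR (T X) I S
        fun p q => ((hsp q).some.map ((T X).obj (I.X p))).shortExact).map_of_exact (eval X.Modules up n)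
      let s : (tot (T X) I (cokernel ι)).X n ⟶ (tot (T X) I C).X n := mapBifunctorDesc fun p q h =>
        ((T X).obj (I.X p)).map (hsp q).some.s ≫ inc I C p q n h
      refine ⟨ShortComplex.Splitting.ofExactOfSection _ hT.exact s ?_ hT.mono_f⟩
      refine Groth.DerivedCoh.Duality.tot_ext _ _ fun p q h => ?_
      change inc I (cokernel ι) p q n h ≫ s ≫ ((totR (T X) I).map (cokernel.π ι)).f n =
        inc I (cokernel ι) p q n h ≫ 𝟙 _
      refine Eq.trans ?_ (Category.comp_id _).symm
      refine (Category.assoc _ _ _).symm.trans ((congrArg (· ≫ _) (ι_mapBifunctorDesc _ p q h)).trans ?_)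
      refine (Category.assoc _ _ _).trans ((congrArg (_ ≫ ·)
        (Groth.DerivedCoh.Duality.inc_totR_map I (cokernel.π ι) p q n h)).trans ?_)
      refine (Category.assoc _ _ _).symm.trans ?_
      refine Eq.trans (congrArg (· ≫ inc I (cokernel ι) p q n h) ?_) (Category.id_comp _)
      exact (((T X).obj (I.X p)).map_comp _ _).symm.trans
        ((congrArg _ (hsp q).some.s_g).trans (((T X).obj (I.X p)).map_id _))
    refine isKInjective_of_split (S.map (totR (T X) I)) (fun n => (hS' n).some) ?_ ?_
    · refine ih (a + 1) E (fun q => ?_) fun i hi' => ?_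
      · by_cases hai : a + 1 ≤ q
        · have := hi q hai
          exact Groth.KTheory.LocFree.isFinLocFree_of_iso (asIso (ι.f q)).symm (hfl q)
        · exact Groth.KTheory.LocFree.isFinLocFree_zero (h0 q (by omega))
      · by_cases hai : a + 1 ≤ i
        · have := hi i hai
          exact (h i (by omega)).of_iso (asIso (ι.f i))
        · exact h0 i (by omega)
    · refine conc (cokernel ι) a (fun q => ?_) hne
      by_cases hqa : q = a
      · subst hqa
        exact Groth.KTheory.LocFree.isFinLocFree_of_iso (asIso ((cokernel.π ι).f q)) (hfl q)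
      · exact Groth.KTheory.LocFree.isFinLocFree_zero (hne q hqa)

end Groth.Misc4.ProjCx
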