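import Groth.Agent.ProjFormula.Natural
import Groth.Agent.DerivedCoh.KFlat.TensorPullback
import Groth.Agent.DerivedCoh.KFlat.TensorAssoc

/-!
The projection map `f_* M ⊗ N ⟶ f_*(M ⊗ f^* N)`, natural in both variables, invertible over an open subset
on which `N` is finite locally free.
-/

universe u

open CategoryTheory AlgebraicGeometry Opposite TopologicalSpace
open Groth.PicAux
open Groth.ProjFormula (pfApp pfApp_tmul pfPair downSec)

namespace Groth.Misc4.ProjMap

open Groth.DerivedCoh.KFlat (T tensorMap_tmulSec tensorMap_left_tmulSec)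

variable {X Y : Scheme.{u}} (f : X ⟶ Y)

/-- `f_* M ⊗ N ⟶ f_*(M ⊗ f^* N)` -/
noncomputable def pR (M : X.Modules) (N : Y.Modules) :
    ((T Y).obj ((Scheme.Modules.pushforward f).obj M)).obj N ⟶
      (Scheme.Modules.pushforward f).obj (((T X).obj M).obj ((Scheme.Modules.pullback f).obj N)) :=
  (exists_braiding ((Scheme.Modules.pushforward f).obj M) N).choose.hom ≫ pfApp f N M ≫
    (Scheme.Modules.pushforward f).map (exists_braiding ((Scheme.Modules.pullback f).obj N) M).choose.hom

lemma pR_tmul (M : X.Modules) (N : Y.Modules) (W : Y.Opens)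
    (g : Γ((Scheme.Modules.pushforward f).obj M, W)) (a : Γ(N, W)) :
    (pR f M N).app W (tmulSec g a) =
      (tmulSec (downSec f M g) (pullSec f N a) :
        Γ(CohB1.tensorMod M ((Scheme.Modules.pullback f).obj N), f ⁻¹ᵁ W)) := by
  refine (congrArg (fun z => ((Scheme.Modules.pushforward f).map _).app W ((pfApp f N M).app W z))
    ((exists_braiding ((Scheme.Modules.pushforward f).obj M) N).choose_spec W g a)).trans ?_
  refine (congrArg (fun z => ((Scheme.Modules.pushforward f).map _).app W z)
    (pfApp_tmul f N M W a g)).trans ?_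
  exact (exists_braiding ((Scheme.Modules.pullback f).obj N) M).choose_spec (f ⁻¹ᵁ W) _ _

lemma pR_left {M M' : X.Modules} (φ : M ⟶ M') (N : Y.Modules) :
    ((T Y).map ((Scheme.Modules.pushforward f).map φ)).app N ≫ pR f M' N =
      pR f M N ≫ (Scheme.Modules.pushforward f).map
        (((T X).map φ).app ((Scheme.Modules.pullback f).obj N)) := by
  refine tensor_hom_ext fun W g a => ?_
  refine (congrArg ((pR f M' N).app W)
    (tensorMap_left_tmulSec ((Scheme.Modules.pushforward f).map φ) N W g a)).trans ?_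
  refine (pR_tmul f M' N W _ a).trans ?_
  refine Eq.trans ?_ (congrArg (((Scheme.Modules.pushforward f).map
    (((T X).map φ).app ((Scheme.Modules.pullback f).obj N))).app W) (pR_tmul f M N W g a)).symm
  exact (tensorMap_left_tmulSec φ ((Scheme.Modules.pullback f).obj N) (f ⁻¹ᵁ W) (downSec f M g)
    (pullSec f N a)).symm

lemma pR_right (M : X.Modules) {N N' : Y.Modules} (φ : N ⟶ N') :
    ((T Y).obj ((Scheme.Modules.pushforward f).obj M)).map φ ≫ pR f M N' =
      pR f M N ≫ (Scheme.Modules.pushforward f).map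
        (((T X).obj M).map ((Scheme.Modules.pullback f).map φ)) := by
  refine tensor_hom_ext fun W g a => ?_
  refine (congrArg ((pR f M N').app W)
    (tensorMap_tmulSec ((Scheme.Modules.pushforward f).obj M) φ W g a)).trans ?_
  refine (pR_tmul f M N' W g _).trans ?_
  refine Eq.trans ?_ (congrArg (((Scheme.Modules.pushforward f).map
    (((T X).obj M).map ((Scheme.Modules.pullback f).map φ))).app W) (pR_tmul f M N W g a)).symm
  refine Eq.trans ?_ (tensorMap_tmulSec M ((Scheme.Modules.pullback f).map φ) (f ⁻¹ᵁ W) (downSec f M g)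
    (pullSec f N a)).symm
  exact congrArg (fun z => (tmulSec (downSec f M g) z :
    Γ(CohB1.tensorMod M ((Scheme.Modules.pullback f).obj N'), f ⁻¹ᵁ W))) (pullSec_map f φ a).symm

/-- local bases of a module that is finite locally free over an open subset -/
lemma exists_basis_of_restrict {N : Y.Modules} {V : Y.Opens}
    (h : FlatMod.IsFinLocFree (N.restrict V.ι)) (y : Y) (hy : y ∈ V) :
    ∃ (U : Y.Opens) (n : ℕ) (s : Fin n → Γ(N, U)), y ∈ U ∧ Basis' N U s := by
  obtain ⟨U', n, s, hyU, hs⟩ := exists_basis_of_isFinLocFree h (⟨y, hy⟩ : (V : Scheme.{u}))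
  refine ⟨V.ι ''ᵁ U', n, s, ⟨⟨y, hy⟩, hyU, rfl⟩, fun W hW => ?_⟩
  obtain ⟨W', rfl⟩ : ∃ W' : (V : Scheme.{u}).Opens, V.ι ''ᵁ W' = W :=
    ⟨V.ι ⁻¹ᵁ W, by
      rw [Scheme.Hom.image_preimage_eq_opensRange_inf]
      simpa using hW.trans (Scheme.Opens.ι_image_le V U')⟩
  have hW' : W' ≤ U' := (Scheme.Hom.image_le_image_iff V.ι W' U').1 hW
  refine (Iff.of_eq (congrArg Function.Bijective (funext fun r => ?_))).1 (hs W' hW')
  refine Finset.sum_congr rfl fun i _ => ?_
  exact restrict_smul V W' _ _

/-- the projection map is bijective over opens in which `N` is finite locally free -/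
theorem bijective_pfApp {N : Y.Modules} {V : Y.Opens} (hN : FlatMod.IsFinLocFree (N.restrict V.ι))
    (M : X.Modules) (W : Y.Opens) (hW : W ≤ V) : Function.Bijective ((pfApp f N M).app W) := by
  choose U n e hxU he using fun y : (V : Scheme.{u}) => exists_basis_of_restrict hN y.1 y.2
  have hloc : ∀ y (W' : Y.Opens), W' ≤ U y → Function.Bijective ((pfApp f N M).app W') :=
    fun y W' hV => by
      have h1 := Groth.ProjFormula.tsum_bijective (M := M) ((he y).pull f) (f.preimage_mono hV)
      have h2 := Groth.ProjFormula.tsum_bijective (M := (Scheme.Modules.pushforward f).obj M) (he y) hV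
      refine (Function.Bijective.of_comp_iff _ h2).1 ?_
      have : ((pfApp f N M).app W' : Γ(CohB1.tensorMod N ((Scheme.Modules.pushforward f).obj M), W') → _) ∘
          Groth.ProjFormula.tsum (e y) hV =
          Groth.ProjFormula.tsum (M := M) (fun j => pullSec f N (e y j)) (f.preimage_mono hV) := by
        funext g
        show (pfApp f N M).app W' (∑ j, _) = ∑ j, _
        refine (map_sum ((pfApp f N M).app W').hom _ _).trans (Finset.sum_congr rfl fun j _ => ?_)
        refine (pfApp_tmul f N M W' _ _).trans ?_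
        rw [res_pullSec]
        rfl
      rw [this]
      exact h1
  have hcov : W ≤ iSup fun y : (W : Type u) => U ⟨y.1, hW y.2⟩ ⊓ W := fun y hy =>
    Opens.mem_iSup.2 ⟨⟨y, hy⟩, hxU ⟨y, hW hy⟩, hy⟩
  refine ⟨fun a b hab => ?_, fun t => ?_⟩
  · refine res_ext (fun y : (W : Type u) => U ⟨y.1, hW y.2⟩ ⊓ W) (fun _ => inf_le_right) hcov fun y => ?_
    refine (hloc ⟨y.1, hW y.2⟩ _ inf_le_left).1 ?_
    rw [app_res, app_res, hab]
  · choose g hg using fun y : (W : Type u) =>
      (hloc ⟨y.1, hW y.2⟩ (U ⟨y.1, hW y.2⟩ ⊓ W) inf_le_left).2 (res _ inf_le_right t)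
    have hcompat : ∀ y y' : (W : Type u),
        res _ (inf_le_left : (U ⟨y.1, hW y.2⟩ ⊓ W) ⊓ (U ⟨y'.1, hW y'.2⟩ ⊓ W) ≤ U ⟨y.1, hW y.2⟩ ⊓ W) (g y) =
          res _ inf_le_right (g y') := fun y y' => by
      refine (hloc ⟨y.1, hW y.2⟩ _ (inf_le_left.trans inf_le_left)).1 ?_
      rw [app_res, app_res, hg, hg, res_res, res_res]
    obtain ⟨a, ha, -⟩ := res_glue _ (fun _ => inf_le_right) hcov g hcompat
    refine ⟨a, res_ext (fun y : (W : Type u) => U ⟨y.1, hW y.2⟩ ⊓ W) (fun _ => inf_le_right) hcov fun y => ?_⟩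
    rw [← app_res, ha, hg]

/-- the projection map is invertible over an open in which `N` is finite locally free -/
theorem isIso_restrict_pR {N : Y.Modules} {V : Y.Opens} (hN : FlatMod.IsFinLocFree (N.restrict V.ι))
    (M : X.Modules) : IsIso ((Scheme.Modules.restrictFunctor V.ι).map (pR f M N)) := by
  have h : IsIso ((Scheme.Modules.restrictFunctor V.ι).map (pfApp f N M)) := by
    rw [Scheme.Modules.Hom.isIso_iff_isIso_app]
    intro W
    rw [ConcreteCategory.isIso_iff_bijective]
    exact bijective_pfApp f hN M (V.ι ''ᵁ W) (Scheme.Opens.ι_image_le V W)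
  let G := Scheme.Modules.restrictFunctor V.ι
  let a := (exists_braiding ((Scheme.Modules.pushforward f).obj M) N).choose
  let b := (exists_braiding ((Scheme.Modules.pullback f).obj N) M).choose
  have e : G.map (pR f M N) = G.map a.hom ≫ G.map (pfApp f N M) ≫
      G.map ((Scheme.Modules.pushforward f).map b.hom) :=
    (G.map_comp _ _).trans (congrArg (G.map a.hom ≫ ·) (G.map_comp _ _))
  haveI : IsIso (G.map (pfApp f N M)) := h
  have h₁ : IsIso (G.map a.hom) := Functor.map_isIso G a.hom
  have h₂ : IsIso (G.map ((Scheme.Modules.pushforward f).map b.hom)) :=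
    Functor.map_isIso G ((Scheme.Modules.pushforward f).map b.hom)
  have h₃ := @IsIso.comp_isIso _ _ _ _ _ _ _ ‹IsIso (G.map (pfApp f N M))› h₂
  exact e ▸ @IsIso.comp_isIso _ _ _ _ _ _ _ h₁ h₃

end Groth.Misc4.ProjMap
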