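import Groth.Agent.Misc4.QCohDPerf
import Groth.Agent.DerivedAdj.Devissage
import Groth.Agent.AbSub.TruncFactor
import Groth.Agent.DerivedCoh.PCoh.Pullback
import Groth.Agent.QCohMod.FTCriterion
import Mathlib.Algebra.Homology.DerivedCategory.SingleTriangle

/-!
Quasi-coherence of cohomology under right t-exact functors computed on resolutions by "free" modules.
-/

universe u

open CategoryTheory CategoryTheory.Limits AlgebraicGeometry HomologicalComplex Pretriangulated

namespace Groth.Misc4.QCohDLeft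

open Groth.DerivedCoh.PCoh (Below)
open Groth.Misc4.QCohDPerf

attribute [local instance] HasDerivedCategory.standard

set_option maxHeartbeats 1000000

local notation "up" => ComplexShape.up ℤ

variable {X Y : Scheme.{u}}

/-- a functor of derived categories carries distinguished triangles to distinguished triangles, up to
isomorphisms of the three objects -/
def TriTr (G : DCoh.D Y ⥤ DCoh.D X) : Prop :=
  ∀ S : Triangle (DCoh.D Y), S ∈ distTriang _ →
    ∃ S' : Triangle (DCoh.D X), S' ∈ distTriang _ ∧ Nonempty (S'.obj₁ ≅ G.obj S.obj₁) ∧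
      Nonempty (S'.obj₂ ≅ G.obj S.obj₂) ∧ Nonempty (S'.obj₃ ≅ G.obj S.obj₃)

/-- every quasi-coherent module is a quotient of a quasi-coherent module with quasi-coherent image -/
def Covers (G : DCoh.D Y ⥤ DCoh.D X) : Prop :=
  ∀ M : Y.Modules, M.IsQuasicoherent → ∃ (P : Y.Modules) (p : P ⟶ M), Epi p ∧ P.IsQuasicoherent ∧
    ∀ n, DCoh.IsQCohD (G.obj ((DerivedCategory.singleFunctor Y.Modules n).obj P))

lemma hd_iso {K L : DCoh.D X} (e : K ≅ L) (j : ℤ) (h : (DCoh.HD K j).IsQuasicoherent) :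
    (DCoh.HD L j).IsQuasicoherent :=
  (Groth.QCohMod.isQCoh_iff_of_iso ((DerivedCategory.homologyFunctor X.Modules j).mapIso e)).1 h

/-- quasi-coherence of a cokernel through a quasi-coherent test map -/
lemma isQCoh_cokernel_of_comp {A B C : X.Modules} (u : A ⟶ B) (v : B ⟶ C)
    [(cokernel u).IsQuasicoherent] [(cokernel (u ≫ v)).IsQuasicoherent] :
    (cokernel v).IsQuasicoherent := by
  let w := cokernel.map u (u ≫ v) (𝟙 A) v (by simp)
  let e : cokernel v ≅ cokernel w :=
    { hom := cokernel.desc v (cokernel.π (u ≫ v) ≫ cokernel.π w) (by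
        rw [← Category.assoc, show v ≫ cokernel.π (u ≫ v) = cokernel.π u ≫ w by simp [w],
          Category.assoc, cokernel.condition, comp_zero])
      inv := cokernel.desc w (cokernel.desc (u ≫ v) (cokernel.π v) (by simp)) (by
        rw [← cancel_epi (cokernel.π u)]
        simp [w])
      hom_inv_id := by rw [← cancel_epi (cokernel.π v)]; simp
      inv_hom_id := by rw [← cancel_epi (cokernel.π w), ← cancel_epi (cokernel.π (u ≫ v))]; simp }
  haveI : (cokernel w).IsQuasicoherent := Groth.QCohMod.isQCoh_cokernel w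
  exact (Groth.QCohMod.isQCoh_iff_of_iso e).2 inferInstance

/-- the middle of an exact sequence, when the cokernel on the left is quasi-coherent -/
theorem isQCoh_middle' {Z A B C D : X.Modules} {a : Z ⟶ A} {f : A ⟶ B} {g : B ⟶ C} {h : C ⟶ D}
    [(cokernel a).IsQuasicoherent] [C.IsQuasicoherent] [D.IsQuasicoherent]
    {w₁ : a ≫ f = 0} {w₂ : f ≫ g = 0} {w₃ : g ≫ h = 0}
    (e₁ : (ShortComplex.mk a f w₁).Exact) (e₂ : (ShortComplex.mk f g w₂).Exact)
    (e₃ : (ShortComplex.mk g h w₃).Exact) : B.IsQuasicoherent := by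
  let i : cokernel a ⟶ B := cokernel.desc a f w₁
  haveI : Mono i := e₁.mono_cokernelDesc
  haveI : (kernel i).IsQuasicoherent := isQCoh_isZero (isZero_kernel_of_mono i)
  have wi : i ≫ g = 0 := by rw [← cancel_epi (cokernel.π a)]; simp [i, w₂]
  have e₂' : (ShortComplex.mk i g wi).Exact := by
    let φ : ShortComplex.mk f g w₂ ⟶ ShortComplex.mk i g wi :=
      { τ₁ := cokernel.π a, τ₂ := 𝟙 _, τ₃ := 𝟙 _, comm₁₂ := by simp [i], comm₂₃ := by simp }
    haveI : Epi φ.τ₁ := inferInstanceAs (Epi (cokernel.π a))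
    haveI : IsIso φ.τ₂ := inferInstanceAs (IsIso (𝟙 B))
    haveI : Mono φ.τ₃ := inferInstanceAs (Mono (𝟙 C))
    exact (ShortComplex.exact_iff_of_epi_of_isIso_of_mono φ).1 e₂
  exact isQCoh_middle (ShortComplex.exact_of_f_is_kernel (ShortComplex.mk (kernel.ι i) i (kernel.condition i))
    (kernelIsKernel i)) e₂' e₃

lemma below_single (M : Y.Modules) (n : ℤ) :
    Below (n + 1) ((DerivedCategory.singleFunctor Y.Modules n).obj M) := fun i hi =>
  DerivedCategory.isZero_of_isLE _ n i (by omega)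

variable (G : DCoh.D Y ⥤ DCoh.D X) {c : ℤ}

/-- quasi-coherent modules in a single degree, by descending induction -/
theorem isQCoh_single (hG : TriTr G) (hb : ∀ m C, Below m C → Below (m + c) (G.obj C))
    (hcov : Covers G) :
    ∀ (k : ℕ) (M : Y.Modules), M.IsQuasicoherent → ∀ n j : ℤ, n + 1 + c ≤ j + k →
      (DCoh.HD (G.obj ((DerivedCategory.singleFunctor Y.Modules n).obj M)) j).IsQuasicoherent := by
  intro k
  induction k with
  | zero =>
    intro M _ n j hj
    exact isQCoh_isZero (hb _ _ (below_single M n) j (by simpa using hj))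
  | succ k ih =>
    intro M hM n j hj
    obtain ⟨P, p, hp, hP, hGP⟩ := hcov M hM
    haveI : (kernel p).IsQuasicoherent := Groth.QCohMod.isQCoh_kernel p
    obtain ⟨P', p', hp', hP', hGP'⟩ := hcov (kernel p) inferInstance
    haveI : (kernel p').IsQuasicoherent := Groth.QCohMod.isQCoh_kernel p'
    have tri : ∀ {M P : Y.Modules} (p : P ⟶ M) (_ : Epi p),
        ∃ S : Triangle (DCoh.D Y), S ∈ distTriang _ ∧
          Nonempty (S.obj₁ ≅ (DerivedCategory.singleFunctor Y.Modules n).obj (kernel p)) ∧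
          Nonempty (S.obj₂ ≅ (DerivedCategory.singleFunctor Y.Modules n).obj P) ∧
          Nonempty (S.obj₃ ≅ (DerivedCategory.singleFunctor Y.Modules n).obj M) := fun {M P} p _ => by
      have hS : (ShortComplex.mk (kernel.ι p) p (kernel.condition p)).ShortExact :=
        { exact := ShortComplex.exact_of_f_is_kernel _ (kernelIsKernel p) }
      exact ⟨_, DerivedCategory.triangleOfSES_distinguished
        (hS.map_of_exact (HomologicalComplex.single Y.Modules up n)),
        ⟨Iso.refl _⟩, ⟨Iso.refl _⟩, ⟨Iso.refl _⟩⟩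
    obtain ⟨S, hS, ⟨s₁⟩, ⟨s₂⟩, ⟨s₃⟩⟩ := tri p hp
    obtain ⟨S', hS', ⟨i₁⟩, ⟨i₂⟩, ⟨i₃⟩⟩ := hG S hS
    obtain ⟨R, hR, ⟨r₁⟩, ⟨r₂⟩, ⟨r₃⟩⟩ := tri p' hp'
    obtain ⟨R', hR', ⟨k₁⟩, ⟨k₂⟩, ⟨k₃⟩⟩ := hG R hR
    let H := DerivedCategory.homologyFunctor X.Modules
    let e : R'.obj₃ ≅ S'.obj₁ :=
      k₃ ≪≫ G.mapIso r₃ ≪≫ (G.mapIso s₁).symm ≪≫ i₁.symm
    haveI : ((H j).obj R'.obj₂).IsQuasicoherent :=
      hd_iso (k₂ ≪≫ G.mapIso r₂).symm j (hGP' n j)
    haveI : ((H (j + 1)).obj R'.obj₂).IsQuasicoherent :=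
      hd_iso (k₂ ≪≫ G.mapIso r₂).symm (j + 1) (hGP' n (j + 1))
    haveI : ((H (j + 1)).obj R'.obj₁).IsQuasicoherent :=
      hd_iso (k₁ ≪≫ G.mapIso r₁).symm (j + 1) (ih _ inferInstance n (j + 1) (by omega))
    haveI : ((H j).obj S'.obj₂).IsQuasicoherent :=
      hd_iso (i₂ ≪≫ G.mapIso s₂).symm j (hGP n j)
    haveI : ((H (j + 1)).obj S'.obj₂).IsQuasicoherent :=
      hd_iso (i₂ ≪≫ G.mapIso s₂).symm (j + 1) (hGP n (j + 1))
    haveI : ((H (j + 1)).obj S'.obj₁).IsQuasicoherent :=
      hd_iso (i₁ ≪≫ G.mapIso s₁).symm (j + 1) (ih _ inferInstance n (j + 1) (by omega))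
    let u := (H j).map R'.mor₂
    let v := (H j).map e.hom ≫ (H j).map S'.mor₁
    haveI : (cokernel u).IsQuasicoherent := by
      have e₃ := DerivedCategory.HomologySequence.exact₃ R' hR' j (j + 1) rfl
      have e₁ := DerivedCategory.HomologySequence.exact₁ R' hR' j (j + 1) rfl
      let d := cokernel.desc u _ (ShortComplex.zero (ShortComplex.mk ((H j).map R'.mor₂)
        (DerivedCategory.HomologySequence.δ R' j (j + 1) rfl)
        (DerivedCategory.HomologySequence.comp_δ R' hR' j (j + 1) rfl)))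
      have wd : d ≫ (H (j + 1)).map R'.mor₁ = 0 := by
        rw [← cancel_epi (cokernel.π u), cokernel.π_desc_assoc, comp_zero]
        exact DerivedCategory.HomologySequence.δ_comp R' hR' j (j + 1) rfl
      haveI : Mono d := e₃.mono_cokernelDesc
      refine Groth.QCohMod.isQCoh_of_mono_exact (S := ShortComplex.mk d _ wd) ?_
      let φ : ShortComplex.mk (DerivedCategory.HomologySequence.δ R' j (j + 1) rfl)
          ((H (j + 1)).map R'.mor₁) (DerivedCategory.HomologySequence.δ_comp R' hR' j (j + 1) rfl) ⟶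
          ShortComplex.mk d _ wd :=
        { τ₁ := cokernel.π u, τ₂ := 𝟙 _, τ₃ := 𝟙 _, comm₁₂ := by simp [d], comm₂₃ := by simp }
      haveI : Epi φ.τ₁ := inferInstanceAs (Epi (cokernel.π u))
      haveI : IsIso φ.τ₂ := inferInstanceAs (IsIso (𝟙 _))
      haveI : Mono φ.τ₃ := inferInstanceAs (Mono (𝟙 _))
      exact (ShortComplex.exact_iff_of_epi_of_isIso_of_mono φ).1 e₁
    haveI : (cokernel (u ≫ v)).IsQuasicoherent := Groth.QCohMod.isQCoh_cokernel (u ≫ v)
    haveI : (cokernel v).IsQuasicoherent := isQCoh_cokernel_of_comp u v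
    haveI : (cokernel ((H j).map S'.mor₁)).IsQuasicoherent :=
      (Groth.QCohMod.isQCoh_iff_of_iso (cokernelEpiComp ((H j).map e.hom) ((H j).map S'.mor₁))).1
        (inferInstanceAs (cokernel v).IsQuasicoherent)
    exact hd_iso (i₃ ≪≫ G.mapIso s₃) j
      (isQCoh_middle' (DerivedCategory.HomologySequence.exact₂ S' hS' j)
        (DerivedCategory.HomologySequence.exact₃ S' hS' j (j + 1) rfl)
        (DerivedCategory.HomologySequence.exact₁ S' hS' j (j + 1) rfl))

/-- objects with quasi-coherent cohomology, bounded above -/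
theorem isQCohD_of_below (hG : TriTr G) (hb : ∀ m C, Below m C → Below (m + c) (G.obj C))
    (hcov : Covers G) {m : ℤ} (C : DCoh.D Y) (hC : Below m C) (hq : DCoh.IsQCohD C) :
    DCoh.IsQCohD (G.obj C) := fun j => by
  have hGz : ∀ Z : DCoh.D Y, IsZero Z → DCoh.IsQCohD (G.obj Z) := fun Z hZ i =>
    isQCoh_isZero (hb (i - c) Z (fun l _ => (DerivedCategory.homologyFunctor Y.Modules l).map_isZero hZ)
      i (by omega))
  let F := DerivedCategory.Q.objPreimage C
  let eF : DerivedCategory.Q.obj F ≅ C := DerivedCategory.Q.objObjPreimageIso C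
  let a := j - c
  obtain ⟨γ, hT⟩ := Groth.TruncFactor.exists_triangle F (a - 1) a (by omega)
  obtain ⟨S', hS', ⟨i₁⟩, ⟨i₂⟩, ⟨i₃⟩⟩ := hG _ hT
  have h₁ : Below a (DerivedCategory.Q.obj (F.truncLE (a - 1))) := fun i hi => by
    haveI : (DerivedCategory.Q.obj (F.truncLE (a - 1))).IsLE (a - 1) := inferInstance
    exact DerivedCategory.isZero_of_isLE _ (a - 1) i (by omega)
  have z : ∀ i, j ≤ i → (DCoh.HD S'.obj₁ i).IsQuasicoherent := fun i hi =>
    isQCoh_isZero (((hb _ _ h₁).of_iso i₁.symm) i (by omega))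
  have hh : ∀ i, a ≤ i → Nonempty ((DerivedCategory.homologyFunctor Y.Modules i).obj C ≅
      (DerivedCategory.homologyFunctor Y.Modules i).obj (DerivedCategory.Q.obj (F.truncGE a))) := fun i hi => by
    haveI : QuasiIsoAt (F.πTruncGE a) i := F.quasiIsoAt_πTruncGE _ _ hi
    have hi' := (quasiIsoAt_iff_isIso_homologyMap (F.πTruncGE a) i).1 inferInstance
    exact ⟨(DerivedCategory.homologyFunctor Y.Modules i).mapIso eF.symm ≪≫
      (DerivedCategory.homologyFunctorFactors Y.Modules i).app F ≪≫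
      @asIso _ _ _ _ (HomologicalComplex.homologyMap (F.πTruncGE a) i) hi' ≪≫
      ((DerivedCategory.homologyFunctorFactors Y.Modules i).app _).symm⟩
  haveI hge : (DerivedCategory.Q.obj (F.truncGE a)).IsGE a := inferInstance
  let b := max m a
  haveI : (DerivedCategory.Q.obj (F.truncGE a)).IsLE b := by
    rw [DerivedCategory.isLE_iff]
    intro i hi
    exact (hC i (by omega)).of_iso (hh i (by omega)).some.symm
  let P : ObjectProperty Y.Modules := fun M => M.IsQuasicoherent
  haveI : P.IsClosedUnderIsomorphisms := ⟨fun e h => (Groth.QCohMod.isQCoh_iff_of_iso e).1 h⟩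
  have h₃ : DCoh.IsQCohD (G.obj (DerivedCategory.Q.obj (F.truncGE a))) := by
    refine Groth.DerivedAdj.devissage P (fun Z => DCoh.IsQCohD (G.obj Z))
      (fun e h => isQCohD_of_iso (G.mapIso e) h) hGz (fun T hT' h h' => ?_)
      (fun M hM n i => isQCoh_single G hG hb hcov (n + 1 + c - i).toNat M hM n i (by omega))
      _ a b (fun i => ?_) (fun M hM => isQCoh_isZero hM)
    · obtain ⟨S, hS, ⟨l₁⟩, ⟨l₂⟩, ⟨l₃⟩⟩ := hG T hT'
      exact isQCohD_of_iso l₂ (isQCohD_obj₂ S hS (isQCohD_of_iso l₁.symm h) (isQCohD_of_iso l₃.symm h'))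
    · by_cases hi : a ≤ i
      · exact (Groth.QCohMod.isQCoh_iff_of_iso (hh i hi).some).1 (hq i)
      · exact isQCoh_isZero (DerivedCategory.isZero_of_isGE _ a i (by omega))
  haveI := z j le_rfl
  haveI := z (j + 1) (by omega)
  haveI := isQCohD_of_iso i₃.symm h₃ j
  refine hd_iso (i₂ ≪≫ G.mapIso eF) j ?_
  haveI : (cokernel (DerivedCategory.HomologySequence.δ S' (j - 1) j (sub_add_cancel j 1))).IsQuasicoherent := by
    have hz := ((hb _ _ h₁).of_iso i₁.symm) j (by omega)
    exact isQCoh_isZero (IsZero.of_epi (cokernel.π (DerivedCategory.HomologySequence.δ S' (j - 1) j (sub_add_cancel j 1))) hz)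
  exact isQCoh_middle' (DerivedCategory.HomologySequence.exact₁ S' hS' (j - 1) j (sub_add_cancel j 1))
    (DerivedCategory.HomologySequence.exact₂ S' hS' j)
    (DerivedCategory.HomologySequence.exact₃ S' hS' j (j + 1) rfl)

/-- on an affine scheme quasi-coherent modules are quotients of free modules -/
theorem exists_epi_free [IsAffine X] (M : X.Modules) [M.IsQuasicoherent] :
    ∃ (ι : Type u) (p : (∐ fun _ : ι => Coh.structureModule X) ⟶ M), Epi p := by
  refine ⟨Γ(M, (⊤ : X.Opens)), Groth.QCohMod.freeHom M id,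
    Groth.QCohMod.epi_freeHom M id fun x => eq_top_iff.2 fun t _ => ?_⟩
  obtain ⟨a, s, ha, hs⟩ :=
    Groth.QCohMod.exists_smul_germ_eq M (isAffineOpen_top X) x (Set.mem_univ x) t
  have hu := (Scheme.mem_basicOpen X a x (Set.mem_univ x)).mp ha
  rw [← Submodule.smul_mem_iff_of_isUnit _ hu, hs]
  exact Submodule.subset_span ⟨s, rfl⟩

end Groth.Misc4.QCohDLeft
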