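import Groth.Prelude.Def_CohCx
import Groth.Agent.SiteCohomology.CechFinite
import Groth.Agent.SiteCohomology.Flasque
import Mathlib.Algebra.Homology.HomologySequence
import Mathlib.Algebra.Homology.HomologicalComplexBiprod
import Mathlib.CategoryTheory.Abelian.RightDerived
import Mathlib.Algebra.Homology.ShortComplex.Ab

/-!
Relative Mayer–Vietoris: long exact sequences of right derived functors from short exact sequences
of functors on injective objects.
-/

universe u v v' u₁ u₂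

open CategoryTheory CategoryTheory.Limits Opposite TopologicalSpace HomologicalComplex

namespace Groth.Misc4.RelMV

set_option maxHeartbeats 1000000

local notation "upN" => ComplexShape.up ℕ

lemma transport {C : Type*} [Category* C] [Preadditive C] [HasBinaryBiproducts C]
    {D : Type*} [Category* D] [Preadditive D] [HasBinaryBiproducts D] (G : C ⥤ D) [G.Additive]
    [PreservesBinaryBiproducts G] {K₀ K₁ K₂ K₃ : C} {R₀ R₁ R₂ R₃ : D} (e₀ : R₀ ≅ G.obj K₀)
    (e₁ : R₁ ≅ G.obj K₁) (e₂ : R₂ ≅ G.obj K₂) (e₃ : R₃ ≅ G.obj K₃)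
    (α : K₀ ⟶ K₁) (β : K₀ ⟶ K₂) (γ : K₁ ⟶ K₃) (ε : K₂ ⟶ K₃)
    (ra : R₀ ⟶ R₁) (rb : R₀ ⟶ R₂) (rc : R₁ ⟶ R₃) (rd : R₂ ⟶ R₃)
    (ha : ra = e₀.hom ≫ G.map α ≫ e₁.inv) (hb : rb = e₀.hom ≫ G.map β ≫ e₂.inv)
    (hc : rc = e₁.hom ≫ G.map γ ≫ e₃.inv) (hd : rd = e₂.hom ≫ G.map ε ≫ e₃.inv) :
    ∃ m : R₁ ⊞ R₂ ≅ G.obj (K₁ ⊞ K₂),
      biprod.lift ra rb ≫ m.hom = e₀.hom ≫ G.map (biprod.lift α β) ∧
      biprod.desc rc (-rd) ≫ e₃.hom = m.hom ≫ G.map (biprod.desc γ (-ε)) := by
  refine ⟨biprod.mapIso e₁ e₂ ≪≫ (G.mapBiprod K₁ K₂).symm, ?_, ?_⟩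
  · rw [← cancel_mono (G.mapBiprod K₁ K₂).hom, Iso.trans_hom, Iso.symm_hom, Category.assoc,
      Category.assoc, Iso.inv_hom_id, Category.comp_id, Category.assoc, Functor.mapBiprod_hom]
    apply biprod.hom_ext <;> simp [ha, hb, ← Functor.map_comp]
  · rw [Iso.trans_hom, Iso.symm_hom, Functor.mapBiprod_inv]
    apply biprod.hom_ext' <;> simp [hc, hd, ← Functor.map_comp]

section Gen

variable {A : Type u₁} [Category.{v} A] [Abelian A] [HasInjectiveResolutions A]
  {B : Type u₂} [Category.{v'} B] [Abelian B]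
  {F₀ F₁ F₂ F₃ : A ⥤ B} [F₀.Additive] [F₁.Additive] [F₂.Additive] [F₃.Additive]
  (a : F₀ ⟶ F₁) (b : F₀ ⟶ F₂) (c : F₁ ⟶ F₃) (d : F₂ ⟶ F₃)

theorem long_exact (w : a ≫ c = b ≫ d)
    (h : ∀ I : A, Injective I →
      ∀ w' : biprod.lift (a.app I) (b.app I) ≫ biprod.desc (c.app I) (-(d.app I)) = 0,
        (ShortComplex.mk _ _ w').ShortExact) (X : A) :
    ∃ δ : ∀ n : ℕ, (F₃.rightDerived n).obj X ⟶ (F₀.rightDerived (n + 1)).obj X,
      Mono (biprod.lift ((NatTrans.rightDerived a 0).app X) ((NatTrans.rightDerived b 0).app X)) ∧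
      ∀ n : ℕ,
        (ComposableArrows.mk₂
          (biprod.lift ((NatTrans.rightDerived a n).app X) ((NatTrans.rightDerived b n).app X))
          (biprod.desc ((NatTrans.rightDerived c n).app X) (-((NatTrans.rightDerived d n).app X)))).Exact ∧
        (ComposableArrows.mk₂
          (biprod.desc ((NatTrans.rightDerived c n).app X) (-((NatTrans.rightDerived d n).app X)))
          (δ n)).Exact ∧
        (ComposableArrows.mk₂ (δ n)
          (biprod.lift ((NatTrans.rightDerived a (n + 1)).app X)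
            ((NatTrans.rightDerived b (n + 1)).app X))).Exact := by
  let P := injectiveResolution X
  let K := P.cocomplex
  let α := (NatTrans.mapHomologicalComplex a upN).app K
  let β := (NatTrans.mapHomologicalComplex b upN).app K
  let γ := (NatTrans.mapHomologicalComplex c upN).app K
  let ε := (NatTrans.mapHomologicalComplex d upN).app K
  have hw : α ≫ γ = β ≫ ε := by
    ext n
    exact NatTrans.congr_app w (K.X n)
  let S : ShortComplex (CochainComplex B ℕ) :=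
    ShortComplex.mk (biprod.lift α β) (biprod.desc γ (-ε)) (by simp [hw])
  have hS : S.ShortExact := HomologicalComplex.shortExact_of_degreewise_shortExact S fun n => by
    have w' : biprod.lift (a.app (K.X n)) (b.app (K.X n)) ≫
        biprod.desc (c.app (K.X n)) (-(d.app (K.X n))) = 0 := by
      have h := NatTrans.congr_app w (K.X n)
      simp only [NatTrans.comp_app] at h
      simp [h]
    refine ShortComplex.shortExact_of_iso (S₁ := ShortComplex.mk _ _ w')
      (ShortComplex.isoMk (Iso.refl _) (HomologicalComplex.biprodXIso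
        ((F₁.mapHomologicalComplex upN).obj K) ((F₂.mapHomologicalComplex upN).obj K) n).symm
          (Iso.refl _) ?_ ?_) (h _ (P.injective n) w')
    · change 𝟙 _ ≫ (biprod.lift α β).f n = biprod.lift (α.f n) (β.f n) ≫
        (HomologicalComplex.biprodXIso ((F₁.mapHomologicalComplex upN).obj K)
          ((F₂.mapHomologicalComplex upN).obj K) n).inv
      rw [Category.id_comp, Iso.eq_comp_inv]
      apply biprod.hom_ext <;> simp
    · change (HomologicalComplex.biprodXIso ((F₁.mapHomologicalComplex upN).obj K)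
          ((F₂.mapHomologicalComplex upN).obj K) n).inv ≫ (biprod.desc γ (-ε)).f n =
        biprod.desc (γ.f n) (-(ε.f n)) ≫ 𝟙 _
      rw [Category.comp_id]
      apply biprod.hom_ext' <;> simp
  haveI : ∀ n, PreservesBinaryBiproducts (homologyFunctor B upN n) := fun n =>
    preservesBinaryBiproducts_of_preservesBiproducts _
  let i₀ := fun n => P.isoRightDerivedObj F₀ n
  let i₁ := fun n => P.isoRightDerivedObj F₁ n
  let i₂ := fun n => P.isoRightDerivedObj F₂ n
  let i₃ := fun n => P.isoRightDerivedObj F₃ n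
  choose m hf hg using fun n => transport (homologyFunctor B upN n) (i₀ n) (i₁ n) (i₂ n) (i₃ n)
    α β γ ε ((NatTrans.rightDerived a n).app X) ((NatTrans.rightDerived b n).app X)
    ((NatTrans.rightDerived c n).app X) ((NatTrans.rightDerived d n).app X)
    (P.rightDerived_app_eq a n) (P.rightDerived_app_eq b n) (P.rightDerived_app_eq c n)
    (P.rightDerived_app_eq d n)
  have mk : ∀ {Y₁ Y₂ Y₃ Z₁ Z₂ Z₃ : B} {f : Y₁ ⟶ Y₂} {g : Y₂ ⟶ Y₃} {f' : Z₁ ⟶ Z₂} {g' : Z₂ ⟶ Z₃}
      (w₀ : f' ≫ g' = 0), (ShortComplex.mk f' g' w₀).Exact → ∀ (e₁ : Y₁ ≅ Z₁) (e₂ : Y₂ ≅ Z₂)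
      (e₃ : Y₃ ≅ Z₃), f ≫ e₂.hom = e₁.hom ≫ f' → g ≫ e₃.hom = e₂.hom ≫ g' →
      (ComposableArrows.mk₂ f g).Exact := by
    intro Y₁ Y₂ Y₃ Z₁ Z₂ Z₃ f g f' g' w₀ hex e₁ e₂ e₃ h₁ h₂
    have w₁ : f ≫ g = 0 := by
      rw [← cancel_mono e₃.hom, Category.assoc, h₂, ← Category.assoc, h₁, Category.assoc, w₀,
        comp_zero, zero_comp]
    exact ((ShortComplex.exact_iff_of_iso (ShortComplex.isoMk e₁ e₂ e₃ h₁.symm h₂.symm :
      ShortComplex.mk f g w₁ ≅ ShortComplex.mk f' g' w₀)).2 hex).exact_toComposableArrows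
  let δ : ∀ n, (F₃.rightDerived n).obj X ⟶ (F₀.rightDerived (n + 1)).obj X := fun n =>
    (i₃ n).hom ≫ hS.δ n (n + 1) rfl ≫ (i₀ (n + 1)).inv
  have cancel : ∀ {W₁ W₂ W₃ W₄ : B} (x : W₁ ⟶ W₂) (y : W₂ ⟶ W₃) (z : W₄ ≅ W₃),
      (x ≫ y ≫ z.inv) ≫ z.hom = x ≫ y := fun x y z => by simp
  have hδ : ∀ n, δ n ≫ (i₀ (n + 1)).hom = (i₃ n).hom ≫ hS.δ n (n + 1) rfl := fun n =>
    cancel _ _ (i₀ (n + 1))
  refine ⟨δ, ?_, fun n => ⟨?_, ?_, ?_⟩⟩
  · have hmono : Mono (homologyMap S.f 0) := by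
      haveI := hS.mono_f
      haveI : ∀ L : CochainComplex B ℕ, IsIso (L.homologyπ 0) := fun L =>
        L.isIso_homologyπ 0 0 (by simp) (L.shape _ _ (by simp))
      haveI : Mono (cyclesMap S.f 0) := by
        haveI : Mono (cyclesMap S.f 0 ≫ S.X₂.iCycles 0) := by
          rw [cyclesMap_i]
          infer_instance
        exact mono_of_mono _ (S.X₂.iCycles 0)
      have e : homologyMap S.f 0 = inv (S.X₁.homologyπ 0) ≫ cyclesMap S.f 0 ≫ S.X₂.homologyπ 0 := by
        rw [IsIso.eq_inv_comp, homologyπ_naturality]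
      rw [e]
      infer_instance
    haveI : Mono (biprod.lift ((NatTrans.rightDerived a 0).app X)
        ((NatTrans.rightDerived b 0).app X) ≫ (m 0).hom) := by
      rw [hf 0]; exact @mono_comp _ _ _ _ _ _ inferInstance _ hmono
    exact mono_of_mono _ (m 0).hom
  · exact mk _ (hS.homology_exact₂ n) (i₀ n) (m n) (i₃ n) (hf n) (hg n)
  · exact mk _ (hS.homology_exact₃ n (n + 1) rfl) (m n) (i₃ n) (i₀ (n + 1)) (hg n) (hδ n)
  · exact mk _ (hS.homology_exact₁ n (n + 1) rfl) (i₃ n) (i₀ (n + 1)) (m (n + 1)) (hδ n) (hf (n + 1))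

end Gen

/-- short exact sequences of abelian groups from a bicartesian-like square -/
theorem shortExact_ab {P₀ P₁ P₂ P₃ : AddCommGrpCat.{u}} (a : P₀ ⟶ P₁) (b : P₀ ⟶ P₂) (c : P₁ ⟶ P₃)
    (d : P₂ ⟶ P₃) (w : biprod.lift a b ≫ biprod.desc c (-d) = 0)
    (inj : ∀ s, a s = 0 → b s = 0 → s = 0) (mid : ∀ s t, c s = d t → ∃ r, a r = s ∧ b r = t)
    (surj : ∀ v, ∃ s, c s = v) : (ShortComplex.mk _ _ w).ShortExact := by
  have tot : ∀ z : (P₁ ⊞ P₂ : AddCommGrpCat.{u}),
      (biprod.inl : P₁ ⟶ P₁ ⊞ P₂) ((biprod.fst : P₁ ⊞ P₂ ⟶ P₁) z) +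
        (biprod.inr : P₂ ⟶ P₁ ⊞ P₂) ((biprod.snd : P₁ ⊞ P₂ ⟶ P₂) z) = z := fun z =>
    congr($(biprod.total (X := P₁) (Y := P₂)) z)
  have hl : ∀ s, (biprod.fst : P₁ ⊞ P₂ ⟶ P₁) (biprod.lift a b s) = a s ∧
      (biprod.snd : P₁ ⊞ P₂ ⟶ P₂) (biprod.lift a b s) = b s :=
    fun s => ⟨congr($(biprod.lift_fst a b) s), congr($(biprod.lift_snd a b) s)⟩
  refine ShortComplex.ShortExact.mk' ?_ ?_ ?_
  · rw [ShortComplex.ab_exact_iff]
    intro z hz
    have e : biprod.desc c (-d) = biprod.fst ≫ c - biprod.snd ≫ d := by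
      apply biprod.hom_ext' <;> simp
    obtain ⟨r, hr₁, hr₂⟩ := mid _ _ (sub_eq_zero.1 ((congr($e z)).symm.trans hz))
    refine ⟨r, ?_⟩
    change biprod.lift a b r = z
    rw [← tot z, ← tot (biprod.lift a b r), (hl r).1, (hl r).2, hr₁, hr₂]
    rfl
  · rw [AddCommGrpCat.mono_iff_injective]
    refine (injective_iff_map_eq_zero _).2 fun s hs => inj s ?_ ?_
    · rw [← (hl s).1]
      exact (congrArg _ hs).trans (map_zero _)
    · rw [← (hl s).2]
      exact (congrArg _ hs).trans (map_zero _)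
  · rw [AddCommGrpCat.epi_iff_surjective]
    intro v
    obtain ⟨s, hs⟩ := surj v
    refine ⟨(biprod.inl : P₁ ⟶ P₁ ⊞ P₂) s, ?_⟩
    refine Eq.trans ?_ hs
    exact congr($(biprod.inl_desc c (-d)) s)

/-- exactness of sheaves from exactness of all sections -/
theorem shortExact_sheaf {X : TopCat.{u}} {M₀ M₁ M₂ M₃ : CohTop.Ab X} (a : M₀ ⟶ M₁) (b : M₀ ⟶ M₂)
    (c : M₁ ⟶ M₃) (d : M₂ ⟶ M₃) (w : biprod.lift a b ≫ biprod.desc c (-d) = 0)
    (inj : ∀ O s, a.hom.app O s = 0 → b.hom.app O s = 0 → s = 0)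
    (mid : ∀ O s t, c.hom.app O s = d.hom.app O t → ∃ r, a.hom.app O r = s ∧ b.hom.app O r = t)
    (surj : ∀ O v, ∃ s, c.hom.app O s = v) : (ShortComplex.mk _ _ w).ShortExact := by
  let S := ShortComplex.mk _ _ w
  let J := Opens.grothendieckTopology X
  let F := sheafToPresheaf J AddCommGrpCat.{u}
  have hP : (S.map F).ShortExact := Groth.SiteCohomology.CechFinite.Lower.shortExact_of_app _ fun O => by
    let G := F ⋙ (evaluation _ _).obj O
    haveI : G.Additive := ⟨fun {_ _ _ _} => rfl⟩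
    haveI := preservesBinaryBiproducts_of_preservesBiproducts G
    have w' : biprod.lift (G.map a) (G.map b) ≫ biprod.desc (G.map c) (-(G.map d)) = 0 := by
      have h := congrArg G.map w
      simp only [biprod.lift_desc, Functor.map_add, Functor.map_comp, Functor.map_neg,
        Functor.map_zero, Preadditive.comp_neg] at h ⊢
      exact h
    refine ShortComplex.shortExact_of_iso (S₁ := ShortComplex.mk _ _ w')
      (ShortComplex.isoMk (Iso.refl _) (G.mapBiprod _ _).symm (Iso.refl _) ?_ ?_)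
      (shortExact_ab _ _ _ _ w' (inj O) (mid O) (surj O))
    · change 𝟙 _ ≫ G.map (biprod.lift a b) = biprod.lift (G.map a) (G.map b) ≫ (G.mapBiprod _ _).inv
      rw [Category.id_comp, Iso.eq_comp_inv, Functor.mapBiprod_hom]
      apply biprod.hom_ext <;> simp [← Functor.map_comp]
    · change (G.mapBiprod _ _).inv ≫ G.map (biprod.desc c (-d)) =
        biprod.desc (G.map c) (-(G.map d)) ≫ 𝟙 _
      rw [Category.comp_id, Functor.mapBiprod_inv]
      apply biprod.hom_ext' <;> simp [← Functor.map_comp]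
  have h2 := hP.map_of_exact (presheafToSheaf J AddCommGrpCat.{u})
  haveI : IsIso (sheafificationAdjunction J AddCommGrpCat.{u}).counit := inferInstance
  let e := asIso (sheafificationAdjunction J AddCommGrpCat.{u}).counit
  exact ShortComplex.shortExact_of_iso
    (ShortComplex.isoMk (e.app S.X₁) (e.app S.X₂) (e.app S.X₃)
      (e.hom.naturality S.f).symm (e.hom.naturality S.g).symm :
      (S.map F).map (presheafToSheaf J AddCommGrpCat.{u}) ≅ S) h2

variable {X Y : TopCat.{u}} (f : X ⟶ Y) (U V : Opens X)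

theorem comm_restr :
    CohCx.pushToRestrPush f U ≫ CohCx.restrPushToRestrPush f (inf_le_left : U ⊓ V ≤ U) =
      CohCx.pushToRestrPush f V ≫ CohCx.restrPushToRestrPush f (inf_le_right : U ⊓ V ≤ V) := by
  ext F : 2
  apply Sheaf.hom_ext
  ext W : 2
  change F.obj.map _ ≫ F.obj.map _ = F.obj.map _ ≫ F.obj.map _
  rw [← F.obj.map_comp, ← F.obj.map_comp]
  rfl

lemma map_map_apply (F : CohTop.Ab X) {A B C : Opens X} (p : B ≤ A) (q : C ≤ B) (r : C ≤ A) (s) :
    F.obj.map (homOfLE q).op (F.obj.map (homOfLE p).op s) = F.obj.map (homOfLE r).op s := by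
  rw [← ConcreteCategory.comp_apply, ← F.obj.map_comp]
  rfl

theorem shortExact_restr (hUV : U ⊔ V = ⊤) (I : CohTop.Ab X) [Injective I]
    (w : biprod.lift ((CohCx.pushToRestrPush f U).app I) ((CohCx.pushToRestrPush f V).app I) ≫
      biprod.desc ((CohCx.restrPushToRestrPush f (inf_le_left : U ⊓ V ≤ U)).app I)
        (-((CohCx.restrPushToRestrPush f (inf_le_right : U ⊓ V ≤ V)).app I)) = 0) :
    (ShortComplex.mk _ _ w).ShortExact := by
  haveI := Groth.SiteCohomology.isFlasque_of_injective I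
  have surj : ∀ {A B : Opens X} (h : B ≤ A), Function.Surjective (I.obj.map (homOfLE h).op) :=
    fun h => (AddCommGrpCat.epi_iff_surjective _).1 (TopCat.Presheaf.IsFlasque.epi (F := I.obj) (homOfLE h).op)
  have hmem : ∀ x, x ∈ U ∨ x ∈ V := fun x => by
    have : x ∈ U ⊔ V := hUV ▸ trivial
    exact this
  refine shortExact_sheaf _ _ _ _ w (fun O s hU hV => ?_) (fun O s t hst => ?_) (fun O v => ?_)
  · refine TopCat.Sheaf.eq_of_locally_eq' (C := AddCommGrpCat.{u}) I
      (fun b : ULift.{u} Bool => cond b.down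
        ((U.isOpenEmbedding.functor).obj ((Opens.map (CohCx.incl U ≫ f)).obj O.unop))
        ((V.isOpenEmbedding.functor).obj ((Opens.map (CohCx.incl V ≫ f)).obj O.unop)))
      ((Opens.map f).obj O.unop) (fun b => homOfLE ?_) (fun x hx => ?_) s 0 ?_
    · obtain ⟨_ | _⟩ := b <;> rintro _ ⟨x, hx, rfl⟩ <;> exact hx
    · rcases hmem x with h | h
      · exact Opens.mem_iSup.2 ⟨⟨true⟩, ⟨⟨x, h⟩, hx, rfl⟩⟩
      · exact Opens.mem_iSup.2 ⟨⟨false⟩, ⟨⟨x, h⟩, hx, rfl⟩⟩
    · rintro ⟨_ | _⟩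
      · exact hV.trans (map_zero _).symm
      · exact hU.trans (map_zero _).symm
  · obtain ⟨s', rfl⟩ := surj (A := (Opens.map f).obj O.unop)
      (by rintro _ ⟨x, hx, rfl⟩; exact hx :
        (U.isOpenEmbedding.functor).obj ((Opens.map (CohCx.incl U ≫ f)).obj O.unop) ≤ _) s
    obtain ⟨t', rfl⟩ := surj (A := (Opens.map f).obj O.unop)
      (by rintro _ ⟨x, hx, rfl⟩; exact hx :
        (V.isOpenEmbedding.functor).obj ((Opens.map (CohCx.incl V ≫ f)).obj O.unop) ≤ _) t
    let AU := (U.isOpenEmbedding.functor).obj ((Opens.map (CohCx.incl U ≫ f)).obj O.unop)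
    let AV := (V.isOpenEmbedding.functor).obj ((Opens.map (CohCx.incl V ≫ f)).obj O.unop)
    let AW := ((U ⊓ V).isOpenEmbedding.functor).obj ((Opens.map (CohCx.incl (U ⊓ V) ≫ f)).obj O.unop)
    have hA : AU ≤ (Opens.map f).obj O.unop := by rintro _ ⟨x, hx, rfl⟩; exact hx
    have hB : AV ≤ (Opens.map f).obj O.unop := by rintro _ ⟨x, hx, rfl⟩; exact hx
    have hC : AW ≤ (Opens.map f).obj O.unop := by rintro _ ⟨x, hx, rfl⟩; exact hx
    have h' : I.obj.map (homOfLE hC).op s' = I.obj.map (homOfLE hC).op t' :=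
      ((map_map_apply I hA _ hC s').symm.trans hst).trans (map_map_apply I hB _ hC t')
    have hAB : AU ⊓ AV ≤ AW := by
      rintro x ⟨⟨⟨u, hu⟩, h₁, rfl⟩, ⟨⟨v, hv⟩, _, e⟩⟩
      have e' : v = u := e
      exact ⟨⟨u, hu, e' ▸ hv⟩, h₁, rfl⟩
    have hBA : AV ⊓ AU ≤ AW := inf_comm AU AV ▸ hAB
    let sf : ∀ b : ULift.{u} Bool, I.obj.obj (op (cond b.down AU AV)) := fun b => match b with
      | ⟨true⟩ => I.obj.map (homOfLE hA).op s'
      | ⟨false⟩ => I.obj.map (homOfLE hB).op t'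
    have hc : TopCat.Presheaf.IsCompatible I.obj (fun b : ULift.{u} Bool => cond b.down AU AV) sf := by
      rintro ⟨_ | _⟩ ⟨_ | _⟩
      · rfl
      · refine (map_map_apply I hB inf_le_left (inf_le_left.trans hB) t').trans (Eq.trans ?_
          (map_map_apply I hA inf_le_right (inf_le_right.trans hA) s').symm)
        rw [← map_map_apply I hC hBA (inf_le_left.trans hB) t',
          ← map_map_apply I hC hBA (inf_le_right.trans hA) s', h']
      · refine (map_map_apply I hA inf_le_left (inf_le_left.trans hA) s').trans (Eq.trans ?_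
          (map_map_apply I hB inf_le_right (inf_le_right.trans hB) t').symm)
        rw [← map_map_apply I hC hAB (inf_le_left.trans hA) s',
          ← map_map_apply I hC hAB (inf_le_right.trans hB) t', h']
      · rfl
    obtain ⟨z, hz, -⟩ := TopCat.Sheaf.existsUnique_gluing' (C := AddCommGrpCat.{u}) I
      (fun b : ULift.{u} Bool => cond b.down AU AV) ((Opens.map f).obj O.unop)
      (fun b => homOfLE (by obtain ⟨_ | _⟩ := b; exacts [hB, hA]))
      (fun x hx => (hmem x).elim (fun h => Opens.mem_iSup.2 ⟨⟨true⟩, ⟨⟨x, h⟩, hx, rfl⟩⟩)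
        (fun h => Opens.mem_iSup.2 ⟨⟨false⟩, ⟨⟨x, h⟩, hx, rfl⟩⟩)) sf hc
    exact ⟨z, hz ⟨true⟩, hz ⟨false⟩⟩
  · obtain ⟨t, rfl⟩ := surj (A := (Opens.map f).obj O.unop)
      (by rintro _ ⟨x, hx, rfl⟩; exact hx :
        ((U ⊓ V).isOpenEmbedding.functor).obj ((Opens.map (CohCx.incl (U ⊓ V) ≫ f)).obj O.unop) ≤ _) v
    refine ⟨I.obj.map (homOfLE (by rintro _ ⟨x, hx, rfl⟩; exact hx :
      (U.isOpenEmbedding.functor).obj ((Opens.map (CohCx.incl U ≫ f)).obj O.unop) ≤
        (Opens.map f).obj O.unop)).op t, ?_⟩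
    exact map_map_apply I _ _ _ t

end Groth.Misc4.RelMV
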