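import Groth.Agent.Misc4.RlimVanish
import Groth.Agent.Misc4.RlimEventual
import Groth.Agent.Misc4.ExtFree
import Mathlib.CategoryTheory.Sites.Abelian
import Mathlib.Data.Int.Interval
import Mathlib.Algebra.Homology.DerivedCategory.Ext.EnoughInjectives

/-! Cohomology sheaves of derived limits on a ringed site. -/

universe w u

open CategoryTheory CategoryTheory.Limits Opposite

set_option backward.defeqAttrib.useBackward true
set_option backward.isDefEq.respectTransparency false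
set_option synthInstance.maxHeartbeats 400000
set_option maxHeartbeats 1000000

namespace Groth.Misc4.RlimSite

open Groth.SitesTopoi.ModH Groth.Misc4.FreeOn
open Groth.Misc4.DerivedLift (S0 ev)

variable {C : Type u} [SmallCategory C] {J : GrothendieckTopology C} {O : Sheaf J CommRingCat.{u}}

/-- restriction between free modules -/
noncomputable def res {U V : C} (g : V ⟶ U) : ModSite.freeOn O V ⟶ ModSite.freeOn O U :=
  (homEquiv V _).symm (rsm (ModSite.freeOn O U).val g (homEquiv U _ (𝟙 _)))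

lemma homEquiv_eq (U : C) {M : ModSite.Mod O} (f : ModSite.freeOn O U ⟶ M) :
    homEquiv U M f = apm f.val U (homEquiv U _ (𝟙 _)) := by
  rw [← homEquiv_comp, Category.id_comp]

lemma homEquiv_res {U V : C} (g : V ⟶ U) {M : ModSite.Mod O} (f : ModSite.freeOn O U ⟶ M) :
    homEquiv V M (res g ≫ f) = rsm M.val g (homEquiv U M f) := by
  rw [homEquiv_comp, res, Equiv.apply_symm_apply, apm_rsm, ← homEquiv_eq]

lemma res_comp {U V W : C} (g : V ⟶ U) (h : W ⟶ V) :
    res (O := O) (h ≫ g) = res h ≫ res g := by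
  apply (homEquiv W _).injective
  rw [homEquiv_res, res, res, Equiv.apply_symm_apply, Equiv.apply_symm_apply, rsm_rsm]

lemma eq_zero_of_locally {U : C} {M : ModSite.Mod O} (s : ModSite.freeOn O U ⟶ M) {S : Sieve U}
    (hS : S ∈ J U) (h : ∀ ⦃V : C⦄ (g : V ⟶ U), S g → res g ≫ s = 0) : s = 0 := by
  apply (homEquiv U M).injective
  refine sec_extM M hS fun V g hg => ?_
  rw [← homEquiv_res, ← homEquiv_res, h g hg, comp_zero]

lemma exists_local_lift {U : C} {M : ModSite.Mod O} (p : M ⟶ ModSite.freeOn O U) [Epi p] :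
    ∃ S ∈ J U, ∀ ⦃V : C⦄ (g : V ⟶ U), S g → ∃ l : ModSite.freeOn O V ⟶ M, l ≫ p = res g := by
  have : Epi ((SheafOfModules.toSheaf.{u} (ModSite.ringSh O)).map p) := inferInstance
  have hs : Sheaf.IsLocallySurjective ((SheafOfModules.toSheaf.{u} (ModSite.ringSh O)).map p) :=
    (Sheaf.isLocallySurjective_iff_epi' AddCommGrpCat.{u} _).2 this
  obtain ⟨S, hS, h⟩ := (locSurj_iff p.val).2 hs U (homEquiv U _ (𝟙 _))
  refine ⟨S, hS, fun V g hg => ?_⟩
  obtain ⟨m, hm⟩ := h g hg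
  exact ⟨(homEquiv V M).symm m, (homEquiv V _).injective
    (by rw [homEquiv_comp, res, Equiv.apply_symm_apply, Equiv.apply_symm_apply, hm])⟩

/-- Morphisms vanishing on free modules on a generating family vanish. -/
lemma eq_zero_of_free {G : Set C}
    (hG : ∀ X : C, ∃ (ι : Type u) (Y : ι → C) (f : ∀ i, Y i ⟶ X), Sieve.ofArrows Y f ∈ J X ∧ ∀ i, Y i ∈ G)
    {M N : ModSite.Mod O} (p : M ⟶ N) (h : ∀ X ∈ G, ∀ s : ModSite.freeOn O X ⟶ M, s ≫ p = 0) : p = 0 :=
  eq_of_eqOn hG p 0 fun X hX m => by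
    have := h X hX ((homEquiv X M).symm m)
    rw [← comp_zero (f := (homEquiv X M).symm m)] at this
    have := congrArg (homEquiv X N) this
    rwa [homEquiv_comp, homEquiv_comp, Equiv.apply_symm_apply] at this

variable [HasDerivedCategory.{w} (ModSite.Mod O)]

/-- objects with vanishing cohomology above `d` on a class of modules -/
def Good (A : ObjectProperty (ModSite.Mod O)) (d : ℕ) (Y : C) : Prop :=
  ∀ F : ModSite.Mod O, A F → ∀ k : ℕ, d < k → Subsingleton (ModSite.HU O F k Y)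

/-- the transition maps between distant terms -/
lemma exists_trans {K : ℕ → DerivedCategory (ModSite.Mod O)} {t : ∀ n, K (n + 1) ⟶ K n}
    {L : DerivedCategory (ModSite.Mod O)} {a : ∀ n, L ⟶ K n} (hc : ∀ n, a (n + 1) ≫ t n = a n) (j : ℤ) (n₁ : ℕ)
    (h : ∀ n, n₁ ≤ n → IsIso ((DerivedCategory.homologyFunctor (ModSite.Mod O) j).map (t n)))
    (n N : ℕ) (hn : n₁ ≤ n) (hN : n ≤ N) :
    ∃ τ : K N ⟶ K n, a N ≫ τ = a n ∧
      IsIso ((DerivedCategory.homologyFunctor (ModSite.Mod O) j).map τ) := by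
  induction N, hN using Nat.le_induction with
  | base => exact ⟨𝟙 _, Category.comp_id _, inferInstance⟩
  | succ N hN ih =>
    obtain ⟨τ, hτ, hi⟩ := ih
    have := h N (by omega)
    refine ⟨t N ≫ τ, by rw [← Category.assoc, hc, hτ], ?_⟩
    rw [Functor.map_comp]
    infer_instance

open Groth.Misc4 in
/-- The cohomology sheaf of a derived limit, when the maps to the terms are locally bijective on local classes. -/
theorem isIso_homology_of_bijective (B : Set C)
    (hB : ∀ U : C, ∃ (ι : Type u) (Y : ι → C) (g : ∀ i, Y i ⟶ U), Sieve.ofArrows Y g ∈ J U ∧ ∀ i, Y i ∈ B)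
    (K : ℕ → DerivedCategory (ModSite.Mod O)) (t : ∀ n, K (n + 1) ⟶ K n)
    (L : DerivedCategory (ModSite.Mod O)) (a : ∀ n, L ⟶ K n) (hc : ∀ n, a (n + 1) ≫ t n = a n) (j : ℤ)
    (hloc : ∀ V ∈ B, ∃ N : ℕ, ∀ T ∈ J V, ∃ (ι : Type u) (Y : ι → C) (g : ∀ i, Y i ⟶ V),
      (∀ i, T.arrows (g i)) ∧ Sieve.ofArrows Y g ∈ J V ∧ ∀ i, ∀ n, N ≤ n →
        Function.Bijective fun y : S0.obj (ModSite.freeOn O (Y i)) ⟶ L⟦j⟧ => y ≫ (a n)⟦j⟧')
    (n₁ : ℕ) (hn₁ : ∀ n, n₁ ≤ n → IsIso ((DerivedCategory.homologyFunctor (ModSite.Mod O) j).map (t n)))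
    (n : ℕ) (hn : n₁ ≤ n) :
    IsIso ((DerivedCategory.homologyFunctor (ModSite.Mod O) j).map (a n)) := by
  let H0 := DerivedCategory.homologyFunctor (ModSite.Mod O) 0
  suffices hiso : IsIso (H0.map ((a n)⟦j⟧')) by
    have e := RlimVanish.hShift_nat (a n) j 0 j (add_zero j)
    rw [← Iso.inv_comp_eq] at e
    rw [← e]
    infer_instance
  -- transition to a far term
  have trans' : ∀ N, n ≤ N → ∃ τ : K N ⟶ K n, a N ≫ τ = a n ∧ IsIso (H0.map (τ⟦j⟧')) := by
    intro N hN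
    obtain ⟨τ, hτ, hi⟩ := exists_trans hc j n₁ hn₁ n N hn hN
    have e := RlimVanish.hShift_nat τ j 0 j (add_zero j)
    rw [← Iso.eq_comp_inv] at e
    refine ⟨τ, hτ, ?_⟩
    rw [e]
    infer_instance
  have hmono : Mono (H0.map ((a n)⟦j⟧')) := by
    refine Preadditive.mono_of_kernel_zero (eq_zero_of_free hB _ fun V hV s => ?_)
    obtain ⟨N0, hd⟩ := hloc V hV
    obtain ⟨N, hN1, hN2⟩ : ∃ N, n ≤ N ∧ N0 ≤ N := ⟨max n N0, le_max_left _ _, le_max_right _ _⟩
    obtain ⟨τ, hτ, hτi⟩ := trans' N hN1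
    let s' := s ≫ kernel.ι (H0.map ((a n)⟦j⟧'))
    have hs : s' ≫ H0.map ((a N)⟦j⟧') = 0 := by
      rw [← cancel_mono (H0.map (τ⟦j⟧')), Category.assoc, ← Functor.map_comp, ← Functor.map_comp, hτ,
        zero_comp, Category.assoc, kernel.condition, comp_zero]
    let T : Sieve V :=
      { arrows := fun W g => ∃ φ : S0.obj (ModSite.freeOn O W) ⟶ L⟦j⟧,
          ev φ = res g ≫ s' ∧ φ ≫ (a N)⟦j⟧' = 0
        downward_closed := fun {W W'} g => by
          rintro ⟨φ, h1, h2⟩ h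
          exact ⟨S0.map (res h) ≫ φ, by rw [DerivedLift.ev_map, h1, res_comp, Category.assoc],
            by rw [Category.assoc, h2, comp_zero]⟩ }
    have hT : T ∈ J V := by
      obtain ⟨M', p, hp, φ, hφ⟩ := DerivedLift.exists_epi_lift (X := L⟦j⟧) s'
      obtain ⟨S, hS, hl⟩ := exists_local_lift p
      refine J.transitive hS _ fun W g hg => ?_
      obtain ⟨l, hl'⟩ := hl g hg
      have hev : ev (S0.map l ≫ φ) = res g ≫ s' := by
        rw [DerivedLift.ev_map, hφ, reassoc_of% hl']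
      obtain ⟨M'', q, hq, hk⟩ := DerivedLift.exists_epi_kill ((S0.map l ≫ φ) ≫ (a N)⟦j⟧')
        (by rw [DerivedLift.ev_comp, hev, Category.assoc, hs, comp_zero])
      obtain ⟨S', hS', hl''⟩ := exists_local_lift q
      refine J.superset_covering (fun W' h hh => ?_) hS'
      obtain ⟨l', hl'''⟩ := hl'' h hh
      refine ⟨S0.map (res h) ≫ (S0.map l ≫ φ),
        by rw [DerivedLift.ev_map, hev, res_comp, Category.assoc], ?_⟩
      rw [← hl''', Functor.map_comp]
      simp only [Category.assoc] at hk ⊢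
      rw [hk, comp_zero]
    obtain ⟨ι, Y, g, hgT, hg, hgood⟩ := hd T hT
    have : s' = 0 := by
      refine eq_zero_of_locally s' hg ?_
      rintro W k ⟨Z, l, q, ⟨i⟩, rfl⟩
      obtain ⟨φ, hφ, hφ0⟩ := hgT i
      have : φ = 0 := (hgood i N hN2).1 (hφ0.trans zero_comp.symm)
      rw [res_comp, Category.assoc, ← hφ, this, ev, Functor.map_zero, comp_zero, comp_zero]
    exact this
  have hepi : Epi (H0.map ((a n)⟦j⟧')) := by
    refine Preadditive.epi_of_cokernel_zero (eq_zero_of_free hB _ fun V hV x => ?_)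
    obtain ⟨N0, hd⟩ := hloc V hV
    obtain ⟨N, hN1, hN2⟩ : ∃ N, n ≤ N ∧ N0 ≤ N := ⟨max n N0, le_max_left _ _, le_max_right _ _⟩
    obtain ⟨τ, hτ, hτi⟩ := trans' N hN1
    let T : Sieve V :=
      { arrows := fun W g => ∃ φ : S0.obj (ModSite.freeOn O W) ⟶ (K N)⟦j⟧,
          ev φ ≫ H0.map (τ⟦j⟧') = res g ≫ x
        downward_closed := fun {W W'} g => by
          rintro ⟨φ, h1⟩ h
          exact ⟨S0.map (res h) ≫ φ, by rw [DerivedLift.ev_map, Category.assoc, h1, res_comp, Category.assoc]⟩ }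
    have hT : T ∈ J V := by
      obtain ⟨M', p, hp, φ, hφ⟩ := DerivedLift.exists_epi_lift (X := (K N)⟦j⟧) (x ≫ inv (H0.map (τ⟦j⟧')))
      obtain ⟨S, hS, hl⟩ := exists_local_lift p
      refine J.superset_covering (fun W g hg => ?_) hS
      obtain ⟨l, hl'⟩ := hl g hg
      exact ⟨S0.map l ≫ φ, by rw [DerivedLift.ev_map, hφ, Category.assoc, Category.assoc, Category.assoc, IsIso.inv_hom_id, Category.comp_id, reassoc_of% hl']⟩
    obtain ⟨ι, Y, g, hgT, hg, hgood⟩ := hd T hT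
    refine eq_zero_of_locally _ hg ?_
    rintro W k ⟨Z, l, q, ⟨i⟩, rfl⟩
    obtain ⟨φ, hφ⟩ := hgT i
    obtain ⟨y, hy⟩ := (hgood i N hN2).2 φ
    dsimp only at hy
    rw [res_comp, Category.assoc, ← Category.assoc (res (g i)), ← hφ, ← hy, DerivedLift.ev_comp,
      Category.assoc, Category.assoc, ← Functor.map_comp_assoc, ← Functor.map_comp, hτ,
      cokernel.condition, comp_zero, comp_zero]
  exact isIso_of_mono_of_epi _


variable (A : ObjectProperty (ModSite.Mod O)) [WSerre.IsWeakSerre A]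

open Groth.Misc4 in
/-- Cohomology of derived limits of eventually constant systems. -/
theorem isIso_homology (B : Set C)
    (hB : ∀ U : C, ∃ (ι : Type u) (Y : ι → C) (g : ∀ i, Y i ⟶ U), Sieve.ofArrows Y g ∈ J U ∧ ∀ i, Y i ∈ B)
    (hA : ∀ V ∈ B, ∃ d : ℕ, ∀ T ∈ J V, ∃ (ι : Type u) (Y : ι → C) (g : ∀ i, Y i ⟶ V),
      (∀ i, T.arrows (g i)) ∧ Sieve.ofArrows Y g ∈ J V ∧ ∀ i, Good A d (Y i))
    (K : ℕ → DerivedCategory (ModSite.Mod O)) (t : ∀ n, K (n + 1) ⟶ K n) [HasProduct K]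
    (hK : ∀ n, WSerre.cohInPlus A (K n))
    (hconst : ∀ j : ℤ, ∃ n₀ : ℕ, ∀ n, n₀ ≤ n →
      IsIso ((DerivedCategory.homologyFunctor (ModSite.Mod O) j).map (t n)))
    (L : DerivedCategory (ModSite.Mod O)) (a : ∀ n, L ⟶ K n) (hL : CohCx.IsRlimVia K t L a) (j : ℤ) :
    ∃ n₀ : ℕ, ∀ n, n₀ ≤ n → IsIso ((DerivedCategory.homologyFunctor (ModSite.Mod O) j).map (a n)) := by
  have : HasExt.{u} (ModSite.Mod O) := hasExt_of_enoughInjectives _
  choose n0 hn0 using hconst
  have hc := RlimEventual.compat hL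
  -- bijectivity of maps out of good objects
  have key : ∀ d : ℕ, ∃ N : ℕ, n0 j ≤ N ∧ ∀ Y, Good A d Y → ∀ n, N ≤ n →
      Function.Bijective fun y : S0.obj (ModSite.freeOn O Y) ⟶ L⟦j⟧ => y ≫ (a n)⟦j⟧' := by
    intro d
    let M := (Finset.Icc (j - 2 - (d : ℤ)) (j + 1)).sup n0
    refine ⟨max (n0 j) M, le_max_left _ _, fun Y hY n hn => ?_⟩
    have hext : ∀ F, A F → ∀ k : ℕ, d < k → Subsingleton (Abelian.Ext (ModSite.freeOn O Y) F k) :=
      fun F hF k hk => have := hY F hF k hk; ExtFree.subsingleton_ext_freeOn Y F k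
    have hw : ∀ m, max (n0 j) M ≤ m → ∀ q : ℤ, j - 2 - d ≤ q → q ≤ j + 1 →
        IsIso ((DerivedCategory.homologyFunctor (ModSite.Mod O) q).map (t m)) := fun m hm q h1 h2 =>
      hn0 q m (((Finset.le_sup (Finset.mem_Icc.2 ⟨h1, h2⟩)).trans (le_max_right _ _)).trans hm)
    exact RlimEventual.bijective_of_eventually hL _ j (max (n0 j) M)
      (fun m hm => RlimVanish.bijective_comp_shift A hext (t m) (hK _) (hK _) j
        fun q h1 h2 => hw m hm q (by lia) (by lia))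
      (fun m hm => (RlimVanish.bijective_comp_shift A hext (t m) (hK _) (hK _) (j - 1)
        fun q h1 h2 => hw m hm q (by lia) (by lia)).2) n hn
  refine ⟨n0 j, fun n hn => isIso_homology_of_bijective B hB K t L a hc j (fun V hV => ?_) (n0 j) (hn0 j) n hn⟩
  obtain ⟨d, hd⟩ := hA V hV
  obtain ⟨N, -, hN⟩ := key d
  refine ⟨N, fun T hT => ?_⟩
  obtain ⟨ι, Y, g, hgT, hg, hgood⟩ := hd T hT
  exact ⟨ι, Y, g, hgT, hg, fun i => hN (Y i) (hgood i)⟩

end Groth.Misc4.RlimSite
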