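import Groth.Agent.Misc7.HDU.Rlim
import Groth.Agent.Misc4.DerivedLift
import Groth.Prelude.Def_WeakSerre
import Mathlib.Algebra.Homology.DerivedCategory.Ext.Basic

/-!
Morphisms from an object to derived limits of systems with eventually constant cohomology, under
vanishing of Ext above some degree.
-/

universe w w' v u

set_option backward.defeqAttrib.useBackward true
set_option backward.isDefEq.respectTransparency false
set_option linter.unusedSectionVars false

namespace Groth.Misc4.RlimVanish

open CategoryTheory CategoryTheory.Limits Pretriangulated DerivedCategory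
open Groth.Misc4.DerivedLift (S0)

variable {A : Type u} [Category.{v} A] [Abelian A] [HasDerivedCategory.{w} A]

/-- cohomology of a shift -/
noncomputable def hShift (X : DerivedCategory A) (m q q' : ℤ) (h : m + q = q') :
    (homologyFunctor A q).obj (X⟦m⟧) ≅ (homologyFunctor A q').obj X :=
  ((homologyFunctor A 0).shiftIso m q q' h).app X

lemma hShift_nat {X Y : DerivedCategory A} (f : X ⟶ Y) (m q q' : ℤ) (h : m + q = q') :
    (homologyFunctor A q).map (f⟦m⟧') ≫ (hShift Y m q q' h).hom =
      (hShift X m q q' h).hom ≫ (homologyFunctor A q').map f :=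
  ((homologyFunctor A 0).shiftIso m q q' h).hom.naturality f

variable (P : ObjectProperty A) [WSerre.IsWeakSerre P]

lemma cohInPlus_shift {X : DerivedCategory A} (hX : WSerre.cohInPlus P X) (m : ℤ) :
    WSerre.cohInPlus P (X⟦m⟧) := by
  obtain ⟨a, ha⟩ := hX.2
  exact ⟨fun q => P.prop_of_iso (hShift X m q (m + q) rfl).symm (hX.1 (m + q)),
    ⟨a - m, TStructure.t.isGE_shift X a m (a - m) (by lia)⟩⟩

/-- Vanishing of the groups `Ext^{-q}(M, H^q X)` kills morphisms to a bounded below object. -/
theorem eq_zero_of_ext [HasExt.{w'} A] {M : A}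
    {X : DerivedCategory A} {a : ℤ} (ha : TStructure.t.IsGE X a)
    (hX : ∀ (q : ℤ) (k : ℕ), (k : ℤ) = -q →
      Subsingleton (Abelian.Ext M ((homologyFunctor A q).obj X) k))
    (f : S0.obj M ⟶ X) : f = 0 := by
  have hS : (S0.obj M).IsLE 0 :=
    inferInstanceAs (((singleFunctor A 0).obj M).IsLE 0)
  induction hn : (1 - a).toNat generalizing X a with
  | zero =>
    exact TStructure.t.zero_of_isLE_of_isGE f 0 a (by lia) hS ha
  | succ k ih =>
    by_cases hz : IsZero ((homologyFunctor A a).obj X)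
    · refine ih (a := a + 1) ?_ hX f (by lia)
      refine (isGE_iff X (a + 1)).2 fun i hi => ?_
      by_cases hia : i = a
      · exact hia ▸ hz
      · exact X.isZero_of_isGE a i (by lia)
    obtain ⟨U, V, hU, hV, i, p, δ', hT⟩ := TStructure.t.exists_triangle X a (a + 1) rfl
    have : U.IsLE a := ⟨hU⟩
    have : V.IsGE (a + 1) := ⟨hV⟩
    let T := Triangle.mk i p δ'
    have hUge : U.IsGE a := by
      rw [isGE_iff]
      intro j hj
      refine (HomologySequence.exact₁ T hT (j - 1) j (by lia)).isZero_of_both_zeros ?_ ?_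
      · exact (V.isZero_of_isGE (a + 1) (j - 1) (by lia)).eq_of_src _ _
      · exact (X.isZero_of_isGE a j hj).eq_of_tgt _ _
    have hUiso : IsIso ((homologyFunctor A a).map i) := by
      have : Epi ((homologyFunctor A a).map i) :=
        (HomologySequence.epi_homologyMap_mor₁_iff T hT a).2
          ((V.isZero_of_isGE (a + 1) a (by lia)).eq_of_tgt _ _)
      have : Mono ((homologyFunctor A a).map i) :=
        (HomologySequence.mono_homologyMap_mor₁_iff T hT (a - 1) a (by lia)).2
          ((V.isZero_of_isGE (a + 1) (a - 1) (by lia)).eq_of_src _ _)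
      exact isIso_of_mono_of_epi _
    have hViso : ∀ j, a < j → IsIso ((homologyFunctor A j).map p) := fun j hj => by
      have : Epi ((homologyFunctor A j).map p) :=
        (HomologySequence.epi_homologyMap_mor₂_iff T hT j (j + 1) rfl).2
          ((U.isZero_of_isLE a (j + 1) (by lia)).eq_of_tgt _ _)
      have : Mono ((homologyFunctor A j).map p) :=
        (HomologySequence.mono_homologyMap_mor₂_iff T hT j).2
          ((U.isZero_of_isLE a j hj).eq_of_src _ _)
      exact isIso_of_mono_of_epi _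
    have hfp : f ≫ p = 0 := by
      refine ih (a := a + 1) inferInstance (fun q k' hk' => ?_) (f ≫ p) (by lia)
      by_cases hq : a < q
      · have := hViso q hq
        have := hX q k' hk'
        have : Subsingleton (((Abelian.extFunctor k').obj (Opposite.op M)).obj
            ((homologyFunctor A q).obj X)) := hX q k' hk'
        exact (((Abelian.extFunctor k').obj (Opposite.op M)).mapIso
          (asIso ((homologyFunctor A q).map p))).addCommGroupIsoToAddEquiv.symm.subsingleton
      · have h0 := (V.isZero_of_isGE (a + 1) q (by lia)).eq_of_src (𝟙 _) 0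
        exact ⟨fun e e' => by
          rw [← Abelian.Ext.comp_mk₀_id e, ← Abelian.Ext.comp_mk₀_id e', h0, Abelian.Ext.mk₀_zero,
            Abelian.Ext.comp_zero, Abelian.Ext.comp_zero]⟩
    obtain ⟨g, hg⟩ : ∃ g : S0.obj M ⟶ U, f = g ≫ i := Triangle.coyoneda_exact₂ T hT f hfp
    obtain ⟨F, ⟨e⟩⟩ := exists_iso_singleFunctor_obj_of_isGE_of_isLE U a
    have hF : (homologyFunctor A a).obj X ≅ F :=
      (asIso ((homologyFunctor A a).map i)).symm ≪≫ (homologyFunctor A a).mapIso e ≪≫
        (singleFunctorCompHomologyFunctorIso A a).app F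
    let b : ℕ := (-a).toNat
    have : Subsingleton (((Abelian.extFunctor b).obj (Opposite.op M)).obj
        ((homologyFunctor A a).obj X)) := hX a b (by lia)
    have : Subsingleton (Abelian.Ext M F b) :=
      (((Abelian.extFunctor b).obj (Opposite.op M)).mapIso hF).addCommGroupIsoToAddEquiv.symm.subsingleton
    let e' : (singleFunctor A a).obj F ≅ ((singleFunctor A 0).obj F)⟦(b : ℤ)⟧ :=
      (((singleFunctors A).shiftIso (b : ℤ) a 0 (by lia)).app F).symm
    have hg0 : g ≫ e.hom ≫ e'.hom = 0 := by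
      exact (Abelian.Ext.homEquiv (C := A) (X := M) (Y := F) (n := b)).symm.injective (this.elim _ _)
    have : g = 0 := by
      rw [← cancel_mono e.hom, ← cancel_mono e'.hom, Category.assoc, hg0, zero_comp, zero_comp]
    rw [hg, this, zero_comp]

/-- Ext vanishing above a bound kills morphisms to objects without cohomology in the window. -/
theorem eq_zero_of_window [HasExt.{w'} A] {M : A} {d : ℕ}
    (hM : ∀ F : A, P F → ∀ k : ℕ, d < k → Subsingleton (Abelian.Ext M F k))
    {X : DerivedCategory A} (hX : WSerre.cohInPlus P X)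
    (hwin : ∀ q : ℤ, -(d : ℤ) ≤ q → q ≤ 0 → IsZero ((homologyFunctor A q).obj X))
    (f : S0.obj M ⟶ X) : f = 0 := by
  obtain ⟨hP, a, ha⟩ := hX
  refine eq_zero_of_ext ha (fun q k hk => ?_) f
  by_cases hd : d < k
  · exact hM _ (hP q) k hd
  · have h0 := (hwin q (by lia) (by lia)).eq_of_src (𝟙 _) 0
    exact ⟨fun e e' => by
      rw [← Abelian.Ext.comp_mk₀_id e, ← Abelian.Ext.comp_mk₀_id e', h0, Abelian.Ext.mk₀_zero,
        Abelian.Ext.comp_zero, Abelian.Ext.comp_zero]⟩

/-- A cone of a map which is bijective on cohomology in the neighbouring degrees. -/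
lemma isZero_cone {T : Triangle (DerivedCategory A)} (hT : T ∈ distTriang _) (q : ℤ)
    [IsIso ((homologyFunctor A q).map T.mor₁)] [IsIso ((homologyFunctor A (q + 1)).map T.mor₁)] :
    IsZero ((homologyFunctor A q).obj T.obj₃) :=
  (HomologySequence.exact₃ T hT q (q + 1) rfl).isZero_of_both_zeros
    ((HomologySequence.epi_homologyMap_mor₁_iff T hT q).1 inferInstance)
    ((HomologySequence.mono_homologyMap_mor₁_iff T hT q (q + 1) rfl).1 inferInstance)

/-- Cones stay in the bounded below part with cohomology in a weak Serre subcategory. -/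
lemma cohInPlus_cone {T : Triangle (DerivedCategory A)} (hT : T ∈ distTriang _)
    (h₁ : WSerre.cohInPlus P T.obj₁) (h₂ : WSerre.cohInPlus P T.obj₂) :
    WSerre.cohInPlus P T.obj₃ := by
  obtain ⟨hP₁, a₁, ha₁⟩ := h₁
  obtain ⟨hP₂, a₂, ha₂⟩ := h₂
  refine ⟨fun q => ?_, min a₁ a₂ - 1, ?_⟩
  · let f := (homologyFunctor A q).map T.mor₁
    let g := (homologyFunctor A q).map T.mor₂
    let δ' := HomologySequence.δ T q (q + 1) rfl
    let k := (homologyFunctor A (q + 1)).map T.mor₁
    have hfg : f ≫ g = 0 := (ShortComplex.zero (ShortComplex.mk _ _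
      (by simp only [f, g, ← Functor.map_comp, comp_distTriang_mor_zero₁₂ _ hT, Functor.map_zero] :
        f ≫ g = 0)))
    let α : cokernel f ⟶ (homologyFunctor A q).obj T.obj₃ := cokernel.desc f g hfg
    let β : (homologyFunctor A q).obj T.obj₃ ⟶ kernel k :=
      kernel.lift k δ' (HomologySequence.δ_comp T hT q (q + 1) rfl)
    have hαβ : α ≫ β = 0 := by
      rw [← cancel_epi (cokernel.π f), ← cancel_mono (kernel.ι k)]
      simp [α, β, g, δ', HomologySequence.comp_δ T hT q (q + 1) rfl]
    have : Mono α := (ShortComplex.exact_iff_mono_cokernel_desc _).1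
      (HomologySequence.exact₂ T hT q)
    have : Epi β := (ShortComplex.exact_iff_epi_kernel_lift _).1
      (HomologySequence.exact₁ T hT q (q + 1) rfl)
    let S := ShortComplex.mk α β hαβ
    have hex : S.Exact := by
      let φ : ShortComplex.mk g δ' (HomologySequence.comp_δ T hT q (q + 1) rfl) ⟶
          ShortComplex.mk α δ' (by simpa [β, reassoc_of% hαβ] using
            (congrArg (· ≫ kernel.ι k) hαβ)) :=
        { τ₁ := cokernel.π f, τ₂ := 𝟙 _, τ₃ := 𝟙 _ }
      have : Epi φ.τ₁ := inferInstanceAs (Epi (cokernel.π f))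
      have h := (ShortComplex.exact_iff_of_epi_of_isIso_of_mono φ).1
        (HomologySequence.exact₃ T hT q (q + 1) rfl)
      let ψ : S ⟶ ShortComplex.mk α δ' (by simpa [β] using congrArg (· ≫ kernel.ι k) hαβ) :=
        { τ₁ := 𝟙 _, τ₂ := 𝟙 _, τ₃ := kernel.ι k }
      have : Mono ψ.τ₃ := inferInstanceAs (Mono (kernel.ι k))
      exact (ShortComplex.exact_iff_of_epi_of_isIso_of_mono ψ).2 h
    exact P.prop_X₂_of_shortExact (S := S) { exact := hex }
      (P.prop_of_isColimit_cokernelCofork (colimit.isColimit (parallelPair f 0)) (hP₁ q) (hP₂ q))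
      (P.prop_of_isLimit_kernelFork (limit.isLimit (parallelPair k 0)) (hP₁ (q + 1)) (hP₂ (q + 1)))
  · have : T.obj₁.IsGE a₁ := ha₁
    have : T.obj₂.IsGE a₂ := ha₂
    refine (isGE_iff T.obj₃ _).2 fun i hi => ?_
    exact (HomologySequence.exact₃ T hT i (i + 1) rfl).isZero_of_both_zeros
      ((T.obj₂.isZero_of_isGE a₂ i (by lia)).eq_of_src _ _)
      ((T.obj₁.isZero_of_isGE a₁ (i + 1) (by lia)).eq_of_tgt _ _)

/-- Postcomposition is bijective when the cone receives no morphisms. -/
theorem bijective_comp_of_cone {W : DerivedCategory A} {T : Triangle (DerivedCategory A)} (hT : T ∈ distTriang _)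
    (m : ℤ) (h₁ : ∀ f : W ⟶ T.obj₃⟦m⟧, f = 0) (h₂ : ∀ f : W ⟶ (T.obj₃⟦(-1 : ℤ)⟧)⟦m⟧, f = 0) :
    Function.Bijective fun f : W ⟶ T.obj₁⟦m⟧ => f ≫ T.mor₁⟦m⟧' := by
  constructor
  · intro f₁ f₂ h
    have hT' := Triangle.shift_distinguished _ (inv_rot_of_distTriang _ hT) m
    have h0 : (f₁ - f₂) ≫ ((Triangle.shiftFunctor _ m).obj T.invRotate).mor₂ = 0 := by
      change (f₁ - f₂) ≫ (m.negOnePow • T.mor₁⟦m⟧') = 0
      rw [Linear.comp_units_smul, Preadditive.sub_comp,
        show f₁ ≫ T.mor₁⟦m⟧' = f₂ ≫ T.mor₁⟦m⟧' from h, sub_self, smul_zero]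
    obtain ⟨e, he⟩ := Triangle.coyoneda_exact₂ _ hT' _ h0
    have : e = 0 := h₂ e
    rw [← sub_eq_zero, he, this, zero_comp]
  · intro f
    have hT' := Triangle.shift_distinguished _ hT m
    have h0 : f ≫ ((Triangle.shiftFunctor _ m).obj T).mor₂ = 0 := h₁ _
    obtain ⟨e, he⟩ := Triangle.coyoneda_exact₂ _ hT' f h0
    refine ⟨m.negOnePow • e, ?_⟩
    change (m.negOnePow • e) ≫ T.mor₁⟦m⟧' = f
    rw [Linear.units_smul_comp, he]
    change _ = e ≫ (m.negOnePow • T.mor₁⟦m⟧')
    rw [Linear.comp_units_smul]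

variable [HasExt.{w'} A] {M : A} {d : ℕ}
  (hM : ∀ F : A, P F → ∀ k : ℕ, d < k → Subsingleton (Abelian.Ext M F k))

include hM in
/-- Maps which are bijective on cohomology in a window are bijective on morphisms from an object. -/
theorem bijective_comp_shift {X Y : DerivedCategory A} (t : X ⟶ Y) (hX : WSerre.cohInPlus P X)
    (hY : WSerre.cohInPlus P Y) (m : ℤ)
    (hwin : ∀ q : ℤ, m - 1 - d ≤ q → q ≤ m + 1 → IsIso ((homologyFunctor A q).map t)) :
    Function.Bijective fun f : S0.obj M ⟶ X⟦m⟧ => f ≫ t⟦m⟧' := by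
  obtain ⟨Z, g, δ', hT⟩ := distinguished_cocone_triangle t
  let T := Triangle.mk t g δ'
  have hz : ∀ q : ℤ, m - 1 - d ≤ q → q ≤ m → IsZero ((homologyFunctor A q).obj Z) := fun q h1 h2 => by
    have := hwin q h1 (by lia)
    have : IsIso ((homologyFunctor A q).map T.mor₁) := by assumption
    have : IsIso ((homologyFunctor A (q + 1)).map T.mor₁) := hwin (q + 1) (by lia) (by lia)
    exact isZero_cone (T := T) hT q
  have hZ : WSerre.cohInPlus P Z := cohInPlus_cone P (T := T) hT hX hY
  exact bijective_comp_of_cone (T := T) hT m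
    (fun e => eq_zero_of_window P hM (X := Z⟦m⟧) (cohInPlus_shift P hZ m)
      (fun q h1 h2 => (hz (m + q) (by lia) (by lia)).of_iso (hShift Z m q (m + q) rfl)) e)
    (fun e => eq_zero_of_window P hM (X := (Z⟦(-1 : ℤ)⟧)⟦m⟧)
      (cohInPlus_shift P (cohInPlus_shift P hZ (-1)) m)
      (fun q h1 h2 => ((hz (-1 + (m + q)) (by lia) (by lia)).of_iso
        (hShift Z (-1) (m + q) _ rfl)).of_iso (hShift _ m q (m + q) rfl)) e)

end Groth.Misc4.RlimVanish
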