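import Groth.Agent.Misc4.RFUpstairs
import Groth.Agent.S9076

/-!
Truncations and unbounded direct images on ringed sites.
-/

universe u

set_option backward.defeqAttrib.useBackward true
set_option backward.isDefEq.respectTransparency false
set_option linter.unusedSectionVars false
set_option linter.style.haveILetI false
set_option synthInstance.maxHeartbeats 400000
set_option maxHeartbeats 1000000

open CategoryTheory CategoryTheory.Limits CategoryTheory.Pretriangulated DerivedCategory Opposite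

attribute [local instance] HasDerivedCategory.standard

namespace Groth.Misc4.RpushTrunc

open Groth.Misc4.DerivedLift (S0)

variable {C : Type u} [SmallCategory C] {J : GrothendieckTopology C} {O_C : Sheaf J CommRingCat.{u}}
  {D : Type u} [SmallCategory D] {K : GrothendieckTopology D} {O_D : Sheaf K CommRingCat.{u}}

/-- Countable products exist in the derived category. -/
lemma hasProduct_nat (O : Sheaf J CommRingCat.{u}) (E : ℕ → DerivedCategory (ModSite.Mod O)) :
    HasProduct E := by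
  have := Groth.DerivedCoh.KInjRes.hasProducts (A := ModSite.Mod O)
  have : HasLimitsOfShape (Discrete ℕ) (DerivedCategory (ModSite.Mod O)) :=
    hasLimitsOfShape_of_equivalence (Discrete.equivalence (Equiv.ulift.{u} (α := ℕ)))
  infer_instance

variable (X : DerivedCategory (ModSite.Mod O_C))

/-- The cone of a map of the truncation tower, as an object in one degree. -/
lemma exists_single_cone (n : ℕ) : ∃ (g : CohCx.truncTower X n ⟶ (singleFunctor _ (-(n : ℤ) - 2)).obj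
      ((homologyFunctor (ModSite.Mod O_C) (-(n : ℤ) - 1)).obj X))
    (δ : _ ⟶ (CohCx.truncTower X (n + 1))⟦(1 : ℤ)⟧),
    Triangle.mk (CohCx.truncTowerMap X n) g δ ∈ distTriang _ := by
  obtain ⟨Z, g, δ, hT⟩ := distinguished_cocone_triangle (CohCx.truncTowerMap X n)
  obtain ⟨hzero, ⟨ez⟩⟩ := RlimTrunc.cone_spec X n hT
  have : Z.IsGE (-(n : ℤ) - 2) := (isGE_iff Z _).2 fun i hi => hzero i (by lia)
  have : Z.IsLE (-(n : ℤ) - 2) := (isLE_iff Z _).2 fun i hi => hzero i (by lia)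
  obtain ⟨F, ⟨e⟩⟩ := exists_iso_singleFunctor_obj_of_isGE_of_isLE Z (-(n : ℤ) - 2)
  let e' : Z ≅ (singleFunctor _ (-(n : ℤ) - 2)).obj
      ((homologyFunctor (ModSite.Mod O_C) (-(n : ℤ) - 1)).obj X) :=
    e ≪≫ (singleFunctor _ _).mapIso (((singleFunctorCompHomologyFunctorIso _ _).app F).symm ≪≫
      (homologyFunctor _ _).mapIso e.symm ≪≫ ez)
  exact ⟨g ≫ e'.hom, e'.inv ≫ δ, isomorphic_distinguished _ hT _
    (Triangle.isoMk _ _ (Iso.refl _) (Iso.refl _) e'.symm (by simp) (by simp) (by simp))⟩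

variable (A : ObjectProperty (ModSite.Mod O_C))

/-- An object with cohomology of bounded local dimension is the derived limit of its truncations. -/
theorem isRlimVia (B : Set C)
    (hB : ∀ U : C, ∃ (ι : Type u) (Y : ι → C) (g : ∀ i, Y i ⟶ U), Sieve.ofArrows Y g ∈ J U ∧ ∀ i, Y i ∈ B)
    (hA : ∀ V ∈ B, ∃ d : ℕ, ∀ T ∈ J V, ∃ (ι : Type u) (Y : ι → C) (g : ∀ i, Y i ⟶ V),
      (∀ i, T.arrows (g i)) ∧ Sieve.ofArrows Y g ∈ J V ∧
      ∀ (i : ι) (F : ModSite.Mod O_C), A F → ∀ k : ℕ, d < k → Subsingleton (ModSite.HU O_C F k (Y i)))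
    (hX : WSerre.cohIn A X) [HasProduct (CohCx.truncTower X)] :
    CohCx.IsRlimVia (CohCx.truncTower X) (CohCx.truncTowerMap X) X (CohCx.toTruncTower X) := by
  refine RlimTrunc.isRlimVia_truncTower X B hB fun V hV j => ?_
  obtain ⟨d, hd⟩ := hA V hV
  refine ⟨((d : ℤ) - j + 1).toNat, fun T hT => ?_⟩
  obtain ⟨ι, Y, g, hgT, hg, hv⟩ := hd T hT
  exact ⟨ι, Y, g, hgT, hg, fun i n k hn h1 h2 => hv i _ (hX _) k (by lia)⟩

variable (f : ModSite.RMor O_C O_D) [HasInjectiveResolutions (ModSite.Mod O_C)] [SiteCmp.HasRpushD f]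

/-- The direct images of truncations are eventually constant in each degree. -/
theorem isIso_map (N : ℤ)
    (h4 : ∀ F : ModSite.Mod O_C, A F → ∀ p : ℕ, N < (p : ℤ) → IsZero ((f.Rpush p).obj F))
    (hX : WSerre.cohIn A X) (j : ℤ) (n : ℕ) (hn : N - (n : ℤ) ≤ j) :
    IsIso ((homologyFunctor (ModSite.Mod O_D) j).map ((SiteCmp.RpushD f).map (CohCx.truncTowerMap X n))) := by
  let β := (SiteCmp.pushKh f).totalRightDerivedUnit DerivedCategory.Qh
      (HomotopyCategory.quasiIso (ModSite.Mod O_C) (ComplexShape.up ℤ))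
  obtain ⟨g, δ, hT⟩ := exists_single_cone X n
  let F := (homologyFunctor (ModSite.Mod O_C) (-(n : ℤ) - 1)).obj X
  have hz : ∀ i : ℤ, -(n : ℤ) - 2 + N < i → IsZero ((homologyFunctor (ModSite.Mod O_D) i).obj
      ((SiteCmp.RpushD f).obj ((singleFunctor _ (-(n : ℤ) - 2)).obj F))) := fun i hi => by
    by_cases h0 : i < -(n : ℤ) - 2
    · have := RFBounded.isGE_obj f.push (SiteCmp.RpushD f) β
        ((singleFunctor _ (-(n : ℤ) - 2)).obj F) (-(n : ℤ) - 2)
      exact isZero_of_isGE _ (-(n : ℤ) - 2) i h0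
    · obtain ⟨e'⟩ := RFBounded.nonempty_homology_single f.push (SiteCmp.RpushD f) β F (-(n : ℤ) - 2) i
        (i - (-(n : ℤ) - 2)).toNat (by lia)
      exact (h4 F (hX _) _ (by lia)).of_iso e'
  obtain ⟨δ', hT'⟩ := Groth.DAlg.RFTriangle.exists_distinguished f.push (SiteCmp.RpushD f) β _ hT
  have : Epi ((homologyFunctor (ModSite.Mod O_D) j).map ((SiteCmp.RpushD f).map (CohCx.truncTowerMap X n))) :=
    (HomologySequence.epi_homologyMap_mor₁_iff _ hT' j).2 ((hz j (by lia)).eq_of_tgt _ _)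
  have : Mono ((homologyFunctor (ModSite.Mod O_D) j).map ((SiteCmp.RpushD f).map (CohCx.truncTowerMap X n))) :=
    (HomologySequence.mono_homologyMap_mor₁_iff _ hT' (j - 1) j (by lia)).2
      ((hz (j - 1) (by lia)).eq_of_src _ _)
  exact isIso_of_mono_of_epi _

/-- Morphisms out of free modules to the direct images of truncations are eventually constant. -/
theorem bijective_map (V : D) (hX : WSerre.cohIn A X) (d : ℕ)
    (hV : ∀ F : ModSite.Mod O_C, A F → ∀ k : ℕ, d < k → Subsingleton (ModSite.HU O_C F k (f.fn.obj V)))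
    (m : ℤ) (n : ℕ) (hn : (d : ℤ) < m + n + 1) :
    Function.Bijective fun φ : S0.obj (ModSite.freeOn O_D V) ⟶
        ((SiteCmp.RpushD f).obj (CohCx.truncTower X (n + 1)))⟦m⟧ =>
      φ ≫ ((SiteCmp.RpushD f).map (CohCx.truncTowerMap X n))⟦m⟧' := by
  let β := (SiteCmp.pushKh f).totalRightDerivedUnit DerivedCategory.Qh
      (HomotopyCategory.quasiIso (ModSite.Mod O_C) (ComplexShape.up ℤ))
  obtain ⟨g, δ, hT⟩ := exists_single_cone X n
  obtain ⟨δ', hT'⟩ := Groth.DAlg.RFTriangle.exists_distinguished f.push (SiteCmp.RpushD f) β _ hT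
  have kill : ∀ m' : ℤ, (d : ℤ) < m' + n + 2 → ∀ φ : S0.obj (ModSite.freeOn O_D V) ⟶
      ((SiteCmp.RpushD f).obj ((singleFunctor _ (-(n : ℤ) - 2)).obj
        ((homologyFunctor (ModSite.Mod O_C) (-(n : ℤ) - 1)).obj X)))⟦m'⟧, φ = 0 :=
    fun m' hm' => RFUpstairs.eq_zero_push f V _ _ m' fun k hk => hV _ (hX _) k (by lia)
  refine RlimVanish.bijective_comp_of_cone hT' m (kill m (by lia)) fun φ => ?_
  rw [← cancel_mono ((shiftFunctorAdd' (DerivedCategory (ModSite.Mod O_D)) (-1) m (m - 1) (by lia)).inv.app _),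
    zero_comp]
  exact kill (m - 1) (by lia) _

/-- The truncation map of the direct image when cohomology is bounded on images of objects downstairs. -/
theorem isIso_homology_upstairs [WSerre.IsWeakSerre A] (B : Set C) (B' : Set D)
    (hB : ∀ U : C, ∃ (ι : Type u) (Y : ι → C) (g : ∀ i, Y i ⟶ U), Sieve.ofArrows Y g ∈ J U ∧ ∀ i, Y i ∈ B)
    (hA : ∀ V ∈ B, ∃ d : ℕ, ∀ T ∈ J V, ∃ (ι : Type u) (Y : ι → C) (g : ∀ i, Y i ⟶ V),
      (∀ i, T.arrows (g i)) ∧ Sieve.ofArrows Y g ∈ J V ∧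
      ∀ (i : ι) (F : ModSite.Mod O_C), A F → ∀ k : ℕ, d < k → Subsingleton (ModSite.HU O_C F k (Y i)))
    (hB' : ∀ U : D, ∃ (ι : Type u) (Y : ι → D) (g : ∀ i, Y i ⟶ U), Sieve.ofArrows Y g ∈ K U ∧ ∀ i, Y i ∈ B')
    (hA' : ∀ V ∈ B', ∃ d : ℕ, ∀ T ∈ K V, ∃ (ι : Type u) (Y : ι → D) (g : ∀ i, Y i ⟶ V),
      (∀ i, T.arrows (g i)) ∧ Sieve.ofArrows Y g ∈ K V ∧
      ∀ (i : ι) (F : ModSite.Mod O_C), A F → ∀ k : ℕ, d < k → Subsingleton (ModSite.HU O_C F k (f.fn.obj (Y i))))
    (N : ℤ)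
    (h4 : ∀ F : ModSite.Mod O_C, A F → ∀ p : ℕ, N < (p : ℤ) → IsZero ((f.Rpush p).obj F))
    (hX : WSerre.cohIn A X) (n : ℕ) (j : ℤ) (hj : N - (n : ℤ) ≤ j) :
    IsIso ((homologyFunctor (ModSite.Mod O_D) j).map
      ((SiteCmp.RpushD f).map (CohCx.toTruncTower X n))) := by
  have := hasProduct_nat O_C (CohCx.truncTower X)
  have := hasProduct_nat O_D (fun n => (SiteCmp.RpushD f).obj (CohCx.truncTower X n))
  have hRl := Groth.Agent.S9076.result f (CohCx.truncTower X) (CohCx.truncTowerMap X) X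
    (CohCx.toTruncTower X) (isRlimVia X A B hB hA hX)
  refine RlimSite.isIso_homology_of_bijective B' hB' _ _ _ _ (RlimEventual.compat hRl) j
    (fun V hV => ?_) n (fun m hm => isIso_map X A f N h4 hX j m (by lia)) n le_rfl
  obtain ⟨d, hd⟩ := hA' V hV
  refine ⟨((d : ℤ) - j + 1).toNat, fun T hT => ?_⟩
  obtain ⟨ι, Y, g, hgT, hg, hv⟩ := hd T hT
  exact ⟨ι, Y, g, hgT, hg, fun i => RlimEventual.bijective_of_eventually hRl _ j _
    (fun m hm => bijective_map X A f (Y i) hX d (hv i) j m (by lia))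
    (fun m hm => (bijective_map X A f (Y i) hX d (hv i) (j - 1) m (by lia)).2)⟩

end Groth.Misc4.RpushTrunc
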