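import Groth.Prelude.Def_SiteCmp
import Groth.Prelude.Def_CohSite
import Groth.Agent.SiteCohomology.RestrictCohomology
import Groth.Agent.CohFin.Acyclic
import Mathlib.CategoryTheory.Adjunction.Additive
import Mathlib.CategoryTheory.Adjunction.FullyFaithful

/-!
The comparison functors between two topologies on the slices of a small site, with restriction and push-forward.
-/

universe u

set_option backward.defeqAttrib.useBackward true
set_option backward.isDefEq.respectTransparency false
set_option linter.unusedSectionVars false
set_option maxHeartbeats 1000000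
set_option synthInstance.maxHeartbeats 400000

open CategoryTheory CategoryTheory.Limits Opposite

namespace Groth.Misc4.SiteCmpBase

section Eps

variable {C : Type u} [SmallCategory C] {J J' : GrothendieckTopology C} (h : J' ≤ J)

/-- The comparison functor is fully faithful. -/
def epsFullyFaithful : (SiteCmp.epsSh h AddCommGrpCat.{u}).FullyFaithful where
  preimage {F G} ψ := ⟨{ app := fun U => ψ.hom.app U, naturality := fun {U V} g => ψ.hom.naturality g }⟩

instance full_eps : (SiteCmp.epsSh h AddCommGrpCat.{u}).Full := (epsFullyFaithful h).full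

instance faithful_eps : (SiteCmp.epsSh h AddCommGrpCat.{u}).Faithful := (epsFullyFaithful h).faithful

instance additive_eps : (SiteCmp.epsSh h AddCommGrpCat.{u}).Additive where

/-- The chosen adjunction. -/
noncomputable abbrev epsAdj : SiteCmp.epsShInv h AddCommGrpCat.{u} ⊣ SiteCmp.epsSh h AddCommGrpCat.{u} :=
  SiteCmp.epsShAdj h AddCommGrpCat.{u}

instance preservesFiniteLimits_eps : PreservesFiniteLimits (SiteCmp.epsSh h AddCommGrpCat.{u}) :=
  (epsAdj h).rightAdjoint_preservesLimits.{0, 0}.preservesFiniteLimits

/-- Sheafification for the finer topology, as a left adjoint of the comparison functor. -/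
noncomputable def sheafifyAdj :
    (sheafToPresheaf J' AddCommGrpCat.{u} ⋙ presheafToSheaf J AddCommGrpCat.{u}) ⊣ SiteCmp.epsSh h AddCommGrpCat.{u} :=
  Adjunction.mkOfHomEquiv
    { homEquiv := fun F G => ((sheafificationAdjunction J AddCommGrpCat.{u}).homEquiv F.obj G).trans
        { toFun := fun φ => ⟨φ⟩
          invFun := fun ψ => ψ.hom
          left_inv := fun _ => rfl
          right_inv := fun _ => rfl }
      homEquiv_naturality_left_symm := fun {F F' G} φ ψ =>
        (sheafificationAdjunction J AddCommGrpCat.{u}).homEquiv_naturality_left_symm φ.hom ψ.hom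
      homEquiv_naturality_right := fun {F G G'} φ ψ => Sheaf.hom_ext
        ((sheafificationAdjunction J AddCommGrpCat.{u}).homEquiv_naturality_right φ ψ) }

instance preservesFiniteColimits_epsInv : PreservesFiniteColimits (SiteCmp.epsShInv h AddCommGrpCat.{u}) :=
  (epsAdj h).leftAdjoint_preservesColimits.{0, 0}.preservesFiniteColimits

instance preservesFiniteLimits_epsInv : PreservesFiniteLimits (SiteCmp.epsShInv h AddCommGrpCat.{u}) := by
  have : PreservesFiniteLimits (sheafToPresheaf J' AddCommGrpCat.{u}) :=
    (sheafificationAdjunction J' AddCommGrpCat.{u}).rightAdjoint_preservesLimits.{0, 0}.preservesFiniteLimits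
  exact preservesFiniteLimits_of_natIso ((sheafifyAdj h).leftAdjointUniq (epsAdj h))

instance additive_epsInv : (SiteCmp.epsShInv h AddCommGrpCat.{u}).Additive :=
  (epsAdj h).left_adjoint_additive

/-- The comparison functor preserves injective objects. -/
theorem injective_eps (I : Sheaf J AddCommGrpCat.{u}) [Injective I] :
    Injective ((SiteCmp.epsSh h AddCommGrpCat.{u}).obj I) :=
  SiteCohomology.injective_map_of_adjunction (epsAdj h) I

/-- The unit is invertible on sheaves for the finer topology. -/
theorem isIso_unit (G : Sheaf J' AddCommGrpCat.{u}) (hG : Presheaf.IsSheaf J G.obj) :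
    IsIso ((epsAdj h).unit.app G) := by
  let e : (SiteCmp.epsSh h AddCommGrpCat.{u}).obj ⟨G.obj, hG⟩ ≅ G :=
    { hom := ⟨{ app := fun U => 𝟙 _, naturality := fun {U V} g => (Category.comp_id _).trans (Category.id_comp _).symm }⟩
      inv := ⟨{ app := fun U => 𝟙 _, naturality := fun {U V} g => (Category.comp_id _).trans (Category.id_comp _).symm }⟩
      hom_inv_id := Sheaf.hom_ext (NatTrans.ext (funext fun U => Category.comp_id _))
      inv_hom_id := Sheaf.hom_ext (NatTrans.ext (funext fun U => Category.comp_id _)) }
  rw [← NatTrans.isIso_app_iff_of_iso (epsAdj h).unit e]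
  infer_instance

/-- A sheaf with vanishing pull-back has all its sections locally zero. -/
theorem exists_cover_of_isZero (G : Sheaf J' AddCommGrpCat.{u})
    (hG : IsZero ((SiteCmp.epsShInv h AddCommGrpCat.{u}).obj G)) {U : C} (x : G.obj.obj (op U)) :
    ∃ S ∈ J U, ∀ ⦃V : C⦄ (g : V ⟶ U), S g → G.obj.map g.op x = 0 := by
  have h0 : toSheafify J G.obj = 0 := by
    have : IsZero ((sheafToPresheaf J' AddCommGrpCat.{u} ⋙ presheafToSheaf J AddCommGrpCat.{u}).obj G) :=
      hG.of_iso (((sheafifyAdj h).leftAdjointUniq (epsAdj h)).app G)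
    exact (((sheafToPresheaf J _).map_isZero this).eq_of_tgt _ _)
  refine ⟨Presheaf.equalizerSieve (F := G.obj) (X := op U) x 0, ?_, fun V g hg => ?_⟩
  · refine Presheaf.equalizerSieve_mem J (toSheafify J G.obj) x 0 ?_
    rw [h0]
    rfl
  · exact (hg : G.obj.map g.op x = G.obj.map g.op 0).trans (map_zero _)

end Eps

section Slice

variable {C : Type u} [SmallCategory C] (J : GrothendieckTopology C) {X Y : C} (f : X ⟶ Y)

/-- Restriction to the slice over the source. -/
noncomputable abbrev rest : Sheaf (J.over Y) AddCommGrpCat.{u} ⥤ Sheaf (J.over X) AddCommGrpCat.{u} :=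
  CohSite.push (J.over Y) (J.over X) (Over.map f)

/-- Push-forward to the slice over the target. -/
noncomputable abbrev pushC : Sheaf (J.over X) AddCommGrpCat.{u} ⥤ Sheaf (J.over Y) AddCommGrpCat.{u} :=
  (Over.map f).sheafPushforwardCocontinuous AddCommGrpCat.{u} (J.over X) (J.over Y)

/-- The adjunction between restriction and push-forward. -/
noncomputable abbrev restAdj : rest J f ⊣ pushC J f :=
  (Over.map f).sheafAdjunctionCocontinuous AddCommGrpCat.{u} (J.over X) (J.over Y)

instance preservesFiniteColimits_rest : PreservesFiniteColimits (rest J f) :=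
  (restAdj J f).leftAdjoint_preservesColimits.{0, 0}.preservesFiniteColimits

instance preservesFiniteLimits_rest : PreservesFiniteLimits (rest J f) :=
  ((Over.map f).sheafAdjunctionContinuous AddCommGrpCat.{u} (J.over X) (J.over Y)).rightAdjoint_preservesLimits.{0, 0}.preservesFiniteLimits

instance additive_pushC : (pushC J f).Additive := (restAdj J f).right_adjoint_additive

instance preservesFiniteLimits_pushC : PreservesFiniteLimits (pushC J f) :=
  (restAdj J f).rightAdjoint_preservesLimits.{0, 0}.preservesFiniteLimits

/-- Push-forward preserves injective objects. -/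
theorem injective_pushC (I : Sheaf (J.over X) AddCommGrpCat.{u}) [Injective I] : Injective ((pushC J f).obj I) :=
  SiteCohomology.injective_map_of_adjunction (restAdj J f) I

/-- The categories of factorizations through `Over.map f` have filtered components. -/
theorem locallyFiltered_overMap (d : (Over Y)ᵒᵖ) :
    SiteCohomology.LocallyFiltered (CostructuredArrow (Over.map f).op d) := by
  refine SiteCohomology.locallyFiltered_costructuredArrow_op (Over.map f) (fun {d a b c} x y p q hh => ?_)
    (fun {d a b} y p q hh => ?_) d
  · have h' : x.left ≫ p.left = y.left ≫ q.left := congrArg CommaMorphism.left hh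
    refine ⟨Over.mk (x.left ≫ a.hom), Over.homMk (𝟙 d.left) ?_, Over.homMk x.left rfl, Over.homMk y.left ?_, ?_, ?_⟩
    · exact (Category.id_comp _).trans ((Category.assoc _ _ _).trans (Over.w x))
    · rw [← Over.w q, ← Over.w p]
      change y.left ≫ q.left ≫ c.hom = x.left ≫ p.left ≫ c.hom
      rw [← Category.assoc, ← h', Category.assoc]
    · exact Over.OverMorphism.ext (Category.id_comp _)
    · exact Over.OverMorphism.ext (Category.id_comp _)
  · refine ⟨Over.mk (y.left ≫ b.hom), Over.homMk (𝟙 d.left) ?_, Over.homMk y.left rfl, ?_, ?_⟩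
    · exact (Category.id_comp _).trans ((Category.assoc _ _ _).trans (Over.w y))
    · exact Over.OverMorphism.ext (Category.id_comp _)
    · exact Over.OverMorphism.ext (show y.left ≫ p.left = y.left ≫ q.left from congrArg CommaMorphism.left hh)

/-- Restriction preserves injective objects. -/
theorem injective_rest (I : Sheaf (J.over Y) AddCommGrpCat.{u}) [Injective I] : Injective ((rest J f).obj I) :=
  SiteCohomology.injective_restrict (J.over X) (J.over Y) (Over.map f) (locallyFiltered_overMap f) I

/-- A section of a push-forward is zero when all its restrictions along objects over the source are zero. -/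
theorem eq_zero_of_map (H : Sheaf (J.over X) AddCommGrpCat.{u}) {V : Over Y}
    (y : ((pushC J f).obj H).obj.obj (op V))
    (hy : ∀ (Z : Over X) (g : (Over.map f).obj Z ⟶ V), ((pushC J f).obj H).obj.map g.op y = 0) : y = 0 := by
  refine Concrete.isLimit_ext _ ((Over.map f).op.isPointwiseRightKanExtensionRanCounit H.obj (op V)) y 0 fun g => ?_
  have := hy g.right.unop g.hom.unop
  refine Eq.trans ?_ (map_zero _).symm
  change (((Over.map f).op.ranCounit.app H.obj).app g.right) (((pushC J f).obj H).obj.map g.hom.unop.op y) = 0
  exact (congrArg (fun z => ((Over.map f).op.ranCounit.app H.obj).app g.right z) this).trans (map_zero _)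

/-- For a covering arrow, sheaves are separated for restriction. -/
theorem eq_zero_of_rest (hf : Sieve.ofArrows (fun _ : PUnit.{u + 1} => X) (fun _ => f) ∈ J Y)
    (G : Sheaf (J.over Y) AddCommGrpCat.{u}) {V : Over Y} (x : G.obj.obj (op V))
    (hx : ∀ (Z : Over X) (g : (Over.map f).obj Z ⟶ V), G.obj.map g.op x = 0) : x = 0 := by
  have hS : (Sieve.overEquiv V).symm (Sieve.pullback V.hom (Sieve.ofArrows (fun _ : PUnit.{u + 1} => X) (fun _ => f))) ∈
      (J.over Y) V :=
    J.overEquiv_symm_mem_over _ _ (J.pullback_stable V.hom hf)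
  refine ((isSheaf_iff_isSheaf_of_type _ _).1
    ((Presheaf.isSheaf_iff_isSheaf_forget _ G.obj (forget AddCommGrpCat.{u})).1 G.property)).isSeparated
      _ hS |>.ext fun T t ht => ?_
  rw [Sieve.overEquiv_symm_iff] at ht
  obtain ⟨_, k, _, ⟨i⟩, hk⟩ := ht
  let e : T ⟶ (Over.map f).obj (Over.mk k) := Over.homMk (𝟙 T.left)
    ((Category.id_comp _).trans (hk.trans (Over.w t)))
  let e' : (Over.map f).obj (Over.mk k) ⟶ T := Over.homMk (𝟙 T.left)
    ((Category.id_comp _).trans (hk.trans (Over.w t)).symm)
  have ht : t = e ≫ e' ≫ t := Over.OverMorphism.ext (by simp [e, e'])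
  change G.obj.map t.op x = G.obj.map t.op 0
  rw [map_zero, ht, op_comp, Functor.map_comp]
  exact (congrArg (G.obj.map e.op) (hx _ (e' ≫ t))).trans (map_zero _)

/-- The unit of restriction and push-forward along a covering arrow is a monomorphism. -/
theorem mono_unit_of_cover (hf : Sieve.ofArrows (fun _ : PUnit.{u + 1} => X) (fun _ => f) ∈ J Y)
    (G : Sheaf (J.over Y) AddCommGrpCat.{u}) : Mono ((restAdj J f).unit.app G) := by
  refine Preadditive.mono_of_cancel_zero _ fun {T} a ha => ?_
  have h0 : (rest J f).map a = 0 := by
    have := congrArg ((rest J f).map) ha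
    rw [Functor.map_comp, Functor.map_zero] at this
    have h2 := congrArg (· ≫ (restAdj J f).counit.app ((rest J f).obj G)) this
    simpa using h2
  refine Sheaf.hom_ext (NatTrans.ext (funext fun V => AddCommGrpCat.ext fun x => ?_))
  refine eq_zero_of_rest J f hf G _ fun Z g => ?_
  have := congrArg (fun φ : (rest J f).obj T ⟶ (rest J f).obj G => φ.hom.app (op Z) (T.obj.map g.op x)) h0
  exact ((ConcreteCategory.congr_hom (a.hom.naturality g.op) x).symm.trans this)

end Slice

section Compat

variable {C : Type u} [SmallCategory C] {J J' : GrothendieckTopology C} (h : J' ≤ J) {X Y : C} (f : X ⟶ Y)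

/-- The comparison functors commute with restriction. -/
noncomputable def epsRestIso : SiteCmp.epsSh (SiteCmp.over_le h Y) AddCommGrpCat.{u} ⋙ rest J' f ≅
    rest J f ⋙ SiteCmp.epsSh (SiteCmp.over_le h X) AddCommGrpCat.{u} :=
  Iso.refl _

/-- The comparison functors commute with push-forward. -/
noncomputable def epsPushIso : SiteCmp.epsSh (SiteCmp.over_le h X) AddCommGrpCat.{u} ⋙ pushC J' f ≅
    pushC J f ⋙ SiteCmp.epsSh (SiteCmp.over_le h Y) AddCommGrpCat.{u} :=
  Iso.refl _

end Compat

end Groth.Misc4.SiteCmpBase
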