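import Groth.Agent.Misc4.SiteCmpMain
import Groth.Agent.SiteCohomology.HigherDirectImage
import Groth.Agent.SiteCohomology.Free
import Mathlib.CategoryTheory.Comma.Over.Pullback

/-!
Classes on the source of a covering arrow whose two pull-backs agree die locally on the target.
-/

universe u

set_option backward.defeqAttrib.useBackward true
set_option backward.isDefEq.respectTransparency false
set_option linter.unusedSectionVars false
set_option maxHeartbeats 1000000
set_option synthInstance.maxHeartbeats 400000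

open CategoryTheory CategoryTheory.Limits Opposite

namespace Groth.Misc4.SiteCmpKill

open SiteCmpBase SiteCmpMain

variable {C : Type u} [SmallCategory C] (J : GrothendieckTopology C)

/-- Composition of restriction maps on cohomology. -/
lemma res_comp {D : Type u} [SmallCategory D] {K : GrothendieckTopology D} (F : Sheaf K AddCommGrpCat.{u}) (n : ℕ)
    {U V W : D} (a : W ⟶ V) (b : V ⟶ U) (θ : CohSite.HU F n U) :
    CohSite.res F n (a ≫ b) θ = CohSite.res F n a (CohSite.res F n b θ) := by
  simp only [CohSite.res, op_comp, Functor.map_comp]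
  rfl

variable {X Y : C} (f : X ⟶ Y) [HasPullbacksAlong f]

/-- The base change functor between the slices over the target. -/
noncomputable abbrev bc : Over Y ⥤ Over Y := Over.pullback f ⋙ Over.map f

instance isContinuous_pullback : (Over.pullback f).IsContinuous (J.over Y) (J.over X) :=
  (Over.mapPullbackAdj f).isContinuous_of_isCocontinuous _ _

instance isContinuous_bc : (bc f).IsContinuous (J.over Y) (J.over Y) :=
  Functor.isContinuous_comp _ _ (J.over Y) (J.over X) (J.over Y)

/-- Push-forward along base change is restriction followed by push-forward. -/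
noncomputable def pushBcIso : CohSite.push (J.over Y) (J.over Y) (bc f) ≅ rest J f ⋙ pushC J f :=
  (show CohSite.push (J.over Y) (J.over Y) (bc f) ≅ rest J f ⋙ CohSite.push (J.over X) (J.over Y) (Over.pullback f) from
    Iso.refl _) ≪≫
  Functor.isoWhiskerLeft (rest J f)
    (((Over.mapPullbackAdj f).sheafPushforwardContinuous (J.over X) (J.over Y)).rightAdjointUniq (restAdj J f))

instance preservesFiniteLimits_pushBc : PreservesFiniteLimits (CohSite.push (J.over Y) (J.over Y) (bc f)) :=
  preservesFiniteLimits_of_natIso (pushBcIso J f).symm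

/-- The higher direct images along base change are those of the restriction. -/
theorem nonempty_Rpush_bc_iso (F : Sheaf (J.over Y) AddCommGrpCat.{u}) (i : ℕ) :
    Nonempty ((CohSite.Rpush (J.over Y) (J.over Y) (bc f) i).obj F ≅
      ((pushC J f).rightDerived i).obj ((rest J f).obj F)) := by
  obtain ⟨I, hI, hex, ⟨e⟩⟩ := exists_res F
  obtain ⟨a⟩ := CmpEdge.nonempty_homology_iso (CohSite.push (J.over Y) (J.over Y) (bc f)) I i i le_rfl
    (fun m _ => hex m) (fun m => haveI := hI m; CohFin.rightAcyclic_of_injective _ _)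
  obtain ⟨b⟩ := CmpEdge.nonempty_homology_iso (pushC J f)
    (((rest J f).mapHomologicalComplex (ComplexShape.up ℕ)).obj I) i i le_rfl
    (fun m _ => (hex m).map (rest J f))
    (fun m => haveI : Injective ((((rest J f).mapHomologicalComplex (ComplexShape.up ℕ)).obj I).X m) :=
        (haveI := hI m; injective_rest J f (I.X m))
      CohFin.rightAcyclic_of_injective _ _)
  obtain ⟨c, -⟩ := CmpEdge.exists_cycles_iso (rest J f) I 0
  exact ⟨((CohSite.Rpush (J.over Y) (J.over Y) (bc f) i).mapIso e).symm ≪≫ a.symm ≪≫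
    HomologicalComplex.homologyMapIso
      ((NatIso.mapHomologicalComplex (pushBcIso J f) (ComplexShape.up ℕ)).app I) i ≪≫
    (show _ ≅ _ from b) ≪≫ ((pushC J f).rightDerived i).mapIso (c ≪≫ (rest J f).mapIso e)⟩

/-- The projection from a base change to the source. -/
noncomputable def proj (Z : Over Y) : (bc f).obj Z ⟶ Over.mk f :=
  Over.homMk (pullback.snd Z.hom f) rfl

lemma map_proj {Z Z' : Over Y} (g : Z' ⟶ Z) : (bc f).map g ≫ proj f Z = proj f Z' := by
  refine Over.OverMorphism.ext ?_
  simp [proj, bc]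

end Groth.Misc4.SiteCmpKill

namespace Groth.Misc4.SiteCmpKill

open SiteCmpBase SiteCmpMain

variable {C : Type u} [SmallCategory C] {J J' : GrothendieckTopology C} {h : J' ≤ J} {P : MorphismProperty C}
  {A' : ∀ X : C, ObjectProperty (Sheaf (J'.over X) AddCommGrpCat.{u})}

/-- An equalized class on a covering arrow is killed by base change along a covering of the target. -/
theorem exists_cover_killing (S : Situation h P A') {X Y : C} (f : X ⟶ Y) [HasPullbacksAlong f] (hf : P f)
    (hcov : Sieve.ofArrows (fun _ : PUnit.{u + 1} => X) (fun _ => f) ∈ J Y)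
    (F' : Sheaf (J'.over Y) AddCommGrpCat.{u}) (hF' : A' Y F') (n : ℕ) (θ : CohSite.HU F' (n + 1) (Over.mk f))
    (hθ : ∀ (W : C) (p q : W ⟶ X) (hW : IsPullback p q f f),
      CohSite.res F' (n + 1) (Over.homMk p rfl : Over.mk (p ≫ f) ⟶ Over.mk f) θ =
        CohSite.res F' (n + 1) (Over.homMk q hW.w.symm : Over.mk (p ≫ f) ⟶ Over.mk f) θ) :
    ∃ T ∈ (J'.over Y) (Over.mk (𝟙 Y)), ∀ ⦃Z : Over Y⦄ (g : Z ⟶ Over.mk (𝟙 Y)), T g →
      CohSite.res F' (n + 1) (proj f Z) θ = 0 := by
  have := S.weakSerre
  have key : ∀ (Z : Over Y) (k : Z.left ⟶ X) (hk : k ≫ f = Z.hom),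
      CohSite.res F' (n + 1) (Over.homMk k hk : Z ⟶ Over.mk f) θ = 0 →
        CohSite.res F' (n + 1) (proj f Z) θ = 0 := by
    intro Z k hk h0
    let W₀ := IsPullback.of_hasPullback f f
    let m : pullback Z.hom f ⟶ pullback f f :=
      pullback.lift (pullback.fst Z.hom f ≫ k) (pullback.snd Z.hom f) (by rw [Category.assoc, hk, pullback.condition])
    have hm : (m ≫ pullback.fst f f ≫ f) = ((bc f).obj Z).hom := by
      change _ = pullback.snd Z.hom f ≫ f
      rw [pullback.condition, ← Category.assoc, pullback.lift_snd]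
    let m' : (bc f).obj Z ⟶ Over.mk (pullback.fst f f ≫ f) := Over.homMk m hm
    let b : (bc f).obj Z ⟶ Z := Over.homMk (pullback.fst Z.hom f) pullback.condition
    have e1 : proj f Z = m' ≫ (Over.homMk (pullback.snd f f) W₀.w.symm : Over.mk (pullback.fst f f ≫ f) ⟶ Over.mk f) :=
      Over.OverMorphism.ext (pullback.lift_snd _ _ _).symm
    have e2 : m' ≫ (Over.homMk (pullback.fst f f) rfl : Over.mk (pullback.fst f f ≫ f) ⟶ Over.mk f) =
        b ≫ Over.homMk k hk :=
      Over.OverMorphism.ext (pullback.lift_fst _ _ _)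
    rw [e1, res_comp, ← hθ _ _ _ W₀, ← res_comp, e2, res_comp, h0, map_zero]
  let Pre := (bc f).op ⋙ Sheaf.cohomologyPresheaf.{u} F' (n + 1)
  let Sh' := (presheafToSheaf (J'.over Y) AddCommGrpCat.{u}).obj Pre
  have hA : A' Y Sh' := by
    obtain ⟨a⟩ := SiteCohomology.nonempty_Rpush_iso (J'.over Y) (J'.over Y) (bc f) F' (n + 1)
    obtain ⟨b⟩ := nonempty_Rpush_bc_iso J' f F' (n + 1)
    exact (A' Y).prop_of_iso (b.symm ≪≫ a) (S.direct f hf _ (S.restr f _ hF') (n + 1))
  let G : Sheaf (J.over Y) AddCommGrpCat.{u} := ⟨Sh'.obj, S.sheaf Y _ hA⟩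
  let s : Pre.obj (op (Over.mk (𝟙 Y))) := CohSite.res F' (n + 1) (proj f (Over.mk (𝟙 Y))) θ
  have hs : ∀ {Z : Over Y} (g : Z ⟶ Over.mk (𝟙 Y)), Pre.map g.op s = CohSite.res F' (n + 1) (proj f Z) θ :=
    fun g => by
      rw [← map_proj f g, res_comp]
      rfl
  obtain ⟨S₁, hS₁, hS₁θ⟩ := SiteCohomology.exists_cover_res_eq_zero (J := J'.over Y) n F' (Over.mk f) θ
  let t := (toSheafify (J'.over Y) Pre).app _ s
  have ht : t = 0 := by
    refine eq_zero_of_family (K := J) G t (U := Over.mk (𝟙 Y)) (fun _ : PUnit.{u + 1} => f) hcov fun _ => ?_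
    refine ((isSheaf_iff_isSheaf_of_type _ _).1
      ((Presheaf.isSheaf_iff_isSheaf_forget _ G.obj (forget AddCommGrpCat.{u})).1 G.property)).isSeparated
        ((Sieve.pullback (Over.homMk (𝟙 X) (by simp) : Over.mk (f ≫ (Over.mk (𝟙 Y)).hom) ⟶ Over.mk f) S₁))
        ((J.over Y).pullback_stable _ (SiteCmp.over_le h Y _ hS₁)) |>.ext fun Z g hg => ?_
    change G.obj.map g.op (G.obj.map _ t) = G.obj.map g.op 0
    rw [map_zero, ← ConcreteCategory.comp_apply, ← Functor.map_comp, ← op_comp]
    let k : Z ⟶ Over.mk f := g ≫ Over.homMk (𝟙 X) (by simp)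
    have h0 : Pre.map (g ≫ (Over.homMk f rfl : Over.mk (f ≫ (Over.mk (𝟙 Y)).hom) ⟶ Over.mk (𝟙 Y))).op s = 0 := by
      rw [hs]
      exact key Z k.left (Over.w k) (hS₁θ k hg)
    exact ((ConcreteCategory.congr_hom ((toSheafify (J'.over Y) Pre).naturality _) s).symm.trans
      ((congrArg ((toSheafify (J'.over Y) Pre).app _) h0).trans (map_zero _)))
  refine ⟨Presheaf.equalizerSieve (F := Pre) (X := op (Over.mk (𝟙 Y))) s 0,
    Presheaf.equalizerSieve_mem (J'.over Y) (toSheafify (J'.over Y) Pre) s 0 (ht.trans (map_zero _).symm),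
    fun Z g hg => ?_⟩
  rw [← hs g]
  exact (hg : Pre.map g.op s = Pre.map g.op 0).trans (map_zero _)

end Groth.Misc4.SiteCmpKill
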