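import Groth.Agent.Misc4.CmpStep
import Groth.Agent.Misc4.SiteCmpBase

/-!
Vanishing of the higher direct images for a change of topology under the comparison hypotheses.
-/

universe u v u'

set_option backward.defeqAttrib.useBackward true
set_option backward.isDefEq.respectTransparency false
set_option linter.unusedSectionVars false
set_option linter.unusedVariables false
set_option maxHeartbeats 1000000
set_option synthInstance.maxHeartbeats 400000

open CategoryTheory CategoryTheory.Limits Opposite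

namespace Groth.Misc4.SiteCmpMain

section Generic

variable {A : Type u'} [Category.{v} A] [Abelian A] [EnoughInjectives A]

/-- A complex of injectives resolving an object. -/
lemma exists_res (X : A) : ∃ I : CochainComplex A ℕ,
    (∀ m, Injective (I.X m)) ∧ (∀ m, I.ExactAt (m + 1)) ∧ Nonempty (I.cycles 0 ≅ X) := by
  let R := injectiveResolution X
  exact ⟨R.cocomplex, R.injective, fun m => R.cocomplex_exactAt_succ m,
    ⟨(R.cocomplex.cyclesIsKernel 0 1 (by simp)).conePointUniqueUpToIso R.isLimitKernelFork⟩⟩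

end Generic

open SiteCmpBase

variable {C : Type u} [SmallCategory C] {J J' : GrothendieckTopology C}

/-- `ε` for the slice over `X`. -/
noncomputable abbrev E (h : J' ≤ J) (X : C) : Sheaf (J.over X) AddCommGrpCat.{u} ⥤ Sheaf (J'.over X) AddCommGrpCat.{u} :=
  SiteCmp.epsSh (SiteCmp.over_le h X) AddCommGrpCat.{u}

/-- The comparison hypotheses on the class of arrows and the subcategories. -/
structure Situation (h : J' ≤ J) (P : MorphismProperty C) (A' : ∀ X : C, ObjectProperty (Sheaf (J'.over X) AddCommGrpCat.{u})) :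
    Prop where
  weakSerre : ∀ X, WSerre.IsWeakSerre (A' X)
  restr : ∀ ⦃X Y : C⦄ (f : X ⟶ Y) (F' : Sheaf (J'.over Y) AddCommGrpCat.{u}), A' Y F' → A' X ((rest J' f).obj F')
  sheaf : ∀ (X : C) (F' : Sheaf (J'.over X) AddCommGrpCat.{u}), A' X F' → Presheaf.IsSheaf (J.over X) F'.obj
  direct : ∀ ⦃X Y : C⦄ (f : X ⟶ Y), P f → ∀ (F' : Sheaf (J'.over X) AddCommGrpCat.{u}), A' X F' → ∀ i : ℕ,
    A' Y (((pushC J' f).rightDerived i).obj F')

/-- The vanishing condition up to degree `n`. -/
def VN (h : J' ≤ J) (A' : ∀ X : C, ObjectProperty (Sheaf (J'.over X) AddCommGrpCat.{u})) (n : ℕ) : Prop :=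
  ∀ (Z : C) (G : Sheaf (J.over Z) AddCommGrpCat.{u}), A' Z ((E h Z).obj G) → ∀ i : ℕ, 1 ≤ i → i ≤ n →
    IsZero (((E h Z).rightDerived i).obj G)

variable {h : J' ≤ J} {P : MorphismProperty C} {A' : ∀ X : C, ObjectProperty (Sheaf (J'.over X) AddCommGrpCat.{u})}

lemma Situation.isIso_unit (S : Situation h P A') (X : C) (Y : Sheaf (J'.over X) AddCommGrpCat.{u}) (hY : A' X Y) :
    IsIso ((epsAdj (SiteCmp.over_le h X)).unit.app Y) :=
  SiteCmpBase.isIso_unit _ Y (S.sheaf X Y hY)

variable (h) in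
/-- The image of a resolution computes the derived functors of the comparison functor. -/
lemma nonempty_homology_E {X : C} (G : Sheaf (J.over X) AddCommGrpCat.{u}) (I : CochainComplex (Sheaf (J.over X) AddCommGrpCat.{u}) ℕ)
    (hI : ∀ m, Injective (I.X m)) (hex : ∀ m, I.ExactAt (m + 1)) (e : I.cycles 0 ≅ G) (i : ℕ) :
    Nonempty ((((E h X).mapHomologicalComplex (ComplexShape.up ℕ)).obj I).homology i ≅ ((E h X).rightDerived i).obj G) := by
  obtain ⟨j⟩ := CmpEdge.nonempty_homology_iso (E h X) I i i le_rfl (fun m _ => hex m)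
    (fun m => haveI := hI m; CohFin.rightAcyclic_of_injective _ _)
  exact ⟨j ≪≫ ((E h X).rightDerived i).mapIso e⟩

variable (h) in
lemma injective_E {X : C} (I : CochainComplex (Sheaf (J.over X) AddCommGrpCat.{u}) ℕ) (hI : ∀ m, Injective (I.X m)) (m : ℕ) :
    Injective ((((E h X).mapHomologicalComplex (ComplexShape.up ℕ)).obj I).X m) :=
  haveI := hI m
  injective_eps (SiteCmp.over_le h X) (I.X m)

lemma exactAt_E (n : ℕ) (hV : VN h A' n) {X : C} (G : Sheaf (J.over X) AddCommGrpCat.{u}) (hG : A' X ((E h X).obj G))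
    (I : CochainComplex (Sheaf (J.over X) AddCommGrpCat.{u}) ℕ) (hI : ∀ m, Injective (I.X m)) (hex : ∀ m, I.ExactAt (m + 1))
    (e : I.cycles 0 ≅ G) (m : ℕ) (hm : m < n) :
    (((E h X).mapHomologicalComplex (ComplexShape.up ℕ)).obj I).ExactAt (m + 1) := by
  obtain ⟨j⟩ := nonempty_homology_E h G I hI hex e (m + 1)
  rw [HomologicalComplex.exactAt_iff_isZero_homology]
  exact (hV X G hG (m + 1) (by omega) hm).of_iso j

/-- In degrees up to `n`, push-forward of an image is image of a push-forward. -/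
theorem nonempty_homology_pushC (n : ℕ) (hV : VN h A' n) {W V : C} (f : W ⟶ V)
    (G : Sheaf (J.over W) AddCommGrpCat.{u}) (hG : A' W ((E h W).obj G))
    (I : CochainComplex (Sheaf (J.over W) AddCommGrpCat.{u}) ℕ) (hI : ∀ m, Injective (I.X m)) (hex : ∀ m, I.ExactAt (m + 1))
    (e : I.cycles 0 ≅ G) (i : ℕ) (hi : i ≤ n) :
    Nonempty ((((E h V).mapHomologicalComplex (ComplexShape.up ℕ)).obj
        (((pushC J f).mapHomologicalComplex (ComplexShape.up ℕ)).obj I)).homology i ≅
      ((pushC J' f).rightDerived i).obj ((E h W).obj G)) := by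
  obtain ⟨j⟩ := CmpEdge.nonempty_homology_iso (pushC J' f) (((E h W).mapHomologicalComplex (ComplexShape.up ℕ)).obj I)
    n i hi (exactAt_E n hV G hG I hI hex e)
    (fun m => haveI := injective_E h I hI m; CohFin.rightAcyclic_of_injective _ _)
  obtain ⟨c, -⟩ := CmpEdge.exists_cycles_iso (E h W) I 0
  exact ⟨(show _ ≅ _ from j) ≪≫ ((pushC J' f).rightDerived i).mapIso (c ≪≫ (E h W).mapIso e)⟩

/-- Sections over an object as a functor. -/
noncomputable abbrev secF {X : C} (U : Over X) : Sheaf (J'.over X) AddCommGrpCat.{u} ⥤ AddCommGrpCat.{u} :=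
  sheafToPresheaf _ _ ⋙ (evaluation _ _).obj (op U)

instance preservesFiniteLimits_secF {X : C} (U : Over X) : PreservesFiniteLimits (secF (J' := J') U) :=
  haveI : PreservesFiniteLimits (sheafToPresheaf (J'.over X) AddCommGrpCat.{u}) :=
    (sheafificationAdjunction (J'.over X) AddCommGrpCat.{u}).rightAdjoint_preservesLimits.{0, 0}.preservesFiniteLimits
  comp_preservesFiniteLimits _ _

instance additive_secF {X : C} (U : Over X) : (secF (J' := J') U).Additive where

/-- A monomorphism of sheaves is injective on sections. -/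
lemma sections_injective {X : C} {F G : Sheaf (J'.over X) AddCommGrpCat.{u}} (φ : F ⟶ G) [Mono φ] (U : Over X) :
    Function.Injective (φ.hom.app (op U)) :=
  (AddCommGrpCat.mono_iff_injective ((secF U).map φ)).1 inferInstance

/-- Exactness of sections. -/
lemma exists_preimage {X : C} {F G H : Sheaf (J'.over X) AddCommGrpCat.{u}} (k : F ⟶ G) (c : G ⟶ H) (hkc : k ≫ c = 0) [Mono k]
    (hex : (ShortComplex.mk k c hkc).Exact) (U : Over X) (y : G.obj.obj (op U)) (hy : c.hom.app (op U) y = 0) :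
    ∃ r, k.hom.app (op U) r = y :=
  (ShortComplex.ab_exact_iff _).1 (hex.map_of_mono_of_preservesKernel (secF U) ‹_› inferInstance) y hy

variable (h) in
/-- Vanishing of classes killed by a covering arrow of the class. -/
theorem eq_zero_of_cover (S : Situation h P A') (n : ℕ) (hV : VN h A' n) {W V : C} (f : W ⟶ V) (hf : P f)
    (hc : Sieve.ofArrows (fun _ : PUnit.{u + 1} => W) (fun _ => f) ∈ J V)
    (F : Sheaf (J.over V) AddCommGrpCat.{u}) (hF : A' V ((E h V).obj F))
    (x : (((E h V).rightDerived (n + 1)).obj F).obj.obj (op (Over.mk (𝟙 V))))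
    (hx : (((E h V).rightDerived (n + 1)).obj F).obj.map
      (Over.homMk f (Category.comp_id f) : Over.mk f ⟶ Over.mk (𝟙 V)).op x = 0) : x = 0 := by
  have := S.weakSerre
  obtain ⟨I, hI, hex, ⟨e⟩⟩ := exists_res F
  let Jc := ((rest J f).mapHomologicalComplex (ComplexShape.up ℕ)).obj I
  let K := ((pushC J f).mapHomologicalComplex (ComplexShape.up ℕ)).obj Jc
  have hJi : ∀ m, Injective (Jc.X m) := fun m => haveI := hI m; injective_rest J f (I.X m)
  have hKi : ∀ m, Injective (K.X m) := fun m => haveI := hJi m; injective_pushC J f (Jc.X m)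
  have hJe : ∀ m, Jc.ExactAt (m + 1) := fun m => (hex m).map (rest J f)
  obtain ⟨c₀, -⟩ := CmpEdge.exists_cycles_iso (rest J f) I 0
  have eJ : Jc.cycles 0 ≅ (rest J f).obj F := c₀ ≪≫ (rest J f).mapIso e
  have hFW : A' W ((E h W).obj ((rest J f).obj F)) :=
    (A' W).prop_of_iso ((epsRestIso h f).app F) (S.restr f _ hF)
  let η : I ⟶ K :=
    { f := fun m => (restAdj J f).unit.app (I.X m)
      comm' := fun i j _ => ((restAdj J f).unit.naturality (I.d i j)).symm }
  have hη : Mono η := @HomologicalComplex.mono_of_mono_f _ _ _ _ _ _ _ η fun m => mono_unit_of_cover J f hc (I.X m)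
  let T : ShortComplex (CochainComplex (Sheaf (J.over V) AddCommGrpCat.{u}) ℕ) :=
    ShortComplex.mk η (cokernel.π η) (cokernel.condition η)
  have hT : T.ShortExact := CohFin.cokerSeq_shortExact' η
  have hTm : ∀ m, (T.map (HomologicalComplex.eval _ _ m)).ShortExact := fun m =>
    hT.map_of_exact (HomologicalComplex.eval _ _ m)
  let σ : ∀ m, (T.map (HomologicalComplex.eval _ _ m)).Splitting := fun m =>
    haveI : Injective (T.map (HomologicalComplex.eval _ _ m)).X₁ := hI m
    (hTm m).splittingOfInjective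
  have hT3 : ∀ m, Injective (T.X₃.X m) := fun m =>
    haveI : Injective (T.map (HomologicalComplex.eval _ _ m)).X₂ := hKi m
    (⟨(σ m).s, (T.map (HomologicalComplex.eval _ _ m)).g, (σ m).s_g⟩ :
      Retract (T.map (HomologicalComplex.eval _ _ m)).X₃ (T.map (HomologicalComplex.eval _ _ m)).X₂).injective
  have hET : (T.map ((E h V).mapHomologicalComplex (ComplexShape.up ℕ))).ShortExact :=
    HomologicalComplex.shortExact_of_degreewise_shortExact _ fun m => ((σ m).map (E h V)).shortExact
  obtain ⟨z₀⟩ := nonempty_homology_E h F I hI hex e 0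
  obtain ⟨z⟩ := nonempty_homology_E h F I hI hex e (n + 1)
  have hι : Mono (HomologicalComplex.homologyMap (((E h V).mapHomologicalComplex (ComplexShape.up ℕ)).map η) (n + 1)) :=
    CmpStep.mono_homologyMap (A' V) n (hV V) (epsAdj (SiteCmp.over_le h V)) (S.isIso_unit V) T hET hex
      ((A' V).prop_of_iso (z₀ ≪≫ (E h V).rightDerivedZeroIsoSelf.app F).symm hF)
      (fun q hq => by
        obtain ⟨i⟩ := nonempty_homology_pushC n hV f _ hFW Jc hJi hJe eJ q hq
        exact (A' V).prop_of_iso i.symm (S.direct f hf _ hFW q))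
      (fun m => haveI := hT3 m; CohFin.rightAcyclic_of_injective _ _)
  let ι := HomologicalComplex.homologyMap (((E h V).mapHomologicalComplex (ComplexShape.up ℕ)).map η) (n + 1)
  let EJ := ((E h W).mapHomologicalComplex (ComplexShape.up ℕ)).obj Jc
  obtain ⟨k, c, hkc, hk, hkex⟩ := CmpEdge.exists_edge (pushC J' f) EJ n
    (exactAt_E n hV _ hFW Jc hJi hJe eJ)
    (fun m => haveI := injective_E h Jc hJi m; CohFin.rightAcyclic_of_injective _ _)
  obtain ⟨c₁, -⟩ := CmpEdge.exists_cycles_iso (E h W) Jc 0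
  have hR : A' V (((pushC J' f).rightDerived (n + 1)).obj (EJ.cycles 0)) :=
    (A' V).prop_of_iso (((pushC J' f).rightDerived (n + 1)).mapIso (c₁ ≪≫ (E h W).mapIso eJ)).symm
      (S.direct f hf _ hFW (n + 1))
  let y := z.inv.hom.app _ x
  have hy : ∀ (Z : Over W) (g : (Over.map f).obj Z ⟶ Over.mk (𝟙 V)),
      ((((E h V).mapHomologicalComplex (ComplexShape.up ℕ)).obj I).homology (n + 1)).obj.map g.op y = 0 := by
    intro Z g
    have hg : g = (Over.homMk Z.hom rfl : (Over.map f).obj Z ⟶ Over.mk f) ≫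
        (Over.homMk f (Category.comp_id f) : Over.mk f ⟶ Over.mk (𝟙 V)) := by
      refine Over.OverMorphism.ext ?_
      have := Over.w g
      simpa using this
    have h0 : (((E h V).rightDerived (n + 1)).obj F).obj.map g.op x = 0 := by
      rw [hg, op_comp, Functor.map_comp, ConcreteCategory.comp_apply, hx, map_zero]
    exact ((ConcreteCategory.congr_hom (z.inv.hom.naturality g.op) x).symm.trans
      ((congrArg (z.inv.hom.app _) h0).trans (map_zero _)))
  have hι0 : ∀ (Z : Over W) (g : (Over.map f).obj Z ⟶ Over.mk (𝟙 V)),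
      (((pushC J' f).mapHomologicalComplex (ComplexShape.up ℕ)).obj EJ |>.homology (n + 1)).obj.map g.op
        (ι.hom.app _ y) = 0 := fun Z g =>
    (ConcreteCategory.congr_hom (ι.hom.naturality g.op) y).symm.trans
      ((congrArg (ι.hom.app _) (hy Z g)).trans (map_zero _))
  obtain ⟨r, hr⟩ := exists_preimage k c hkc hkex (Over.mk (𝟙 V)) (ι.hom.app _ y)
    (eq_zero_of_map J' f _ _ fun Z g =>
      (ConcreteCategory.congr_hom (c.hom.naturality g.op) _).symm.trans
        ((congrArg (c.hom.app _) (hι0 Z g)).trans (map_zero _)))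
  have hr0 : r = 0 := eq_zero_of_rest J f hc ⟨_, S.sheaf V _ hR⟩ r fun Z g =>
    sections_injective k _ ((ConcreteCategory.congr_hom (k.hom.naturality g.op) r).trans
      ((congrArg _ hr).trans ((hι0 Z g).trans (map_zero _).symm)))
  have hy0 : y = 0 := sections_injective ι _ ((hr.symm.trans (by rw [hr0, map_zero])).trans (map_zero _).symm)
  exact sections_injective z.inv _ (hy0.trans (map_zero _).symm)

/-- Restriction commutes with the higher derived functors of the comparison functor. -/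
lemma nonempty_rest_rightDerived {X V : C} (v : V ⟶ X) (F : Sheaf (J.over X) AddCommGrpCat.{u}) (i : ℕ) :
    Nonempty ((rest J' v).obj (((E h X).rightDerived i).obj F) ≅ ((E h V).rightDerived i).obj ((rest J v).obj F)) := by
  obtain ⟨I, hI, hex, ⟨e⟩⟩ := exists_res F
  obtain ⟨z⟩ := nonempty_homology_E h F I hI hex e i
  obtain ⟨c₀, -⟩ := CmpEdge.exists_cycles_iso (rest J v) I 0
  obtain ⟨z'⟩ := nonempty_homology_E h ((rest J v).obj F) (((rest J v).mapHomologicalComplex (ComplexShape.up ℕ)).obj I)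
    (fun m => haveI := hI m; injective_rest J v (I.X m)) (fun m => (hex m).map (rest J v))
    (c₀ ≪≫ (rest J v).mapIso e) i
  exact ⟨(rest J' v).mapIso z.symm ≪≫
    (((((E h X).mapHomologicalComplex (ComplexShape.up ℕ)).obj I).sc i).mapHomologyIso (rest J' v)).symm ≪≫ z'⟩

/-- Sections killed by an arbitrary covering arrow of the class vanish. -/
theorem eq_zero_of_cover' (S : Situation h P A') (n : ℕ) (hV : VN h A' n) {X W V : C} (f : W ⟶ V) (hf : P f)
    (hc : Sieve.ofArrows (fun _ : PUnit.{u + 1} => W) (fun _ => f) ∈ J V) (v : V ⟶ X)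
    (F : Sheaf (J.over X) AddCommGrpCat.{u}) (hF : A' X ((E h X).obj F))
    (x : (((E h X).rightDerived (n + 1)).obj F).obj.obj (op (Over.mk v)))
    (hx : (((E h X).rightDerived (n + 1)).obj F).obj.map (Over.homMk f rfl : Over.mk (f ≫ v) ⟶ Over.mk v).op x = 0) :
    x = 0 := by
  have := S.weakSerre
  obtain ⟨i⟩ := nonempty_rest_rightDerived (h := h) v F (n + 1)
  let a : (Over.map v).obj (Over.mk (𝟙 V)) ⟶ Over.mk v := Over.homMk (𝟙 V) rfl
  let b : Over.mk v ⟶ (Over.map v).obj (Over.mk (𝟙 V)) := Over.homMk (𝟙 V) (by simp)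
  let M := ((E h X).rightDerived (n + 1)).obj F
  let x' : ((rest J' v).obj M).obj.obj (op (Over.mk (𝟙 V))) := M.obj.map a.op x
  have hx' : ((rest J' v).obj M).obj.map (Over.homMk f (Category.comp_id f) : Over.mk f ⟶ Over.mk (𝟙 V)).op x' = 0 := by
    change M.obj.map ((Over.map v).map (Over.homMk f (Category.comp_id f) : Over.mk f ⟶ Over.mk (𝟙 V))).op
      (M.obj.map a.op x) = 0
    rw [← ConcreteCategory.comp_apply, ← Functor.map_comp, ← op_comp]
    have e : (Over.map v).map (Over.homMk f (Category.comp_id f) : Over.mk f ⟶ Over.mk (𝟙 V)) ≫ a =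
        (Over.homMk (𝟙 W) (by simp) : (Over.map v).obj (Over.mk f) ⟶ Over.mk (f ≫ v)) ≫
          (Over.homMk f rfl : Over.mk (f ≫ v) ⟶ Over.mk v) :=
      Over.OverMorphism.ext (by simp [a])
    rw [e, op_comp, Functor.map_comp, ConcreteCategory.comp_apply]
    exact (congrArg _ hx).trans (map_zero _)
  have h0 : i.hom.hom.app _ x' = 0 := eq_zero_of_cover h S n hV f hf hc _
    ((A' V).prop_of_iso ((epsRestIso h v).app F) (S.restr v _ hF)) _
    ((ConcreteCategory.congr_hom (i.hom.hom.naturality _) x').symm.trans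
      ((congrArg (i.hom.hom.app _) hx').trans (map_zero _)))
  have h1 : x' = 0 := sections_injective i.hom _ (h0.trans (map_zero _).symm)
  have h2 : M.obj.map b.op x' = x := by
    change M.obj.map b.op (M.obj.map a.op x) = x
    rw [← ConcreteCategory.comp_apply, ← Functor.map_comp, ← op_comp, show b ≫ a = 𝟙 _ from
      Over.OverMorphism.ext (by simp [a, b]), op_id, M.obj.map_id]
    rfl
  rw [← h2, h1]
  exact map_zero _

/-- The refinement hypothesis. -/
def Refines (J J' : GrothendieckTopology C) (P : MorphismProperty C) : Prop :=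
  ∀ (U : C) (S : Sieve U), S ∈ J U → ∃ (ι : Type u) (V : ι → C) (v : ∀ j, V j ⟶ U),
    Sieve.ofArrows V v ∈ J' U ∧ ∀ j, ∃ (W : C) (w : W ⟶ V j), P w ∧
      Sieve.ofArrows (fun _ : PUnit.{u + 1} => W) (fun _ => w) ∈ J (V j) ∧
      ∃ (κ : Type u) (Wk : κ → C) (wk : ∀ k, Wk k ⟶ W), Sieve.ofArrows Wk wk ∈ J' W ∧
        ∀ k, S.arrows (wk k ≫ w ≫ v j)

/-- Sections of a sheaf on a slice vanishing on a covering family vanish. -/
lemma eq_zero_of_family (K : GrothendieckTopology C) {X : C} (G : Sheaf (K.over X) AddCommGrpCat.{u}) {U : Over X}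
    (x : G.obj.obj (op U)) {ι : Type u} {V : ι → C} (v : ∀ j, V j ⟶ U.left) (hv : Sieve.ofArrows V v ∈ K U.left)
    (hx : ∀ j, G.obj.map (Over.homMk (v j) rfl : Over.mk (v j ≫ U.hom) ⟶ U).op x = 0) : x = 0 := by
  refine ((isSheaf_iff_isSheaf_of_type _ _).1
    ((Presheaf.isSheaf_iff_isSheaf_forget _ G.obj (forget AddCommGrpCat.{u})).1 G.property)).isSeparated
      _ (K.overEquiv_symm_mem_over U _ hv) |>.ext fun T t ht => ?_
  rw [Sieve.overEquiv_symm_iff] at ht
  obtain ⟨_, k, _, ⟨j⟩, hk⟩ := ht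
  have e : t = (Over.homMk k (by rw [← Over.w t, ← hk]; simp) : T ⟶ Over.mk (v j ≫ U.hom)) ≫ Over.homMk (v j) rfl :=
    Over.OverMorphism.ext hk.symm
  change G.obj.map t.op x = G.obj.map t.op 0
  rw [map_zero, e, op_comp, Functor.map_comp, ConcreteCategory.comp_apply, hx j, map_zero]

/-- Higher derived functors of the comparison functor vanish on the subcategory. -/
theorem vn (S : Situation h P A') (h5 : Refines J J' P) : ∀ n, VN h A' n := by
  intro n
  induction n with
  | zero => intro Z G hG i h1 h2; omega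
  | succ n ih =>
    intro X F hF i h1 h2
    rcases Nat.lt_or_ge i (n + 1) with hlt | hge
    · exact ih X F hF i h1 (by omega)
    obtain rfl : i = n + 1 := by omega
    obtain ⟨I, hI, hex, ⟨e⟩⟩ := exists_res F
    obtain ⟨z⟩ := nonempty_homology_E h F I hI hex e (n + 1)
    have hL : IsZero ((SiteCmp.epsShInv (SiteCmp.over_le h X) AddCommGrpCat.{u}).obj (((E h X).rightDerived (n + 1)).obj F)) :=
      (CmpStep.isZero_L_homology (epsAdj (SiteCmp.over_le h X)) I (n + 1) (hex n)).of_iso
        ((SiteCmp.epsShInv (SiteCmp.over_le h X) AddCommGrpCat.{u}).mapIso z.symm)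
    rw [IsZero.iff_id_eq_zero]
    refine Sheaf.hom_ext (NatTrans.ext (funext fun U => AddCommGrpCat.ext fun x => ?_))
    change x = 0
    obtain ⟨S₀, hS₀, hS₀x⟩ := exists_cover_of_isZero (SiteCmp.over_le h X) _ hL (U := U.unop) x
    obtain ⟨ι, V, v, hv, hW⟩ := h5 U.unop.left (Sieve.overEquiv U.unop S₀)
      ((J.mem_over_iff S₀).1 hS₀)
    refine eq_zero_of_family J' _ x v hv fun j => ?_
    obtain ⟨W, w, hw, hwc, κ, Wk, wk, hwk, hk⟩ := hW j
    refine eq_zero_of_cover' S n ih w hw hwc (v j ≫ U.unop.hom) F hF _ ?_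
    refine eq_zero_of_family J' _ _ wk hwk fun k => ?_
    have hm := hk k
    rw [Sieve.overEquiv_iff] at hm
    rw [← ConcreteCategory.comp_apply, ← Functor.map_comp, ← op_comp, ← ConcreteCategory.comp_apply,
      ← Functor.map_comp, ← op_comp]
    have e' : (Over.homMk (wk k) rfl : Over.mk (wk k ≫ w ≫ v j ≫ U.unop.hom) ⟶ Over.mk (w ≫ v j ≫ U.unop.hom)) ≫
          (Over.homMk w rfl : Over.mk (w ≫ v j ≫ U.unop.hom) ⟶ Over.mk (v j ≫ U.unop.hom)) ≫
          (Over.homMk (v j) rfl : Over.mk (v j ≫ U.unop.hom) ⟶ U.unop) =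
        (Over.homMk (𝟙 _) (by simp) : Over.mk (wk k ≫ w ≫ v j ≫ U.unop.hom) ⟶ Over.mk ((wk k ≫ w ≫ v j) ≫ U.unop.hom)) ≫
          (Over.homMk (wk k ≫ w ≫ v j) rfl : Over.mk ((wk k ≫ w ≫ v j) ≫ U.unop.hom) ⟶ U.unop) :=
      Over.OverMorphism.ext (by simp)
    rw [Category.assoc, e']
    rw [op_comp, Functor.map_comp, ConcreteCategory.comp_apply, hS₀x _ hm, map_zero]

end Groth.Misc4.SiteCmpMain
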