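import Groth.Agent.Misc4.FibSiteTotal
import Mathlib.CategoryTheory.Sites.Pullback

/-! Functors between total categories of fibred categories with thin fibres. -/

universe w v₃ u₃ v₂ u₂ v₁ u₁

open CategoryTheory CategoryTheory.Limits Opposite Pseudofunctor Pseudofunctor.CoGrothendieck

namespace Groth.Misc4.ThinTot

open Groth.Misc4.FibSiteTot

set_option backward.defeqAttrib.useBackward true
set_option backward.isDefEq.respectTransparency false

variable {𝒮 𝒯 : Type u₁} [Category.{v₁} 𝒮] [Category.{v₁} 𝒯]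
  {F : Pseudofunctor (LocallyDiscrete 𝒮ᵒᵖ) Cat.{v₂, u₂}} {G : Pseudofunctor (LocallyDiscrete 𝒯ᵒᵖ) Cat.{v₂, u₂}}

/-- All fibres are thin. -/
class ThinFib (F : Pseudofunctor (LocallyDiscrete 𝒮ᵒᵖ) Cat.{v₂, u₂}) : Prop where
  thin : ∀ (S : 𝒮) (a b : F.obj ⟨op S⟩), Subsingleton (a ⟶ b)

lemma hom_ext [ThinFib F] {X Y : ∫ᶜ F} {f g : X ⟶ Y} (h : f.base = g.base) : f = g :=
  Hom.ext _ _ h ((ThinFib.thin (F := F) _ _ _).elim _ _)

lemma fiber_eq [ThinFib F] {S : 𝒮} {a b : F.obj ⟨op S⟩} (f g : a ⟶ b) : f = g :=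
  (ThinFib.thin (F := F) _ _ _).elim f g

/-- Data of a functor between total categories lying over a functor of the bases. -/
structure TotMap (G : Pseudofunctor (LocallyDiscrete 𝒯ᵒᵖ) Cat.{v₂, u₂})
    (F : Pseudofunctor (LocallyDiscrete 𝒮ᵒᵖ) Cat.{v₂, u₂}) where
  /-- The functor of bases. -/
  ψ : 𝒯 ⥤ 𝒮
  /-- The functors of fibres. -/
  φ : ∀ i : 𝒯, G.obj ⟨op i⟩ ⥤ F.obj ⟨op (ψ.obj i)⟩
  /-- The comparison with inverse images. -/
  comm : ∀ {i j : 𝒯} (m : i ⟶ j) (V : G.obj ⟨op j⟩),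
    (φ i).obj ((FibSite.invImage G m).obj V) ⟶ (FibSite.invImage F (ψ.map m)).obj ((φ j).obj V)

variable [ThinFib F]

/-- The functor of total categories. -/
@[simps obj]
def TotMap.functor (m : TotMap G F) : ∫ᶜ G ⥤ ∫ᶜ F where
  obj X := ⟨m.ψ.obj X.base, (m.φ X.base).obj X.fiber⟩
  map {X Y} f := ⟨m.ψ.map f.base, (m.φ X.base).map f.fiber ≫ m.comm f.base Y.fiber⟩
  map_id X := hom_ext (by simp)
  map_comp f g := hom_ext (by simp)

@[simp] lemma TotMap.functor_map_base (m : TotMap G F) {X Y : ∫ᶜ G} (f : X ⟶ Y) :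
    (m.functor.map f).base = m.ψ.map f.base := rfl

/-- An isomorphism in a fibre gives an isomorphism in the total category. -/
abbrev fibIso {S : 𝒮} {V W : F.obj ⟨op S⟩} (h : V ≅ W) : (⟨S, V⟩ : ∫ᶜ F) ≅ ⟨S, W⟩ :=
  (ι F S).mapIso h

/-- The restriction of the functor of total categories to a fibre. -/
def TotMap.ιIso (m : TotMap G F) (i : 𝒯) : ι G i ⋙ m.functor ≅ m.φ i ⋙ ι F (m.ψ.obj i) :=
  NatIso.ofComponents (fun _ => Iso.refl _) (fun f => hom_ext (by simp))

variable {K : FibSite.Topologies G} {J : FibSite.Topologies F}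

lemma TotMap.isContinuous (m : TotMap G F) (hG : FibSite.IsPreFibSite G K) (hF : FibSite.IsPreFibSite F J)
    (hφ : ∀ i, (m.φ i).IsContinuous (K i) (J (m.ψ.obj i))) :
    m.functor.IsContinuous (FibSite.totalTopology G K) (FibSite.totalTopology F J) := by
  rw [isContinuous_total_iff hG]
  intro i
  have := hφ i
  have := isContinuous_ι hF (m.ψ.obj i)
  have := Functor.isContinuous_comp (m.φ i) (ι F (m.ψ.obj i)) (K i) (J (m.ψ.obj i)) (FibSite.totalTopology F J)
  exact Functor.isContinuous_of_iso (m.ιIso i).symm _ _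

lemma TotMap.isCocontinuous (m : TotMap G F) (hG : FibSite.IsPreFibSite G K) (hF : FibSite.IsPreFibSite F J)
    (hφ : ∀ i, (m.φ i).IsCocontinuous (K i) (J (m.ψ.obj i))) :
    m.functor.IsCocontinuous (FibSite.totalTopology G K) (FibSite.totalTopology F J) := by
  constructor
  rintro ⟨i, V⟩ S hS
  obtain ⟨R, hR, hle⟩ := (mem_totalTopology_iff hF S).1 hS
  have := hφ i
  refine (mem_totalTopology_iff hG _).2 ⟨_, (m.φ i).cover_lift (K i) (J (m.ψ.obj i)) hR, ?_⟩
  rintro Z g ⟨W, w, k, hw, rfl⟩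
  refine Sieve.downward_closed _ ?_ k
  show S (m.functor.map ((ι G i).map w))
  have e : m.functor.map ((ι G i).map w) = (ι F (m.ψ.obj i)).map ((m.φ i).map w) := hom_ext (by simp)
  rw [e]
  exact hle _ (Sieve.image_mem_functorPushforward (ι F (m.ψ.obj i)) R hw)

/-- A transformation between two functors of total categories. -/
def natTrans {C : Type u₃} [Category.{v₃} C] {P Q : C ⥤ ∫ᶜ F}
    (base : ∀ X, (P.obj X).base ⟶ (Q.obj X).base)
    (fib : ∀ X, (P.obj X).fiber ⟶ (FibSite.invImage F (base X)).obj (Q.obj X).fiber)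
    (nat : ∀ {X Y : C} (f : X ⟶ Y), (P.map f).base ≫ base Y = base X ≫ (Q.map f).base) : P ⟶ Q where
  app X := ⟨base X, fib X⟩
  naturality _ _ f := hom_ext (nat f)

/-- A natural isomorphism between two functors of total categories with the same bases. -/
def natIsoOfEq {C : Type u₃} [Category.{v₃} C] {P Q : C ⥤ ∫ᶜ F}
    (h : ∀ X, P.obj X = Q.obj X)
    (nat : ∀ {X Y : C} (f : X ⟶ Y),
      (P.map f).base ≫ eqToHom (congrArg (fun Z : ∫ᶜ F => Z.base) (h Y)) =
        eqToHom (congrArg (fun Z : ∫ᶜ F => Z.base) (h X)) ≫ (Q.map f).base) : P ≅ Q :=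
  NatIso.ofComponents (fun X => eqToIso (h X)) (fun {X Y} f => hom_ext (by
    have e : ∀ {A B : ∫ᶜ F} (h : A = B), (eqToHom h).base = eqToHom (congrArg (fun Z : ∫ᶜ F => Z.base) h) := by
      rintro A B rfl; rfl
    simp only [eqToIso.hom, categoryStruct_comp_base, e]
    exact nat f))

section Flat

/-- Data of a functor between total categories over the same base. -/
def TotMap.ofId {G : Pseudofunctor (LocallyDiscrete 𝒮ᵒᵖ) Cat.{v₂, u₂}}
    (φ : ∀ i : 𝒮, G.obj ⟨op i⟩ ⥤ F.obj ⟨op i⟩)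
    (comm : ∀ {i j : 𝒮} (m : i ⟶ j) (V : G.obj ⟨op j⟩),
      (φ i).obj ((FibSite.invImage G m).obj V) ⟶ (FibSite.invImage F m).obj ((φ j).obj V)) :
    TotMap G F where
  ψ := 𝟭 𝒮
  φ := φ
  comm m V := comm m V

variable {G : Pseudofunctor (LocallyDiscrete 𝒮ᵒᵖ) Cat.{v₂, u₂}}

lemma flat_ofId [ThinFib G] (φ : ∀ i : 𝒮, G.obj ⟨op i⟩ ⥤ F.obj ⟨op i⟩)
    (comm : ∀ {i j : 𝒮} (m : i ⟶ j) (V : G.obj ⟨op j⟩),
      (φ i).obj ((FibSite.invImage G m).obj V) ⟶ (FibSite.invImage F m).obj ((φ j).obj V))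
    (inv : ∀ {i j : 𝒮} (m : i ⟶ j) (V : G.obj ⟨op j⟩),
      (FibSite.invImage F m).obj ((φ j).obj V) ⟶ (φ i).obj ((FibSite.invImage G m).obj V))
    (hφ : ∀ i, RepresentablyFlat (φ i)) :
    RepresentablyFlat (TotMap.ofId φ comm).functor := by
  constructor
  intro X
  have := hφ X.base
  let m := (TotMap.ofId φ comm).functor
  -- transport an arrow to the fibre over `X.base`
  let V₀ : StructuredArrow X m → G.obj ⟨op X.base⟩ := fun a => (FibSite.invImage G a.hom.base).obj a.right.fiber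
  let a₀ : ∀ a : StructuredArrow X m, X.fiber ⟶ (φ X.base).obj (V₀ a) := fun a =>
    a.hom.fiber ≫ inv (i := X.base) (j := a.right.base) a.hom.base a.right.fiber
  let mk : ∀ (V : G.obj ⟨op X.base⟩), (X.fiber ⟶ (φ X.base).obj V) → StructuredArrow X m := fun V a =>
    StructuredArrow.mk (Y := (⟨X.base, V⟩ : ∫ᶜ G))
      ((ι F X.base).map a : (ι F X.base).obj X.fiber ⟶ (ι F X.base).obj ((φ X.base).obj V))
  let toA : ∀ (a : StructuredArrow X m) (V : G.obj ⟨op X.base⟩) (x : X.fiber ⟶ (φ X.base).obj V)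
      (v : V ⟶ V₀ a), mk V x ⟶ a := fun a V x v =>
    StructuredArrow.homMk (mkHom (X := (⟨X.base, V⟩ : ∫ᶜ G)) (Y := a.right) a.hom.base v)
      (hom_ext (by simp [m, mk, TotMap.ofId]))
  have : IsCofilteredOrEmpty (StructuredArrow X m) := by
    constructor
    · intro a b
      let c := IsCofiltered.min (StructuredArrow.mk (a₀ a)) (StructuredArrow.mk (a₀ b))
      let l : c ⟶ StructuredArrow.mk (a₀ a) := IsCofiltered.minToLeft _ _
      let r : c ⟶ StructuredArrow.mk (a₀ b) := IsCofiltered.minToRight _ _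
      exact ⟨mk c.right c.hom, toA a _ _ (CommaMorphism.right l),
        toA b _ _ (CommaMorphism.right r), trivial⟩
    · intro a b f g
      refine ⟨mk (V₀ a) (a₀ a), toA a _ _ (𝟙 _), ?_⟩
      have hf : a.hom.base ≫ (CommaMorphism.right f).base = b.hom.base := congrArg Hom.base (StructuredArrow.w f)
      have hg : a.hom.base ≫ (CommaMorphism.right g).base = b.hom.base := congrArg Hom.base (StructuredArrow.w g)
      exact StructuredArrow.hom_ext _ _ (hom_ext (F := G) (hf.trans hg.symm))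
  obtain ⟨c⟩ : Nonempty (StructuredArrow X.fiber (φ X.base)) := IsCofiltered.nonempty
  exact { this with nonempty := ⟨mk c.right c.hom⟩ }

/-- The inclusion of the fibre over a terminal object is flat when the inverse images are. -/
lemma flat_ι {i : 𝒮} (hi : IsTerminal i) (hφ : ∀ R, RepresentablyFlat (FibSite.invImage F (hi.from R))) :
    RepresentablyFlat (ι F i) := by
  constructor
  intro X
  have := hφ X.base
  let L : StructuredArrow X.fiber (FibSite.invImage F (hi.from X.base)) ⥤ StructuredArrow X (ι F i) :=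
    { obj := fun a => StructuredArrow.mk (Y := a.right)
        (mkHom (Y := (ι F i).obj a.right) (hi.from X.base) a.hom)
      map := fun f => StructuredArrow.homMk f.right (hom_ext (by simp)) }
  let L' : StructuredArrow X (ι F i) ⥤ StructuredArrow X.fiber (FibSite.invImage F (hi.from X.base)) :=
    { obj := fun a => StructuredArrow.mk (Y := a.right)
        (a.hom.fiber ≫ eqToHom (by rw [hi.hom_ext a.hom.base (hi.from X.base)]; rfl))
      map := fun f => StructuredArrow.homMk f.right (fiber_eq _ _) }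
  exact IsCofiltered.of_equivalence (CategoryTheory.Equivalence.mk L L'
    (NatIso.ofComponents (fun a => StructuredArrow.isoMk (Iso.refl _) (fiber_eq _ _)))
    (NatIso.ofComponents (fun a => StructuredArrow.isoMk (Iso.refl _) (hom_ext (hi.hom_ext _ _)))))

end Flat

end Groth.Misc4.ThinTot
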