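import Groth.Agent.Misc4.KoszulExtend
import Groth.Agent.PropsBasic.FPSections
import Groth.Agent.PropsBasic2.TildePullback

/-!
# Tilde modules of finite type on a quasi-compact open of an affine scheme
-/

universe u

open CategoryTheory CategoryTheory.Limits AlgebraicGeometry
open scoped TensorProduct

attribute [local instance] HasDerivedCategory.standard

set_option backward.isDefEq.respectTransparency false
set_option backward.defeqAttrib.useBackward true
set_option synthInstance.maxHeartbeats 400000
set_option maxHeartbeats 1000000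

namespace Groth.Misc4.TildeOpenFT

open Groth.Misc4.KoszulUnit

variable {A : Type u} [CommRing A]

/-- Finitely many elements generate a module whose localisation is finite, up to torsion. -/
theorem exists_finset_away (g : A) (H : ModuleCat.{u} A)
    (h : Module.Finite (Localization.Away g)
      ((ModuleCat.extendScalars (algebraMap A (Localization.Away g))).obj H)) :
    ∃ s : Finset H, ∀ y : H, ∃ N : ℕ, g ^ N • y ∈ Submodule.span A (s : Set H) := by
  classical
  let f : A →+* Localization.Away g := algebraMap A (Localization.Away g)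
  let adj := ModuleCat.extendRestrictScalarsAdj f
  let η := adj.unit.app H
  let ι : H → ((ModuleCat.extendScalars f).obj H : ModuleCat.{u} (Localization.Away g)) := fun x => η.hom x
  have hspan : Submodule.span (Localization.Away g) (Set.range ι) = ⊤ := by
    refine eq_top_iff.2 fun t _ => ?_
    induction t using TensorProduct.induction_on with
    | zero => exact zero_mem _
    | add a b ha hb => exact add_mem (ha trivial) (hb trivial)
    | tmul a x =>
      have h1 := Submodule.smul_mem (Submodule.span (Localization.Away g) (Set.range ι))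
        (show Localization.Away g from a)
        (Submodule.subset_span ⟨x, rfl⟩)
      convert h1 using 1
      exact congrArg (fun b => b ⊗ₜ[A] x) ((@mul_one (Localization.Away g) _ a).symm)
  obtain ⟨s', hs', hs''⟩ := Submodule.fg_span_iff_fg_span_finset_subset _ |>.1 (hspan ▸ h.fg_top)
  choose pre hpre using fun z : s' => hs' z.2
  let s : Finset H := Finset.univ.image pre
  refine ⟨s, fun y => ?_⟩
  let Q := H ⧸ Submodule.span A (s : Set H)
  let L : ModuleCat.{u} (Localization.Away g) := ModuleCat.of _ (LocalizedModule (Submonoid.powers g) Q)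
  let q : H →ₗ[A] Q := (Submodule.span A (s : Set H)).mkQ
  let φ : H ⟶ (ModuleCat.restrictScalars f).obj L :=
    ModuleCat.ofHom (Y := (ModuleCat.restrictScalars f).obj L)
      { toFun := fun x => LocalizedModule.mkLinearMap (Submonoid.powers g) Q (q x)
        map_add' := fun a b => (congrArg _ (map_add q a b)).trans (map_add _ _ _)
        map_smul' := fun r a => by
          simp only [map_smul, RingHom.id_apply]
          exact (IsScalarTower.algebraMap_smul (Localization.Away g) r
            (LocalizedModule.mkLinearMap (Submonoid.powers g) Q (q a))).symm }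
  let ψ := (adj.homEquiv H L).symm φ
  have hφ : ∀ x : H, ψ.hom (ι x) = φ.hom x := fun x => by
    have := congr(($((adj.homEquiv H L).apply_symm_apply φ)).hom x)
    rwa [Adjunction.homEquiv_unit] at this
  have hψ : ψ = 0 := by
    refine ModuleCat.hom_ext (LinearMap.ext_on (hspan.symm.trans hs'').symm fun z hz => ?_)
    rw [show z = ι (pre ⟨z, hz⟩) from (hpre ⟨z, hz⟩).symm, hφ]
    show LocalizedModule.mkLinearMap (Submonoid.powers g) Q (q (pre ⟨z, hz⟩)) = 0
    rw [show q (pre ⟨z, hz⟩) = 0 from (Submodule.Quotient.mk_eq_zero _).2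
      (Submodule.subset_span (Finset.mem_image.2 ⟨_, Finset.mem_univ _, rfl⟩)), map_zero]
  have h0 : LocalizedModule.mkLinearMap (Submonoid.powers g) Q (q y) = 0 :=
    (hφ y).symm.trans (by rw [hψ]; rfl)
  obtain ⟨⟨c, N, rfl⟩, hc⟩ := (IsLocalizedModule.eq_zero_iff (Submonoid.powers g) _).1 h0
  exact ⟨N, (Submodule.Quotient.mk_eq_zero _).1 ((map_smul q (g ^ N) y).trans hc)⟩

/-- Finitely many elements generate a module of finite type on `U`, up to torsion. -/
theorem exists_finset (gs : List A) (H : ModuleCat.{u} A)
    (hFT : CohB1.IsFT ((Scheme.Modules.restrictFunctor (U gs).ι).obj ((tilde.functor (CommRingCat.of A)).obj H))) :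
    ∃ s : Finset H, ∀ g ∈ gs, ∀ y : H, ∃ N : ℕ, g ^ N • y ∈ Submodule.span A (s : Set H) := by
  classical
  have key : ∀ g ∈ gs, ∃ s : Finset H, ∀ y : H, ∃ N : ℕ, g ^ N • y ∈ Submodule.span A (s : Set H) := by
    intro g hg
    let φ : CommRingCat.of A ⟶ CommRingCat.of (Localization.Away g) :=
      CommRingCat.ofHom (algebraMap A (Localization.Away g))
    haveI : IsOpenImmersion (Spec.map φ) :=
      inferInstanceAs (IsOpenImmersion (Spec.map (CommRingCat.ofHom (algebraMap A (Localization.Away g)))))
    have hr : Set.range (Spec.map φ).base ⊆ Set.range (U gs).ι.base := by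
      rw [Scheme.Opens.range_ι]
      rintro _ ⟨z, rfl⟩
      refine (mem_U gs _).2 ⟨g, hg, fun hz => z.isPrime.ne_top ?_⟩
      exact Ideal.eq_top_of_isUnit_mem _ hz (IsLocalization.Away.algebraMap_isUnit g)
    let k := IsOpenImmersion.lift (U gs).ι (Spec.map φ) hr
    have hk : k ≫ (U gs).ι = Spec.map φ := IsOpenImmersion.lift_fac _ _ _
    refine exists_finset_away g H ?_
    refine (Groth.PropsBasic.FPSections.isFT_tilde_iff (R := CommRingCat.of (Localization.Away g))
      ((ModuleCat.extendScalars φ.hom).obj H)).1 ?_
    refine Groth.QCohMod.isFT_of_iso ?_ (Groth.QCohMod.isFT_pullback (f := k) _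
      (Groth.QCohMod.isFT_of_iso ((Scheme.Modules.restrictFunctorIsoPullback (U gs).ι).app _) hFT))
    exact (Scheme.Modules.pullbackComp k (U gs).ι).app _ ≪≫ (Scheme.Modules.pullbackCongr hk).app _ ≪≫
      (Groth.PropsBasic2.TildePullback.iso φ).app H
  choose s hs using key
  refine ⟨gs.toFinset.attach.biUnion (fun g => s g.1 (List.mem_toFinset.1 g.2)), fun g hg y => ?_⟩
  obtain ⟨N, hN⟩ := hs g hg y
  refine ⟨N, Submodule.span_mono ?_ hN⟩
  intro z hz
  exact Finset.mem_coe.2 (Finset.mem_biUnion.2 ⟨⟨g, List.mem_toFinset.2 hg⟩, Finset.mem_attach _ _, hz⟩)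

end Groth.Misc4.TildeOpenFT
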