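import Groth.Agent.Misc4.FibDescBase
import Groth.Agent.Misc4.FibDescLocal
import Groth.Agent.Misc4.SiteBaseChange

/-! Open-set sites of diagrams of spaces over small index categories. -/

universe u

open CategoryTheory CategoryTheory.Limits Opposite TopologicalSpace Pseudofunctor.CoGrothendieck

namespace Groth.Misc4.TopFib

open Groth.Misc4.FibSiteTot Groth.Misc4.ThinTot

set_option backward.defeqAttrib.useBackward true
set_option backward.isDefEq.respectTransparency false
set_option backward.isDefEq.respectTransparency.types false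
set_option synthInstance.maxHeartbeats 400000
set_option maxHeartbeats 1000000

variable {𝒮 𝒯 : Type} [SmallCategory 𝒮] [SmallCategory 𝒯]

/-- The open-set sites of a diagram of spaces. -/
noncomputable abbrev topFib (G : 𝒮 ⥤ TopCat.{u}) : Pseudofunctor (LocallyDiscrete 𝒮ᵒᵖ) Cat.{u, u} :=
  (G.op ⋙ FibDesc.opensCat).toPseudofunctor'

/-- Their topologies. -/
noncomputable abbrev topTop (G : 𝒮 ⥤ TopCat.{u}) : FibSite.Topologies (topFib G) :=
  fun i => Opens.grothendieckTopology (G.obj i)

/-- The total topology. -/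
noncomputable abbrev tot (G : 𝒮 ⥤ TopCat.{u}) : GrothendieckTopology (∫ᶜ topFib G) :=
  FibSite.totalTopology (topFib G) (topTop G)

/-- Sheaves of abelian groups on the total site. -/
noncomputable abbrev Sh (G : 𝒮 ⥤ TopCat.{u}) : Type (u + 1) := Sheaf (tot G) AddCommGrpCat.{u}

variable (G : 𝒮 ⥤ TopCat.{u})

instance thin_topFib : ThinFib (topFib G) where
  thin S a b := inferInstanceAs (Subsingleton ((a : Opens (G.obj S)) ⟶ (b : Opens (G.obj S))))

lemma preFib : FibSite.IsPreFibSite (topFib G) (topTop G) :=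
  fun R S f => inferInstanceAs ((Opens.map (G.map f)).IsContinuous
    (Opens.grothendieckTopology (G.obj S)) (Opens.grothendieckTopology (G.obj R)))

instance continuous_ι (i : 𝒮) : (ι (topFib G) i).IsContinuous (topTop G i) (tot G) := isContinuous_ι (preFib G) i

instance cocontinuous_ι (i : 𝒮) : (ι (topFib G) i).IsCocontinuous (topTop G i) (tot G) :=
  isCocontinuous_ι (preFib G) i

/-- A morphism in a fibre from an inclusion. -/
noncomputable def fibHom (i : 𝒮) {V W : Opens (G.obj i)} (h : V ≤ W) :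
    @Quiver.Hom ((topFib G).obj ⟨op i⟩) _ V W :=
  homOfLE (X := Opens (G.obj i)) h

variable (a : 𝒯 ⥤ 𝒮)

/-- Change of index category. -/
noncomputable abbrev bc : ∫ᶜ topFib (a ⋙ G) ⥤ ∫ᶜ topFib G := FibSite.baseChangeFunctor (topFib G) a

/-- Change of index category as a functor of thin total categories. -/
noncomputable def bcMap : TotMap (topFib (a ⋙ G)) (topFib G) where
  ψ := a
  φ i := 𝟭 _
  comm m V := 𝟙 _

/-- The two agree. -/
noncomputable def bcIso : (bcMap G a).functor ≅ bc G a :=
  natIsoOfEq (fun _ => rfl) (fun _ => by simp [bcMap])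

instance continuous_bc : (bc G a).IsContinuous (tot (a ⋙ G)) (tot G) :=
  have := (bcMap G a).isContinuous (preFib (a ⋙ G)) (preFib G) (fun i =>
    Functor.isContinuous_id (C := (topFib G).obj ⟨op (a.obj i)⟩) (topTop G (a.obj i)))
  Functor.isContinuous_of_iso (bcIso G a) _ _

instance cocontinuous_bc : (bc G a).IsCocontinuous (tot (a ⋙ G)) (tot G) :=
  have := (bcMap G a).isCocontinuous (preFib (a ⋙ G)) (preFib G) (fun i =>
    isCocontinuous_id (C := (topFib G).obj ⟨op (a.obj i)⟩) (topTop G (a.obj i)))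
  Functor.IsCocontinuous.of_iso (bcIso G a)

/-- Change of index category is flat when the index functor has a left adjoint. -/
lemma flat_bc (h : ∀ i : 𝒮, ∃ j : StructuredArrow i a, Nonempty (IsInitial j)) :
    RepresentablyFlat (bc G a) := by
  constructor
  intro X
  obtain ⟨j₀, ⟨hj₀⟩⟩ := h X.base
  let η : X.base ⟶ a.obj j₀.right := j₀.hom
  let W : Opens (G.obj X.base) := X.fiber
  have : RepresentablyFlat (Opens.map (G.map η)) := inferInstance
  -- transport to the initial index
  let lam : ∀ s : StructuredArrow X (bc G a), j₀.right ⟶ s.right.base := fun s =>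
    (hj₀.to (StructuredArrow.mk (Y := s.right.base) s.hom.base)).right
  have hlam : ∀ s : StructuredArrow X (bc G a), η ≫ a.map (lam s) = s.hom.base := fun s =>
    StructuredArrow.w (hj₀.to (StructuredArrow.mk (Y := s.right.base) s.hom.base))
  let V₀ : StructuredArrow X (bc G a) → Opens (G.obj (a.obj j₀.right)) := fun s =>
    (Opens.map (G.map (a.map (lam s)))).obj s.right.fiber
  have hV : ∀ s, W ≤ (Opens.map (G.map η)).obj (V₀ s) := fun s x hx => by
    have := leOfHom (X := Opens (G.obj X.base)) s.hom.fiber hx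
    let Wr : Opens (G.obj (a.obj s.right.base)) := s.right.fiber
    change G.map (a.map (lam s)) (G.map η x) ∈ Wr
    rw [← TopCat.comp_app, ← G.map_comp, hlam s]
    exact this
  let mk : ∀ V : Opens (G.obj (a.obj j₀.right)), W ≤ (Opens.map (G.map η)).obj V → StructuredArrow X (bc G a) :=
    fun V hle => StructuredArrow.mk (Y := (⟨j₀.right, V⟩ : ∫ᶜ topFib (a ⋙ G)))
      (mkHom (X := X) (Y := (bc G a).obj (⟨j₀.right, V⟩ : ∫ᶜ topFib (a ⋙ G))) η (fibHom G _ hle))
  let toA : ∀ s V (hle : W ≤ (Opens.map (G.map η)).obj V), V ≤ V₀ s → (mk V hle ⟶ s) := fun s V hle hVs =>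
    StructuredArrow.homMk (mkHom (X := (⟨j₀.right, V⟩ : ∫ᶜ topFib (a ⋙ G))) (Y := s.right) (lam s)
      (fibHom (a ⋙ G) _ hVs)) (hom_ext (hlam s))
  have : IsCofilteredOrEmpty (StructuredArrow X (bc G a)) := by
    constructor
    · intro s t
      exact ⟨mk (V₀ s ⊓ V₀ t) fun x hx => ⟨hV s hx, hV t hx⟩,
        toA s _ _ inf_le_left, toA t _ _ inf_le_right, trivial⟩
    · intro s t f g
      refine ⟨mk (V₀ s) (hV s), toA s _ _ le_rfl, StructuredArrow.hom_ext _ _ (hom_ext ?_)⟩
      show lam s ≫ (CommaMorphism.right f).base = lam s ≫ (CommaMorphism.right g).base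
      have e : ∀ k : s ⟶ t, lam s ≫ (CommaMorphism.right k).base = lam t := fun k => by
        have hw : s.hom.base ≫ a.map (CommaMorphism.right k).base = t.hom.base :=
          congrArg Hom.base (StructuredArrow.w k)
        exact congrArg StructuredArrow.Hom.right (hj₀.hom_ext
          (StructuredArrow.homMk (lam s ≫ (CommaMorphism.right k).base)
            (by rw [Functor.map_comp, reassoc_of% (hlam s), hw]; rfl) : j₀ ⟶ StructuredArrow.mk t.hom.base)
          (hj₀.to _))
      exact (e f).trans (e g).symm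
  exact { this with nonempty := ⟨mk ⊤ fun _ _ => trivial⟩ }

/-- The comma categories of a discrete change of index have discrete final subcategories. -/
lemma exists_final_slice {H : Type} [SmallCategory H] (e : 𝒯) (G : 𝒯 × H ⥤ TopCat.{u})
    (X : (∫ᶜ topFib G)ᵒᵖ) :
    ∃ (κ : Type u) (K : Discrete κ ⥤ CostructuredArrow (bc G ((Over.forget e).prod (𝟭 H))).op X), K.Final := by
  obtain ⟨X⟩ := X
  let q := (Over.forget e).prod (𝟭 H)
  let pt : ULift.{u} (X.base.1 ⟶ e) → CostructuredArrow (bc G q).op (op X) := fun g =>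
    CostructuredArrow.mk (Y := op (⟨(Over.mk g.down, X.base.2), X.fiber⟩ : ∫ᶜ topFib (q ⋙ G))) (𝟙 X).op
  refine ⟨ULift.{u} (X.base.1 ⟶ e), Discrete.functor pt, ⟨fun A => ?_⟩⟩
  let B : ∫ᶜ topFib (q ⋙ G) := A.left.unop
  let m : X ⟶ (bc G q).obj B := A.hom.unop
  let g₀ : ULift.{u} (X.base.1 ⟶ e) := ⟨m.base.1 ≫ B.base.1.hom⟩
  let φ : (⟨(Over.mk g₀.down, X.base.2), X.fiber⟩ : ∫ᶜ topFib (q ⋙ G)) ⟶ B :=
    mkHom (X := (⟨(Over.mk g₀.down, X.base.2), X.fiber⟩ : ∫ᶜ topFib (q ⋙ G))) (Y := B)
      ((Over.homMk m.base.1 rfl, m.base.2) : (Over.mk g₀.down, X.base.2) ⟶ B.base) m.fiber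
  let f₀ : A ⟶ pt g₀ := CostructuredArrow.homMk φ.op (Quiver.Hom.unop_inj (hom_ext (by simp [pt, φ, q, m])))
  have : Nonempty (StructuredArrow A (Discrete.functor pt)) := ⟨StructuredArrow.mk (Y := (⟨g₀⟩ : Discrete (ULift.{u} (X.base.1 ⟶ e)))) (f₀ : A ⟶ (Discrete.functor pt).obj ⟨g₀⟩)⟩
  let s₀ : StructuredArrow A (Discrete.functor pt) :=
    StructuredArrow.mk (Y := (⟨g₀⟩ : Discrete (ULift.{u} (X.base.1 ⟶ e)))) f₀
  suffices hz : ∀ s, Zigzag s s₀ from
    zigzag_isConnected fun s t => (hz s).trans (zigzag_symm.symm _ _ (hz t))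
  intro s
  obtain ⟨⟨g⟩, f, rfl⟩ := StructuredArrow.mk_surjective s
  let ψ : (⟨(Over.mk g.down, X.base.2), X.fiber⟩ : ∫ᶜ topFib (q ⋙ G)) ⟶ B := f.left.unop
  have hw : (bc G q).map ψ = m := by
    have := congrArg Quiver.Hom.unop (CostructuredArrow.w f)
    exact (Category.id_comp _).symm.trans this
  have hg : g = g₀ := by
    apply ULift.down_injective
    have h1 := Over.w ψ.base.1
    have h2 : ψ.base.1.left = m.base.1 := congrArg Prod.fst (congrArg Hom.base hw)
    show g.down = m.base.1 ≫ B.base.1.hom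
    rw [← h2]; exact h1.symm
  subst hg
  refine Zigzag.of_hom (StructuredArrow.homMk (𝟙 _) ?_)
  refine CostructuredArrow.hom_ext _ _ (Quiver.Hom.unop_inj (hom_ext ?_))
  have h2 : ψ.base.1.left = m.base.1 := congrArg Prod.fst (congrArg Hom.base hw)
  have h3 : ψ.base.2 = m.base.2 := congrArg Prod.snd (congrArg Hom.base hw)
  simp only [Discrete.functor_obj, CategoryTheory.Functor.map_id, Category.comp_id]
  exact Prod.ext (Over.OverMorphism.ext h2) h3

/-- A comma category with a universal object is connected. -/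
lemma initial_of_zigzag {C D : Type*} [Category* C] [Category* D] (P : C ⥤ D)
    (h : ∀ d, ∃ a : CostructuredArrow P d, ∀ b, Zigzag b a) : P.Initial := by
  constructor
  intro d
  obtain ⟨a, ha⟩ := h d
  have : Nonempty (CostructuredArrow P d) := ⟨a⟩
  exact zigzag_isConnected fun b c => (ha b).trans (zigzag_symm.symm _ _ (ha c))

end Groth.Misc4.TopFib
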