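import Groth.Agent.Misc4.CorefDerived
import Groth.Agent.SiteCohomology.Free
import Groth.Prelude.Def_SiteCmp
import Groth.Prelude.Def_WeakSerre
import Mathlib.CategoryTheory.Sites.Whiskering

/-!
The torsion subsheaf of an abelian sheaf and complexes of injectives with torsion cohomology.
-/

universe u

set_option backward.defeqAttrib.useBackward true
set_option backward.isDefEq.respectTransparency false
set_option linter.unusedSectionVars false
set_option synthInstance.maxHeartbeats 400000
set_option synthInstance.maxSize 1024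
set_option maxHeartbeats 1000000

open CategoryTheory CategoryTheory.Limits Opposite

namespace Groth.Misc4.TorsionSheaf

open Groth.SiteCohomology

variable {C : Type u} [SmallCategory C] {J : GrothendieckTopology C}

lemma sec_eq (F : Sheaf J AddCommGrpCat.{u}) {U : C} {s t : F.obj.obj (op U)} {S : Sieve U} (hS : S ∈ J U)
    (h : ∀ ⦃V : C⦄ (g : V ⟶ U), S g → F.obj.map g.op s = F.obj.map g.op t) : s = t :=
  Sheaf.isSeparated F U S hS s t fun _ g hg => h g hg

/-- Sections which are locally torsion. -/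
def tor (F : Sheaf J AddCommGrpCat.{u}) (U : Cᵒᵖ) : AddSubgroup (F.obj.obj U) where
  carrier := {s | ∃ S ∈ J U.unop, ∀ ⦃V : C⦄ (g : V ⟶ U.unop), S g → IsOfFinAddOrder (F.obj.map g.op s)}
  zero_mem' := ⟨⊤, J.top_mem _, fun V g _ => by rw [map_zero]; exact IsOfFinAddOrder.zero⟩
  add_mem' := fun ⟨S, hS, h⟩ ⟨S', hS', h'⟩ => ⟨S ⊓ S', J.intersection_covering hS hS', fun V g hg => by
    rw [map_add]
    exact (AddCommute.all _ _).isOfFinAddOrder_add (h g hg.1) (h' g hg.2)⟩
  neg_mem' := fun ⟨S, hS, h⟩ => ⟨S, hS, fun V g hg => by rw [map_neg]; exact (h g hg).neg⟩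

lemma map_mem (F : Sheaf J AddCommGrpCat.{u}) {U V : Cᵒᵖ} (g : U ⟶ V) {s : F.obj.obj U} (hs : s ∈ tor F U) :
    F.obj.map g s ∈ tor F V := by
  obtain ⟨S, hS, h⟩ := hs
  refine ⟨S.pullback g.unop, J.pullback_stable _ hS, fun W k hk => ?_⟩
  have h' := h (k ≫ g.unop) hk
  rwa [op_comp, Quiver.Hom.op_unop, Functor.map_comp, ConcreteCategory.comp_apply] at h'

/-- The presheaf of locally torsion sections. -/
noncomputable def torPre (F : Sheaf J AddCommGrpCat.{u}) : Cᵒᵖ ⥤ AddCommGrpCat.{u} where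
  obj U := AddCommGrpCat.of (tor F U)
  map {U V} g := AddCommGrpCat.ofHom
    (((F.obj.map g).hom.comp (tor F U).subtype).codRestrict (tor F V) fun s => map_mem F g s.2)
  map_id U := AddCommGrpCat.hom_ext (AddMonoidHom.ext fun s => Subtype.ext (by
    change F.obj.map (𝟙 U) s.1 = s.1
    rw [F.obj.map_id]
    rfl))
  map_comp {U V W} g k := AddCommGrpCat.hom_ext (AddMonoidHom.ext fun s => Subtype.ext (by
    change F.obj.map (g ≫ k) s.1 = F.obj.map k (F.obj.map g s.1)
    rw [F.obj.map_comp]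
    rfl))

lemma isSheaf_torPre (F : Sheaf J AddCommGrpCat.{u}) : Presheaf.IsSheaf J (torPre F) := by
  refine (Presheaf.isSheaf_iff_isSheaf_forget J (torPre F) (forget AddCommGrpCat.{u})).2 ?_
  refine (isSheaf_iff_isSheaf_of_type J _).2 fun U S hS x hx => ?_
  let y : Presieve.FamilyOfElements (F.obj ⋙ forget AddCommGrpCat.{u}) S.arrows := fun V g hg => (x g hg).1
  have hy : y.Compatible := fun V₁ V₂ W g₁ g₂ f₁ f₂ h₁ h₂ e => congrArg Subtype.val (hx g₁ g₂ h₁ h₂ e)
  obtain ⟨s, hs, hs'⟩ := (isSheaf_iff_isSheaf_of_type J _).1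
    ((Presheaf.isSheaf_iff_isSheaf_forget J F.obj (forget AddCommGrpCat.{u})).1 F.property) S hS y hy
  have hmem : s ∈ tor F (op U) := by
    refine ⟨{ arrows := fun V g => IsOfFinAddOrder (F.obj.map g.op s)
              downward_closed := fun {V W g} hg k => ?_ }, J.transitive hS _ fun V g hg => ?_, fun V g hg => hg⟩
    · rw [op_comp, Functor.map_comp, ConcreteCategory.comp_apply]
      exact AddMonoidHom.isOfFinAddOrder (F.obj.map k.op).hom hg
    · obtain ⟨T, hT, h⟩ := (x g hg).2
      refine J.superset_covering (fun W k hk => ?_) hT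
      have e : F.obj.map g.op s = (x g hg).1 := hs g hg
      change IsOfFinAddOrder (F.obj.map (k ≫ g).op s)
      rw [op_comp, Functor.map_comp, ConcreteCategory.comp_apply, e]
      exact h k hk
  refine ⟨⟨s, hmem⟩, fun V g hg => Subtype.ext (hs g hg), fun t ht => Subtype.ext ?_⟩
  exact hs' t.1 fun V g hg => congrArg Subtype.val (ht g hg)

/-- The torsion subsheaf. -/
noncomputable def torF (F : Sheaf J AddCommGrpCat.{u}) : Sheaf J AddCommGrpCat.{u} :=
  ⟨torPre F, isSheaf_torPre F⟩

lemma torsionSh_torF (F : Sheaf J AddCommGrpCat.{u}) : SiteCmp.torsionSh J (torF F) := fun U s => by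
  obtain ⟨S, hS, h⟩ := s.2
  refine ⟨S, hS, fun V g hg => ?_⟩
  obtain ⟨n, hn, he⟩ := isOfFinAddOrder_iff_nsmul_eq_zero.1 (h g hg)
  exact isOfFinAddOrder_iff_nsmul_eq_zero.2 ⟨n, hn, Subtype.ext he⟩

/-- The inclusion. -/
noncomputable def torι (F : Sheaf J AddCommGrpCat.{u}) : torF F ⟶ F :=
  ⟨{ app := fun U => AddCommGrpCat.ofHom (tor F U).subtype
     naturality := fun U V g => rfl }⟩

instance mono_torι (F : Sheaf J AddCommGrpCat.{u}) : Mono (torι F) := by
  have : ∀ U, Mono ((torι F).hom.app U) := fun U =>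
    (AddCommGrpCat.mono_iff_injective _).2 Subtype.val_injective
  have : Mono (torι F).hom := NatTrans.mono_of_mono_app _
  exact (sheafToPresheaf J AddCommGrpCat.{u}).mono_of_mono_map this

/-- Corestriction to the torsion subsheaf. -/
noncomputable def lift {G F : Sheaf J AddCommGrpCat.{u}} (φ : G ⟶ F)
    (h : ∀ (U : Cᵒᵖ) (s : G.obj.obj U), φ.hom.app U s ∈ tor F U) : G ⟶ torF F :=
  ⟨{ app := fun U => AddCommGrpCat.ofHom ((φ.hom.app U).hom.codRestrict (tor F U) (h U))
     naturality := fun U V g => AddCommGrpCat.hom_ext (AddMonoidHom.ext fun s => Subtype.ext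
       (NatTrans.naturality_apply φ.hom g s)) }⟩

lemma lift_ι {G F : Sheaf J AddCommGrpCat.{u}} (φ : G ⟶ F)
    (h : ∀ (U : Cᵒᵖ) (s : G.obj.obj U), φ.hom.app U s ∈ tor F U) : lift φ h ≫ torι F = φ :=
  Sheaf.hom_ext (NatTrans.ext (funext fun U => AddCommGrpCat.hom_ext (AddMonoidHom.ext fun s => rfl)))

lemma mem_tor_of_torsion {G F : Sheaf J AddCommGrpCat.{u}} (φ : G ⟶ F) (hG : SiteCmp.torsionSh J G)
    (U : Cᵒᵖ) (s : G.obj.obj U) : φ.hom.app U s ∈ tor F U := by
  obtain ⟨S, hS, h⟩ := hG U.unop s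
  refine ⟨S, hS, fun V g hg => ?_⟩
  rw [← NatTrans.naturality_apply]
  exact AddMonoidHom.isOfFinAddOrder (φ.hom.app (op V)).hom (h g hg)

lemma mem_tor_of_nsmul {F : Sheaf J AddCommGrpCat.{u}} {U : Cᵒᵖ} {s : F.obj.obj U} {n : ℕ} (hn : n ≠ 0)
    (h : n • s ∈ tor F U) : s ∈ tor F U := by
  obtain ⟨S, hS, hs⟩ := h
  refine ⟨S, hS, fun V g hg => ?_⟩
  have h' := hs g hg
  rw [map_nsmul] at h'
  exact h'.of_nsmul hn

/-- The functor of torsion subsheaves into torsion sheaves. -/
noncomputable def T : Sheaf J AddCommGrpCat.{u} ⥤ (SiteCmp.torsionSh J).FullSubcategory where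
  obj F := ⟨torF F, torsionSh_torF F⟩
  map {F G} φ := ObjectProperty.homMk (lift (torι F ≫ φ) (mem_tor_of_torsion _ (torsionSh_torF F)))
  map_id F := ObjectProperty.hom_ext _ (by
    rw [← cancel_mono (torι F)]
    exact (lift_ι _ _).trans ((Category.comp_id _).trans (Category.id_comp _).symm))
  map_comp {F G H} φ ψ := ObjectProperty.hom_ext _ (by
    rw [← cancel_mono (torι H)]
    refine (lift_ι _ _).trans ?_
    change _ = (lift (torι F ≫ φ) _ ≫ lift (torι G ≫ ψ) _) ≫ torι H
    rw [Category.assoc, lift_ι, ← Category.assoc (lift _ _), lift_ι, Category.assoc])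

/-- The adjunction. -/
noncomputable def adj : (SiteCmp.torsionSh J).ι ⊣ (T : Sheaf J AddCommGrpCat.{u} ⥤ _) :=
  Adjunction.mkOfHomEquiv
    { homEquiv := fun G F =>
        { toFun := fun φ => ObjectProperty.homMk (lift φ (mem_tor_of_torsion φ G.2))
          invFun := fun ψ => ψ.hom ≫ torι F
          left_inv := fun φ => lift_ι _ _
          right_inv := fun ψ => ObjectProperty.hom_ext _ (by
            rw [← cancel_mono (torι F)]
            exact lift_ι _ _) }
      homEquiv_naturality_left_symm := fun {G' G F} f g => by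
        change (f ≫ g).hom ≫ torι F = f.hom ≫ g.hom ≫ torι F
        exact Category.assoc _ _ _
      homEquiv_naturality_right := fun {G F F'} f g => ObjectProperty.hom_ext _ (by
        rw [← cancel_mono (torι F')]
        refine (lift_ι _ _).trans ?_
        change _ = (lift f _ ≫ lift (torι F ≫ g) _) ≫ torι F'
        rw [Category.assoc, lift_ι, ← Category.assoc, lift_ι]) }

lemma app_nsmul {F G : Sheaf J AddCommGrpCat.{u}} (φ : F ⟶ G) (n : ℕ) (U : Cᵒᵖ) (s : F.obj.obj U) :
    (n • φ).hom.app U s = n • φ.hom.app U s := by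
  induction n with
  | zero => rw [zero_smul, zero_smul]; rfl
  | succ k ih => rw [succ_nsmul, succ_nsmul, ← ih]; rfl

lemma counit_app (F : Sheaf J AddCommGrpCat.{u}) : adj.counit.app F = torι F := by
  simp [adj]

instance additive_T : (T (J := J)).Additive where
  map_add {F G φ ψ} := ObjectProperty.hom_ext _ (by
    rw [← cancel_mono (torι G)]
    refine (lift_ι _ _).trans ?_
    change _ = (lift (torι F ≫ φ) _ + lift (torι F ≫ ψ) _) ≫ torι G
    rw [Preadditive.add_comp, lift_ι, lift_ι, Preadditive.comp_add])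

/-- Sections of injective sheaves are divisible. -/
lemma exists_nsmul_eq (I : Sheaf J AddCommGrpCat.{u}) [Injective I] (n : ℕ) (hn : n ≠ 0) (U : C)
    (s : I.obj.obj (op U)) : ∃ t : I.obj.obj (op U), n • t = s := by
  let P := yoneda.obj U ⋙ AddCommGrpCat.free.{u}
  have hmono : Mono (n • 𝟙 P) := by
    have : ∀ c, Mono ((n • 𝟙 P).app c) := fun c => (AddCommGrpCat.mono_iff_injective _).2 fun a b hab => by
      let e := (FreeAbelianGroup.equivFinsupp ((yoneda.obj U).obj c))
      have h' : n • e a = n • e b := by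
        rw [← map_nsmul, ← map_nsmul]
        simp only [NatTrans.app_nsmul, AddCommGrpCat.hom_nsmul, AddMonoidHom.coe_smul, Pi.smul_apply] at hab
        exact congrArg e hab
      apply e.injective
      ext x
      exact mul_left_cancel₀ (Int.natCast_ne_zero.2 hn) (by simpa using DFunLike.congr_fun h' x)
    exact NatTrans.mono_of_mono_app _
  have : Mono (n • 𝟙 (CohCx.freeSheaf J U)) := by
    have e : (presheafToSheaf J AddCommGrpCat.{u}).map (n • 𝟙 P) = n • 𝟙 (CohCx.freeSheaf J U) := by
      rw [Functor.map_nsmul, CategoryTheory.Functor.map_id]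
    rw [← e]
    exact (presheafToSheaf J AddCommGrpCat.{u}).map_mono _
  refine ⟨CohFree.evalGen J U I (Injective.factorThru (CohFree.ofSect J U I s) (n • 𝟙 (CohCx.freeSheaf J U))), ?_⟩
  rw [← map_nsmul]
  refine (congrArg (CohFree.evalGen J U I) ?_).trans (CohFree.evalGen_ofSect J U I s)
  conv_rhs => rw [← Injective.comp_factorThru (CohFree.ofSect J U I s) (n • 𝟙 (CohCx.freeSheaf J U))]
  rw [Preadditive.nsmul_comp, Category.id_comp]

lemma epi_nsmul (I : Sheaf J AddCommGrpCat.{u}) [Injective I] (n : ℕ) (hn : n ≠ 0) : Epi (n • 𝟙 I) := by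
  refine (Sheaf.isLocallySurjective_iff_epi' AddCommGrpCat.{u} (n • 𝟙 I)).1 ?_
  refine ⟨fun {U} s => ?_⟩
  refine J.superset_covering (fun V g _ => ?_) (J.top_mem U)
  obtain ⟨t, ht⟩ := exists_nsmul_eq I n hn V (I.obj.map g.op s)
  refine ⟨t, ?_⟩
  refine Eq.trans ?_ ht
  exact app_nsmul (𝟙 I) n (op V) t

/-- Torsion sheaves on which positive integers act injectively vanish. -/
lemma isZero_of_torsion (F : Sheaf J AddCommGrpCat.{u}) (hF : SiteCmp.torsionSh J F)
    (h : ∀ n : ℕ, n ≠ 0 → IsIso (n • 𝟙 F)) : IsZero F := by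
  rw [IsZero.iff_id_eq_zero]
  refine Sheaf.hom_ext (NatTrans.ext (funext fun U => AddCommGrpCat.hom_ext (AddMonoidHom.ext fun s => ?_)))
  obtain ⟨S, hS, hs⟩ := hF U.unop s
  change s = 0
  refine sec_eq F hS fun V g hg => ?_
  rw [map_zero]
  obtain ⟨n, hn, he⟩ := isOfFinAddOrder_iff_nsmul_eq_zero.1 (hs g hg)
  have := h n hn.ne'
  have : IsIso ((n • 𝟙 F : F ⟶ F).hom.app (op V)) := by
    have : IsIso ((sheafToPresheaf J AddCommGrpCat.{u}).map (n • 𝟙 F)) := inferInstance
    exact inferInstanceAs (IsIso (((sheafToPresheaf J AddCommGrpCat.{u}).map (n • 𝟙 F)).app (op V)))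
  refine (ConcreteCategory.bijective_of_isIso ((n • 𝟙 F : F ⟶ F).hom.app (op V))).1 ?_
  rw [map_zero]
  exact (app_nsmul (𝟙 F) n (op V) _).trans he

local notation "up" => ComplexShape.up ℤ

variable [(SiteCmp.torsionSh J).IsSerreClass]

lemma prop_homology (K : CochainComplex (Sheaf J AddCommGrpCat.{u}) ℤ) (m : ℤ)
    (h : SiteCmp.torsionSh J (K.X m)) : SiteCmp.torsionSh J (K.homology m) :=
  (SiteCmp.torsionSh J).prop_of_epi (K.homologyπ m) ((SiteCmp.torsionSh J).prop_of_mono (K.iCycles m) h)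

/-- The torsion subcomplex of a complex of injectives with torsion cohomology is quasi-isomorphic to it. -/
theorem quasiIso_cε (I : CochainComplex (Sheaf J AddCommGrpCat.{u}) ℤ) (hinj : ∀ m, Injective (I.X m))
    (hH : ∀ m, SiteCmp.torsionSh J (I.homology m)) :
    QuasiIso (CorefDerived.cε (SiteCmp.torsionSh J).ι adj I) := by
  let ε := CorefDerived.cε (SiteCmp.torsionSh J).ι adj I
  have : ∀ m, Mono (ε.f m) := fun m => by
    change Mono ((adj (J := J)).counit.app (I.X m))
    rw [counit_app]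
    exact mono_torι (I.X m)
  have : Mono ε := HomologicalComplex.mono_of_mono_f _ inferInstance
  let S := ShortComplex.mk ε (cokernel.π ε) (cokernel.condition ε)
  have hS : S.ShortExact :=
    { exact := ShortComplex.exact_of_g_is_cokernel _ (cokernelIsCokernel ε) }
  let Q := cokernel ε
  have hiso : ∀ (n : ℕ) (_ : n ≠ 0) (m : ℤ), IsIso (n • 𝟙 (Q.X m)) := fun n hn m => by
    let π : I.X m ⟶ Q.X m := (cokernel.π ε).f m
    have : Epi π := inferInstanceAs (Epi ((HomologicalComplex.eval _ _ m).map (cokernel.π ε)))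
    have : Epi (n • 𝟙 (Q.X m)) := by
      have := epi_nsmul (I.X m) n hn
      have e : π ≫ (n • 𝟙 (Q.X m)) = (n • 𝟙 (I.X m)) ≫ π := by
        rw [Preadditive.comp_nsmul, Preadditive.nsmul_comp, Category.comp_id, Category.id_comp]
      have : Epi (π ≫ (n • 𝟙 (Q.X m))) := by rw [e]; infer_instance
      exact epi_of_epi π _
    have : Mono (n • 𝟙 (Q.X m)) := by
      refine Preadditive.mono_of_cancel_zero _ fun {W} x hx => ?_
      rw [Preadditive.comp_nsmul, Category.comp_id] at hx
      obtain ⟨W', p, hp, y, hy⟩ := surjective_up_to_refinements_of_epi π x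
      rw [← cancel_epi p, comp_zero, hy]
      have hex : (S.map (HomologicalComplex.eval _ _ m)).Exact := (hS.map_of_exact _).exact
      obtain ⟨W'', p', hp', z, hz⟩ := hex.exact_up_to_refinements (n • y)
        (by change (n • y) ≫ π = 0; rw [Preadditive.nsmul_comp, ← hy, ← Preadditive.comp_nsmul, hx, comp_zero])
      have hmem : ∀ (U : Cᵒᵖ) (s : W''.obj.obj U), (p' ≫ y).hom.app U s ∈ tor (I.X m) U := fun U s => by
        refine mem_tor_of_nsmul hn ?_
        have e1 : n • (p' ≫ y) = z ≫ ε.f m := by rw [← Preadditive.comp_nsmul]; exact hz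
        have e2 : n • ((p' ≫ y).hom.app U s) = (n • (p' ≫ y)).hom.app U s := (app_nsmul _ n U s).symm
        rw [e2, e1]
        exact mem_tor_of_torsion (ε.f m) (torsionSh_torF (I.X m)) U (z.hom.app U s)
      have h0 : ε.f m ≫ π = 0 := (S.map (HomologicalComplex.eval _ _ m)).zero
      rw [← cancel_epi p', comp_zero, ← Category.assoc, ← lift_ι _ hmem, Category.assoc,
        show torι (I.X m) = ε.f m from (counit_app (I.X m)).symm]
      exact (congrArg (lift _ hmem ≫ ·) h0).trans comp_zero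
    exact isIso_of_mono_of_epi _
  have hzero : ∀ m, IsZero (Q.homology m) := fun m => by
    refine isZero_of_torsion _ ?_ fun n hn => ?_
    · exact (SiteCmp.torsionSh J).prop_X₂_of_exact (hS.homology_exact₃ m (m + 1) rfl) (hH m)
        (prop_homology _ _ (torsionSh_torF _))
    · have : ∀ k, IsIso ((n • 𝟙 Q).f k) := fun k => by
        rw [HomologicalComplex.nsmul_f_apply, HomologicalComplex.id_f]
        exact hiso n hn k
      have : IsIso (n • 𝟙 Q) := HomologicalComplex.Hom.isIso_of_components _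
      have e : HomologicalComplex.homologyMap (n • 𝟙 Q) m = n • 𝟙 (Q.homology m) := by
        change (HomologicalComplex.homologyFunctor _ _ m).map (n • 𝟙 Q) = _
        rw [Functor.map_nsmul, CategoryTheory.Functor.map_id]
        rfl
      rw [← e]
      infer_instance
  refine (quasiIso_iff _).2 fun m => (quasiIsoAt_iff_isIso_homologyMap _ _).2 ?_
  have : Epi (HomologicalComplex.homologyMap ε m) := (hS.homology_exact₂ m).epi_f ((hzero m).eq_of_tgt _ _)
  have : Mono (HomologicalComplex.homologyMap ε m) :=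
    (hS.homology_exact₁ (m - 1) m (by simp)).mono_g ((hzero (m - 1)).eq_of_src _ _)
  exact isIso_of_mono_of_epi _

attribute [local instance] HasDerivedCategory.standard

/-- Complexes of torsion sheaves compute the derived category of complexes with torsion cohomology. -/
theorem toDerived_equivalence :
    (WSerre.toDerived (SiteCmp.torsionSh J)).Full ∧ (WSerre.toDerived (SiteCmp.torsionSh J)).Faithful ∧
      ∀ K : DerivedCategory (Sheaf J AddCommGrpCat.{u}),
        WSerre.cohIn (SiteCmp.torsionSh J) K ↔ (WSerre.toDerived (SiteCmp.torsionSh J)).essImage K := by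
  have hres : ∀ K : CochainComplex (Sheaf J AddCommGrpCat.{u}) ℤ, ∃ (I : CochainComplex _ ℤ) (i : K ⟶ I),
      QuasiIso i ∧ I.IsKInjective ∧ ∀ n, Injective (I.X n) := fun K => by
    obtain ⟨I, i, -, hi, hI, hinj⟩ := Groth.DerivedCoh.KInjRes.exists_resolution K
    exact ⟨I, i, hi, hI, hinj⟩
  have hP : (SiteCmp.torsionSh J).IsClosedUnderIsomorphisms := inferInstance
  have hA : ∀ (M : CochainComplex (SiteCmp.torsionSh J).FullSubcategory ℤ) (n : ℤ),
      SiteCmp.torsionSh J ((((SiteCmp.torsionSh J).ι.mapHomologicalComplex up).obj M).homology n) :=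
    fun M n => prop_homology _ n (M.X n).2
  have hb := CorefDerived.bijective_map (SiteCmp.torsionSh J).ι adj (SiteCmp.torsionSh J) hres hP hA
    (fun I _ hinj hH => quasiIso_cε I hinj hH)
  refine ⟨⟨fun {X Y} => (hb X Y).2⟩, ⟨fun {X Y} => @(hb X Y).1⟩, fun K => ?_⟩
  exact CorefDerived.essImage_iff (SiteCmp.torsionSh J).ι adj (SiteCmp.torsionSh J) hres hP hA
    (fun I _ hinj hH => quasiIso_cε I hinj hH) K

end Groth.Misc4.TorsionSheaf
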